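import Mathlib
import Cfsg.Prelude.Def_Classical
import Cfsg.Agent.Lib.Helper43.WittQuad
import Cfsg.Agent.Lib.Helper50.GramMinus

set_option autoImplicit false

namespace Cfsg.Agent.Lib.Helper08

open Matrix

section qdata

variable {F : Type*} [Field F] {κ : Type} [Fintype κ] [DecidableEq κ]

/-- data making a function on `κ → F` a quadratic form with non-degenerate polar form -/
structure QData (R : (κ → F) → F) where
  /-- Gram matrix of the polar form -/
  M : Matrix κ κ F
  hsm : ∀ (a : F) x, R (a • x) = a * a * R x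
  hM : ∀ u v, QuadraticMap.polar R u v = Matrix.toBilin' M u v
  hdet : M.det ≠ 0

namespace QData

variable {R : (κ → F) → F} (d : QData R)
include d

/-- the quadratic form -/
def qf : QuadraticForm F (κ → F) where
  toFun := R
  toFun_smul := fun a x => by rw [d.hsm]; rfl
  exists_companion' := ⟨Matrix.toBilin' d.M, fun x y => by
    have := d.hM x y
    unfold QuadraticMap.polar at this
    linear_combination this⟩

theorem qf_coe : ⇑d.qf = R := rfl

theorem qf_apply (v : κ → F) : d.qf v = R v := rfl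

theorem qf_nondeg : (QuadraticMap.polarBilin d.qf).Nondegenerate := by
  have : QuadraticMap.polarBilin d.qf = Matrix.toBilin' d.M := by
    apply LinearMap.ext₂
    intro u v
    rw [QuadraticMap.polarBilin_apply_apply, qf_coe, d.hM]
  rw [this]
  exact Matrix.nondegenerate_toBilin'_iff.mpr (Matrix.nondegenerate_of_det_ne_zero d.hdet)

theorem R_zero : R 0 = 0 := by
  have := d.hsm 0 0
  simpa using this

omit d [Fintype κ] [DecidableEq κ] in
theorem R_add (u v : κ → F) : R (u + v) = R u + R v + QuadraticMap.polar R u v := by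
  unfold QuadraticMap.polar
  ring

theorem polar_add_left (u u' v : κ → F) :
    QuadraticMap.polar R (u + u') v = QuadraticMap.polar R u v + QuadraticMap.polar R u' v := by
  rw [d.hM, d.hM, d.hM, map_add, LinearMap.add_apply]

theorem polar_add_right (u v v' : κ → F) :
    QuadraticMap.polar R u (v + v') = QuadraticMap.polar R u v + QuadraticMap.polar R u v' := by
  rw [d.hM, d.hM, d.hM, map_add]

theorem polar_smul_left (a : F) (u v : κ → F) :
    QuadraticMap.polar R (a • u) v = a * QuadraticMap.polar R u v := by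
  rw [d.hM, d.hM, map_smul, LinearMap.smul_apply, smul_eq_mul]

theorem polar_smul_right (a : F) (u v : κ → F) :
    QuadraticMap.polar R u (a • v) = a * QuadraticMap.polar R u v := by
  rw [d.hM, d.hM, map_smul, smul_eq_mul]

omit d [Fintype κ] [DecidableEq κ] in
theorem polar_comm (u v : κ → F) : QuadraticMap.polar R u v = QuadraticMap.polar R v u :=
  QuadraticMap.polar_comm R u v

theorem polar_self (u : κ → F) : QuadraticMap.polar R u u = 2 * R u := by
  unfold QuadraticMap.polar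
  have : u + u = (2 : F) • u := by rw [two_smul]
  rw [this, d.hsm]
  ring

theorem polar_nondeg (u : κ → F) (h : ∀ v, QuadraticMap.polar R u v = 0) : u = 0 := by
  have hnd := d.qf_nondeg
  apply hnd.1 u
  intro v
  rw [QuadraticMap.polarBilin_apply_apply, qf_coe]
  exact h v

end QData

/-- matrices preserving a function -/
def IsIso (R : (κ → F) → F) (A : Matrix κ κ F) : Prop := ∀ v, R (A *ᵥ v) = R v

omit [DecidableEq κ] in
theorem IsIso.polar {R : (κ → F) → F} {A : Matrix κ κ F} (hA : IsIso R A) (u v : κ → F) :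
    QuadraticMap.polar R (A *ᵥ u) (A *ᵥ v) = QuadraticMap.polar R u v := by
  unfold QuadraticMap.polar
  rw [← Matrix.mulVec_add, hA, hA, hA]

theorem IsIso.isUnit {R : (κ → F) → F} (d : QData R) {A : Matrix κ κ F} (hA : IsIso R A) :
    IsUnit A := by
  rw [← Matrix.mulVec_injective_iff_isUnit]
  intro x x' hx
  rw [← sub_eq_zero]
  apply d.polar_nondeg
  intro y
  rw [← hA.polar, Matrix.mulVec_sub, hx, sub_self]
  unfold QuadraticMap.polar
  rw [zero_add, d.R_zero]
  ring

omit [DecidableEq κ] in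
theorem IsIso.mul {R : (κ → F) → F} {A B : Matrix κ κ F} (hA : IsIso R A) (hB : IsIso R B) :
    IsIso R (A * B) := by
  intro v
  rw [← Matrix.mulVec_mulVec, hA, hB]

theorem mem_isometryGroup_iff' (R : (κ → F) → F) (g : Matrix.GeneralLinearGroup κ F) :
    g ∈ Cfsg.isometryGroup F R ↔ IsIso R (g : Matrix κ κ F) :=
  ⟨fun h u => h u u, fun h u _ => h u⟩

/-- the isometry group as a set of matrices -/
noncomputable def isoEquiv {R : (κ → F) → F} (d : QData R) :
    Cfsg.isometryGroup F R ≃ {A : Matrix κ κ F // IsIso R A} where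
  toFun g := ⟨(g.1 : Matrix κ κ F), (mem_isometryGroup_iff' R g.1).mp g.2⟩
  invFun A := ⟨(A.2.isUnit d).unit, (mem_isometryGroup_iff' R _).mpr A.2⟩
  left_inv g := by
    apply Subtype.ext
    apply Units.ext
    rfl
  right_inv A := by
    apply Subtype.ext
    rfl

end qdata

section witt

variable {F : Type*} [Field F] {κ : Type} [Fintype κ] [DecidableEq κ]

/-- the linear map `c ↦ c 0 • u + c 1 • v` -/
def pairMap (u v : κ → F) : (Fin 2 → F) →ₗ[F] (κ → F) where
  toFun c := c 0 • u + c 1 • v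
  map_add' c c' := by
    simp only [Pi.add_apply, add_smul]
    abel
  map_smul' a c := by
    simp only [Pi.smul_apply, smul_eq_mul, mul_smul, RingHom.id_apply, smul_add]

omit [Fintype κ] [DecidableEq κ] in
theorem pairMap_apply (u v : κ → F) (c : Fin 2 → F) : pairMap u v c = c 0 • u + c 1 • v := rfl

/-- hyperbolic pairs -/
def IsHypPair (R : (κ → F) → F) (x y : κ → F) : Prop :=
  R x = 0 ∧ R y = 0 ∧ QuadraticMap.polar R x y = 1

theorem R_pairMap {R : (κ → F) → F} (d : QData R) {x y : κ → F} (h : IsHypPair R x y)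
    (c : Fin 2 → F) : R (pairMap x y c) = c 0 * c 1 := by
  rw [pairMap_apply, QData.R_add (R := R), d.hsm, d.hsm, d.polar_smul_left, d.polar_smul_right, h.1, h.2.1,
    h.2.2]
  ring

theorem pairMap_injective {R : (κ → F) → F} (d : QData R) {x y : κ → F} (h : IsHypPair R x y) :
    Function.Injective (pairMap x y) := by
  rw [injective_iff_map_eq_zero]
  intro c hc
  have h0 : QuadraticMap.polar R (pairMap x y c) y = c 0 := by
    rw [pairMap_apply, d.polar_add_left, d.polar_smul_left, d.polar_smul_left, h.2.2,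
      d.polar_self, h.2.1]
    ring
  have h1 : QuadraticMap.polar R x (pairMap x y c) = c 1 := by
    rw [pairMap_apply, d.polar_add_right, d.polar_smul_right, d.polar_smul_right, h.2.2,
      d.polar_self, h.1]
    ring
  rw [hc] at h0 h1
  have hz : ∀ w, QuadraticMap.polar R 0 w = 0 := by
    intro w
    unfold QuadraticMap.polar
    rw [zero_add, d.R_zero]; ring
  have hz' : ∀ w, QuadraticMap.polar R w 0 = 0 := by
    intro w
    rw [QData.polar_comm]; exact hz w
  rw [hz] at h0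
  rw [hz'] at h1
  funext i
  fin_cases i
  · exact h0.symm
  · exact h1.symm

theorem exists_iso_of_hypPair [Finite F] {R : (κ → F) → F} (d : QData R) {e f x y : κ → F}
    (hef : IsHypPair R e f) (hxy : IsHypPair R x y) :
    ∃ A : Matrix κ κ F, IsIso R A ∧ A *ᵥ e = x ∧ A *ᵥ f = y := by
  set Φ₁ := pairMap e f with hΦ₁
  set Φ₂ := pairMap x y with hΦ₂
  have inj₁ := pairMap_injective d hef
  have inj₂ := pairMap_injective d hxy
  set φ : LinearMap.range Φ₁ ≃ₗ[F] LinearMap.range Φ₂ :=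
    (LinearEquiv.ofInjective Φ₁ inj₁).symm.trans (LinearEquiv.ofInjective Φ₂ inj₂) with hφ
  have hφc : ∀ c : Fin 2 → F, ((φ ⟨Φ₁ c, LinearMap.mem_range_self Φ₁ c⟩ : LinearMap.range Φ₂) : κ → F)
      = Φ₂ c := by
    intro c
    have : (LinearEquiv.ofInjective Φ₁ inj₁).symm ⟨Φ₁ c, LinearMap.mem_range_self Φ₁ c⟩ = c := by
      apply (LinearEquiv.ofInjective Φ₁ inj₁).injective
      rw [LinearEquiv.apply_symm_apply]
      rfl
    rw [hφ, LinearEquiv.trans_apply, this]
    rfl
  have hpres : ∀ z : LinearMap.range Φ₁, d.qf ((φ z : LinearMap.range Φ₂) : κ → F) =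
      d.qf (z : κ → F) := by
    rintro ⟨z, c, rfl⟩
    rw [hφc, d.qf_apply, d.qf_apply, hΦ₁, hΦ₂, R_pairMap d hef, R_pairMap d hxy]
  obtain ⟨g, hg1, hg2⟩ := Cfsg.Agent.Lib.Helper43.witt_quad d.qf d.qf_nondeg _ _ φ hpres
  refine ⟨LinearMap.toMatrix' (g : (κ → F) →ₗ[F] (κ → F)), ?_, ?_, ?_⟩
  · intro v
    rw [LinearMap.toMatrix'_mulVec]
    exact hg1 v
  · rw [LinearMap.toMatrix'_mulVec]
    have h1 : Φ₁ ![1, 0] = e := by
      rw [hΦ₁, pairMap_apply]; simp
    have h2 : Φ₂ ![1, 0] = x := by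
      rw [hΦ₂, pairMap_apply]; simp
    have := hg2 ⟨Φ₁ ![1, 0], LinearMap.mem_range_self Φ₁ _⟩
    rw [hφc] at this
    simp only [h1, h2] at this
    exact this
  · rw [LinearMap.toMatrix'_mulVec]
    have h1 : Φ₁ ![0, 1] = f := by
      rw [hΦ₁, pairMap_apply]; simp
    have h2 : Φ₂ ![0, 1] = y := by
      rw [hΦ₂, pairMap_apply]; simp
    have := hg2 ⟨Φ₁ ![0, 1], LinearMap.mem_range_self Φ₁ _⟩
    rw [hφc] at this
    simp only [h1, h2] at this
    exact this

/-- every non-zero singular vector lies in a hyperbolic pair -/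
theorem exists_hypPair {R : (κ → F) → F} (d : QData R) {x : κ → F} (hx0 : x ≠ 0) (hx : R x = 0) :
    ∃ y, IsHypPair R x y := by
  have : ∃ z, QuadraticMap.polar R x z ≠ 0 := by
    by_contra hcon
    push Not at hcon
    exact hx0 (d.polar_nondeg x hcon)
  obtain ⟨z, hz⟩ := this
  obtain ⟨z', hz1⟩ : ∃ z', QuadraticMap.polar R x z' = 1 :=
    ⟨(QuadraticMap.polar R x z)⁻¹ • z, by rw [d.polar_smul_right, inv_mul_cancel₀ hz]⟩
  refine ⟨z' + (-(R z')) • x, hx, ?_, ?_⟩
  · rw [QData.R_add (R := R), d.hsm, hx, d.polar_smul_right, QData.polar_comm, hz1]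
    ring
  · rw [d.polar_add_right, d.polar_smul_right, hz1, d.polar_self, hx]
    ring

end witt

section split

variable {F : Type*} [Field F] {κ : Type} [Fintype κ] [DecidableEq κ]

/-- orthogonal sum of a hyperbolic plane and a given function -/
def hypSum (R₀ : (κ → F) → F) (v : Fin 2 ⊕ κ → F) : F :=
  v (Sum.inl 0) * v (Sum.inl 1) + R₀ (v ∘ Sum.inr)

omit [Fintype κ] [DecidableEq κ] in
theorem polar_hypSum (R₀ : (κ → F) → F) (u v : Fin 2 ⊕ κ → F) :
    QuadraticMap.polar (hypSum R₀) u v =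
      u (Sum.inl 0) * v (Sum.inl 1) + v (Sum.inl 0) * u (Sum.inl 1) +
        QuadraticMap.polar R₀ (u ∘ Sum.inr) (v ∘ Sum.inr) := by
  unfold QuadraticMap.polar hypSum
  have : (u + v) ∘ Sum.inr = u ∘ Sum.inr + v ∘ Sum.inr := rfl
  rw [this]
  simp only [Pi.add_apply]
  ring

theorem toBilin_fromBlocks {n₁ n₂ : Type*} [Fintype n₁] [Fintype n₂] [DecidableEq n₁]
    [DecidableEq n₂] (A : Matrix n₁ n₁ F) (D : Matrix n₂ n₂ F) (u v : n₁ ⊕ n₂ → F) :
    Matrix.toBilin' (Matrix.fromBlocks A 0 0 D) u v =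
      Matrix.toBilin' A (u ∘ Sum.inl) (v ∘ Sum.inl) + Matrix.toBilin' D (u ∘ Sum.inr) (v ∘ Sum.inr) := by
  simp only [Matrix.toBilin'_apply', Matrix.fromBlocks_mulVec, Matrix.zero_mulVec, add_zero, zero_add,
    dotProduct, Fintype.sum_sum_type, Sum.elim_inl, Sum.elim_inr, Function.comp_apply]

/-- `QData` for the orthogonal sum with a hyperbolic plane -/
def QData.hyp {R₀ : (κ → F) → F} (d : QData R₀) : QData (hypSum R₀) where
  M := Matrix.fromBlocks (!![0, 1; 1, 0] : Matrix (Fin 2) (Fin 2) F) 0 0 d.M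
  hsm a x := by
    unfold hypSum
    have : (a • x) ∘ Sum.inr = a • (x ∘ Sum.inr) := rfl
    rw [this, d.hsm]
    simp only [Pi.smul_apply, smul_eq_mul]
    ring
  hM u v := by
    rw [polar_hypSum, toBilin_fromBlocks, d.hM]
    congr 1
    simp [Matrix.toBilin'_apply', dotProduct, Fin.sum_univ_two, Matrix.mulVec]
    ring
  hdet := by
    rw [Matrix.det_fromBlocks_zero₂₁, Matrix.det_fin_two_of]
    simpa using d.hdet

/-- first hyperbolic basis vector -/
def e0 (F : Type*) [Field F] (κ : Type) [DecidableEq κ] : Fin 2 ⊕ κ → F := Pi.single (Sum.inl 0) 1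

/-- second hyperbolic basis vector -/
def e1 (F : Type*) [Field F] (κ : Type) [DecidableEq κ] : Fin 2 ⊕ κ → F := Pi.single (Sum.inl 1) 1

omit [Fintype κ] in
theorem e0_inr : (e0 F κ) ∘ Sum.inr = 0 := by
  funext k; simp [e0]

omit [Fintype κ] in
theorem e1_inr : (e1 F κ) ∘ Sum.inr = 0 := by
  funext k; simp [e1]

omit [Fintype κ] in
theorem polar_e0 {R₀ : (κ → F) → F} (h0 : R₀ 0 = 0) (w : Fin 2 ⊕ κ → F) :
    QuadraticMap.polar (hypSum R₀) w (e0 F κ) = w (Sum.inl 1) := by
  rw [polar_hypSum, e0_inr]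
  unfold QuadraticMap.polar
  simp [e0, h0]

omit [Fintype κ] in
theorem polar_e1 {R₀ : (κ → F) → F} (h0 : R₀ 0 = 0) (w : Fin 2 ⊕ κ → F) :
    QuadraticMap.polar (hypSum R₀) w (e1 F κ) = w (Sum.inl 0) := by
  rw [polar_hypSum, e1_inr]
  unfold QuadraticMap.polar
  simp [e1, h0]

omit [Fintype κ] in
theorem hypPair_e0_e1 {R₀ : (κ → F) → F} (h0 : R₀ 0 = 0) :
    IsHypPair (hypSum R₀) (e0 F κ) (e1 F κ) := by
  refine ⟨?_, ?_, ?_⟩
  · unfold hypSum; rw [e0_inr, h0]; simp [e0]
  · unfold hypSum; rw [e1_inr, h0]; simp [e1]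
  · rw [polar_e1 h0]; simp [e0]

omit [DecidableEq κ] in
theorem blk3_mulVec (D : Matrix κ κ F) (x : Fin 2 ⊕ κ → F) :
    Matrix.fromBlocks (1 : Matrix (Fin 2) (Fin 2) F) 0 0 D *ᵥ x =
      Sum.elim (x ∘ Sum.inl) (D *ᵥ (x ∘ Sum.inr)) := by
  rw [Matrix.fromBlocks_mulVec]
  simp

omit [DecidableEq κ] in
theorem blk3_iso_iff (R₀ : (κ → F) → F) (D : Matrix κ κ F) :
    IsIso (hypSum R₀) (Matrix.fromBlocks (1 : Matrix (Fin 2) (Fin 2) F) 0 0 D) ↔ IsIso R₀ D := by
  constructor
  · intro h x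
    have := h (Sum.elim 0 x)
    rw [blk3_mulVec] at this
    unfold hypSum at this
    simpa using this
  · intro h x
    rw [blk3_mulVec]
    unfold hypSum
    simp only [Sum.elim_inl, Function.comp_apply, Sum.elim_comp_inr]
    rw [h]

theorem fin2_cases (j : Fin 2) : j = 0 ∨ j = 1 := by
  fin_cases j <;> simp

theorem stab_form3 {R₀ : (κ → F) → F} (h0 : R₀ 0 = 0)
    (A : Matrix (Fin 2 ⊕ κ) (Fin 2 ⊕ κ) F) (hA : IsIso (hypSum R₀) A)
    (h0e : A *ᵥ e0 F κ = e0 F κ) (h1e : A *ᵥ e1 F κ = e1 F κ) :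
    A = Matrix.fromBlocks (1 : Matrix (Fin 2) (Fin 2) F) 0 0 A.toBlocks₂₂ := by
  have hcol0 : ∀ i, A i (Sum.inl 0) = e0 F κ i := by
    intro i
    have := congrFun h0e i
    rw [e0, Matrix.mulVec_single_one] at this
    exact this
  have hcol1 : ∀ i, A i (Sum.inl 1) = e1 F κ i := by
    intro i
    have := congrFun h1e i
    rw [e1, Matrix.mulVec_single_one] at this
    exact this
  have hrow0 : ∀ k : κ, A (Sum.inl 0) (Sum.inr k) = 0 := by
    intro k
    have h := hA.polar (Pi.single (Sum.inr k) 1) (e1 F κ)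
    rw [h1e, polar_e1 h0, polar_e1 h0, Matrix.mulVec_single_one] at h
    simpa using h
  have hrow1 : ∀ k : κ, A (Sum.inl 1) (Sum.inr k) = 0 := by
    intro k
    have h := hA.polar (Pi.single (Sum.inr k) 1) (e0 F κ)
    rw [h0e, polar_e0 h0, polar_e0 h0, Matrix.mulVec_single_one] at h
    simpa using h
  ext i j
  rcases i with i | i <;> rcases j with j | j
  · rcases fin2_cases j with rfl | rfl
    · rw [hcol0]
      rcases fin2_cases i with rfl | rfl <;> simp [e0]
    · rw [hcol1]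
      rcases fin2_cases i with rfl | rfl <;> simp [e1]
  · rcases fin2_cases i with rfl | rfl
    · rw [hrow0]; simp
    · rw [hrow1]; simp
  · rcases fin2_cases j with rfl | rfl
    · rw [hcol0]; simp [e0]
    · rw [hcol1]; simp [e1]
  · simp [Matrix.toBlocks₂₂]

/-- the stabiliser of the standard hyperbolic pair -/
noncomputable def stabEquiv3 {R₀ : (κ → F) → F} (h0 : R₀ 0 = 0) :
    {A : Matrix (Fin 2 ⊕ κ) (Fin 2 ⊕ κ) F // IsIso (hypSum R₀) A ∧
      A *ᵥ e0 F κ = e0 F κ ∧ A *ᵥ e1 F κ = e1 F κ} ≃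
    {D : Matrix κ κ F // IsIso R₀ D} where
  toFun A := ⟨A.1.toBlocks₂₂, by
    have h := stab_form3 h0 A.1 A.2.1 A.2.2.1 A.2.2.2
    have h2 := A.2.1
    rw [h] at h2
    exact (blk3_iso_iff _ _).mp h2⟩
  invFun D := ⟨Matrix.fromBlocks (1 : Matrix (Fin 2) (Fin 2) F) 0 0 D.1,
    (blk3_iso_iff _ _).mpr D.2, by
      rw [blk3_mulVec]
      ext i
      rcases i with i | i
      · simp
      · simp [e0, Matrix.mulVec, dotProduct], by
      rw [blk3_mulVec]
      ext i
      rcases i with i | i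
      · simp
      · simp [e1, Matrix.mulVec, dotProduct]⟩
  left_inv A := by
    apply Subtype.ext
    exact (stab_form3 h0 A.1 A.2.1 A.2.2.1 A.2.2.2).symm
  right_inv D := by
    apply Subtype.ext
    simp

end split

section orbit

variable {F : Type*} [Field F] [Fintype F] {κ : Type} [Fintype κ] [DecidableEq κ]

/-- the diagonal action of an isometry group on pairs of vectors -/
@[instance_reducible] def pairAction {ι : Type} [Fintype ι] [DecidableEq ι] (R : (ι → F) → F) :
    MulAction (Cfsg.isometryGroup F R) ((ι → F) × (ι → F)) where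
  smul g p := ((g.1 : Matrix ι ι F) *ᵥ p.1, (g.1 : Matrix ι ι F) *ᵥ p.2)
  one_smul p := by
    show (((1 : Matrix.GeneralLinearGroup ι F) : Matrix ι ι F) *ᵥ p.1,
      ((1 : Matrix.GeneralLinearGroup ι F) : Matrix ι ι F) *ᵥ p.2) = p
    simp
  mul_smul g h p := by
    show (((g.1 * h.1 : Matrix.GeneralLinearGroup ι F) : Matrix ι ι F) *ᵥ p.1,
      ((g.1 * h.1 : Matrix.GeneralLinearGroup ι F) : Matrix ι ι F) *ᵥ p.2) =
      ((g.1 : Matrix ι ι F) *ᵥ ((h.1 : Matrix ι ι F) *ᵥ p.1),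
       (g.1 : Matrix ι ι F) *ᵥ ((h.1 : Matrix ι ι F) *ᵥ p.2))
    simp [Matrix.mulVec_mulVec]

omit [Fintype F] [DecidableEq κ] in
theorem IsIso.hypPair {R : (κ → F) → F} {A : Matrix κ κ F} (hA : IsIso R A) {x y : κ → F}
    (h : IsHypPair R x y) : IsHypPair R (A *ᵥ x) (A *ᵥ y) :=
  ⟨by rw [hA]; exact h.1, by rw [hA]; exact h.2.1, by rw [hA.polar]; exact h.2.2⟩

theorem card_split {R₀ : (κ → F) → F} (d : QData R₀) :
    Nat.card (Cfsg.isometryGroup F (hypSum R₀)) =
      Nat.card {p : (Fin 2 ⊕ κ → F) × (Fin 2 ⊕ κ → F) // IsHypPair (hypSum R₀) p.1 p.2} *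
        Nat.card (Cfsg.isometryGroup F R₀) := by
  classical
  have h0 : R₀ 0 = 0 := d.R_zero
  let _ := pairAction (F := F) (hypSum R₀)
  let G := Cfsg.isometryGroup F (hypSum R₀)
  let p0 : (Fin 2 ⊕ κ → F) × (Fin 2 ⊕ κ → F) := (e0 F κ, e1 F κ)
  have hsmul : ∀ (g : G) (p : (Fin 2 ⊕ κ → F) × (Fin 2 ⊕ κ → F)),
      g • p = ((g.1 : Matrix (Fin 2 ⊕ κ) (Fin 2 ⊕ κ) F) *ᵥ p.1,
        (g.1 : Matrix (Fin 2 ⊕ κ) (Fin 2 ⊕ κ) F) *ᵥ p.2) := fun _ _ => rfl
  rw [Subgroup.card_eq_card_quotient_mul_card_subgroup (MulAction.stabilizer G p0)]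
  congr 1
  · rw [← Nat.card_congr (MulAction.orbitEquivQuotientStabilizer G p0)]
    apply Nat.card_congr
    apply Equiv.subtypeEquivRight
    intro p
    constructor
    · rintro ⟨g, rfl⟩
      beta_reduce
      rw [hsmul]
      exact ((mem_isometryGroup_iff' _ g.1).mp g.2).hypPair (hypPair_e0_e1 h0)
    · intro hp
      obtain ⟨A, hA, hA0, hA1⟩ := exists_iso_of_hypPair d.hyp (hypPair_e0_e1 h0) hp
      refine ⟨(isoEquiv d.hyp).symm ⟨A, hA⟩, ?_⟩
      beta_reduce
      rw [hsmul]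
      exact Prod.ext hA0 hA1
  · rw [Nat.card_congr (isoEquiv d), ← Nat.card_congr (stabEquiv3 h0)]
    apply Nat.card_congr
    refine (Equiv.subtypeEquiv (isoEquiv d.hyp) (p := fun g => g ∈ MulAction.stabilizer G p0)
      (q := fun A => A.1 *ᵥ e0 F κ = e0 F κ ∧ A.1 *ᵥ e1 F κ = e1 F κ) ?_).trans ?_
    · intro g
      rw [MulAction.mem_stabilizer_iff]
      have := hsmul g p0
      rw [this]
      exact Prod.ext_iff
    · exact
        { toFun := fun A => ⟨A.1.1, A.1.2, A.2⟩
          invFun := fun A => ⟨⟨A.1, A.2.1⟩, A.2.2⟩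
          left_inv := fun A => rfl
          right_inv := fun A => rfl }

omit [Fintype F] in
theorem IsIso.inv {R : (κ → F) → F} {A B : Matrix κ κ F} (hA : IsIso R A) (hAB : A * B = 1) :
    IsIso R B := by
  intro v
  rw [← hA (B *ᵥ v), Matrix.mulVec_mulVec, hAB, Matrix.one_mulVec]

omit [Fintype F] [Fintype κ] in
theorem hypPair_e0_iff {R₀ : (κ → F) → F} (h0 : R₀ 0 = 0) (y : Fin 2 ⊕ κ → F) :
    IsHypPair (hypSum R₀) (e0 F κ) y ↔
      y (Sum.inl 1) = 1 ∧ y (Sum.inl 0) = - R₀ (y ∘ Sum.inr) := by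
  unfold IsHypPair
  rw [QuadraticMap.polar_comm, polar_e0 h0]
  have he : hypSum R₀ (e0 F κ) = 0 := (hypPair_e0_e1 h0).1
  constructor
  · rintro ⟨-, h2, h3⟩
    refine ⟨h3, ?_⟩
    unfold hypSum at h2
    rw [h3, mul_one] at h2
    linear_combination h2
  · rintro ⟨h3, h4⟩
    refine ⟨he, ?_, h3⟩
    unfold hypSum
    rw [h3, h4]
    ring

/-- hyperbolic partners of `e0` -/
def partnerEquiv {R₀ : (κ → F) → F} (h0 : R₀ 0 = 0) :
    {y : Fin 2 ⊕ κ → F // IsHypPair (hypSum R₀) (e0 F κ) y} ≃ (κ → F) where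
  toFun y := y.1 ∘ Sum.inr
  invFun w := ⟨Sum.elim ![-R₀ w, 1] w, by
    rw [hypPair_e0_iff h0]
    simp⟩
  left_inv y := by
    apply Subtype.ext
    have h := (hypPair_e0_iff h0 y.1).mp y.2
    funext i
    rcases i with i | i
    · rcases fin2_cases i with rfl | rfl
      · simp [h.2]
      · simp [h.1]
    · simp
  right_inv w := by
    funext k
    simp

theorem card_hypPairs {R₀ : (κ → F) → F} (d : QData R₀) {q : ℕ} (hF : Fintype.card F = q) :
    Nat.card {p : (Fin 2 ⊕ κ → F) × (Fin 2 ⊕ κ → F) // IsHypPair (hypSum R₀) p.1 p.2} =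
      (Nat.card {x : Fin 2 ⊕ κ → F // hypSum R₀ x = 0} - 1) * q ^ Fintype.card κ := by
  classical
  have h0 : R₀ 0 = 0 := d.R_zero
  have hpz : ∀ w : Fin 2 ⊕ κ → F, QuadraticMap.polar (hypSum R₀) 0 w = 0 := by
    intro w
    unfold QuadraticMap.polar
    rw [zero_add, d.hyp.R_zero]; ring
  -- the base set
  let X := {x : Fin 2 ⊕ κ → F // x ≠ 0 ∧ hypSum R₀ x = 0}
  let Y : X → Type _ := fun x => {y : Fin 2 ⊕ κ → F // IsHypPair (hypSum R₀) x.1 y}
  let E1 : {p : (Fin 2 ⊕ κ → F) × (Fin 2 ⊕ κ → F) // IsHypPair (hypSum R₀) p.1 p.2} ≃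
      Σ x : X, Y x :=
    { toFun := fun p => ⟨⟨p.1.1, by
          intro h
          have := p.2.2.2
          rw [h, hpz] at this
          exact zero_ne_one this, p.2.1⟩, ⟨p.1.2, p.2⟩⟩
      invFun := fun s => ⟨(s.1.1, s.2.1), s.2.2⟩
      left_inv := fun p => rfl
      right_inv := fun s => rfl }
  have E2 : ∀ x : X, Nonempty (Y x ≃ (κ → F)) := by
    intro x
    obtain ⟨y, hy⟩ := exists_hypPair d.hyp x.2.1 x.2.2
    obtain ⟨A, hA, hA0, -⟩ := exists_iso_of_hypPair d.hyp (hypPair_e0_e1 h0) hy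
    obtain ⟨B, hAB, hBA⟩ : ∃ B, A * B = 1 ∧ B * A = 1 := by
      obtain ⟨u, hu⟩ := hA.isUnit d.hyp
      exact ⟨(u⁻¹ : (Matrix (Fin 2 ⊕ κ) (Fin 2 ⊕ κ) F)ˣ), by rw [← hu]; simp, by rw [← hu]; simp⟩
    have hB : IsIso (hypSum R₀) B := hA.inv hAB
    have hBx : B *ᵥ x.1 = e0 F κ := by
      rw [← hA0, Matrix.mulVec_mulVec, hBA, Matrix.one_mulVec]
    refine ⟨Equiv.trans ?_ (partnerEquiv h0)⟩
    exact
      { toFun := fun y => ⟨B *ᵥ y.1, by
            have := hB.hypPair y.2
            rw [hBx] at this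
            exact this⟩
        invFun := fun y => ⟨A *ᵥ y.1, by
            have := hA.hypPair y.2
            rw [hA0] at this
            exact this⟩
        left_inv := fun y => by
          apply Subtype.ext
          show A *ᵥ (B *ᵥ y.1) = y.1
          rw [Matrix.mulVec_mulVec, hAB, Matrix.one_mulVec]
        right_inv := fun y => by
          apply Subtype.ext
          show B *ᵥ (A *ᵥ y.1) = y.1
          rw [Matrix.mulVec_mulVec, hBA, Matrix.one_mulVec] }
  have E3 : (Σ x : X, Y x) ≃ X × (κ → F) :=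
    (Equiv.sigmaCongrRight fun x => (E2 x).some).trans (Equiv.sigmaEquivProd X (κ → F))
  rw [Nat.card_congr (E1.trans E3), Nat.card_prod]
  congr 1
  · -- card of X
    have hset : {x : Fin 2 ⊕ κ → F | hypSum R₀ x = 0} =
        insert 0 {x : Fin 2 ⊕ κ → F | x ≠ 0 ∧ hypSum R₀ x = 0} := by
      ext x
      simp only [Set.mem_ofPred_eq, Set.mem_insert_iff]
      constructor
      · intro hx
        by_cases hx0 : x = 0
        · left; exact hx0
        · right; exact ⟨hx0, hx⟩
      · rintro (rfl | ⟨-, hx⟩)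
        · exact d.hyp.R_zero
        · exact hx
    have h1 : Nat.card {x : Fin 2 ⊕ κ → F // hypSum R₀ x = 0} =
        Nat.card X + 1 := by
      show Nat.card ↥{x : Fin 2 ⊕ κ → F | hypSum R₀ x = 0} =
        Nat.card ↥{x : Fin 2 ⊕ κ → F | x ≠ 0 ∧ hypSum R₀ x = 0} + 1
      rw [Nat.card_coe_set_eq, Nat.card_coe_set_eq, hset,
        Set.ncard_insert_of_notMem (by simp) (Set.toFinite _)]
    rw [h1, Nat.add_sub_cancel]
  · rw [Nat.card_eq_fintype_card, Fintype.card_fun, hF]

end orbit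

section reindex

variable {F : Type*} [Field F] {ι κ : Type} [Fintype ι] [DecidableEq ι] [Fintype κ] [DecidableEq κ]

/-- reindexing `GL` -/
def glReindex (e : ι ≃ κ) : Matrix.GeneralLinearGroup ι F ≃* Matrix.GeneralLinearGroup κ F :=
  Units.mapEquiv (Matrix.reindexAlgEquiv F F e).toMulEquiv

theorem glReindex_val (e : ι ≃ κ) (g : Matrix.GeneralLinearGroup ι F) :
    ((glReindex e g : Matrix.GeneralLinearGroup κ F) : Matrix κ κ F) =
      Matrix.reindex e e (g : Matrix ι ι F) := rfl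

omit [DecidableEq ι] [DecidableEq κ] in
theorem reindex_mulVec (e : ι ≃ κ) (M : Matrix ι ι F) (w : κ → F) :
    Matrix.reindex e e M *ᵥ w = (M *ᵥ (w ∘ e)) ∘ e.symm := by
  rw [Matrix.reindex_apply, Matrix.submatrix_mulVec_equiv]
  simp

theorem card_isometryGroup_congr (e : ι ≃ κ) (R : (κ → F) → F) (R' : (ι → F) → F)
    (h : ∀ v, R' v = R (v ∘ e.symm)) :
    Nat.card (Cfsg.isometryGroup F R') = Nat.card (Cfsg.isometryGroup F R) := by
  apply Nat.card_congr
  refine Equiv.subtypeEquiv (glReindex e).toEquiv ?_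
  intro g
  show g ∈ Cfsg.isometryGroup F R' ↔ glReindex e g ∈ Cfsg.isometryGroup F R
  rw [mem_isometryGroup_iff', mem_isometryGroup_iff', glReindex_val]
  constructor
  · intro hg w
    rw [reindex_mulVec, ← h, hg, h]
    congr 1
    funext k
    simp
  · intro hg v
    have := hg (v ∘ e.symm)
    rw [reindex_mulVec, ← h, ← h] at this
    have h2 : (v ∘ e.symm) ∘ e = v := by
      funext i; simp
    rw [h2] at this
    exact this

omit [Fintype ι] [DecidableEq ι] [Fintype κ] [DecidableEq κ] in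
theorem card_zeros_congr (e : ι ≃ κ) (R : (κ → F) → F) (R' : (ι → F) → F)
    (h : ∀ v, R' v = R (v ∘ e.symm)) :
    Nat.card {v : ι → F // R' v = 0} = Nat.card {w : κ → F // R w = 0} := by
  apply Nat.card_congr
  exact
    { toFun := fun v => ⟨v.1 ∘ e.symm, by rw [← h]; exact v.2⟩
      invFun := fun w => ⟨w.1 ∘ e, by
        rw [h]
        have : (w.1 ∘ e) ∘ e.symm = w.1 := by funext k; simp
        rw [this]; exact w.2⟩
      left_inv := fun v => by
        apply Subtype.ext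
        funext i; simp
      right_inv := fun w => by
        apply Subtype.ext
        funext k; simp }

theorem card_succ [Fintype F] {q : ℕ} (hF : Fintype.card F = q) (e : ι ≃ Fin 2 ⊕ κ)
    (Q : (ι → F) → F) (R₀ : (κ → F) → F) (h : ∀ v, Q v = hypSum R₀ (v ∘ e.symm))
    (d : QData R₀) :
    Nat.card (Cfsg.isometryGroup F Q) =
      (Nat.card {v : ι → F // Q v = 0} - 1) * q ^ Fintype.card κ *
        Nat.card (Cfsg.isometryGroup F R₀) := by
  rw [card_isometryGroup_congr e (hypSum R₀) Q h, card_split d, card_hypPairs d hF,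
    card_zeros_congr e (hypSum R₀) Q h]

end reindex

end Cfsg.Agent.Lib.Helper08
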