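import Mathlib
import Cfsg.Agent.Lib.Helper73.RUDefs

/-!
# K-RU leaf F (keystone 228006): columns `0`, `1`, the last row and the determinant of `aMat`
-/

set_option autoImplicit false

namespace Cfsg.Agent.Lib.Helper08.RU

open Matrix Cfsg.Agent.Lib.Helper73.RU

theorem aMat_mulVec_zero (m : ℕ) (F : Type*) [Field F] :
    aMat m F *ᵥ (Pi.single 0 1 : Fin (m + 3) → F) = Pi.single 0 1 := by
  rw [Matrix.mulVec_single_one]
  ext i
  simp only [Matrix.col_apply, aMat, Matrix.of_apply, Pi.single_apply]
  by_cases hi : i = 0
  · simp [hi]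
  · have : ¬ (i = 0 ∨ i.val + 1 = (0 : Fin (m + 3)).val) := by
      rintro (h | h)
      · exact hi h
      · simp at h
    rw [if_neg this, if_neg hi]

theorem aMat_mulVec_one (m : ℕ) (F : Type*) [Field F] :
    aMat m F *ᵥ (Pi.single 1 1 : Fin (m + 3) → F) = Pi.single 1 1 + Pi.single 0 1 := by
  rw [Matrix.mulVec_single_one]
  ext i
  simp only [Matrix.col_apply, aMat, Matrix.of_apply, Pi.single_apply, Pi.add_apply]
  have h1 : ((1 : Fin (m + 3)).val) = 1 := Fin.val_one (m + 1)
  have h01 : (0 : Fin (m + 3)) ≠ 1 := by
    intro h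
    have := congrArg Fin.val h
    rw [h1] at this
    simp at this
  by_cases hi1 : i = 1
  · subst hi1
    simp [h01.symm]
  · by_cases hi0 : i = 0
    · subst hi0
      simp [h01]
    · have : ¬ (i = 1 ∨ i.val + 1 = (1 : Fin (m + 3)).val) := by
        rintro (h | h)
        · exact hi1 h
        · rw [h1] at h
          apply hi0
          apply Fin.ext
          simp at h
          simpa using h
      rw [if_neg this, if_neg hi1, if_neg hi0, add_zero]

theorem last_vecMul_aMat (m : ℕ) (F : Type*) [Field F] :
    (Pi.single (Fin.last (m + 2)) 1 : Fin (m + 3) → F) ᵥ* aMat m F = Pi.single (Fin.last (m + 2)) 1 := by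
  rw [Matrix.single_one_vecMul]
  ext j
  simp only [Matrix.row_apply, aMat, Matrix.of_apply, Pi.single_apply]
  by_cases hj : j = Fin.last (m + 2)
  · simp [hj]
  · have : ¬ (Fin.last (m + 2) = j ∨ (Fin.last (m + 2)).val + 1 = j.val) := by
      rintro (h | h)
      · exact hj h.symm
      · have := j.2
        simp at h
        omega
    rw [if_neg this, if_neg hj]

theorem det_aMat (m : ℕ) (F : Type*) [Field F] : (aMat m F).det = 1 := by
  have htri : (aMat m F).BlockTriangular id := by
    intro i j hij
    have hij' : j < i := hij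
    simp only [aMat, Matrix.of_apply]
    rw [if_neg]
    rintro (h | h)
    · exact absurd h (ne_of_gt hij')
    · have : j.val < i.val := hij'
      omega
  rw [Matrix.det_of_isUpperTriangular htri]
  apply Finset.prod_eq_one
  intro i _
  simp [aMat]

end Cfsg.Agent.Lib.Helper08.RU
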