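import Mathlib
import Cfsg.Prelude.Def_LieClassical
import Cfsg.Agent.Lib.Helper19.UnitaryDet

set_option autoImplicit false

namespace Cfsg.Agent.Lib.Helper08

open Matrix
open Cfsg.Agent.Lib.Helper19

section su

variable {F : Type*} [Field F] [Fintype F] {q : ℕ} {n : ℕ}

/-- determinant on `GU`, with values in the norm-one group -/
noncomputable def detGU (hF : Fintype.card F = q ^ 2) (n : ℕ) : Cfsg.GU n F q →* normOne F q :=
  ((Matrix.GeneralLinearGroup.det : Matrix.GeneralLinearGroup (Fin n) F →* Fˣ).comp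
    (Cfsg.GU n F q).subtype).codRestrict (normOne F q) (fun g => det_mem_normOne hF g.1 g.2)

theorem detGU_val (hF : Fintype.card F = q ^ 2) (g : Cfsg.GU n F q) :
    ((detGU hF n g : normOne F q) : Fˣ) =
      Matrix.GeneralLinearGroup.det (g : Matrix.GeneralLinearGroup (Fin n) F) := rfl

theorem detGU_surjective (hF : Fintype.card F = q ^ 2) (hn0 : 0 < n) :
    Function.Surjective (detGU hF n) := by
  classical
  intro u
  let d : Fin n → Fˣ := Function.update (fun _ => 1) ⟨0, hn0⟩ (u : Fˣ)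
  have hd : ∀ i, d i ∈ normOne F q := by
    intro i
    by_cases hi : i = ⟨0, hn0⟩
    · subst hi; simp only [d, Function.update_self]; exact u.2
    · simp only [d, Function.update_of_ne hi]; exact Subgroup.one_mem _
  refine ⟨⟨diagGL d, diagGL_mem_GU d hd⟩, ?_⟩
  apply Subtype.ext
  rw [detGU_val, det_diagGL]
  simp only [d]
  rw [Finset.prod_update_of_mem (Finset.mem_univ _)]
  simp

omit [Fintype F] in
theorem mem_SU_iff (s : Matrix.SpecialLinearGroup (Fin n) F) :
    s ∈ Cfsg.SU n F q ↔ ∀ x y, Cfsg.hermForm n F q ((s : Matrix (Fin n) (Fin n) F) *ᵥ x)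
      ((s : Matrix (Fin n) (Fin n) F) *ᵥ y) = Cfsg.hermForm n F q x y := Iff.rfl

omit [Fintype F] in
theorem toGL_mem_GU_iff (s : Matrix.SpecialLinearGroup (Fin n) F) :
    Matrix.SpecialLinearGroup.toGL s ∈ Cfsg.GU n F q ↔ s ∈ Cfsg.SU n F q := Iff.rfl

theorem det_eq_one_of_mem_ker (hF : Fintype.card F = q ^ 2) (g : Cfsg.GU n F q)
    (hg : g ∈ (detGU hF n).ker) : (g.1 : Matrix (Fin n) (Fin n) F).det = 1 := by
  rw [MonoidHom.mem_ker] at hg
  have h1 : Matrix.GeneralLinearGroup.det (g : Matrix.GeneralLinearGroup (Fin n) F) = 1 := by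
    rw [← detGU_val hF g, hg]; rfl
  have h2 := congrArg (fun x : Fˣ => (x : F)) h1
  simpa [Matrix.GeneralLinearGroup.val_det_apply] using h2

/-- `SU` is the kernel of the determinant on `GU` -/
noncomputable def suEquivKer (hF : Fintype.card F = q ^ 2) (n : ℕ) :
    Cfsg.SU n F q ≃ (detGU hF n).ker where
  toFun s := ⟨⟨Matrix.SpecialLinearGroup.toGL s.1, (toGL_mem_GU_iff s.1).mpr s.2⟩, by
    rw [MonoidHom.mem_ker]
    apply Subtype.ext
    rw [detGU_val]
    apply Units.ext
    rw [Matrix.GeneralLinearGroup.val_det_apply]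
    simp⟩
  invFun g := ⟨⟨(g.1.1 : Matrix (Fin n) (Fin n) F), det_eq_one_of_mem_ker hF g.1 g.2⟩,
    (mem_SU_iff _).mpr g.1.2⟩
  left_inv s := by
    apply Subtype.ext
    apply Subtype.ext
    rfl
  right_inv g := by
    apply Subtype.ext
    apply Subtype.ext
    apply Units.ext
    rfl

theorem card_GU_eq_mul_card_SU (hF : Fintype.card F = q ^ 2) (hn0 : 0 < n) :
    Nat.card (Cfsg.GU n F q) = (q + 1) * Nat.card (Cfsg.SU n F q) := by
  rw [← Subgroup.card_mul_index (detGU hF n).ker, Subgroup.index_ker,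
    Nat.card_congr (suEquivKer hF n), mul_comm]
  congr 1
  rw [MonoidHom.range_eq_top.mpr (detGU_surjective hF hn0), Subgroup.card_top, card_normOne hF]

end su

end Cfsg.Agent.Lib.Helper08
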