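import Mathlib
import Cfsg.Prelude.Def_LieClassical
import Cfsg.Agent.Lib.Helper19.UnitaryDet
import Cfsg.Agent.S0284

set_option autoImplicit false

namespace Cfsg.Agent.Lib.Helper08

open Matrix
open Cfsg.Agent.Lib.Helper19 (pow_q_pow_q add_pow_q sum_pow_q q_pos one_lt_q frobQ frobQ_apply)

section general

variable {F : Type*} [Field F] {q : ℕ} {ι : Type} [Fintype ι]

/-- the standard hermitian form on a general index type -/
def hform (ι : Type) [Fintype ι] (F : Type*) [Field F] (q : ℕ) (u v : ι → F) : F :=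
  ∑ i, u i * v i ^ q

theorem hform_add_left (x x' y : ι → F) :
    hform ι F q (x + x') y = hform ι F q x y + hform ι F q x' y := by
  simp [hform, add_mul, Finset.sum_add_distrib]

theorem hform_smul_left (a : F) (x y : ι → F) :
    hform ι F q (a • x) y = a * hform ι F q x y := by
  simp [hform, Finset.mul_sum, mul_assoc]

theorem hform_smul_right (a : F) (x y : ι → F) :
    hform ι F q x (a • y) = a ^ q * hform ι F q x y := by
  simp only [hform, Finset.mul_sum, Pi.smul_apply, smul_eq_mul, mul_pow]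
  apply Finset.sum_congr rfl
  intro i _
  ring

theorem hform_zero_left (y : ι → F) : hform ι F q 0 y = 0 := by
  simp [hform]

variable [Fintype F]

theorem hform_add_right (hF : Fintype.card F = q ^ 2) (x y y' : ι → F) :
    hform ι F q x (y + y') = hform ι F q x y + hform ι F q x y' := by
  simp [hform, add_pow_q hF, mul_add, Finset.sum_add_distrib]

theorem hform_conj (hF : Fintype.card F = q ^ 2) (x y : ι → F) :
    (hform ι F q x y) ^ q = hform ι F q y x := by
  unfold hform
  rw [sum_pow_q hF]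
  apply Finset.sum_congr rfl
  intro i _
  rw [mul_pow, pow_q_pow_q hF, mul_comm]

theorem neg_pow_q (hF : Fintype.card F = q ^ 2) (x : F) : (-x) ^ q = -(x ^ q) := by
  rw [← frobQ_apply hF, map_neg, frobQ_apply]

theorem hform_neg_right (hF : Fintype.card F = q ^ 2) (x y : ι → F) :
    hform ι F q x (-y) = - hform ι F q x y := by
  simp [hform, neg_pow_q hF]

omit [Fintype F] in
theorem hform_neg_left (x y : ι → F) :
    hform ι F q (-x) y = - hform ι F q x y := by
  simp [hform]

omit [Fintype F] in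
theorem hform_sub_left (x x' y : ι → F) :
    hform ι F q (x - x') y = hform ι F q x y - hform ι F q x' y := by
  rw [sub_eq_add_neg, hform_add_left, hform_neg_left, ← sub_eq_add_neg]

theorem hform_sub_right (hF : Fintype.card F = q ^ 2) (x y y' : ι → F) :
    hform ι F q x (y - y') = hform ι F q x y - hform ι F q x y' := by
  rw [sub_eq_add_neg, hform_add_right hF, hform_neg_right hF, ← sub_eq_add_neg]

variable [DecidableEq ι]

theorem hform_single_right (hF : Fintype.card F = q ^ 2) (x : ι → F) (i : ι) :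
    hform ι F q x (Pi.single i 1) = x i := by
  have hq := (q_pos hF).ne'
  unfold hform
  rw [Finset.sum_eq_single i]
  · simp
  · intro j _ hj
    simp [hj, hq]
  · intro h; exact absurd (Finset.mem_univ i) h

theorem hform_nondeg (hF : Fintype.card F = q ^ 2) (x : ι → F)
    (h : ∀ y, hform ι F q x y = 0) : x = 0 := by
  funext i
  rw [← hform_single_right hF x i, h]
  rfl

/-- matrices preserving the hermitian form -/
def IsIsoMat (q : ℕ) (M : Matrix ι ι F) : Prop :=
  ∀ x y, hform ι F q (M *ᵥ x) (M *ᵥ y) = hform ι F q x y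

theorem IsIsoMat.isUnit (hF : Fintype.card F = q ^ 2) {M : Matrix ι ι F} (hM : IsIsoMat q M) :
    IsUnit M := by
  rw [← Matrix.mulVec_injective_iff_isUnit]
  intro x x' hx
  rw [← sub_eq_zero]
  apply hform_nondeg hF
  intro y
  rw [← hM (x - x') y, Matrix.mulVec_sub, hx, sub_self, hform_zero_left]

/-- general-index unitary group -/
def GUi (ι : Type) [Fintype ι] [DecidableEq ι] (F : Type*) [Field F] (q : ℕ) :
    Subgroup (Matrix.GeneralLinearGroup ι F) :=
  Cfsg.preserving (Units.coeHom (Matrix ι ι F)) (hform ι F q)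

omit [Fintype F] in
theorem mem_GUi_iff (g : Matrix.GeneralLinearGroup ι F) :
    g ∈ GUi ι F q ↔ IsIsoMat q (g : Matrix ι ι F) := Iff.rfl

omit [Fintype F] in
theorem GU_eq_GUi (n : ℕ) : Cfsg.GU n F q = GUi (Fin n) F q := rfl

/-- `GUi` is in bijection with the set of isometry matrices -/
noncomputable def guEquiv (hF : Fintype.card F = q ^ 2) :
    GUi ι F q ≃ {M : Matrix ι ι F // IsIsoMat q M} where
  toFun g := ⟨(g.1 : Matrix ι ι F), g.2⟩
  invFun M := ⟨(M.2.isUnit hF).unit, by rw [mem_GUi_iff]; exact M.2⟩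
  left_inv g := by
    apply Subtype.ext
    apply Units.ext
    rfl
  right_inv M := by
    apply Subtype.ext
    rfl

end general

section refl

variable {F : Type*} [Field F] [Fintype F] {q : ℕ} {ι : Type} [Fintype ι] [DecidableEq ι]

/-- matrix of `x ↦ x + c h(x,w) w` -/
def qrefl (q : ℕ) (w : ι → F) (c : F) : Matrix ι ι F :=
  1 + c • Matrix.vecMulVec w (fun j => w j ^ q)

omit [Fintype F] in
theorem qrefl_mulVec (w : ι → F) (c : F) (x : ι → F) :
    qrefl q w c *ᵥ x = x + (c * hform ι F q x w) • w := by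
  unfold qrefl
  rw [Matrix.add_mulVec, Matrix.one_mulVec, Matrix.smul_mulVec, Matrix.vecMulVec_mulVec]
  congr 1
  ext i
  simp only [Pi.smul_apply, smul_eq_mul, MulOpposite.smul_eq_mul_unop, MulOpposite.unop_op,
    hform, dotProduct]
  have : ∑ j, w j ^ q * x j = ∑ j, x j * w j ^ q := by
    apply Finset.sum_congr rfl; intro j _; ring
  rw [this]; ring

theorem qrefl_iso (hF : Fintype.card F = q ^ 2) (w : ι → F) (c : F)
    (hc : c + c ^ q + c * c ^ q * hform ι F q w w = 0) : IsIsoMat q (qrefl q w c) := by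
  intro x y
  simp only [qrefl_mulVec, hform_add_left, hform_add_right hF, hform_smul_left, hform_smul_right,
    mul_pow, hform_conj hF]
  linear_combination (hform ι F q x w * hform ι F q w y) * hc

omit [Fintype F] [DecidableEq ι] in
theorem IsIsoMat.mul {M N : Matrix ι ι F} (hM : IsIsoMat q M) (hN : IsIsoMat q N) :
    IsIsoMat q (M * N) := by
  intro x y
  rw [← Matrix.mulVec_mulVec, ← Matrix.mulVec_mulVec, hM, hN]

theorem sub_pow_q (hF : Fintype.card F = q ^ 2) (x y : F) : (x - y) ^ q = x ^ q - y ^ q := by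
  rw [← frobQ_apply hF, map_sub, frobQ_apply, frobQ_apply]

theorem exists_iso_map_of_ne (hF : Fintype.card F = q ^ 2) (u v : ι → F)
    (hu : hform ι F q u u = 1) (hv : hform ι F q v v = 1) (huv : hform ι F q u v ≠ 1) :
    ∃ M : Matrix ι ι F, IsIsoMat q M ∧ M *ᵥ u = v := by
  set t := 1 - hform ι F q u v with ht
  have ht0 : t ≠ 0 := sub_ne_zero.mpr (Ne.symm huv)
  have htq : t ^ q = 1 - hform ι F q v u := by
    rw [ht, sub_pow_q hF, one_pow, hform_conj hF]
  have htq0 : t ^ q ≠ 0 := pow_ne_zero _ ht0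
  refine ⟨qrefl q (u - v) (-t⁻¹), qrefl_iso hF _ _ ?_, ?_⟩
  · have hww : hform ι F q (u - v) (u - v) = t + t ^ q := by
      rw [hform_sub_left, hform_sub_right hF, hform_sub_right hF, hu, hv, htq, ht]
      ring
    rw [hww, neg_pow_q hF, inv_pow]
    field_simp
    ring
  · rw [qrefl_mulVec, hform_sub_right hF, hu, ← ht]
    rw [neg_mul, inv_mul_cancel₀ ht0]
    simp

theorem exists_iso_map (hF : Fintype.card F = q ^ 2) (u v : ι → F)
    (hu : hform ι F q u u = 1) (hv : hform ι F q v v = 1) :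
    ∃ M : Matrix ι ι F, IsIsoMat q M ∧ M *ᵥ u = v := by
  by_cases huv : hform ι F q u v = 1
  · obtain ⟨a, ha, ha1⟩ := Cfsg.Agent.Lib.Helper19.exists_normOne_ne_one hF
    have ha' : (a : F) ^ (q + 1) = 1 := by
      have := Cfsg.Agent.Lib.Helper19.mem_normOne.mp ha
      rw [← Units.val_pow_eq_pow_val, this, Units.val_one]
    have ha'' : (a : F) * (a : F) ^ q = 1 := by rw [← pow_succ']; exact ha'
    have hane : (a : F) ≠ 1 := fun h => ha1 (Units.ext h)
    have hz : hform ι F q ((a : F) • u) ((a : F) • u) = 1 := by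
      rw [hform_smul_left, hform_smul_right, hu, mul_one, ha'']
    have hzv : hform ι F q ((a : F) • u) v ≠ 1 := by
      rw [hform_smul_left, huv, mul_one]; exact hane
    obtain ⟨M, hM, hMz⟩ := exists_iso_map_of_ne hF _ v hz hv hzv
    have hS : IsIsoMat q ((a : F) • (1 : Matrix ι ι F)) := by
      intro x y
      rw [Matrix.smul_mulVec, Matrix.smul_mulVec, Matrix.one_mulVec, Matrix.one_mulVec,
        hform_smul_left, hform_smul_right, ← mul_assoc, ha'', one_mul]
    refine ⟨M * ((a : F) • (1 : Matrix ι ι F)), hM.mul hS, ?_⟩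
    rw [← Matrix.mulVec_mulVec, Matrix.smul_mulVec, Matrix.one_mulVec, hMz]
  · exact exists_iso_map_of_ne hF u v hu hv huv

end refl

section blocks

variable {F : Type*} [Field F] [Fintype F] {q : ℕ} {ι : Type} [Fintype ι] [DecidableEq ι]

omit [Fintype F] [DecidableEq ι] in
theorem hform_sum (x y : Unit ⊕ ι → F) :
    hform (Unit ⊕ ι) F q x y =
      x (Sum.inl ()) * y (Sum.inl ()) ^ q + hform ι F q (x ∘ Sum.inr) (y ∘ Sum.inr) := by
  unfold hform
  rw [Fintype.sum_sum_type]
  simp

omit [Fintype F] [DecidableEq ι] in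
theorem blk_mulVec (D : Matrix ι ι F) (x : Unit ⊕ ι → F) :
    Matrix.fromBlocks (1 : Matrix Unit Unit F) 0 0 D *ᵥ x =
      Sum.elim (x ∘ Sum.inl) (D *ᵥ (x ∘ Sum.inr)) := by
  rw [Matrix.fromBlocks_mulVec]
  simp

omit [Fintype F] [DecidableEq ι] in
theorem blk_iso_iff (D : Matrix ι ι F) :
    IsIsoMat q (Matrix.fromBlocks (1 : Matrix Unit Unit F) 0 0 D) ↔ IsIsoMat q D := by
  constructor
  · intro h x y
    have := h (Sum.elim 0 x) (Sum.elim 0 y)
    rw [blk_mulVec, blk_mulVec, hform_sum, hform_sum] at this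
    simpa using this
  · intro h x y
    rw [blk_mulVec, blk_mulVec, hform_sum, hform_sum]
    simp only [Sum.elim_inl, Function.comp_apply, Sum.elim_comp_inr]
    rw [h]

theorem stab_form (hF : Fintype.card F = q ^ 2) (M : Matrix (Unit ⊕ ι) (Unit ⊕ ι) F)
    (hM : IsIsoMat q M)
    (hMe : M *ᵥ (Pi.single (Sum.inl ()) 1) = Pi.single (Sum.inl ()) 1) :
    M = Matrix.fromBlocks (1 : Matrix Unit Unit F) 0 0 M.toBlocks₂₂ := by
  have hcol : ∀ i, M i (Sum.inl ()) = (Pi.single (Sum.inl ()) 1 : Unit ⊕ ι → F) i := by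
    intro i
    have := congrFun hMe i
    rw [Matrix.mulVec_single_one] at this
    exact this
  have hrow : ∀ j : ι, M (Sum.inl ()) (Sum.inr j) = 0 := by
    intro j
    have h1 := hM (Pi.single (Sum.inr j) 1) (Pi.single (Sum.inl ()) 1)
    rw [hMe, hform_single_right hF, hform_single_right hF, Matrix.mulVec_single_one] at h1
    simpa using h1
  ext i j
  rcases i with ⟨⟨⟩⟩ | i <;> rcases j with ⟨⟨⟩⟩ | j
  · rw [hcol]; simp
  · rw [hrow]; simp
  · rw [hcol]; simp
  · simp [Matrix.toBlocks₂₂]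

/-- the stabiliser of the first basis vector, at the level of isometry matrices -/
noncomputable def stabEquiv (hF : Fintype.card F = q ^ 2) :
    {M : Matrix (Unit ⊕ ι) (Unit ⊕ ι) F // IsIsoMat q M ∧
      M *ᵥ (Pi.single (Sum.inl ()) 1) = Pi.single (Sum.inl ()) 1} ≃
    {D : Matrix ι ι F // IsIsoMat q D} where
  toFun M := ⟨M.1.toBlocks₂₂, by
    have h := stab_form hF M.1 M.2.1 M.2.2
    have h2 := M.2.1
    rw [h] at h2
    exact (blk_iso_iff _).mp h2⟩
  invFun D := ⟨Matrix.fromBlocks (1 : Matrix Unit Unit F) 0 0 D.1, (blk_iso_iff _).mpr D.2, by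
    rw [blk_mulVec]
    ext i
    rcases i with ⟨⟨⟩⟩ | i
    · simp
    · simp [Matrix.mulVec, dotProduct]⟩
  left_inv M := by
    apply Subtype.ext
    exact (stab_form hF M.1 M.2.1 M.2.2).symm
  right_inv D := by
    apply Subtype.ext
    simp

end blocks

section orbit

variable {F : Type*} [Field F] [Fintype F] {q : ℕ} {ι : Type} [Fintype ι] [DecidableEq ι]

/-- the natural action of `GUi` on vectors -/
@[instance_reducible] def guAction (ι : Type) [Fintype ι] [DecidableEq ι] (F : Type*) [Field F] (q : ℕ) :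
    MulAction (GUi ι F q) (ι → F) where
  smul g v := (g.1 : Matrix ι ι F) *ᵥ v
  one_smul v := by
    show ((1 : Matrix.GeneralLinearGroup ι F) : Matrix ι ι F) *ᵥ v = v
    simp
  mul_smul g h v := by
    show ((g.1 * h.1 : Matrix.GeneralLinearGroup ι F) : Matrix ι ι F) *ᵥ v =
      (g.1 : Matrix ι ι F) *ᵥ ((h.1 : Matrix ι ι F) *ᵥ v)
    simp [Matrix.mulVec_mulVec]

theorem card_GUi_eq (hF : Fintype.card F = q ^ 2) (e : ι → F) (he : hform ι F q e e = 1) :
    Nat.card (GUi ι F q) = Nat.card {v : ι → F // hform ι F q v v = 1} *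
      Nat.card {M : Matrix ι ι F // IsIsoMat q M ∧ M *ᵥ e = e} := by
  classical
  let _ := guAction ι F q
  have hsmul : ∀ (g : GUi ι F q) (v : ι → F), g • v = (g.1 : Matrix ι ι F) *ᵥ v := fun _ _ => rfl
  rw [Subgroup.card_eq_card_quotient_mul_card_subgroup (MulAction.stabilizer (GUi ι F q) e)]
  congr 1
  · rw [← Nat.card_congr (MulAction.orbitEquivQuotientStabilizer (GUi ι F q) e)]
    apply Nat.card_congr
    apply Equiv.subtypeEquivRight
    intro v
    constructor
    · rintro ⟨g, rfl⟩
      show hform ι F q (g • e) (g • e) = 1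
      rw [hsmul]
      exact (g.2 e e).trans he
    · intro hv
      obtain ⟨M, hM, hMe⟩ := exists_iso_map hF e v he hv
      refine ⟨(guEquiv hF).symm ⟨M, hM⟩, ?_⟩
      show ((guEquiv hF).symm ⟨M, hM⟩) • e = v
      rw [hsmul]
      exact hMe
  · apply Nat.card_congr
    refine (Equiv.subtypeEquiv (guEquiv hF) (p := fun g => g ∈ MulAction.stabilizer (GUi ι F q) e)
      (q := fun M => M.1 *ᵥ e = e) ?_).trans ?_
    · intro g
      rw [MulAction.mem_stabilizer_iff]
      exact Iff.rfl
    · exact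
        { toFun := fun M => ⟨M.1.1, M.1.2, M.2⟩
          invFun := fun M => ⟨⟨M.1, M.2.1⟩, M.2.2⟩
          left_inv := fun M => rfl
          right_inv := fun M => rfl }

theorem card_GUi_unit_sum (hF : Fintype.card F = q ^ 2) :
    Nat.card (GUi (Unit ⊕ ι) F q) =
      Nat.card {v : Unit ⊕ ι → F // hform (Unit ⊕ ι) F q v v = 1} * Nat.card (GUi ι F q) := by
  have he : hform (Unit ⊕ ι) F q (Pi.single (Sum.inl ()) 1) (Pi.single (Sum.inl ()) 1) = 1 := by
    rw [hform_single_right hF]; simp
  rw [card_GUi_eq hF _ he, Nat.card_congr (stabEquiv hF), ← Nat.card_congr (guEquiv hF)]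

end orbit

section reindex

variable {F : Type*} [Field F] [Fintype F] {q : ℕ} {ι κ : Type} [Fintype ι] [DecidableEq ι]
  [Fintype κ] [DecidableEq κ]

omit [Fintype F] [DecidableEq ι] [DecidableEq κ] in
theorem hform_comp_equiv (e : ι ≃ κ) (x y : κ → F) :
    hform ι F q (x ∘ e) (y ∘ e) = hform κ F q x y := by
  unfold hform
  exact Equiv.sum_comp e (fun k => x k * y k ^ q)

/-- norm-one vectors, reindexed -/
def normOneVecEquiv (e : ι ≃ κ) :
    {v : κ → F // hform κ F q v v = 1} ≃ {v : ι → F // hform ι F q v v = 1} where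
  toFun v := ⟨v.1 ∘ e, by rw [hform_comp_equiv]; exact v.2⟩
  invFun v := ⟨v.1 ∘ e.symm, by rw [hform_comp_equiv]; exact v.2⟩
  left_inv v := by
    apply Subtype.ext
    funext k
    simp
  right_inv v := by
    apply Subtype.ext
    funext k
    simp

omit [Fintype F] [DecidableEq ι] [DecidableEq κ] in
theorem isIsoMat_reindex (e : ι ≃ κ) (M : Matrix ι ι F) (hM : IsIsoMat q M) :
    IsIsoMat q (Matrix.reindex e e M) := by
  intro x y
  rw [Matrix.reindex_apply, Matrix.submatrix_mulVec_equiv, Matrix.submatrix_mulVec_equiv]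
  simp only [Equiv.symm_symm]
  rw [hform_comp_equiv, hM, hform_comp_equiv]

/-- isometry matrices, reindexed -/
def isoMatEquiv (e : ι ≃ κ) :
    {M : Matrix ι ι F // IsIsoMat q M} ≃ {M : Matrix κ κ F // IsIsoMat q M} where
  toFun M := ⟨Matrix.reindex e e M.1, isIsoMat_reindex e M.1 M.2⟩
  invFun M := ⟨Matrix.reindex e.symm e.symm M.1, isIsoMat_reindex e.symm M.1 M.2⟩
  left_inv M := by
    apply Subtype.ext
    ext i j
    simp
  right_inv M := by
    apply Subtype.ext
    ext i j
    simp

theorem card_GUi_congr (hF : Fintype.card F = q ^ 2) (e : ι ≃ κ) :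
    Nat.card (GUi ι F q) = Nat.card (GUi κ F q) := by
  rw [Nat.card_congr (guEquiv hF), Nat.card_congr (guEquiv hF), Nat.card_congr (isoMatEquiv e)]

end reindex

section main

variable {F : Type*} [Field F] [Fintype F] {q : ℕ}

theorem card_GU_succ (hF : Fintype.card F = q ^ 2) (n : ℕ) :
    Nat.card (Cfsg.GU (n + 1) F q) =
      Nat.card {v : Fin (n + 1) → F // Cfsg.hermForm (n + 1) F q v v = 1} *
        Nat.card (Cfsg.GU n F q) := by
  have e : Unit ⊕ Fin n ≃ Fin (n + 1) := Fintype.equivOfCardEq (by simp; omega)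
  rw [GU_eq_GUi, GU_eq_GUi, ← card_GUi_congr hF e, card_GUi_unit_sum hF]
  congr 1
  exact Nat.card_congr (normOneVecEquiv e).symm

end main

end Cfsg.Agent.Lib.Helper08
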