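import Mathlib

set_option autoImplicit false

namespace Cfsg.Agent.Lib.Helper08

open Finset

/-- number of solutions `y` of `∑ x i * y i = c` for nonzero `x` -/
theorem card_hyperplane {F : Type*} [Field F] [Fintype F] [DecidableEq F] {ι : Type*} [Fintype ι]
    [DecidableEq ι] (x : ι → F) (hx : x ≠ 0) (c : F) :
    #{y : ι → F | ∑ i, x i * y i = c} = Fintype.card F ^ (Fintype.card ι - 1) := by
  classical
  let φ : (ι → F) →+ F :=
    { toFun := fun y => ∑ i, x i * y i
      map_zero' := by simp
      map_add' := by intro a b; simp [mul_add, Finset.sum_add_distrib] }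
  have hφ : ∀ y, φ y = ∑ i, x i * y i := fun y => rfl
  obtain ⟨i, hi⟩ : ∃ i, x i ≠ 0 := by
    by_contra h
    push Not at h
    exact hx (funext h)
  have hsurj : Function.Surjective φ := by
    intro d
    refine ⟨Pi.single i (d / x i), ?_⟩
    rw [hφ, Finset.sum_eq_single i]
    · simp [mul_div_cancel₀ _ hi]
    · intro j _ hj
      simp [Pi.single_eq_of_ne hj]
    · simp
  have hfib : ∀ d : F, #{y : ι → F | φ y = d} = #{y : ι → F | φ y = c} := fun d =>
    AddMonoidHom.card_fiber_eq_of_mem_range φ (hsurj d) (hsurj c)
  have htot : Fintype.card (ι → F) = ∑ d : F, #{y : ι → F | φ y = d} := by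
    rw [← Finset.card_univ]
    exact Finset.card_eq_sum_card_fiberwise (f := φ) (fun _ _ => Finset.mem_univ _)
  simp only [hfib, Finset.sum_const, Finset.card_univ, smul_eq_mul] at htot
  rw [Fintype.card_fun] at htot
  have hpos : 0 < Fintype.card ι := Fintype.card_pos_iff.2 ⟨i⟩
  have hq : 0 < Fintype.card F := Fintype.card_pos
  have : Fintype.card F ^ Fintype.card ι = Fintype.card F * Fintype.card F ^ (Fintype.card ι - 1) := by
    rw [← pow_succ']
    congr 1
    omega
  rw [this] at htot
  exact (Nat.eq_of_mul_eq_mul_left hq htot).symm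

theorem sum_ite_eq_const {X : Type*} [Fintype X] [DecidableEq X] (x0 : X) (α β : ℕ) :
    ∑ x : X, (if x = x0 then α else β) = α + (Fintype.card X - 1) * β := by
  rw [Finset.sum_ite, Finset.sum_const, Finset.sum_const, Finset.filter_eq', Finset.filter_ne']
  simp [Finset.card_erase_of_mem]

/-- zeros of `∑ x i * y i + c a` on triples `(x, y, a)` -/
theorem card_hyperbolic_add {F : Type*} [Field F] [Fintype F] [DecidableEq F] {ι : Type*} [Fintype ι]
    [DecidableEq ι] {A : Type*} [Fintype A] (c : A → F) :
    #{p : (ι → F) × (ι → F) × A | ∑ i, p.1 i * p.2.1 i + c p.2.2 = 0} =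
      Fintype.card F ^ Fintype.card ι * #{a : A | c a = 0} +
        (Fintype.card F ^ Fintype.card ι - 1) *
          (Fintype.card F ^ (Fintype.card ι - 1) * Fintype.card A) := by
  classical
  rw [Finset.card_filter, Fintype.sum_prod_type]
  have key : ∀ x : ι → F, ∑ p : (ι → F) × A, (if ∑ i, x i * p.1 i + c p.2 = 0 then 1 else 0) =
      if x = 0 then Fintype.card F ^ Fintype.card ι * #{a : A | c a = 0}
      else Fintype.card F ^ (Fintype.card ι - 1) * Fintype.card A := by
    intro x
    rw [Fintype.sum_prod_type, Finset.sum_comm]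
    split_ifs with hx
    · subst hx
      simp only [Pi.zero_apply, zero_mul, Finset.sum_const_zero, zero_add]
      rw [Finset.sum_comm]
      simp only [Finset.sum_const, Finset.card_univ, smul_eq_mul, Fintype.card_fun]
      rw [← Finset.card_filter, mul_comm]
    · have : ∀ a : A, ∑ y : ι → F, (if ∑ i, x i * y i + c a = 0 then 1 else 0) =
          Fintype.card F ^ (Fintype.card ι - 1) := by
        intro a
        rw [← Finset.card_filter, ← card_hyperplane x hx (-c a)]
        congr 1
        ext y
        simp [add_eq_zero_iff_eq_neg]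
      simp only [this, Finset.sum_const, Finset.card_univ, smul_eq_mul]
      rw [mul_comm]
  simp only [key]
  rw [sum_ite_eq_const, Fintype.card_fun]

/-- the same count, phrased with `Nat.card` of a subtype transported along an equivalence -/
theorem natCard_zeros_of_equiv {F : Type*} [Field F] [Fintype F] {ι : Type*} [Fintype ι]
    [DecidableEq ι] {A : Type*} [Fintype A] {V : Type*} (Q : V → F) (c : A → F)
    (e : V ≃ (ι → F) × (ι → F) × A)
    (he : ∀ v, Q v = ∑ i, (e v).1 i * (e v).2.1 i + c (e v).2.2) :
    Nat.card {v : V // Q v = 0} =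
      Fintype.card F ^ Fintype.card ι * Nat.card {a : A // c a = 0} +
        (Fintype.card F ^ Fintype.card ι - 1) *
          (Fintype.card F ^ (Fintype.card ι - 1) * Fintype.card A) := by
  classical
  have h1 : Nat.card {v : V // Q v = 0} =
      Nat.card {p : (ι → F) × (ι → F) × A // ∑ i, p.1 i * p.2.1 i + c p.2.2 = 0} :=
    Nat.card_congr (Equiv.subtypeEquiv e (fun v => by rw [he v]))
  rw [h1, Nat.card_eq_fintype_card, Nat.card_eq_fintype_card, Fintype.card_subtype,
    Fintype.card_subtype]
  convert card_hyperbolic_add (ι := ι) c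

end Cfsg.Agent.Lib.Helper08
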