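import Mathlib
import Cfsg.Prelude.Def_Classical
import Cfsg.Agent.Lib.Helper08.GOCard
import Cfsg.Agent.S0289

set_option autoImplicit false

namespace Cfsg.Agent.Lib.Helper08

open Matrix

section plus

variable {F : Type*} [Field F]

/-- splitting off the first hyperbolic pair -/
def ePlus (m : ℕ) : Fin (m + 1) ⊕ Fin (m + 1) ≃ Fin 2 ⊕ (Fin m ⊕ Fin m) where
  toFun := Sum.elim (Fin.cases (Sum.inl 0) (fun j => Sum.inr (Sum.inl j)))
    (Fin.cases (Sum.inl 1) (fun j => Sum.inr (Sum.inr j)))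
  invFun := Sum.elim ![Sum.inl 0, Sum.inr 0]
    (Sum.elim (fun j => Sum.inl j.succ) (fun j => Sum.inr j.succ))
  left_inv := by
    rintro (i | i) <;> refine Fin.cases ?_ (fun j => ?_) i <;> simp
  right_inv := by
    rintro (k | j | j)
    · rcases fin2_cases k with rfl | rfl <;> simp
    · simp
    · simp

theorem ePlus_symm_inl0 (m : ℕ) : (ePlus m).symm (Sum.inl 0) = Sum.inl 0 := rfl
theorem ePlus_symm_inl1 (m : ℕ) : (ePlus m).symm (Sum.inl 1) = Sum.inr 0 := rfl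
theorem ePlus_symm_inr_inl (m : ℕ) (j : Fin m) :
    (ePlus m).symm (Sum.inr (Sum.inl j)) = Sum.inl j.succ := rfl
theorem ePlus_symm_inr_inr (m : ℕ) (j : Fin m) :
    (ePlus m).symm (Sum.inr (Sum.inr j)) = Sum.inr j.succ := rfl

theorem quadFormPlus_succ (m : ℕ) (v : Fin (m + 1) ⊕ Fin (m + 1) → F) :
    Cfsg.quadFormPlus (m + 1) F v = hypSum (Cfsg.quadFormPlus m F) (v ∘ (ePlus m).symm) := by
  unfold hypSum Cfsg.quadFormPlus
  rw [Fin.sum_univ_succ]
  simp only [Function.comp_apply, ePlus_symm_inl0, ePlus_symm_inl1, ePlus_symm_inr_inl,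
    ePlus_symm_inr_inr]

/-- `QData` for the hyperbolic form -/
def qdataPlus (m : ℕ) : QData (Cfsg.quadFormPlus m F) where
  M := Matrix.fromBlocks 0 1 1 0
  hsm a x := by
    simp only [Cfsg.quadFormPlus, Pi.smul_apply, smul_eq_mul, Finset.mul_sum]
    refine Finset.sum_congr rfl fun i _ => ?_
    ring
  hM := Cfsg.Agent.Lib.Helper50.polar_quadFormPlus m
  hdet := by
    rw [Cfsg.Agent.Lib.Helper50.det_hyp]
    exact pow_ne_zero _ (neg_ne_zero.mpr one_ne_zero)

theorem cast_pow_sub_one {q : ℕ} (hq : 1 ≤ q) (k : ℕ) :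
    ((q ^ k - 1 : ℕ) : ℤ) = (q : ℤ) ^ k - 1 := by
  rw [Nat.cast_sub (Nat.one_le_pow _ _ hq)]
  push_cast
  ring

theorem cast_prod_pow_sub_one {q : ℕ} (hq : 1 ≤ q) (n : ℕ) :
    ((∏ i ∈ Finset.range n, (q ^ (2 * (i + 1)) - 1) : ℕ) : ℤ) =
      ∏ i ∈ Finset.range n, ((q : ℤ) ^ (2 * (i + 1)) - 1) := by
  rw [Nat.cast_prod]
  apply Finset.prod_congr rfl
  intro i _
  exact cast_pow_sub_one hq _

theorem card_GOplus_zero [Fintype F] :
    Nat.card (Cfsg.isometryGroup F (Cfsg.quadFormPlus 0 F)) = 1 := by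
  have : Subsingleton (Matrix.GeneralLinearGroup (Fin 0 ⊕ Fin 0) F) := by
    constructor
    intro a b
    apply Units.ext
    ext i j
    rcases i with i | i <;> exact i.elim0
  exact Nat.card_unique

theorem card_GOplus_succ [Fintype F] {q : ℕ} (hF : Fintype.card F = q) (m : ℕ) :
    Nat.card (Cfsg.isometryGroup F (Cfsg.quadFormPlus (m + 1) F)) =
      (q ^ (2 * m + 1) + q ^ (m + 1) - q ^ m - 1) * q ^ (2 * m) *
        Nat.card (Cfsg.isometryGroup F (Cfsg.quadFormPlus m F)) := by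
  rw [card_succ hF (ePlus m) _ _ (quadFormPlus_succ m) (qdataPlus m),
    Cfsg.Agent.S0289.result hF (m + 1) (by omega)]
  have h1 : 2 * (m + 1) - 1 = 2 * m + 1 := by omega
  have h2 : m + 1 - 1 = m := by omega
  have h3 : Fintype.card (Fin m ⊕ Fin m) = 2 * m := by
    rw [Fintype.card_sum, Fintype.card_fin]; ring
  rw [h1, h2, h3]

theorem card_GOplus [Fintype F] {q : ℕ} (hF : Fintype.card F = q) (m : ℕ) (hm : 1 ≤ m) :
    Nat.card (Cfsg.isometryGroup F (Cfsg.quadFormPlus m F)) =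
      2 * q ^ (m * (m - 1)) * (q ^ m - 1) * ∏ i ∈ Finset.range (m - 1), (q ^ (2 * (i + 1)) - 1) := by
  have hq : 2 ≤ q := by
    have := Fintype.one_lt_card (α := F)
    omega
  have hq1 : 1 ≤ q := by omega
  induction m, hm using Nat.le_induction with
  | base =>
    rw [card_GOplus_succ hF 0, card_GOplus_zero]
    simp only [Nat.mul_zero, Nat.zero_add, pow_one, pow_zero, Nat.sub_self, Finset.range_zero,
      Finset.prod_empty, Nat.mul_one]
    omega
  | succ m hm ih =>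
    rw [card_GOplus_succ hF m, ih]
    obtain ⟨k, rfl⟩ : ∃ k, m = k + 1 := ⟨m - 1, by omega⟩
    simp only [Nat.add_sub_cancel]
    rw [Finset.prod_range_succ]
    apply Nat.cast_injective (R := ℤ)
    have hle1 : q ^ (k + 1) ≤ q ^ (2 * (k + 1) + 1) + q ^ (k + 1 + 1) :=
      le_trans (Nat.pow_le_pow_right hq1 (by omega)) (Nat.le_add_left _ _)
    have hle2 : 1 ≤ q ^ (2 * (k + 1) + 1) + q ^ (k + 1 + 1) - q ^ (k + 1) := by
      have : q ^ (k + 1) + 1 ≤ q ^ (2 * (k + 1) + 1) + q ^ (k + 1 + 1) := by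
        have h1 : 1 ≤ q ^ (2 * (k + 1) + 1) := Nat.one_le_pow _ _ hq1
        have h2 : q ^ (k + 1) ≤ q ^ (k + 1 + 1) := Nat.pow_le_pow_right hq1 (by omega)
        omega
      omega
    push_cast [Nat.cast_sub hle2, Nat.cast_sub hle1, cast_pow_sub_one hq1,
      cast_prod_pow_sub_one hq1]
    ring

end plus

end Cfsg.Agent.Lib.Helper08
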