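import Mathlib
import Cfsg.Prelude.Def_Classical
import Cfsg.Agent.Lib.Helper19.UnitaryDet
import Cfsg.Agent.Lib.Helper66.DihedralIso

set_option autoImplicit false

namespace Cfsg.Agent.Lib.Helper08

open Matrix QuadraticAlgebra

section field

variable {F : Type*} [Field F] (a b : F)

/-- the quadratic extension attached to the anisotropic binary form `x² + a x y + b y²` -/
abbrev KK (a b : F) : Type _ := QuadraticAlgebra F (-b) a

theorem fact_of_aniso (hab : ∀ z₁ z₂ : F, z₁ ^ 2 + a * z₁ * z₂ + b * z₂ ^ 2 = 0 → z₁ = 0 ∧ z₂ = 0) :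
    Fact (∀ r : F, r ^ 2 ≠ -b + a * r) := by
  constructor
  intro r hr
  have := hab r (-1) (by rw [hr]; ring)
  have h1 : (-1 : F) = 0 := this.2
  simp at h1

theorem norm_KK (z : KK a b) : QuadraticAlgebra.norm z = z.re ^ 2 + a * z.re * z.im + b * z.im ^ 2 := by
  rw [QuadraticAlgebra.norm_def]
  ring

end field

section frob

variable {F : Type*} [Field F] [Fintype F] {a b : F} {q : ℕ}

/-- finiteness of the quadratic extension -/
@[instance_reducible] noncomputable def fintypeKK (a b : F) : Fintype (KK a b) :=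
  Fintype.ofEquiv (F × F) (QuadraticAlgebra.equivProd (-b) a).symm

theorem card_KK (hF : Fintype.card F = q) :
    @Fintype.card (KK a b) (fintypeKK a b) = q ^ 2 := by
  let _ := fintypeKK a b
  rw [Fintype.card_congr (QuadraticAlgebra.equivProd (-b) a), Fintype.card_prod, hF, sq]

omit [Fintype F] in
/-- roots of the defining polynomial -/
theorem root_cases [Fact (∀ r : F, r ^ 2 ≠ -b + a * r)] (w : KK a b)
    (hw : w * w = algebraMap F (KK a b) (-b) + algebraMap F (KK a b) a * w) :
    w = (ω : KK a b) ∨ w = star (ω : KK a b) := by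
  have h1 : (w - (ω : KK a b)) * (w - star (ω : KK a b)) = 0 := by
    have e1 : (ω : KK a b) + star (ω : KK a b) = algebraMap F (KK a b) a := by
      ext <;> simp
    have e2 : (ω : KK a b) * star (ω : KK a b) = algebraMap F (KK a b) b := by
      ext <;> simp
    have : (w - (ω : KK a b)) * (w - star (ω : KK a b)) =
        w * w - ((ω : KK a b) + star (ω : KK a b)) * w + (ω : KK a b) * star (ω : KK a b) := by
      ring
    rw [this, e1, e2, hw, map_neg]
    ring
  rcases mul_eq_zero.mp h1 with h | h
  · left; exact sub_eq_zero.mp h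
  · right; exact sub_eq_zero.mp h

theorem exists_pow_ne [Fact (∀ r : F, r ^ 2 ≠ -b + a * r)] (hF : Fintype.card F = q) :
    ∃ z : KK a b, z ^ q ≠ z := by
  let _ := fintypeKK a b
  have hK : Fintype.card (KK a b) = q ^ 2 := card_KK hF
  have hq : 1 < q := by
    have := Fintype.one_lt_card (α := F)
    omega
  obtain ⟨g, hg⟩ := IsCyclic.exists_generator (α := (KK a b)ˣ)
  have hord : orderOf g = q ^ 2 - 1 := by
    rw [orderOf_eq_card_of_forall_mem_zpowers hg, Nat.card_units, Nat.card_eq_fintype_card, hK]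
  refine ⟨(g : KK a b), ?_⟩
  intro h
  have h1 : g ^ (q - 1) = 1 := by
    apply Units.ext
    rw [Units.val_pow_eq_pow_val, Units.val_one]
    have h2 : (g : KK a b) ^ (q - 1) * (g : KK a b) = 1 * (g : KK a b) := by
      rw [← pow_succ, Nat.sub_add_cancel (by omega), h, one_mul]
    exact mul_right_cancel₀ g.ne_zero h2
  have h3 := orderOf_dvd_of_pow_eq_one h1
  rw [hord] at h3
  have h4 := Nat.le_of_dvd (by omega) h3
  have h5 : q ^ 2 = q * q := by ring
  have h6 : 2 * q ≤ q * q := Nat.mul_le_mul_right q hq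
  omega

theorem star_eq_pow [Fact (∀ r : F, r ^ 2 ≠ -b + a * r)] (hF : Fintype.card F = q) (z : KK a b) :
    star z = z ^ q := by
  let _ := fintypeKK a b
  have hK : Fintype.card (KK a b) = q ^ 2 := card_KK hF
  set φ := Cfsg.Agent.Lib.Helper19.frobQ hK with hφ
  have hφa : ∀ z, φ z = z ^ q := Cfsg.Agent.Lib.Helper19.frobQ_apply hK
  have hφalg : ∀ x : F, φ (algebraMap F (KK a b) x) = algebraMap F (KK a b) x := by
    intro x
    rw [hφa, ← map_pow, ← hF, FiniteField.pow_card]
  have hw : φ (ω : KK a b) * φ (ω : KK a b) =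
      algebraMap F (KK a b) (-b) + algebraMap F (KK a b) a * φ (ω : KK a b) := by
    rw [← map_mul, QuadraticAlgebra.omega_mul_omega_eq_algebraMap, map_add, map_mul, hφalg, hφalg]
  have hdecomp : ∀ z : KK a b, z = algebraMap F (KK a b) z.re + algebraMap F (KK a b) z.im * ω := by
    intro z
    ext <;> simp
  have hφz : ∀ z : KK a b, φ z = algebraMap F (KK a b) z.re +
      algebraMap F (KK a b) z.im * φ (ω : KK a b) := by
    intro z
    conv_lhs => rw [hdecomp z]
    rw [map_add, map_mul, hφalg, hφalg]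
  rcases root_cases _ hw with h | h
  · exfalso
    obtain ⟨z0, hz0⟩ := exists_pow_ne (a := a) (b := b) hF
    apply hz0
    rw [← hφa, hφz, h, ← hdecomp]
  · rw [← hφa, hφz, h]
    ext <;> simp
    ring

end frob

section coords

variable {F : Type*} [Field F] (a b : F)

/-- the index type of `quadFormMinus 0` -/
abbrev Idx : Type := (Fin 0 ⊕ Fin 0) ⊕ Fin 2

/-- coordinates to the quadratic algebra -/
def toK : (Idx → F) →ₗ[F] KK a b where
  toFun v := ⟨v (Sum.inr 0), v (Sum.inr 1)⟩
  map_add' := by intros; ext <;> simp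
  map_smul' := by intros; ext <;> simp

/-- the quadratic algebra to coordinates -/
def ofK : KK a b →ₗ[F] (Idx → F) where
  toFun z := Sum.elim (fun _ => 0) ![z.re, z.im]
  map_add' := by
    intro z w
    ext i
    rcases i with (i | i) | i
    · exact i.elim0
    · exact i.elim0
    · fin_cases i <;> simp
  map_smul' := by
    intro c z
    ext i
    rcases i with (i | i) | i
    · exact i.elim0
    · exact i.elim0
    · fin_cases i <;> simp

@[simp] theorem toK_ofK (z : KK a b) : toK a b (ofK a b z) = z := by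
  ext <;> simp [toK, ofK]

@[simp] theorem ofK_toK (v : Idx → F) : ofK a b (toK a b v) = v := by
  ext i
  rcases i with (i | i) | i
  · exact i.elim0
  · exact i.elim0
  · fin_cases i <;> simp [toK, ofK]

theorem quad_eq_norm (v : Idx → F) :
    Cfsg.quadFormMinus 0 F a b v = QuadraticAlgebra.norm (toK a b v) := by
  rw [norm_KK]
  simp [Cfsg.quadFormMinus, toK]

/-- matrix of a linear endomorphism of the quadratic algebra -/
noncomputable def matOf (T : KK a b →ₗ[F] KK a b) : Matrix Idx Idx F :=
  LinearMap.toMatrix' ((ofK a b) ∘ₗ T ∘ₗ (toK a b))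

/-- linear endomorphism of a matrix -/
noncomputable def linOf (M : Matrix Idx Idx F) : KK a b →ₗ[F] KK a b :=
  (toK a b) ∘ₗ (Matrix.toLin' M) ∘ₗ (ofK a b)

theorem matOf_mulVec (T : KK a b →ₗ[F] KK a b) (v : Idx → F) :
    matOf a b T *ᵥ v = ofK a b (T (toK a b v)) := by
  unfold matOf
  rw [LinearMap.toMatrix'_mulVec]
  rfl

theorem linOf_apply (M : Matrix Idx Idx F) (z : KK a b) :
    linOf a b M z = toK a b (M *ᵥ ofK a b z) := by
  unfold linOf
  simp [Matrix.toLin'_apply]

theorem matOf_linOf (M : Matrix Idx Idx F) : matOf a b (linOf a b M) = M := by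
  unfold matOf linOf
  have : (ofK a b) ∘ₗ ((toK a b) ∘ₗ (Matrix.toLin' M) ∘ₗ (ofK a b)) ∘ₗ (toK a b) =
      Matrix.toLin' M := by
    apply LinearMap.ext
    intro v
    simp
  rw [this, LinearMap.toMatrix'_toLin']

theorem matOf_comp (T T' : KK a b →ₗ[F] KK a b) :
    matOf a b (T ∘ₗ T') = matOf a b T * matOf a b T' := by
  unfold matOf
  rw [← LinearMap.toMatrix'_comp]
  have : (ofK a b) ∘ₗ (T ∘ₗ T') ∘ₗ (toK a b) =
      ((ofK a b) ∘ₗ T ∘ₗ (toK a b)) ∘ₗ ((ofK a b) ∘ₗ T' ∘ₗ (toK a b)) := by
    apply LinearMap.ext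
    intro v
    simp only [LinearMap.comp_apply, toK_ofK]
  rw [this]

theorem matOf_id : matOf a b LinearMap.id = 1 := by
  unfold matOf
  have : (ofK a b) ∘ₗ (LinearMap.id : KK a b →ₗ[F] KK a b) ∘ₗ (toK a b) = LinearMap.id := by
    apply LinearMap.ext
    intro v
    simp
  rw [this, LinearMap.toMatrix'_id]

theorem matOf_injective : Function.Injective (matOf a b) := by
  intro T T' h
  apply LinearMap.ext
  intro z
  have := congrArg (fun M => M *ᵥ ofK a b z) h
  simp only [matOf_mulVec, toK_ofK] at this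
  have h2 := congrArg (toK a b) this
  simpa using h2

/-- conjugation as a linear map -/
def starLin : KK a b →ₗ[F] KK a b where
  toFun z := star z
  map_add' := star_add
  map_smul' := by
    intro c z
    ext <;> simp
    ring

/-- multiplication matrices -/
noncomputable def muHom : KK a b →* Matrix Idx Idx F where
  toFun z := matOf a b (LinearMap.mulLeft F z)
  map_one' := by
    rw [LinearMap.mulLeft_one]
    exact matOf_id a b
  map_mul' z w := by
    rw [LinearMap.mulLeft_mul, matOf_comp]

theorem muHom_apply (z : KK a b) : muHom a b z = matOf a b (LinearMap.mulLeft F z) := rfl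

theorem muHom_injective : Function.Injective (muHom a b) := by
  intro z w h
  have := matOf_injective a b h
  have h2 := congrArg (fun T : KK a b →ₗ[F] KK a b => T 1) this
  simpa using h2

/-- the matrix of conjugation -/
noncomputable def Smat : Matrix Idx Idx F := matOf a b (starLin a b)

theorem Smat_mul_self : Smat a b * Smat a b = 1 := by
  unfold Smat
  rw [← matOf_comp, ← matOf_id a b]
  congr 1
  apply LinearMap.ext
  intro z
  simp [starLin]

theorem Smat_mul_mu_mul_Smat (z : KK a b) :
    Smat a b * muHom a b z * Smat a b = muHom a b (star z) := by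
  unfold Smat
  rw [muHom_apply, muHom_apply, ← matOf_comp, ← matOf_comp]
  congr 1
  apply LinearMap.ext
  intro w
  simp [starLin]

end coords

section group

variable {F : Type*} [Field F] {a b : F}

theorem mem_iso_iff' (g : Matrix.GeneralLinearGroup Idx F) :
    g ∈ Cfsg.isometryGroup F (Cfsg.quadFormMinus 0 F a b) ↔
      ∀ v, Cfsg.quadFormMinus 0 F a b ((g : Matrix Idx Idx F) *ᵥ v) =
        Cfsg.quadFormMinus 0 F a b v :=
  ⟨fun h u => h u u, fun h u _ => h u⟩

/-- rotations -/
noncomputable def rho (a b : F) : (KK a b)ˣ →* Matrix.GeneralLinearGroup Idx F :=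
  Units.map (muHom a b)

theorem rho_val (u : (KK a b)ˣ) : ((rho a b u : Matrix.GeneralLinearGroup Idx F) :
    Matrix Idx Idx F) = muHom a b (u : KK a b) := rfl

theorem rho_injective : Function.Injective (rho a b) := by
  intro u v h
  apply Units.ext
  apply muHom_injective a b
  rw [← rho_val, ← rho_val, h]

theorem rho_mem (u : (KK a b)ˣ) (hu : QuadraticAlgebra.norm (u : KK a b) = 1) :
    rho a b u ∈ Cfsg.isometryGroup F (Cfsg.quadFormMinus 0 F a b) := by
  rw [mem_iso_iff']
  intro v
  rw [rho_val, muHom_apply, matOf_mulVec, quad_eq_norm, quad_eq_norm, toK_ofK,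
    LinearMap.mulLeft_apply, map_mul, hu, one_mul]

/-- the reflection -/
noncomputable def SGL (a b : F) : Matrix.GeneralLinearGroup Idx F :=
  ⟨Smat a b, Smat a b, Smat_mul_self a b, Smat_mul_self a b⟩

theorem SGL_val : ((SGL a b : Matrix.GeneralLinearGroup Idx F) : Matrix Idx Idx F) = Smat a b := rfl

theorem SGL_mul_self : SGL a b * SGL a b = 1 := by
  apply Units.ext
  exact Smat_mul_self a b

theorem SGL_mem : SGL a b ∈ Cfsg.isometryGroup F (Cfsg.quadFormMinus 0 F a b) := by
  rw [mem_iso_iff']
  intro v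
  rw [SGL_val, Smat, matOf_mulVec, quad_eq_norm, quad_eq_norm, toK_ofK]
  exact QuadraticAlgebra.norm_star _

theorem SGL_rho_SGL (u : (KK a b)ˣ) (v : (KK a b)ˣ) (hv : (v : KK a b) = star (u : KK a b)) :
    SGL a b * rho a b u * SGL a b = rho a b v := by
  apply Units.ext
  rw [Matrix.GeneralLinearGroup.coe_mul, Matrix.GeneralLinearGroup.coe_mul, SGL_val, rho_val,
    rho_val, hv]
  exact Smat_mul_mu_mul_Smat a b _

theorem norm_algebraMap_add (t : F) (z : KK a b) :
    QuadraticAlgebra.norm (algebraMap F (KK a b) t + z) =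
      t ^ 2 + t * QuadraticAlgebra.trace z + QuadraticAlgebra.norm z := by
  rw [QuadraticAlgebra.norm_def, QuadraticAlgebra.norm_def, QuadraticAlgebra.trace_def]
  simp
  ring

variable [Fact (∀ r : F, r ^ 2 ≠ -b + a * r)]

/-- norm-preserving linear maps fixing `1` -/
theorem fix_one_cases (T : KK a b →ₗ[F] KK a b)
    (hT : ∀ z, QuadraticAlgebra.norm (T z) = QuadraticAlgebra.norm z) (h1 : T 1 = 1) :
    (∀ z, T z = z) ∨ (∀ z, T z = star z) := by
  set w := T (ω : KK a b) with hw
  have hTalg : ∀ t : F, T (algebraMap F (KK a b) t) = algebraMap F (KK a b) t := by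
    intro t
    rw [Algebra.algebraMap_eq_smul_one, map_smul, h1]
  have key : ∀ t : F, t ^ 2 + t * QuadraticAlgebra.trace w + QuadraticAlgebra.norm w =
      t ^ 2 + t * QuadraticAlgebra.trace (ω : KK a b) + QuadraticAlgebra.norm (ω : KK a b) := by
    intro t
    rw [← norm_algebraMap_add, ← norm_algebraMap_add, hw, ← hTalg t, ← map_add, hT, hTalg]
  have hn : QuadraticAlgebra.norm w = b := by
    have := key 0
    simp only [ne_eq, OfNat.ofNat_ne_zero, not_false_eq_true, zero_pow, zero_mul, zero_add] at this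
    rw [this, QuadraticAlgebra.norm_def]
    simp
  have ht : QuadraticAlgebra.trace w = a := by
    have := key 1
    rw [hn] at this
    have h2 : QuadraticAlgebra.norm (ω : KK a b) = b := by
      rw [QuadraticAlgebra.norm_def]; simp
    rw [h2, QuadraticAlgebra.trace_omega] at this
    linear_combination this
  have hww : w * w = algebraMap F (KK a b) (-b) + algebraMap F (KK a b) a * w := by
    have := QuadraticAlgebra.sq_eq_trace_smul_sub_norm (z := w)
    rw [ht, hn, sq, Algebra.smul_def] at this
    rw [this, map_neg]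
    ring
  have hdecomp : ∀ z : KK a b, z = algebraMap F (KK a b) z.re + z.im • (ω : KK a b) := by
    intro z
    ext <;> simp
  have hTz : ∀ z : KK a b, T z = algebraMap F (KK a b) z.re + z.im • w := by
    intro z
    conv_lhs => rw [hdecomp z]
    rw [map_add, map_smul, hTalg]
  rcases root_cases w hww with h | h
  · left
    intro z
    rw [hTz, h, ← hdecomp]
  · right
    intro z
    rw [hTz, h]
    ext <;> simp
    ring

theorem classify (g : Matrix.GeneralLinearGroup Idx F)
    (hg : g ∈ Cfsg.isometryGroup F (Cfsg.quadFormMinus 0 F a b)) :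
    ∃ u : (KK a b)ˣ, QuadraticAlgebra.norm (u : KK a b) = 1 ∧
      (g = rho a b u ∨ g = rho a b u * SGL a b) := by
  rw [mem_iso_iff'] at hg
  set T := linOf a b (g : Matrix Idx Idx F) with hTdef
  have hT : ∀ z, QuadraticAlgebra.norm (T z) = QuadraticAlgebra.norm z := by
    intro z
    rw [hTdef, linOf_apply, ← quad_eq_norm, hg, quad_eq_norm, toK_ofK]
  set u0 := T 1 with hu0
  have hnu0 : QuadraticAlgebra.norm u0 = 1 := by rw [hu0, hT, map_one]
  have hu0ne : u0 ≠ 0 := by
    intro h
    rw [h, QuadraticAlgebra.norm_zero] at hnu0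
    exact zero_ne_one hnu0
  have hmul : u0 * star u0 = 1 := by
    rw [← QuadraticAlgebra.algebraMap_norm_eq_mul_star, hnu0, map_one]
  set T' := (LinearMap.mulLeft F (star u0)) ∘ₗ T with hT'def
  have hT'1 : T' 1 = 1 := by
    simp only [hT'def, LinearMap.comp_apply, LinearMap.mulLeft_apply]
    rw [← hu0, mul_comm, hmul]
  have hT' : ∀ z, QuadraticAlgebra.norm (T' z) = QuadraticAlgebra.norm z := by
    intro z
    simp only [hT'def, LinearMap.comp_apply, LinearMap.mulLeft_apply]
    rw [map_mul, QuadraticAlgebra.norm_star, hnu0, one_mul, hT]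
  have hback : ∀ z, T z = u0 * T' z := by
    intro z
    simp only [hT'def, LinearMap.comp_apply, LinearMap.mulLeft_apply]
    rw [← mul_assoc, hmul, one_mul]
  have hgM : (g : Matrix Idx Idx F) = matOf a b T := by rw [hTdef, matOf_linOf]
  refine ⟨Units.mk0 u0 hu0ne, hnu0, ?_⟩
  rcases fix_one_cases T' hT' hT'1 with h | h
  · left
    apply Units.ext
    rw [rho_val, Units.val_mk0, muHom_apply, hgM]
    congr 1
    apply LinearMap.ext
    intro z
    rw [hback, h, LinearMap.mulLeft_apply]
  · right
    apply Units.ext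
    rw [Matrix.GeneralLinearGroup.coe_mul, rho_val, Units.val_mk0, muHom_apply, SGL_val, Smat,
      ← matOf_comp, hgM]
    congr 1
    apply LinearMap.ext
    intro z
    rw [hback, h]
    rfl

end group

section final

variable {F : Type*} [Field F] [Fintype F] {a b : F} {q : ℕ}

open Cfsg.Agent.Lib.Helper19 (normOne mem_normOne card_normOne)

theorem minusTwo_dihedral (hF : Fintype.card F = q)
    (hab : ∀ z₁ z₂ : F, z₁ ^ 2 + a * z₁ * z₂ + b * z₂ ^ 2 = 0 → z₁ = 0 ∧ z₂ = 0) :
    Nonempty (Cfsg.isometryGroup F (Cfsg.quadFormMinus 0 F a b) ≃* DihedralGroup (q + 1)) := by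
  classical
  have hfact : Fact (∀ r : F, r ^ 2 ≠ -b + a * r) := fact_of_aniso a b hab
  let _ := fintypeKK a b
  have hK : Fintype.card (KK a b) = q ^ 2 := card_KK hF
  have hq : 1 < q := by
    have := Fintype.one_lt_card (α := F)
    omega
  -- norm one iff (q+1)-th power one
  have hpow : ∀ u : (KK a b)ˣ, ((u : KK a b)) ^ (q + 1) =
      algebraMap F (KK a b) (QuadraticAlgebra.norm (u : KK a b)) := by
    intro u
    rw [pow_succ', ← star_eq_pow hF, QuadraticAlgebra.algebraMap_norm_eq_mul_star]
  have hmemU : ∀ u : (KK a b)ˣ, u ∈ normOne (KK a b) q ↔ QuadraticAlgebra.norm (u : KK a b) = 1 := by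
    intro u
    rw [mem_normOne]
    constructor
    · intro h
      have h2 := congrArg (fun x : (KK a b)ˣ => (x : KK a b)) h
      simp only [Units.val_pow_eq_pow_val, Units.val_one] at h2
      rw [hpow] at h2
      have : algebraMap F (KK a b) (QuadraticAlgebra.norm (u : KK a b)) = algebraMap F (KK a b) 1 := by
        rw [h2, map_one]
      exact QuadraticAlgebra.algebraMap_injective this
    · intro h
      apply Units.ext
      rw [Units.val_pow_eq_pow_val, Units.val_one, hpow, h, map_one]
  -- generator of the norm one group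
  have hcyc : IsCyclic (normOne (KK a b) q) := inferInstance
  obtain ⟨u0, hu0⟩ := IsCyclic.exists_generator (α := normOne (KK a b) q)
  have hord0 : orderOf u0 = q + 1 := by
    rw [orderOf_eq_card_of_forall_mem_zpowers hu0, card_normOne hK]
  have hnu0 : QuadraticAlgebra.norm ((u0 : (KK a b)ˣ) : KK a b) = 1 := (hmemU _).mp u0.2
  -- the group
  set G := Cfsg.isometryGroup F (Cfsg.quadFormMinus 0 F a b) with hG
  let x : G := ⟨SGL a b, SGL_mem⟩
  let r : G := ⟨rho a b (u0 : (KK a b)ˣ), rho_mem _ hnu0⟩
  let y : G := x * r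
  have hxx : x * x = 1 := Subtype.ext SGL_mul_self
  have hxy : x * y = r := by
    show x * (x * r) = r
    rw [← mul_assoc, hxx, one_mul]
  have hordr : orderOf r = q + 1 := by
    rw [← hord0, ← Subgroup.orderOf_coe r, ← Subgroup.orderOf_coe u0]
    exact orderOf_injective (rho a b) rho_injective _
  -- star is not the identity
  have hstar : ∃ z : KK a b, star z ≠ z := by
    obtain ⟨z, hz⟩ := exists_pow_ne (a := a) (b := b) hF
    exact ⟨z, by rw [star_eq_pow hF]; exact hz⟩
  have hx1 : x ≠ 1 := by
    intro h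
    have h2 : Smat a b = 1 := by
      have := congrArg (fun g : G => ((g : Matrix.GeneralLinearGroup Idx F) : Matrix Idx Idx F)) h
      simpa [x, SGL_val] using this
    rw [Smat, ← matOf_id a b] at h2
    have h3 := matOf_injective a b h2
    obtain ⟨z, hz⟩ := hstar
    apply hz
    have := congrArg (fun T : KK a b →ₗ[F] KK a b => T z) h3
    simpa [starLin] using this
  have hordx : orderOf x = 2 := orderOf_eq_prime (by rw [sq, hxx]) hx1
  have hyy : y * y = 1 := by
    have hinv : ((u0⁻¹ : normOne (KK a b) q) : (KK a b)ˣ) = (u0 : (KK a b)ˣ)⁻¹ := rfl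
    have h1 : SGL a b * rho a b (u0 : (KK a b)ˣ) * SGL a b = rho a b ((u0 : (KK a b)ˣ)⁻¹) := by
      apply SGL_rho_SGL
      have hm : ((u0 : (KK a b)ˣ) : KK a b) * star ((u0 : (KK a b)ˣ) : KK a b) = 1 := by
        rw [← QuadraticAlgebra.algebraMap_norm_eq_mul_star, hnu0, map_one]
      rw [Units.val_inv_eq_inv_val]
      exact (eq_inv_of_mul_eq_one_right hm).symm
    apply Subtype.ext
    show (SGL a b * rho a b (u0 : (KK a b)ˣ)) * (SGL a b * rho a b (u0 : (KK a b)ˣ)) = 1
    calc (SGL a b * rho a b (u0 : (KK a b)ˣ)) * (SGL a b * rho a b (u0 : (KK a b)ˣ))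
        = (SGL a b * rho a b (u0 : (KK a b)ˣ) * SGL a b) * rho a b (u0 : (KK a b)ˣ) := by group
      _ = 1 := by rw [h1, ← map_mul, inv_mul_cancel, map_one]
  have hy1 : y ≠ 1 := by
    intro h
    have : orderOf (x * y) = 2 := by rw [h, mul_one, hordx]
    rw [hxy, hordr] at this
    omega
  have hordy : orderOf y = 2 := orderOf_eq_prime (by rw [sq, hyy]) hy1
  have htop : Subgroup.closure ({x, y} : Set G) = ⊤ := by
    rw [eq_top_iff]
    intro g _
    have hxmem : x ∈ Subgroup.closure ({x, y} : Set G) :=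
      Subgroup.subset_closure (by simp)
    have hymem : y ∈ Subgroup.closure ({x, y} : Set G) :=
      Subgroup.subset_closure (by simp)
    have hrmem : r ∈ Subgroup.closure ({x, y} : Set G) := by
      rw [← hxy]; exact Subgroup.mul_mem _ hxmem hymem
    obtain ⟨u, hu, hcase⟩ := classify g.1 g.2
    have huU : u ∈ normOne (KK a b) q := (hmemU u).mpr hu
    obtain ⟨k, hk⟩ := Subgroup.mem_zpowers_iff.mp (hu0 ⟨u, huU⟩)
    have hrk : (r ^ k : G) = ⟨rho a b u, rho_mem u hu⟩ := by
      apply Subtype.ext
      rw [Subgroup.coe_zpow]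
      show (rho a b (u0 : (KK a b)ˣ)) ^ k = rho a b u
      rw [← map_zpow]
      congr 1
      have := congrArg (fun w : normOne (KK a b) q => (w : (KK a b)ˣ)) hk
      simpa using this
    have hrkmem : (⟨rho a b u, rho_mem u hu⟩ : G) ∈ Subgroup.closure ({x, y} : Set G) := by
      rw [← hrk]; exact Subgroup.zpow_mem _ hrmem k
    rcases hcase with h | h
    · have : g = ⟨rho a b u, rho_mem u hu⟩ := Subtype.ext h
      rw [this]; exact hrkmem
    · have : g = ⟨rho a b u, rho_mem u hu⟩ * x := Subtype.ext h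
      rw [this]; exact Subgroup.mul_mem _ hrkmem hxmem
  obtain ⟨e⟩ := Cfsg.Agent.Lib.Helper66.nonempty_equiv_dihedral_of_closure_eq_top hordx hordy htop
  rw [hxy, hordr] at e
  exact ⟨e⟩

end final

end Cfsg.Agent.Lib.Helper08
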