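import Mathlib
import Cfsg.Prelude.Def_Classical
import Cfsg.Agent.Lib.Helper08.GOCard
import Cfsg.Agent.Lib.Helper08.GOPlus
import Cfsg.Agent.S0290
import Cfsg.Agent.S0306

set_option autoImplicit false

namespace Cfsg.Agent.Lib.Helper08

open Matrix

section minus

variable {F : Type*} [Field F]

/-- splitting off the first hyperbolic pair -/
def eMinus (k : ℕ) :
    (Fin (k + 1) ⊕ Fin (k + 1)) ⊕ Fin 2 ≃ Fin 2 ⊕ ((Fin k ⊕ Fin k) ⊕ Fin 2) :=
  (Equiv.sumCongr (ePlus k) (Equiv.refl (Fin 2))).trans (Equiv.sumAssoc _ _ _)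

theorem eMinus_symm_inl0 (k : ℕ) : (eMinus k).symm (Sum.inl 0) = Sum.inl (Sum.inl 0) := rfl
theorem eMinus_symm_inl1 (k : ℕ) : (eMinus k).symm (Sum.inl 1) = Sum.inl (Sum.inr 0) := rfl
theorem eMinus_symm_inr_inl_inl (k : ℕ) (j : Fin k) :
    (eMinus k).symm (Sum.inr (Sum.inl (Sum.inl j))) = Sum.inl (Sum.inl j.succ) := rfl
theorem eMinus_symm_inr_inl_inr (k : ℕ) (j : Fin k) :
    (eMinus k).symm (Sum.inr (Sum.inl (Sum.inr j))) = Sum.inl (Sum.inr j.succ) := rfl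
theorem eMinus_symm_inr_inr (k : ℕ) (t : Fin 2) :
    (eMinus k).symm (Sum.inr (Sum.inr t)) = Sum.inr t := rfl

theorem quadFormMinus_succ (k : ℕ) (a b : F) (v : (Fin (k + 1) ⊕ Fin (k + 1)) ⊕ Fin 2 → F) :
    Cfsg.quadFormMinus (k + 1) F a b v =
      hypSum (Cfsg.quadFormMinus k F a b) (v ∘ (eMinus k).symm) := by
  unfold hypSum Cfsg.quadFormMinus
  rw [Fin.sum_univ_succ]
  simp only [Function.comp_apply, eMinus_symm_inl0, eMinus_symm_inl1, eMinus_symm_inr_inl_inl,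
    eMinus_symm_inr_inl_inr, eMinus_symm_inr_inr]
  ring

theorem disc_ne_zero [Finite F] (a b : F)
    (hab : ∀ z₁ z₂ : F, z₁ ^ 2 + a * z₁ * z₂ + b * z₂ ^ 2 = 0 → z₁ = 0 ∧ z₂ = 0) :
    a ^ 2 - 4 * b ≠ 0 := by
  intro h
  have h1 := hab (-a) 2 (by linear_combination (-1 : F) * h)
  have ha : a = 0 := neg_eq_zero.mp h1.1
  have h2 : (2 : F) = 0 := h1.2
  have hchar : CharP F 2 := CharTwo.of_one_ne_zero_of_two_eq_zero one_ne_zero h2
  have hperf : PerfectRing F 2 := PerfectRing.ofFiniteOfIsReduced 2 F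
  set s := (frobeniusEquiv F 2).symm b with hs
  have hsb : s ^ 2 = b := frobeniusEquiv_symm_pow_p F 2 b
  have h3 := hab s 1 (by rw [ha, hsb]; linear_combination b * h2)
  exact one_ne_zero h3.2

/-- `QData` for the elliptic form -/
def qdataMinus [Finite F] (k : ℕ) (a b : F)
    (hab : ∀ z₁ z₂ : F, z₁ ^ 2 + a * z₁ * z₂ + b * z₂ ^ 2 = 0 → z₁ = 0 ∧ z₂ = 0) :
    QData (Cfsg.quadFormMinus k F a b) where
  M := Matrix.fromBlocks
        (Matrix.fromBlocks (0 : Matrix (Fin k) (Fin k) F) (1 : Matrix (Fin k) (Fin k) F)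
        (1 : Matrix (Fin k) (Fin k) F) (0 : Matrix (Fin k) (Fin k) F))
        (0 : Matrix (Fin k ⊕ Fin k) (Fin 2) F) (0 : Matrix (Fin 2) (Fin k ⊕ Fin k) F)
        (!![2, a; a, 2 * b] : Matrix (Fin 2) (Fin 2) F)
  hsm c x := by
    simp only [Cfsg.quadFormMinus, Pi.smul_apply, smul_eq_mul, mul_add, Finset.mul_sum]
    congr 1
    · refine Finset.sum_congr rfl fun i _ => ?_
      ring
    · ring
  hM := Cfsg.Agent.Lib.Helper50.polar_quadFormMinus k a b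
  hdet := by
    rw [Cfsg.Agent.Lib.Helper50.det_minus_gram]
    exact mul_ne_zero (pow_ne_zero _ (neg_ne_zero.mpr one_ne_zero)) (disc_ne_zero a b hab)

theorem card_GOminus_zero [Fintype F] {q : ℕ} (hF : Fintype.card F = q) (a b : F)
    (hab : ∀ z₁ z₂ : F, z₁ ^ 2 + a * z₁ * z₂ + b * z₂ ^ 2 = 0 → z₁ = 0 ∧ z₂ = 0) :
    Nat.card (Cfsg.isometryGroup F (Cfsg.quadFormMinus 0 F a b)) = 2 * (q + 1) := by
  obtain ⟨e⟩ := Cfsg.Agent.S0306.result hF a b hab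
  rw [Nat.card_congr e.toEquiv, DihedralGroup.nat_card]

theorem card_GOminus_succ [Fintype F] {q : ℕ} (hF : Fintype.card F = q) (k : ℕ) (a b : F)
    (hab : ∀ z₁ z₂ : F, z₁ ^ 2 + a * z₁ * z₂ + b * z₂ ^ 2 = 0 → z₁ = 0 ∧ z₂ = 0) :
    Nat.card (Cfsg.isometryGroup F (Cfsg.quadFormMinus (k + 1) F a b)) =
      (q ^ (2 * k + 3) + q ^ (k + 1) - q ^ (k + 2) - 1) * q ^ (2 * k + 2) *
        Nat.card (Cfsg.isometryGroup F (Cfsg.quadFormMinus k F a b)) := by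
  rw [card_succ hF (eMinus k) _ _ (quadFormMinus_succ k a b) (qdataMinus k a b hab)]
  have h0 := Cfsg.Agent.S0290.result hF (k + 2) (by omega) a b hab
  have e1 : k + 2 - 1 = k + 1 := by omega
  rw [e1] at h0
  rw [h0]
  have h1 : 2 * (k + 2) - 1 = 2 * k + 3 := by omega
  have h3 : Fintype.card ((Fin k ⊕ Fin k) ⊕ Fin 2) = 2 * k + 2 := by
    simp only [Fintype.card_sum, Fintype.card_fin]; ring
  rw [h1, h3]

theorem card_GOminus' [Fintype F] {q : ℕ} (hF : Fintype.card F = q) (k : ℕ) (a b : F)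
    (hab : ∀ z₁ z₂ : F, z₁ ^ 2 + a * z₁ * z₂ + b * z₂ ^ 2 = 0 → z₁ = 0 ∧ z₂ = 0) :
    Nat.card (Cfsg.isometryGroup F (Cfsg.quadFormMinus k F a b)) =
      2 * q ^ ((k + 1) * k) * (q ^ (k + 1) + 1) * ∏ i ∈ Finset.range k, (q ^ (2 * (i + 1)) - 1) := by
  have hq : 2 ≤ q := by
    have := Fintype.one_lt_card (α := F)
    omega
  have hq1 : 1 ≤ q := by omega
  induction k with
  | zero =>
    simp only [Nat.mul_zero, pow_zero, Nat.zero_add, pow_one, Finset.range_zero, Finset.prod_empty,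
      Nat.mul_one]
    rw [card_GOminus_zero hF a b hab]
  | succ k ih =>
    rw [card_GOminus_succ hF k a b hab, ih, Finset.prod_range_succ]
    apply Nat.cast_injective (R := ℤ)
    have hle1 : q ^ (k + 2) ≤ q ^ (2 * k + 3) + q ^ (k + 1) :=
      le_trans (Nat.pow_le_pow_right hq1 (by omega)) (Nat.le_add_right _ _)
    have hle2 : 1 ≤ q ^ (2 * k + 3) + q ^ (k + 1) - q ^ (k + 2) := by
      have : q ^ (k + 2) + 1 ≤ q ^ (2 * k + 3) + q ^ (k + 1) := by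
        have h1 : 1 ≤ q ^ (k + 1) := Nat.one_le_pow _ _ hq1
        have h2 : q ^ (k + 2) ≤ q ^ (2 * k + 3) := Nat.pow_le_pow_right hq1 (by omega)
        omega
      omega
    push_cast [Nat.cast_sub hle2, Nat.cast_sub hle1, cast_pow_sub_one hq1,
      cast_prod_pow_sub_one hq1]
    ring

theorem card_GOminus [Fintype F] {q : ℕ} (hF : Fintype.card F = q) (m : ℕ) (hm : 1 ≤ m) (a b : F)
    (hab : ∀ z₁ z₂ : F, z₁ ^ 2 + a * z₁ * z₂ + b * z₂ ^ 2 = 0 → z₁ = 0 ∧ z₂ = 0) :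
    Nat.card (Cfsg.isometryGroup F (Cfsg.quadFormMinus (m - 1) F a b)) =
      2 * q ^ (m * (m - 1)) * (q ^ m + 1) * ∏ i ∈ Finset.range (m - 1), (q ^ (2 * (i + 1)) - 1) := by
  obtain ⟨k, rfl⟩ : ∃ k, m = k + 1 := ⟨m - 1, by omega⟩
  exact card_GOminus' hF k a b hab

end minus

end Cfsg.Agent.Lib.Helper08
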