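import Mathlib
import Cfsg.Prelude.Def_LieClassical
import Cfsg.Agent.Lib.Helper19.UnitaryDet
import Cfsg.Agent.Lib.Helper08.SUCard

set_option autoImplicit false

namespace Cfsg.Agent.Lib.Helper08

open Matrix
open Cfsg.Agent.Lib.Helper19

section center

variable {F : Type*} [Field F] [Fintype F] {q : ℕ} {n : ℕ}

omit [Fintype F] in
/-- an element of `GU` of determinant one gives an element of `SU` -/
theorem exists_SU_of_GU (g : Matrix.GeneralLinearGroup (Fin n) F) (hg : g ∈ Cfsg.GU n F q)
    (hdet : (g : Matrix (Fin n) (Fin n) F).det = 1) :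
    ∃ s : Matrix.SpecialLinearGroup (Fin n) F, s ∈ Cfsg.SU n F q ∧
      (s : Matrix (Fin n) (Fin n) F) = (g : Matrix (Fin n) (Fin n) F) :=
  ⟨⟨(g : Matrix (Fin n) (Fin n) F), hdet⟩, (mem_SU_iff _).mpr hg, rfl⟩

theorem neg_one_mem_normOne (hF : Fintype.card F = q ^ 2) : (-1 : Fˣ) ∈ normOne F q := by
  rw [mem_normOne]
  apply Units.ext
  rw [Units.val_pow_eq_pow_val, Units.val_neg, Units.val_one, pow_succ]
  have h : (-1 : F) ^ q = -1 := by
    rw [← frobQ_apply hF, map_neg, map_one]
  rw [h]
  ring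

/-- a norm-one element whose square is not one -/
theorem exists_normOne_sq_ne_one (hF : Fintype.card F = q ^ 2) :
    ∃ u : Fˣ, u ∈ normOne F q ∧ u ^ 2 ≠ 1 := by
  have hcard := card_normOne hF
  have hq := one_lt_q hF
  have hcyc : IsCyclic (normOne F q) := inferInstance
  obtain ⟨g, hg⟩ := IsCyclic.exists_generator (α := normOne F q)
  have hord : orderOf g = q + 1 := by
    rw [orderOf_eq_card_of_forall_mem_zpowers hg, hcard]
  refine ⟨g, g.2, ?_⟩
  intro h2
  have h3 : g ^ 2 = 1 := Subtype.ext h2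
  have := orderOf_dvd_of_pow_eq_one h3
  rw [hord] at this
  have := Nat.le_of_dvd (by norm_num) this
  omega

omit [Fintype F] in
theorem det_diagGL_update (k : Fin n) (u : Fˣ) :
    ((diagGL (Function.update (fun _ => (1 : Fˣ)) k u) : Matrix.GeneralLinearGroup (Fin n) F) :
      Matrix (Fin n) (Fin n) F).det = (u : F) := by
  classical
  rw [← Matrix.GeneralLinearGroup.val_det_apply, det_diagGL,
    Finset.prod_update_of_mem (Finset.mem_univ _)]
  simp

omit [Fintype F] in
theorem diagGL_update_mem (k : Fin n) (u : Fˣ) (hu : u ∈ normOne F q) :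
    diagGL (Function.update (fun _ => (1 : Fˣ)) k u) ∈ Cfsg.GU n F q := by
  apply diagGL_mem_GU
  intro i
  by_cases hik : i = k
  · subst hik; simpa using hu
  · rw [Function.update_of_ne hik]; exact Subgroup.one_mem _

/-- central elements of `SU_n` are scalar -/
theorem central_SU_scalar (hF : Fintype.card F = q ^ 2) (hn0 : 0 < n)
    (Z : Matrix (Fin n) (Fin n) F)
    (hcomm : ∀ g : Matrix.GeneralLinearGroup (Fin n) F, g ∈ Cfsg.GU n F q →
      (g : Matrix (Fin n) (Fin n) F).det = 1 →
      (g : Matrix (Fin n) (Fin n) F) * Z = Z * (g : Matrix (Fin n) (Fin n) F)) :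
    ∃ c : F, Z = Matrix.diagonal (fun _ => c) := by
  classical
  obtain ⟨u₀, hu₀, hu₀1⟩ := exists_normOne_sq_ne_one hF
  have hoff : ∀ k j, k ≠ j → Z k j = 0 := by
    intro k j hkj
    set g : Matrix.GeneralLinearGroup (Fin n) F :=
      diagGL (Function.update (fun _ => (1 : Fˣ)) k u₀) *
        diagGL (Function.update (fun _ => (1 : Fˣ)) j u₀⁻¹) with hg
    have hmem : g ∈ Cfsg.GU n F q :=
      Subgroup.mul_mem _ (diagGL_update_mem k u₀ hu₀)
        (diagGL_update_mem j u₀⁻¹ (Subgroup.inv_mem _ hu₀))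
    have hdet : (g : Matrix (Fin n) (Fin n) F).det = 1 := by
      rw [hg, Matrix.GeneralLinearGroup.coe_mul, Matrix.det_mul, det_diagGL_update,
        det_diagGL_update]
      simp
    have h1 := congrFun (congrFun (hcomm g hmem hdet) k) j
    rw [hg, Matrix.GeneralLinearGroup.coe_mul, diagGL_val, diagGL_val,
      Matrix.diagonal_mul_diagonal, Matrix.diagonal_mul, Matrix.mul_diagonal] at h1
    rw [Function.update_self, Function.update_of_ne hkj, Function.update_of_ne hkj.symm,
      Function.update_self] at h1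
    have hu0 : (u₀ : F) ≠ 0 := u₀.ne_zero
    have h2 : ((u₀ : F) ^ 2 - 1) * Z k j = 0 := by
      simp only [Units.val_one, mul_one, one_mul, Units.val_inv_eq_inv_val] at h1
      have h3 : (u₀ : F) * ((u₀ : F) * Z k j) = (u₀ : F) * (Z k j * (u₀ : F)⁻¹) := by rw [h1]
      rw [mul_comm (Z k j), ← mul_assoc (u₀ : F) (u₀ : F)⁻¹, mul_inv_cancel₀ hu0] at h3
      linear_combination h3
    rcases mul_eq_zero.mp h2 with h | h
    · exfalso; apply hu₀1; apply Units.ext
      rw [Units.val_pow_eq_pow_val, Units.val_one]; exact sub_eq_zero.mp h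
    · exact h
  have hdiag : ∀ i j, i ≠ j → Z i i = Z j j := by
    intro i j hij
    set g : Matrix.GeneralLinearGroup (Fin n) F :=
      Matrix.GeneralLinearGroup.swap F i j *
        diagGL (Function.update (fun _ => (1 : Fˣ)) i (-1)) with hg
    have hmem : g ∈ Cfsg.GU n F q :=
      Subgroup.mul_mem _ (swap_mem_GU i j) (diagGL_update_mem i (-1) (neg_one_mem_normOne hF))
    have hdet : (g : Matrix (Fin n) (Fin n) F).det = 1 := by
      rw [hg, Matrix.GeneralLinearGroup.coe_mul, Matrix.det_mul, det_diagGL_update,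
        Matrix.GeneralLinearGroup.val_swap, Matrix.swap, Matrix.det_permutation,
        Equiv.Perm.sign_swap hij]
      simp
    have h1 := congrFun (congrFun (hcomm g hmem hdet) i) j
    rw [hg, Matrix.GeneralLinearGroup.coe_mul, diagGL_val, Matrix.GeneralLinearGroup.val_swap,
      Matrix.mul_assoc, Matrix.swap_mul_apply_left, Matrix.diagonal_mul,
      Function.update_of_ne hij.symm, ← Matrix.mul_assoc, Matrix.mul_diagonal,
      Function.update_of_ne hij.symm, Matrix.mul_swap_apply_right] at h1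
    simpa using h1.symm
  refine ⟨Z ⟨0, hn0⟩ ⟨0, hn0⟩, ?_⟩
  ext i j
  by_cases hij : i = j
  · subst hij
    rw [Matrix.diagonal_apply_eq]
    by_cases hi : i = ⟨0, hn0⟩
    · rw [hi]
    · exact hdiag i _ hi
  · rw [Matrix.diagonal_apply_ne _ hij]; exact hoff i j hij

omit [Fintype F] in
theorem scalar_mem_SU_center (c : F) (hc : c * c ^ q = 1) (hcn : c ^ n = 1) :
    ∃ z : Cfsg.SU n F q, z ∈ Subgroup.center (Cfsg.SU n F q) ∧
      ((z : Matrix.SpecialLinearGroup (Fin n) F) : Matrix (Fin n) (Fin n) F) =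
        Matrix.diagonal (fun _ => c) := by
  have hdet : (Matrix.diagonal (fun _ : Fin n => c)).det = 1 := by
    rw [Matrix.det_diagonal, Finset.prod_const, Finset.card_univ, Fintype.card_fin, hcn]
  have hmem : (⟨Matrix.diagonal (fun _ : Fin n => c), hdet⟩ :
      Matrix.SpecialLinearGroup (Fin n) F) ∈ Cfsg.SU n F q := by
    refine (mem_SU_iff (⟨Matrix.diagonal (fun _ : Fin n => c), hdet⟩ :
      Matrix.SpecialLinearGroup (Fin n) F)).mpr ?_
    intro x y
    unfold Cfsg.hermForm
    apply Finset.sum_congr rfl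
    intro i _
    show (Matrix.diagonal (fun _ : Fin n => c) *ᵥ x) i *
      (Matrix.diagonal (fun _ : Fin n => c) *ᵥ y) i ^ q = x i * y i ^ q
    rw [Matrix.mulVec_diagonal, Matrix.mulVec_diagonal, mul_pow]
    calc c * x i * (c ^ q * y i ^ q) = (c * c ^ q) * (x i * y i ^ q) := by ring
      _ = x i * y i ^ q := by rw [hc, one_mul]
  refine ⟨⟨_, hmem⟩, ?_, rfl⟩
  rw [Subgroup.mem_center_iff]
  intro h
  apply Subtype.ext
  apply Subtype.ext
  show (h.1 : Matrix (Fin n) (Fin n) F) * Matrix.diagonal (fun _ : Fin n => c) =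
    Matrix.diagonal (fun _ : Fin n => c) * (h.1 : Matrix (Fin n) (Fin n) F)
  ext i j
  rw [Matrix.mul_diagonal, Matrix.diagonal_mul, mul_comm]

theorem center_SU_scalar (hF : Fintype.card F = q ^ 2) (hn0 : 0 < n) (z : Cfsg.SU n F q)
    (hz : z ∈ Subgroup.center (Cfsg.SU n F q)) :
    ∃ c : F, c * c ^ q = 1 ∧ c ^ n = 1 ∧
      ((z : Matrix.SpecialLinearGroup (Fin n) F) : Matrix (Fin n) (Fin n) F) =
        Matrix.diagonal (fun _ => c) := by
  rw [Subgroup.mem_center_iff] at hz
  obtain ⟨c, hc⟩ := central_SU_scalar hF hn0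
    ((z : Matrix.SpecialLinearGroup (Fin n) F) : Matrix (Fin n) (Fin n) F) (by
      intro g hg hdet
      obtain ⟨s, hs, hsg⟩ := exists_SU_of_GU g hg hdet
      have := hz ⟨s, hs⟩
      have h2 := congrArg (fun w : Cfsg.SU n F q =>
        ((w : Matrix.SpecialLinearGroup (Fin n) F) : Matrix (Fin n) (Fin n) F)) this
      simp only [Subgroup.coe_mul, Matrix.SpecialLinearGroup.coe_mul] at h2
      rw [← hsg]
      exact h2)
  refine ⟨c, ?_, ?_, hc⟩
  · have h := (mem_SU_iff z.1).mp z.2 (Pi.single ⟨0, hn0⟩ 1) (Pi.single ⟨0, hn0⟩ 1)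
    rw [hermForm_single_single hF, if_pos rfl, hc] at h
    unfold Cfsg.hermForm at h
    rw [Finset.sum_eq_single ⟨0, hn0⟩] at h
    · simpa [Matrix.mulVec_diagonal] using h
    · intro i _ hi
      simp [Matrix.mulVec_diagonal, hi]
    · intro h'; exact absurd (Finset.mem_univ _) h'
  · have hdet := z.1.2
    rw [hc, Matrix.det_diagonal, Finset.prod_const, Finset.card_univ, Fintype.card_fin] at hdet
    exact hdet

theorem card_center_SU (hF : Fintype.card F = q ^ 2) (hn0 : 0 < n) :
    Nat.card (Subgroup.center (Cfsg.SU n F q)) = Nat.gcd n (q + 1) := by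
  have hcyc : IsCyclic (normOne F q) := inferInstance
  have hker : Nat.card (powMonoidHom n : normOne F q →* normOne F q).ker = Nat.gcd n (q + 1) := by
    rw [IsCyclic.card_powMonoidHom_ker, card_normOne hF, Nat.gcd_comm]
  rw [← hker]
  symm
  have key : ∀ u : (powMonoidHom n : normOne F q →* normOne F q).ker,
      (((u : normOne F q) : Fˣ) : F) * (((u : normOne F q) : Fˣ) : F) ^ q = 1 ∧
      (((u : normOne F q) : Fˣ) : F) ^ n = 1 := by
    intro u
    constructor
    · have h := mem_normOne.mp (u : normOne F q).2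
      rw [← pow_succ', ← Units.val_pow_eq_pow_val, h, Units.val_one]
    · have h := u.2
      rw [MonoidHom.mem_ker, powMonoidHom_apply] at h
      have h2 := congrArg (fun w : normOne F q => ((w : Fˣ) : F)) h
      simpa using h2
  let ψ : (powMonoidHom n : normOne F q →* normOne F q).ker → Subgroup.center (Cfsg.SU n F q) :=
    fun u => ⟨(scalar_mem_SU_center _ (key u).1 (key u).2).choose,
      (scalar_mem_SU_center _ (key u).1 (key u).2).choose_spec.1⟩
  have hψ : ∀ u, (((ψ u : Cfsg.SU n F q) : Matrix.SpecialLinearGroup (Fin n) F) :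
      Matrix (Fin n) (Fin n) F) = Matrix.diagonal (fun _ => (((u : normOne F q) : Fˣ) : F)) :=
    fun u => (scalar_mem_SU_center _ (key u).1 (key u).2).choose_spec.2
  apply Nat.card_congr (Equiv.ofBijective ψ ⟨?_, ?_⟩)
  · intro u v huv
    have h1 := hψ u
    rw [huv, hψ v] at h1
    have h2 := congrFun (congrFun h1 ⟨0, hn0⟩) ⟨0, hn0⟩
    rw [Matrix.diagonal_apply_eq, Matrix.diagonal_apply_eq] at h2
    apply Subtype.ext
    apply Subtype.ext
    apply Units.ext
    exact h2.symm
  · intro z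
    obtain ⟨c, hc1, hcn, hzc⟩ := center_SU_scalar hF hn0 z.1 z.2
    have hc0 : c ≠ 0 := by
      rintro rfl
      simp at hc1
    have hmem : Units.mk0 c hc0 ∈ normOne F q := by
      rw [mem_normOne]
      apply Units.ext
      rw [Units.val_pow_eq_pow_val, Units.val_mk0, Units.val_one, pow_succ']
      exact hc1
    have hker' : (⟨Units.mk0 c hc0, hmem⟩ : normOne F q) ∈
        (powMonoidHom n : normOne F q →* normOne F q).ker := by
      rw [MonoidHom.mem_ker, powMonoidHom_apply]
      apply Subtype.ext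
      apply Units.ext
      simpa using hcn
    refine ⟨⟨⟨Units.mk0 c hc0, hmem⟩, hker'⟩, ?_⟩
    apply Subtype.ext
    apply Subtype.ext
    apply Subtype.ext
    rw [hψ, hzc]
    rfl

end center

end Cfsg.Agent.Lib.Helper08
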