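import Cfsg.Agent.Lib.Helper50.SpinorIndex

set_option autoImplicit false

/-! General lemmas for identifying `PΩ(Q)` with a quotient `G / Z(G)` through an explicit
homomorphism `G → O(Q)`. -/

namespace Cfsg.Agent.Lib.Helper08

section grp

variable {G H : Type*} [Group G] [Group H]

/-- a homomorphism onto the commutator subgroup, whose "projective kernel" is the centre,
identifies `H'/Z(H')` with `G/Z(G)` -/
theorem pomega_equiv_of_hom (ρ : G →* H) (hrange : ρ.range = commutator H)
    (hcen : ∀ g : G, (∀ h : G, ρ g * ρ h = ρ h * ρ g) → g ∈ Subgroup.center G) :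
    Nonempty ((↥(commutator H) ⧸ Subgroup.center ↥(commutator H)) ≃* (G ⧸ Subgroup.center G)) := by
  have hmem : ∀ g, ρ g ∈ commutator H := fun g => by
    rw [← hrange]; exact ⟨g, rfl⟩
  let ρ₁ : G →* ↥(commutator H) := ρ.codRestrict (commutator H) hmem
  have hsurj₁ : Function.Surjective ρ₁ := by
    rintro ⟨y, hy⟩
    rw [← hrange] at hy
    obtain ⟨g, rfl⟩ := hy
    exact ⟨g, rfl⟩
  let ψ : G →* (↥(commutator H) ⧸ Subgroup.center ↥(commutator H)) :=
    (QuotientGroup.mk' (Subgroup.center ↥(commutator H))).comp ρ₁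
  have hsurj : Function.Surjective ψ :=
    (QuotientGroup.mk'_surjective _).comp hsurj₁
  have hker : ψ.ker = Subgroup.center G := by
    ext g
    rw [MonoidHom.mem_ker]
    show (QuotientGroup.mk' (Subgroup.center ↥(commutator H))) (ρ₁ g) = 1 ↔ _
    rw [QuotientGroup.mk'_apply, QuotientGroup.eq_one_iff, Subgroup.mem_center_iff]
    constructor
    · intro h
      apply hcen
      intro x
      have := h (ρ₁ x)
      have h2 := congrArg Subtype.val this
      exact h2.symm
    · intro hg y
      obtain ⟨x, rfl⟩ := hsurj₁ y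
      apply Subtype.ext
      show ρ x * ρ g = ρ g * ρ x
      rw [← map_mul, ← map_mul, (Subgroup.mem_center_iff.mp hg) x]
  exact ⟨((QuotientGroup.quotientMulEquivOfEq hker).symm.trans
    (QuotientGroup.quotientKerEquivOfSurjective ψ hsurj)).symm⟩

/-- a homomorphism whose range lies in `K` is onto `K` as soon as the orders allow it -/
theorem range_eq_of_card [Finite G] [Finite H] (ρ : G →* H) (K : Subgroup H) (hle : ρ.range ≤ K)
    (hcard : Nat.card K * Nat.card ρ.ker ≤ Nat.card G) : ρ.range = K := by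
  have h1 : Nat.card ρ.ker * Nat.card ρ.range = Nat.card G := by
    rw [← Subgroup.index_ker, Subgroup.card_mul_index]
  have hkpos : 0 < Nat.card ρ.ker := Nat.card_pos
  have h2 : Nat.card K ≤ Nat.card ρ.range := by
    have : Nat.card K * Nat.card ρ.ker ≤ Nat.card ρ.range * Nat.card ρ.ker := by
      rw [mul_comm (Nat.card ρ.range), h1]; exact hcard
    exact Nat.le_of_mul_le_mul_right this hkpos
  exact Subgroup.eq_of_le_of_card_ge hle h2

end grp

section sq

variable {F : Type*} [Field F] [Fintype F] {ι : Type} [Fintype ι] [DecidableEq ι]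

/-- for `q` odd, squares of isometries lie in `Ω` -/
theorem sq_mem_Omega (h2 : (2 : F) ≠ 0) (Q : QuadraticForm F (ι → F))
    (hQ : (QuadraticMap.polarBilin Q).Nondegenerate) (g : ↥(Cfsg.isometryGroup F ⇑Q)) :
    g * g ∈ Cfsg.Omega F ⇑Q := by
  obtain ⟨ζ, hζ⟩ := Cfsg.Agent.Lib.Helper50.exists_nonsquare_of_two_ne_zero h2
  show g * g ∈ commutator ↥(Cfsg.isometryGroup F ⇑Q)
  rw [← Cfsg.Agent.Lib.Helper50.ker_thetaPair h2 Q hQ ζ hζ, MonoidHom.mem_ker, map_mul]
  ext <;> simp

end sq

end Cfsg.Agent.Lib.Helper08
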