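import Cfsg.Agent.Lib.Helper98.Sy2
import Cfsg.Agent.Lib.Helper98.Elus4

/-!
# S5972 pack (K-OsEl), leaf A: the twisted form `B ((y - y^(r-1)) u) v`
-/

set_option autoImplicit false
set_option linter.unusedSectionVars false
set_option linter.unusedVariables false

namespace Cfsg.Agent.Lib.Helper08.OsEl

open Module Cfsg.Agent.Lib.Helper98.Elus Cfsg.Agent.Lib.Helper98.Sy

universe u
variable {F : Type u} [Field F] {V : Type u} [AddCommGroup V] [Module F V]

/-- the twisted form `B ((y - y^(r-1)) u) v` -/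
noncomputable def tw (C : LinearMap.BilinForm F V) (r : ℕ) (y : V →ₗ[F] V) : LinearMap.BilinForm F V :=
  C.compl₁₂ (y - y ^ (r - 1)) LinearMap.id

theorem tw_apply (C : LinearMap.BilinForm F V) (r : ℕ) (y : V →ₗ[F] V) (u v : V) :
    tw C r y u v = C (y u) v - C ((y ^ (r - 1)) u) v := by
  simp [tw, LinearMap.compl₁₂_apply]

/-- `y (y^(r-1) v) = v` -/
theorem y_pow_pred (r : ℕ) (hr : 0 < r) (y : V →ₗ[F] V) (hy : y ^ r = 1) (v : V) :
    y ((y ^ (r - 1)) v) = v := by
  rw [← Module.End.mul_apply, ← pow_succ', Nat.sub_add_cancel hr, hy, Module.End.one_apply]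

theorem pow_pred_y (r : ℕ) (hr : 0 < r) (y : V →ₗ[F] V) (hy : y ^ r = 1) (v : V) :
    (y ^ (r - 1)) (y v) = v := by
  rw [← Module.End.mul_apply, ← pow_succ, Nat.sub_add_cancel hr, hy, Module.End.one_apply]

/-- `C (y^(r-1) u) v = C u (y v)` -/
theorem iso_pred (C : LinearMap.BilinForm F V) (r : ℕ) (hr : 0 < r) (y : V →ₗ[F] V)
    (hy : y ^ r = 1) (hiso : Iso C y) (u v : V) : C ((y ^ (r - 1)) u) v = C u (y v) := by
  have h := hiso ((y ^ (r - 1)) u) v
  rw [y_pow_pred r hr y hy] at h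
  exact h.symm

/-- `C (y u) v = C u (y^(r-1) v)` -/
theorem iso_pred' (C : LinearMap.BilinForm F V) (r : ℕ) (hr : 0 < r) (y : V →ₗ[F] V)
    (hy : y ^ r = 1) (hiso : Iso C y) (u v : V) : C (y u) v = C u ((y ^ (r - 1)) v) := by
  have h := hiso u ((y ^ (r - 1)) v)
  rw [y_pow_pred r hr y hy] at h
  exact h

theorem tw_alt (C : LinearMap.BilinForm F V) (hS : ∀ u v, C u v = C v u) (r : ℕ) (hr : 0 < r)
    (y : V →ₗ[F] V) (hy : y ^ r = 1) (hiso : Iso C y) : (tw C r y).IsAlt := by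
  intro u
  rw [tw_apply, iso_pred C r hr y hy hiso, hS u (y u), sub_self]

theorem tw_symm (C : LinearMap.BilinForm F V) (hA : C.IsAlt) (r : ℕ) (hr : 0 < r)
    (y : V →ₗ[F] V) (hy : y ^ r = 1) (hiso : Iso C y) : ∀ u v, tw C r y u v = tw C r y v u := by
  intro u v
  rw [tw_apply, tw_apply, iso_pred C r hr y hy hiso u v, iso_pred' C r hr y hy hiso u v,
    alt_swap hA u (y v), alt_swap hA u ((y ^ (r - 1)) v)]
  ring

theorem tw_iso (C : LinearMap.BilinForm F V) (r : ℕ) (y : V →ₗ[F] V) (hiso : Iso C y) :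
    Iso (tw C r y) y := by
  intro u v
  rw [tw_apply, tw_apply, hiso]
  have h1 : (y ^ (r - 1)) (y u) = y ((y ^ (r - 1)) u) := by
    rw [← Module.End.mul_apply, ← Module.End.mul_apply, ← pow_succ, ← pow_succ']
  rw [h1, hiso]

/-- the twisting map -/
theorem tw_map_mem (r : ℕ) (y : V →ₗ[F] V) (W : Submodule F V) (hW : Inv y W) (u : V)
    (hu : u ∈ W) : (y - y ^ (r - 1)) u ∈ W := by
  rw [LinearMap.sub_apply]
  exact Submodule.sub_mem _ (hW u hu) (hW.pow_mem (r - 1) u hu)

/-- the twisting map is injective on `V1` -/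
theorem tw_map_inj (r : ℕ) (hodd : Odd r) (hrF : (r : F) ≠ 0) (y : V →ₗ[F] V) (hy : y ^ r = 1)
    (u : V) (hu : u ∈ V1 r y) (h : (y - y ^ (r - 1)) u = 0) : u = 0 := by
  have hr : 0 < r := hodd.pos
  rw [LinearMap.sub_apply, sub_eq_zero] at h
  have h2 : y (y u) = u := by
    rw [h, y_pow_pred r hr y hy]
  have h2s : ∀ s : ℕ, (y ^ (2 * s)) u = u := by
    intro s
    induction s with
    | zero => simp
    | succ s ih =>
      rw [Nat.mul_succ, pow_add, Module.End.mul_apply, pow_two, Module.End.mul_apply, h2, ih]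
  obtain ⟨s, hs⟩ := hodd
  have h1 : (y ^ r) u = u := by rw [hy, Module.End.one_apply]
  rw [hs, pow_succ', Module.End.mul_apply, h2s s] at h1
  have hu0 : u ∈ V0 y := (mem_V0 y u).mpr h1
  have : u ∈ V0 y ⊓ V1 r y := Submodule.mem_inf.mpr ⟨hu0, hu⟩
  rw [V0_inf_V1 r hrF y] at this
  exact (Submodule.mem_bot F).mp this

/-- the twisting map is surjective on invariant subspaces of `V1` -/
theorem tw_map_surj [FiniteDimensional F V] (r : ℕ) (hodd : Odd r) (hrF : (r : F) ≠ 0)
    (y : V →ₗ[F] V) (hy : y ^ r = 1) (W : Submodule F V) (hW : Inv y W) (hWV1 : W ≤ V1 r y)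
    (u : V) (hu : u ∈ W) : ∃ u' ∈ W, (y - y ^ (r - 1)) u' = u := by
  set g : W →ₗ[F] W := (y - y ^ (r - 1)).restrict (fun w hw => tw_map_mem r y W hW w hw) with hg
  have hinj : Function.Injective g := by
    rw [← LinearMap.ker_eq_bot, LinearMap.ker_eq_bot']
    intro w hw
    apply Subtype.ext
    apply tw_map_inj r hodd hrF y hy (w : V) (hWV1 w.2)
    have := congrArg Subtype.val hw
    rwa [hg, LinearMap.coe_restrict_apply] at this
  have hsurj : Function.Surjective g := LinearMap.surjective_of_injective hinj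
  obtain ⟨w, hw⟩ := hsurj ⟨u, hu⟩
  refine ⟨w, w.2, ?_⟩
  have := congrArg Subtype.val hw
  rwa [hg, LinearMap.coe_restrict_apply] at this

/-- on invariant subspaces of `V1`: same totally singular subspaces (NO hypothesis on `C`) -/
theorem tw_ort_iff [FiniteDimensional F V] (C : LinearMap.BilinForm F V) (r : ℕ) (hodd : Odd r)
    (hrF : (r : F) ≠ 0) (y : V →ₗ[F] V) (hy : y ^ r = 1) (W : Submodule F V) (hW : Inv y W)
    (hWV1 : W ≤ V1 r y) : Ort (tw C r y) W W ↔ Ort C W W := by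
  constructor
  · intro h u hu v hv
    obtain ⟨u', hu', rfl⟩ := tw_map_surj r hodd hrF y hy W hW hWV1 u hu
    have := h u' hu' v hv
    rw [tw] at this
    simpa [LinearMap.compl₁₂_apply] using this
  · intro h u hu v hv
    rw [tw_apply, h _ (hW u hu) v hv, h _ (hW.pow_mem (r - 1) u hu) v hv, sub_zero]

/-- on invariant subspaces of `V1`: same nondegenerate subspaces (NO hypothesis on `C`) -/
theorem tw_nonDeg_iff [FiniteDimensional F V] (C : LinearMap.BilinForm F V) (r : ℕ) (hodd : Odd r)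
    (hrF : (r : F) ≠ 0) (y : V →ₗ[F] V) (hy : y ^ r = 1) (W : Submodule F V) (hW : Inv y W)
    (hWV1 : W ≤ V1 r y) : NonDeg (tw C r y) W ↔ NonDeg C W := by
  have key : ∀ u v : V, tw C r y u v = C ((y - y ^ (r - 1)) u) v := by
    intro u v
    simp [tw, LinearMap.compl₁₂_apply]
  constructor
  · intro h u hu hall
    obtain ⟨u', hu', rfl⟩ := tw_map_surj r hodd hrF y hy W hW hWV1 u hu
    have : u' = 0 := h u' hu' (fun v hv => by rw [key]; exact hall v hv)
    rw [this, map_zero]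
  · intro h u hu hall
    have h1 : (y - y ^ (r - 1)) u = 0 :=
      h _ (tw_map_mem r y W hW u hu) (fun v hv => by rw [← key]; exact hall v hv)
    exact tw_map_inj r hodd hrF y hy u (hWV1 hu) h1

end Cfsg.Agent.Lib.Helper08.OsEl
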