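import Cfsg.Agent.Lib.Helper08.OmegaCenter

set_option autoImplicit false

/-! Order of the centre of `Ω(Q)` and of `PΩ(Q)`. -/

namespace Cfsg.Agent.Lib.Helper08

open Cfsg.Agent.Lib.Helper19 Cfsg.Agent.Lib.Helper43

section card

variable {F : Type*} [Field F] {ι : Type} [Fintype ι] [DecidableEq ι]
variable (Q : QuadraticForm F (ι → F))

theorem linOf_reflO50 (u : ι → F) (hu : Q u ≠ 0) :
    linOf Q (Cfsg.Agent.Lib.Helper50.reflO Q u) = reflLin Q u := by
  unfold linOf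
  rw [Cfsg.Agent.Lib.Helper50.reflO_val Q u hu, toLin'_reflectionMatrix]

theorem reflPairs_of_two_ne_zero (h2 : (2 : F) ≠ 0) : ReflPairs Q := by
  intro u v hu hv
  have hv0 : Q v ≠ 0 := by rw [hv]; exact hu
  refine ⟨Cfsg.Agent.Lib.Helper50.reflO Q u * Cfsg.Agent.Lib.Helper50.reflO Q v,
    Cfsg.Agent.Lib.Helper50.reflO_mul_mem_commutator h2 Q u v hu hv0 ⟨Q u, by rw [hv]⟩, ?_⟩
  rw [linOf_mul, linOf_reflO50 Q u hu, linOf_reflO50 Q v hv0]

theorem reflPairs_char_two [Fintype F] [CharP F 2]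
    (hQ : (QuadraticMap.polarBilin Q).Nondegenerate) : ReflPairs Q := by
  intro u v hu hv
  have hv0 : Q v ≠ 0 := by rw [hv]; exact hu
  refine ⟨reflO Q u * reflO Q v, reflO_mul_reflO_mem_commutator Q hQ u v hu hv0, ?_⟩
  rw [linOf_mul, linOf_reflO Q u hu, linOf_reflO Q v hv0]

theorem reflPairs_finite [Fintype F] (hQ : (QuadraticMap.polarBilin Q).Nondegenerate) :
    ReflPairs Q := by
  by_cases h2 : (2 : F) = 0
  · have hc : CharP F 2 := CharTwo.of_one_ne_zero_of_two_eq_zero one_ne_zero h2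
    exact reflPairs_char_two Q hQ
  · exact reflPairs_of_two_ne_zero Q h2

variable {Q}

/-- matrix of an element of `Ω` -/
def omVal (x : ↥(Cfsg.Omega F ⇑Q)) : Matrix ι ι F :=
  ((x.1 : Matrix.GeneralLinearGroup ι F) : Matrix ι ι F)

theorem omVal_injective : Function.Injective (omVal (Q := Q)) := by
  intro x y h
  exact Subtype.ext (Subtype.ext (Units.ext h))

theorem omVal_mul (x y : ↥(Cfsg.Omega F ⇑Q)) : omVal (x * y) = omVal x * omVal y := rfl

theorem omVal_one : omVal (1 : ↥(Cfsg.Omega F ⇑Q)) = 1 := rfl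

theorem center_omVal (hQ : (QuadraticMap.polarBilin Q).Nondegenerate)
    (e f : Fin 3 → ι → F) (HT : HypTriple Q e f) (RP : ReflPairs Q)
    (x : ↥(Cfsg.Omega F ⇑Q)) (hx : x ∈ Subgroup.center ↥(Cfsg.Omega F ⇑Q)) :
    omVal x = 1 ∨ omVal x = -1 := by
  apply cent_val hQ e f HT RP x.1
  intro g hg
  have := (Subgroup.mem_center_iff.mp hx) ⟨g, hg⟩
  exact congrArg Subtype.val this

theorem card_center_Omega_of_not (hQ : (QuadraticMap.polarBilin Q).Nondegenerate)
    (e f : Fin 3 → ι → F) (HT : HypTriple Q e f) (RP : ReflPairs Q)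
    (h : (2 : F) = 0 ∨ ¬ ∃ g : ↥(Cfsg.isometryGroup F ⇑Q), g ∈ Cfsg.Omega F ⇑Q ∧
      ((g : Matrix.GeneralLinearGroup ι F) : Matrix ι ι F) = -1) :
    Nat.card (Subgroup.center ↥(Cfsg.Omega F ⇑Q)) = 1 := by
  rw [Subgroup.card_eq_one, Subgroup.eq_bot_iff_forall]
  intro x hx
  apply omVal_injective
  rw [omVal_one]
  rcases center_omVal hQ e f HT RP x hx with h1 | h1
  · exact h1
  · rcases h with h | h
    · rw [h1]
      have : (1 : Matrix ι ι F) + 1 = 0 := by
        have h3 : ((2 : F) • (1 : Matrix ι ι F)) = 0 := by rw [h, zero_smul]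
        rw [two_smul] at h3
        exact h3
      exact neg_eq_of_add_eq_zero_left this
    · exact absurd ⟨x.1, x.2, h1⟩ h

theorem card_center_Omega_of_mem (hQ : (QuadraticMap.polarBilin Q).Nondegenerate)
    (e f : Fin 3 → ι → F) (HT : HypTriple Q e f) (RP : ReflPairs Q) (h2 : (2 : F) ≠ 0)
    (h : ∃ g : ↥(Cfsg.isometryGroup F ⇑Q), g ∈ Cfsg.Omega F ⇑Q ∧
      ((g : Matrix.GeneralLinearGroup ι F) : Matrix ι ι F) = -1) :
    Nat.card (Subgroup.center ↥(Cfsg.Omega F ⇑Q)) = 2 := by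
  obtain ⟨g, hg, hgv⟩ := h
  have hgv' : omVal (⟨g, hg⟩ : ↥(Cfsg.Omega F ⇑Q)) = -1 := hgv
  have hcen : (⟨g, hg⟩ : ↥(Cfsg.Omega F ⇑Q)) ∈ Subgroup.center ↥(Cfsg.Omega F ⇑Q) := by
    rw [Subgroup.mem_center_iff]
    intro y
    apply omVal_injective
    rw [omVal_mul, omVal_mul, hgv']
    simp
  have hne : (1 : Matrix ι ι F) ≠ -1 := by
    intro h1
    have h3 := congrFun (congrArg (fun M => M.mulVec (e 0)) h1)
    have he0 : e 0 ≠ 0 := by
      intro h
      have h1 := HT.ef 0 0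
      rw [h, QuadraticMap.polar_zero_left] at h1
      simp at h1
    apply he0
    funext k
    have h4 := h3 k
    simp only [Matrix.one_mulVec, Matrix.neg_mulVec, Pi.neg_apply] at h4
    have h5 : (2 : F) * e 0 k = 0 := by linear_combination h4
    rcases mul_eq_zero.mp h5 with h6 | h6
    · exact absurd h6 h2
    · simpa using h6
  rw [Nat.card_eq_two_iff]
  refine ⟨1, ⟨⟨g, hg⟩, hcen⟩, ?_, ?_⟩
  · intro h1
    apply hne
    have h3 := congrArg (fun x : ↥(Subgroup.center ↥(Cfsg.Omega F ⇑Q)) => omVal x.1) h1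
    simp only [OneMemClass.coe_one, omVal_one, hgv'] at h3
    exact h3
  · apply Set.eq_univ_of_forall
    intro x
    rcases center_omVal hQ e f HT RP x.1 x.2 with h1 | h1
    · left
      apply Subtype.ext
      apply omVal_injective
      rw [h1]; rfl
    · right
      apply Subtype.ext
      apply omVal_injective
      rw [h1, hgv']

/-- `|O(Q)| = |PΩ(Q)| · |Z(Ω)| · [O : Ω]` -/
theorem card_isometryGroup_eq [Finite F] :
    Nat.card ↥(Cfsg.isometryGroup F ⇑Q) =
      Nat.card (Cfsg.POmega F ⇑Q) * Nat.card (Subgroup.center ↥(Cfsg.Omega F ⇑Q)) *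
        (Cfsg.Omega F ⇑Q).index := by
  rw [← Subgroup.card_mul_index (Cfsg.Omega F ⇑Q),
    Subgroup.card_eq_card_quotient_mul_card_subgroup (Subgroup.center ↥(Cfsg.Omega F ⇑Q))]

end card

end Cfsg.Agent.Lib.Helper08
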