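import Mathlib
import Cfsg.Prelude.Def_Classical
import Cfsg.Agent.Lib.Helper08.GOCard
import Cfsg.Agent.Lib.Helper08.GOPlus
import Cfsg.Agent.S0291

set_option autoImplicit false

namespace Cfsg.Agent.Lib.Helper08

open Matrix

section odd

variable {F : Type*} [Field F]

/-- splitting off the first hyperbolic pair -/
def eOdd (m : ℕ) :
    Unit ⊕ (Fin (m + 1) ⊕ Fin (m + 1)) ≃ Fin 2 ⊕ (Unit ⊕ (Fin m ⊕ Fin m)) where
  toFun := Sum.elim (fun _ => Sum.inr (Sum.inl ()))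
    (fun x => Sum.elim Sum.inl (fun y => Sum.inr (Sum.inr y)) (ePlus m x))
  invFun := Sum.elim (fun k => Sum.inr ((ePlus m).symm (Sum.inl k)))
    (Sum.elim (fun _ => Sum.inl ()) (fun y => Sum.inr ((ePlus m).symm (Sum.inr y))))
  left_inv := by
    rintro (⟨⟩ | x)
    · rfl
    · obtain ⟨z, rfl⟩ := (ePlus m).symm.surjective x
      rcases z with k | y <;> simp
  right_inv := by
    rintro (k | ⟨⟩ | y) <;> simp

theorem eOdd_symm_inl0 (m : ℕ) : (eOdd m).symm (Sum.inl 0) = Sum.inr (Sum.inl 0) := rfl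
theorem eOdd_symm_inl1 (m : ℕ) : (eOdd m).symm (Sum.inl 1) = Sum.inr (Sum.inr 0) := rfl
theorem eOdd_symm_inr_inl (m : ℕ) : (eOdd m).symm (Sum.inr (Sum.inl ())) = Sum.inl () := rfl
theorem eOdd_symm_inr_inr_inl (m : ℕ) (j : Fin m) :
    (eOdd m).symm (Sum.inr (Sum.inr (Sum.inl j))) = Sum.inr (Sum.inl j.succ) := rfl
theorem eOdd_symm_inr_inr_inr (m : ℕ) (j : Fin m) :
    (eOdd m).symm (Sum.inr (Sum.inr (Sum.inr j))) = Sum.inr (Sum.inr j.succ) := rfl

theorem quadFormOdd_succ (m : ℕ) (v : Unit ⊕ (Fin (m + 1) ⊕ Fin (m + 1)) → F) :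
    Cfsg.quadFormOdd (m + 1) F v = hypSum (Cfsg.quadFormOdd m F) (v ∘ (eOdd m).symm) := by
  unfold hypSum Cfsg.quadFormOdd
  rw [Fin.sum_univ_succ]
  simp only [Function.comp_apply, eOdd_symm_inl0, eOdd_symm_inl1, eOdd_symm_inr_inl,
    eOdd_symm_inr_inr_inl, eOdd_symm_inr_inr_inr]
  ring

theorem quadFormOdd_eq' (m : ℕ) (v : Unit ⊕ (Fin m ⊕ Fin m) → F) :
    Cfsg.quadFormOdd m F v = v (Sum.inl ()) ^ 2 + Cfsg.quadFormPlus m F (v ∘ Sum.inr) := rfl

theorem polar_quadFormOdd' (m : ℕ) (u v : Unit ⊕ (Fin m ⊕ Fin m) → F) :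
    QuadraticMap.polar (Cfsg.quadFormOdd m F) u v =
      Matrix.toBilin' (Matrix.fromBlocks ((2 : F) • (1 : Matrix Unit Unit F)) 0 0
        (Matrix.fromBlocks (0 : Matrix (Fin m) (Fin m) F) 1 1 0)) u v := by
  rw [toBilin_fromBlocks, ← Cfsg.Agent.Lib.Helper50.polar_quadFormPlus]
  unfold QuadraticMap.polar
  rw [quadFormOdd_eq', quadFormOdd_eq', quadFormOdd_eq']
  have : (u + v) ∘ Sum.inr = u ∘ Sum.inr + v ∘ Sum.inr := rfl
  rw [this]
  simp [Matrix.toBilin'_apply', dotProduct, Matrix.mulVec]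
  ring

/-- `QData` for the odd-dimensional form in odd characteristic -/
def qdataOdd (m : ℕ) (h2 : (2 : F) ≠ 0) : QData (Cfsg.quadFormOdd m F) where
  M := Matrix.fromBlocks ((2 : F) • (1 : Matrix Unit Unit F)) 0 0
        (Matrix.fromBlocks (0 : Matrix (Fin m) (Fin m) F) 1 1 0)
  hsm c x := by
    simp only [Cfsg.quadFormOdd, Pi.smul_apply, smul_eq_mul, mul_add, Finset.mul_sum]
    congr 1
    · ring
    · refine Finset.sum_congr rfl fun i _ => ?_
      ring
  hM := polar_quadFormOdd' m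
  hdet := by
    rw [Matrix.det_fromBlocks_zero₂₁, Cfsg.Agent.Lib.Helper50.det_hyp]
    simp only [Matrix.det_smul, Fintype.card_unit, pow_one, Matrix.det_one, mul_one]
    exact mul_ne_zero h2 (pow_ne_zero _ (neg_ne_zero.mpr one_ne_zero))

theorem quadFormOdd_zero (v : Unit ⊕ (Fin 0 ⊕ Fin 0) → F) :
    Cfsg.quadFormOdd 0 F v = v (Sum.inl ()) ^ 2 := by
  simp [Cfsg.quadFormOdd]

theorem mulVec_zero_dim (A : Matrix (Unit ⊕ (Fin 0 ⊕ Fin 0)) (Unit ⊕ (Fin 0 ⊕ Fin 0)) F)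
    (v : Unit ⊕ (Fin 0 ⊕ Fin 0) → F) :
    (A *ᵥ v) (Sum.inl ()) = A (Sum.inl ()) (Sum.inl ()) * v (Sum.inl ()) := by
  simp [Matrix.mulVec, dotProduct, Fintype.sum_sum_type]

theorem isIso_zero_iff (A : Matrix (Unit ⊕ (Fin 0 ⊕ Fin 0)) (Unit ⊕ (Fin 0 ⊕ Fin 0)) F) :
    IsIso (Cfsg.quadFormOdd 0 F) A ↔ A (Sum.inl ()) (Sum.inl ()) ^ 2 = 1 := by
  constructor
  · intro h
    have := h (fun _ => 1)
    rw [quadFormOdd_zero, quadFormOdd_zero, mulVec_zero_dim] at this
    simpa using this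
  · intro h v
    rw [quadFormOdd_zero, quadFormOdd_zero, mulVec_zero_dim, mul_pow, h, one_mul]

theorem card_GOodd_zero [Fintype F] (h2 : (2 : F) ≠ 0) :
    Nat.card (Cfsg.isometryGroup F (Cfsg.quadFormOdd 0 F)) = 2 := by
  classical
  rw [Nat.card_congr (isoEquiv (qdataOdd 0 h2))]
  have E : {A : Matrix (Unit ⊕ (Fin 0 ⊕ Fin 0)) (Unit ⊕ (Fin 0 ⊕ Fin 0)) F //
      IsIso (Cfsg.quadFormOdd 0 F) A} ≃ {c : F // c ^ 2 = 1} :=
    { toFun := fun A => ⟨A.1 (Sum.inl ()) (Sum.inl ()), (isIso_zero_iff A.1).mp A.2⟩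
      invFun := fun c => ⟨Matrix.of (fun _ _ => c.1), (isIso_zero_iff _).mpr c.2⟩
      left_inv := fun A => by
        apply Subtype.ext
        ext i j
        rcases i with ⟨⟩ | i | i
        · rcases j with ⟨⟩ | j | j
          · rfl
          · exact j.elim0
          · exact j.elim0
        · exact i.elim0
        · exact i.elim0
      right_inv := fun c => by
        apply Subtype.ext
        rfl }
  rw [Nat.card_congr E]
  have hset : {c : F | c ^ 2 = 1} = {1, -1} := by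
    ext c
    simp only [Set.mem_ofPred_eq, Set.mem_insert_iff, Set.mem_singleton_iff]
    constructor
    · intro h
      have : (c - 1) * (c + 1) = 0 := by linear_combination h
      rcases mul_eq_zero.mp this with h' | h'
      · left; exact sub_eq_zero.mp h'
      · right; exact eq_neg_of_add_eq_zero_left h'
    · rintro (rfl | rfl) <;> ring
  show Nat.card ↥{c : F | c ^ 2 = 1} = 2
  rw [Nat.card_coe_set_eq, hset, Set.ncard_pair]
  intro h
  apply h2
  linear_combination h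

theorem card_GOodd_succ [Fintype F] {q : ℕ} (hF : Fintype.card F = q) (hodd : Odd q)
    (h2 : (2 : F) ≠ 0) (m : ℕ) :
    Nat.card (Cfsg.isometryGroup F (Cfsg.quadFormOdd (m + 1) F)) =
      (q ^ (2 * m + 2) - 1) * q ^ (2 * m + 1) *
        Nat.card (Cfsg.isometryGroup F (Cfsg.quadFormOdd m F)) := by
  rw [card_succ hF (eOdd m) _ _ (quadFormOdd_succ m) (qdataOdd m h2),
    Cfsg.Agent.S0291.result hF hodd (m + 1)]
  have h3 : Fintype.card (Unit ⊕ (Fin m ⊕ Fin m)) = 2 * m + 1 := by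
    simp only [Fintype.card_sum, Fintype.card_fin, Fintype.card_unit]; ring
  have h1 : 2 * (m + 1) = 2 * m + 2 := by ring
  rw [h3, h1]

theorem card_GOodd [Fintype F] {q : ℕ} (hF : Fintype.card F = q) (hodd : Odd q) (m : ℕ) :
    Nat.card (Cfsg.isometryGroup F (Cfsg.quadFormOdd m F)) =
      2 * q ^ (m ^ 2) * ∏ i ∈ Finset.range m, (q ^ (2 * (i + 1)) - 1) := by
  have hq1 : 1 ≤ q := by
    have := Fintype.one_lt_card (α := F)
    omega
  have h2 : (2 : F) ≠ 0 := by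
    intro h
    have hchar : CharP F 2 := CharTwo.of_one_ne_zero_of_two_eq_zero one_ne_zero h
    have hdvd : 2 ∣ Fintype.card F := by
      have := CharP.cast_eq_zero_iff F 2 (Fintype.card F)
      rw [← this]
      exact Nat.cast_card_eq_zero F
    rw [hF] at hdvd
    exact (Nat.not_even_iff_odd.mpr hodd) (even_iff_two_dvd.mpr hdvd)
  induction m with
  | zero =>
    simp only [Finset.range_zero, Finset.prod_empty, Nat.mul_one]
    rw [card_GOodd_zero h2]
    simp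
  | succ m ih =>
    rw [card_GOodd_succ hF hodd h2 m, ih, Finset.prod_range_succ]
    apply Nat.cast_injective (R := ℤ)
    have e1 : 2 * (m + 1) = 2 * m + 2 := by ring
    push_cast [cast_pow_sub_one hq1, cast_prod_pow_sub_one hq1, e1]
    ring

end odd

end Cfsg.Agent.Lib.Helper08
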