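import Cfsg.Agent.Lib.Helper08.OmegaCenterCard
import Cfsg.Agent.Lib.Helper08.GOPlus
import Cfsg.Agent.Lib.Helper08.GOMinus
import Cfsg.Agent.Lib.Helper08.GOOdd

set_option autoImplicit false

/-! Hyperbolic triples in the three standard forms, and the order of `PΩ`. -/

namespace Cfsg.Agent.Lib.Helper08

open Matrix

section std

variable {F : Type*} [Field F]

theorem hypTriple_plus (m : ℕ) (hm : 3 ≤ m) :
    HypTriple (qdataPlus (F := F) m).qf
      (fun i => Pi.single (Sum.inl (Fin.castLE hm i)) 1)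
      (fun i => Pi.single (Sum.inr (Fin.castLE hm i)) 1) where
  qe i := by
    show Cfsg.quadFormPlus m F _ = 0
    unfold Cfsg.quadFormPlus
    apply Finset.sum_eq_zero
    intro j _
    simp
  qf i := by
    show Cfsg.quadFormPlus m F _ = 0
    unfold Cfsg.quadFormPlus
    apply Finset.sum_eq_zero
    intro j _
    simp
  ee i j := by
    show QuadraticMap.polar (Cfsg.quadFormPlus m F) _ _ = 0
    rw [(qdataPlus (F := F) m).hM, Matrix.toBilin'_single]
    simp [qdataPlus]
  ff i j := by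
    show QuadraticMap.polar (Cfsg.quadFormPlus m F) _ _ = 0
    rw [(qdataPlus (F := F) m).hM, Matrix.toBilin'_single]
    simp [qdataPlus]
  ef i j := by
    show QuadraticMap.polar (Cfsg.quadFormPlus m F) _ _ = _
    rw [(qdataPlus (F := F) m).hM, Matrix.toBilin'_single]
    simp [qdataPlus, Matrix.one_apply]

theorem hypTriple_minus [Finite F] (k : ℕ) (hk : 3 ≤ k) (a b : F)
    (hab : ∀ z₁ z₂ : F, z₁ ^ 2 + a * z₁ * z₂ + b * z₂ ^ 2 = 0 → z₁ = 0 ∧ z₂ = 0) :
    HypTriple (qdataMinus k a b hab).qf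
      (fun i => Pi.single (Sum.inl (Sum.inl (Fin.castLE hk i))) 1)
      (fun i => Pi.single (Sum.inl (Sum.inr (Fin.castLE hk i))) 1) where
  qe i := by
    show Cfsg.quadFormMinus k F a b _ = 0
    unfold Cfsg.quadFormMinus
    rw [Finset.sum_eq_zero]
    · simp
    · intro j _
      simp
  qf i := by
    show Cfsg.quadFormMinus k F a b _ = 0
    unfold Cfsg.quadFormMinus
    rw [Finset.sum_eq_zero]
    · simp
    · intro j _
      simp
  ee i j := by
    show QuadraticMap.polar (Cfsg.quadFormMinus k F a b) _ _ = 0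
    rw [(qdataMinus k a b hab).hM, Matrix.toBilin'_single]
    simp [qdataMinus]
  ff i j := by
    show QuadraticMap.polar (Cfsg.quadFormMinus k F a b) _ _ = 0
    rw [(qdataMinus k a b hab).hM, Matrix.toBilin'_single]
    simp [qdataMinus]
  ef i j := by
    show QuadraticMap.polar (Cfsg.quadFormMinus k F a b) _ _ = _
    rw [(qdataMinus k a b hab).hM, Matrix.toBilin'_single]
    simp [qdataMinus, Matrix.one_apply]

theorem hypTriple_odd (m : ℕ) (hm : 3 ≤ m) (h2 : (2 : F) ≠ 0) :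
    HypTriple (qdataOdd m h2).qf
      (fun i => Pi.single (Sum.inr (Sum.inl (Fin.castLE hm i))) 1)
      (fun i => Pi.single (Sum.inr (Sum.inr (Fin.castLE hm i))) 1) where
  qe i := by
    show Cfsg.quadFormOdd m F _ = 0
    unfold Cfsg.quadFormOdd
    rw [Finset.sum_eq_zero]
    · simp
    · intro j _
      simp
  qf i := by
    show Cfsg.quadFormOdd m F _ = 0
    unfold Cfsg.quadFormOdd
    rw [Finset.sum_eq_zero]
    · simp
    · intro j _
      simp
  ee i j := by
    show QuadraticMap.polar (Cfsg.quadFormOdd m F) _ _ = 0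
    rw [(qdataOdd m h2).hM, Matrix.toBilin'_single]
    simp [qdataOdd]
  ff i j := by
    show QuadraticMap.polar (Cfsg.quadFormOdd m F) _ _ = 0
    rw [(qdataOdd m h2).hM, Matrix.toBilin'_single]
    simp [qdataOdd]
  ef i j := by
    show QuadraticMap.polar (Cfsg.quadFormOdd m F) _ _ = _
    rw [(qdataOdd m h2).hM, Matrix.toBilin'_single]
    simp [qdataOdd, Matrix.one_apply]

end std

section arith

theorem gcd_four_sub_one_of_mod_one {r : ℕ} (h : r % 4 = 1) : Nat.gcd 4 (r - 1) = 4 := by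
  rw [Nat.gcd_rec]
  have : (r - 1) % 4 = 0 := by omega
  rw [this]; rfl

theorem gcd_four_sub_one_of_mod_three {r : ℕ} (h : r % 4 = 3) : Nat.gcd 4 (r - 1) = 2 := by
  rw [Nat.gcd_rec]
  have : (r - 1) % 4 = 2 := by omega
  rw [this]; rfl

theorem gcd_four_sub_one_of_even {r : ℕ} (h : r % 2 = 0) (hr : 1 ≤ r) : Nat.gcd 4 (r - 1) = 1 := by
  rw [Nat.gcd_rec]
  have : (r - 1) % 4 = 1 ∨ (r - 1) % 4 = 3 := by omega
  rcases this with h1 | h1 <;> rw [h1] <;> rfl

theorem gcd_four_add_one_of_mod_three {r : ℕ} (h : r % 4 = 3) : Nat.gcd 4 (r + 1) = 4 := by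
  rw [Nat.gcd_rec]
  have : (r + 1) % 4 = 0 := by omega
  rw [this]; rfl

theorem gcd_four_add_one_of_mod_one {r : ℕ} (h : r % 4 = 1) : Nat.gcd 4 (r + 1) = 2 := by
  rw [Nat.gcd_rec]
  have : (r + 1) % 4 = 2 := by omega
  rw [this]; rfl

theorem gcd_four_add_one_of_even {r : ℕ} (h : r % 2 = 0) : Nat.gcd 4 (r + 1) = 1 := by
  rw [Nat.gcd_rec]
  have : (r + 1) % 4 = 1 ∨ (r + 1) % 4 = 3 := by omega
  rcases this with h1 | h1 <;> rw [h1] <;> rfl

end arith

end Cfsg.Agent.Lib.Helper08
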