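import Cfsg.Agent.Lib.Helper08.SimilarityMult
import Cfsg.Agent.Lib.Helper08.OmegaStd

set_option autoImplicit false

/-! Explicit similarities with prescribed multiplier and scalar square, for the standard
plus-type and minus-type forms. -/

namespace Cfsg.Agent.Lib.Helper08

open Matrix

universe u

section plus

variable {F : Type u} [Field F] (m : ℕ)

/-- the matrix `(x, y) ↦ (ζ y, x)` -/
def swapMat (ζ : F) : Matrix (Fin m ⊕ Fin m) (Fin m ⊕ Fin m) F :=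
  Matrix.fromBlocks 0 (ζ • 1) 1 0

theorem swapMat_mul (ζ ξ : F) :
    swapMat m ζ * Matrix.fromBlocks 0 1 (ξ • 1) 0 =
      Matrix.fromBlocks ((ζ * ξ) • 1) 0 0 1 := by
  unfold swapMat
  rw [Matrix.fromBlocks_multiply]
  simp [smul_smul, mul_comm]

theorem swapMat_mul_self (ζ : F) : swapMat m ζ * swapMat m ζ = ζ • 1 := by
  unfold swapMat
  rw [Matrix.fromBlocks_multiply]
  simp [← Matrix.fromBlocks_one, Matrix.fromBlocks_smul]

theorem swapMat_mulVec (ζ : F) (v : Fin m ⊕ Fin m → F) :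
    swapMat m ζ *ᵥ v = Sum.elim (fun i => ζ * v (.inr i)) (fun i => v (.inl i)) := by
  unfold swapMat
  rw [Matrix.fromBlocks_mulVec]
  funext c
  rcases c with i | i
  · simp [Matrix.smul_mulVec, Matrix.one_mulVec]
  · simp [Matrix.one_mulVec]

/-- the similarity `(x, y) ↦ (ζ y, x)` of the hyperbolic form -/
def swapGL (ζ : Fˣ) : GL (Fin m ⊕ Fin m) F :=
  ⟨swapMat m (ζ : F), Matrix.fromBlocks 0 1 (((ζ⁻¹ : Fˣ) : F) • 1) 0, by
    rw [swapMat_mul]; simp [Matrix.fromBlocks_one], by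
    unfold swapMat
    rw [Matrix.fromBlocks_multiply]
    simp [smul_smul, Matrix.fromBlocks_one]⟩

theorem quadFormPlus_swap (ζ : F) (v : Fin m ⊕ Fin m → F) :
    Cfsg.quadFormPlus m F (swapMat m ζ *ᵥ v) = ζ * Cfsg.quadFormPlus m F v := by
  rw [swapMat_mulVec]
  unfold Cfsg.quadFormPlus
  rw [Finset.mul_sum]
  refine Finset.sum_congr rfl fun i _ => ?_
  simp only [Sum.elim_inl, Sum.elim_inr]
  ring

theorem swapGL_mem (ζ : Fˣ) :
    swapGL m ζ ∈ Cfsg.Geo.quadSimilarityGroup (F := F) (Cfsg.quadFormPlus m F) :=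
  ⟨ζ, fun v => quadFormPlus_swap m (ζ : F) v⟩

end plus

section minus

variable {F : Type u} [Field F] (m : ℕ) (a b : F)

/-- the `2 × 2` block: multiplication by `c₁ + c₂ θ` composed with conjugation -/
def normMat (c₁ c₂ : F) : Matrix (Fin 2) (Fin 2) F := !![c₁, a * c₁ + b * c₂; c₂, -c₁]

theorem normMat_mul_self (c₁ c₂ : F) :
    normMat a b c₁ c₂ * normMat a b c₁ c₂ = (c₁ ^ 2 + a * c₁ * c₂ + b * c₂ ^ 2) • 1 := by
  unfold normMat
  ext i j
  fin_cases i <;> fin_cases j <;> simp [Matrix.mul_apply, Fin.sum_univ_two] <;> ring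

/-- a similarity of the minus-type form -/
def minusMat (ζ c₁ c₂ : F) :
    Matrix ((Fin m ⊕ Fin m) ⊕ Fin 2) ((Fin m ⊕ Fin m) ⊕ Fin 2) F :=
  Matrix.fromBlocks (swapMat m ζ) 0 0 (normMat a b c₁ c₂)

theorem minusMat_mul_self (ζ c₁ c₂ : F) (hc : c₁ ^ 2 + a * c₁ * c₂ + b * c₂ ^ 2 = ζ) :
    minusMat m a b ζ c₁ c₂ * minusMat m a b ζ c₁ c₂ = ζ • 1 := by
  unfold minusMat
  rw [Matrix.fromBlocks_multiply, swapMat_mul_self, normMat_mul_self, hc]
  simp [← Matrix.fromBlocks_one, Matrix.fromBlocks_smul]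

theorem quadFormMinus_minusMat (ζ c₁ c₂ : F) (hc : c₁ ^ 2 + a * c₁ * c₂ + b * c₂ ^ 2 = ζ)
    (v : (Fin m ⊕ Fin m) ⊕ Fin 2 → F) :
    Cfsg.quadFormMinus m F a b (minusMat m a b ζ c₁ c₂ *ᵥ v) =
      ζ * Cfsg.quadFormMinus m F a b v := by
  unfold minusMat
  rw [Matrix.fromBlocks_mulVec]
  unfold Cfsg.quadFormMinus
  simp only [Sum.elim_inl, Sum.elim_inr, Matrix.zero_mulVec, add_zero, zero_add, swapMat_mulVec]
  have h1 : ∑ i : Fin m, ζ * (v ∘ Sum.inl) (Sum.inr i) * (v ∘ Sum.inl) (Sum.inl i) =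
      ζ * ∑ i : Fin m, v (Sum.inl (Sum.inl i)) * v (Sum.inl (Sum.inr i)) := by
    rw [Finset.mul_sum]
    refine Finset.sum_congr rfl fun i _ => ?_
    simp only [Function.comp_apply]
    ring
  rw [h1]
  simp only [normMat, Matrix.mulVec, dotProduct, Fin.sum_univ_two, Matrix.of_apply,
    Matrix.cons_val', Matrix.cons_val_zero, Matrix.cons_val_one, Function.comp_apply,
    Matrix.empty_val', Matrix.cons_val_fin_one]
  rw [← hc]
  ring

/-- the similarity as an element of `GL` -/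
def minusGL (ζ : Fˣ) (c₁ c₂ : F) (hc : c₁ ^ 2 + a * c₁ * c₂ + b * c₂ ^ 2 = (ζ : F)) :
    GL ((Fin m ⊕ Fin m) ⊕ Fin 2) F :=
  ⟨minusMat m a b (ζ : F) c₁ c₂, ((ζ⁻¹ : Fˣ) : F) • minusMat m a b (ζ : F) c₁ c₂, by
    rw [Matrix.mul_smul, minusMat_mul_self m a b _ _ _ hc, smul_smul]; simp, by
    rw [Matrix.smul_mul, minusMat_mul_self m a b _ _ _ hc, smul_smul]; simp⟩

theorem minusGL_mem (ζ : Fˣ) (c₁ c₂ : F) (hc : c₁ ^ 2 + a * c₁ * c₂ + b * c₂ ^ 2 = (ζ : F)) :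
    minusGL m a b ζ c₁ c₂ hc ∈
      Cfsg.Geo.quadSimilarityGroup (F := F) (Cfsg.quadFormMinus m F a b) :=
  ⟨ζ, fun v => quadFormMinus_minusMat m a b (ζ : F) c₁ c₂ hc v⟩

end minus

section repr

variable {F : Type u} [Field F] [Fintype F]

/-- the anisotropic binary form represents every non-zero scalar -/
theorem exists_norm_eq (a b : F)
    (hab : ∀ z₁ z₂ : F, z₁ ^ 2 + a * z₁ * z₂ + b * z₂ ^ 2 = 0 → z₁ = 0 ∧ z₂ = 0)
    (ζ : F) (hζ : ζ ≠ 0) : ∃ c₁ c₂ : F, c₁ ^ 2 + a * c₁ * c₂ + b * c₂ ^ 2 = ζ := by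
  classical
  have hdim : 2 ≤ Module.finrank F ((Fin 0 ⊕ Fin 0) ⊕ Fin 2 → F) := by
    rw [Module.finrank_fintype_fun_eq_card]
    simp
  obtain ⟨u, hu⟩ := Cfsg.Agent.Lib.Helper50.exists_repr (qdataMinus (F := F) 0 a b hab).qf
    (qdataMinus (F := F) 0 a b hab).qf_nondeg hdim ζ hζ
  refine ⟨u (.inr 0), u (.inr 1), ?_⟩
  have h1 : Cfsg.quadFormMinus 0 F a b u = ζ := hu
  unfold Cfsg.quadFormMinus at h1
  simpa using h1

end repr

end Cfsg.Agent.Lib.Helper08
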