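import Cfsg.Agent.Lib.Helper08.AutOmegaKer

set_option autoImplicit false

/-! The multiplier of a similarity, the relation `det² = μⁿ`, and the quotient of the image of
the similarity group in `Aut(PΩ)` by the image of `SO`: a four-group (even dimension, `q` odd). -/

namespace Cfsg.Agent.Lib.Helper08

open Matrix Cfsg.Agent.Lib.Helper19 Cfsg.Agent.Lib.Helper43

universe u

section grp

/-- a hom onto the range of `c` from a hom on the source killing the kernel -/
theorem exists_hom_range {G H A : Type*} [Group G] [Group H] [Group A] (c : G →* H) (ψ : G →* A)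
    (hψ : Function.Surjective ψ) (B : Subgroup G) (hker : ψ.ker = B ⊔ c.ker) :
    ∃ φ : ↥c.range →* A, Function.Surjective φ ∧ φ.ker = (B.map c).subgroupOf c.range := by
  have hle : c.rangeRestrict.ker ≤ ψ.ker := by
    rw [MonoidHom.ker_rangeRestrict, hker]; exact le_sup_right
  let φ : ↥c.range →* A :=
    c.rangeRestrict.liftOfSurjective c.rangeRestrict_surjective ⟨ψ, hle⟩
  have hφ : ∀ g, φ (c.rangeRestrict g) = ψ g := fun g =>
    MonoidHom.liftOfRightInverse_comp_apply _ _ _ ⟨ψ, hle⟩ g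
  refine ⟨φ, ?_, ?_⟩
  · intro a
    obtain ⟨g, rfl⟩ := hψ a
    exact ⟨c.rangeRestrict g, hφ g⟩
  · ext x
    obtain ⟨g, rfl⟩ := c.rangeRestrict_surjective x
    rw [MonoidHom.mem_ker, hφ, ← MonoidHom.mem_ker, hker, Subgroup.mem_subgroupOf,
      ← Subgroup.comap_map_eq, Subgroup.mem_comap]
    rfl

end grp

section mult

variable {F : Type u} [Field F] {ι : Type} [Fintype ι] [DecidableEq ι]
variable (Q : QuadraticForm F (ι → F))

/-- the multiplier of a similarity -/
noncomputable def multFun (g : ↥(Cfsg.Geo.quadSimilarityGroup (F := F) ⇑Q)) : Fˣ :=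
  Classical.choose g.2

theorem multFun_spec (g : ↥(Cfsg.Geo.quadSimilarityGroup (F := F) ⇑Q)) (v : ι → F) :
    Q (((g : GL ι F) : Matrix ι ι F) *ᵥ v) = (multFun Q g : F) * Q v :=
  Classical.choose_spec g.2 v

theorem multFun_unique {u0 : ι → F} (hu0 : Q u0 = 1)
    (g : ↥(Cfsg.Geo.quadSimilarityGroup (F := F) ⇑Q)) (c : Fˣ)
    (hc : ∀ v, Q (((g : GL ι F) : Matrix ι ι F) *ᵥ v) = (c : F) * Q v) : multFun Q g = c := by
  apply Units.ext
  have h1 := hc u0
  rw [multFun_spec, hu0, mul_one, mul_one] at h1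
  exact h1

/-- the multiplier as a homomorphism -/
noncomputable def mult {u0 : ι → F} (hu0 : Q u0 = 1) :
    ↥(Cfsg.Geo.quadSimilarityGroup (F := F) ⇑Q) →* Fˣ where
  toFun := multFun Q
  map_one' := multFun_unique Q hu0 1 1 (fun v => by simp)
  map_mul' g h := multFun_unique Q hu0 (g * h) (multFun Q g * multFun Q h) (fun v => by
    rw [Subgroup.coe_mul, Units.val_mul, ← Matrix.mulVec_mulVec, multFun_spec, multFun_spec,
      Units.val_mul, mul_assoc])

theorem mult_apply {u0 : ι → F} (hu0 : Q u0 = 1)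
    (g : ↥(Cfsg.Geo.quadSimilarityGroup (F := F) ⇑Q)) : mult Q hu0 g = multFun Q g := rfl

theorem polar_similarity (g : ↥(Cfsg.Geo.quadSimilarityGroup (F := F) ⇑Q)) (x y : ι → F) :
    QuadraticMap.polar (⇑Q) (((g : GL ι F) : Matrix ι ι F) *ᵥ x)
      (((g : GL ι F) : Matrix ι ι F) *ᵥ y) = (multFun Q g : F) * QuadraticMap.polar (⇑Q) x y := by
  unfold QuadraticMap.polar
  rw [← Matrix.mulVec_add, multFun_spec, multFun_spec, multFun_spec]
  ring

theorem det_sq_eq_mult_pow (hQ : (QuadraticMap.polarBilin Q).Nondegenerate)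
    (g : ↥(Cfsg.Geo.quadSimilarityGroup (F := F) ⇑Q)) :
    ((g : GL ι F) : Matrix ι ι F).det * ((g : GL ι F) : Matrix ι ι F).det =
      (multFun Q g : F) ^ Fintype.card ι := by
  set M := LinearMap.BilinForm.toMatrix' (QuadraticMap.polarBilin Q) with hM
  have hMB : Matrix.toBilin' M = QuadraticMap.polarBilin Q := Matrix.toBilin'_toMatrix' _
  have hdet : M.det ≠ 0 := by
    rw [← Matrix.nondegenerate_iff_det_ne_zero, ← Matrix.nondegenerate_toBilin'_iff, hMB]
    exact hQ
  set G := ((g : GL ι F) : Matrix ι ι F) with hG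
  have h1 : Matrix.toBilin' (Gᵀ * M * G) = Matrix.toBilin' ((multFun Q g : F) • M) := by
    rw [← Matrix.toBilin'_comp, hMB]
    apply LinearMap.ext₂
    intro x y
    rw [LinearMap.BilinForm.comp_apply, Matrix.toLin'_apply, Matrix.toLin'_apply,
      QuadraticMap.polarBilin_apply_apply, polar_similarity, map_smul, hMB]
    rfl
  have h2 : Gᵀ * M * G = (multFun Q g : F) • M := Matrix.toBilin'.injective h1
  have h3 := congrArg Matrix.det h2
  rw [Matrix.det_mul, Matrix.det_mul, Matrix.det_transpose, Matrix.det_smul] at h3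
  have h4 : (G.det * G.det) * M.det = (multFun Q g : F) ^ Fintype.card ι * M.det := by
    rw [← h3]; ring
  exact mul_right_cancel₀ hdet h4

end mult

section sign

variable {F : Type u} [Field F] {G : Type*} [Group G]

/-- turning a `±1`-valued hom into a hom to `ℤˣ` -/
noncomputable def signHom (δ : G →* Fˣ) (h : ∀ g, δ g = 1 ∨ δ g = -1) (hne : (1 : Fˣ) ≠ -1) :
    G →* ℤˣ := by
  classical
  exact MonoidHom.mk' (fun g => if δ g = 1 then 1 else -1) (by
    intro a b
    have hne' : (-1 : Fˣ) ≠ 1 := fun h => hne h.symm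
    rcases h a with ha | ha <;> rcases h b with hb | hb <;> simp [map_mul, ha, hb, hne'])

theorem signHom_eq_one_iff (δ : G →* Fˣ) (h : ∀ g, δ g = 1 ∨ δ g = -1) (hne : (1 : Fˣ) ≠ -1)
    (g : G) : signHom δ h hne g = 1 ↔ δ g = 1 := by
  classical
  unfold signHom
  simp only [MonoidHom.mk'_apply]
  split_ifs with h1
  · simp [h1]
  · simp [h1]

end sign

section psi

variable {F : Type u} [Field F] [Fintype F] [DecidableEq F] {ι : Type} [Fintype ι] [DecidableEq ι]
variable (Q : QuadraticForm F (ι → F)) {u0 : ι → F} (hu0 : Q u0 = 1) (m : ℕ)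

/-- the determinant on the similarity group -/
noncomputable def detGO : ↥(Cfsg.Geo.quadSimilarityGroup (F := F) ⇑Q) →* Fˣ :=
  Matrix.GeneralLinearGroup.det.comp (Subgroup.subtype _)

theorem detGO_val (g : ↥(Cfsg.Geo.quadSimilarityGroup (F := F) ⇑Q)) :
    ((detGO Q g : Fˣ) : F) = ((g : GL ι F) : Matrix ι ι F).det := rfl

/-- `det / μ^m` -/
noncomputable def delta : ↥(Cfsg.Geo.quadSimilarityGroup (F := F) ⇑Q) →* Fˣ :=
  detGO Q * ((mult Q hu0)⁻¹) ^ m

theorem delta_apply (g : ↥(Cfsg.Geo.quadSimilarityGroup (F := F) ⇑Q)) :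
    delta Q hu0 m g = detGO Q g * ((multFun Q g)⁻¹) ^ m := rfl

theorem delta_mul_self (hQ : (QuadraticMap.polarBilin Q).Nondegenerate)
    (hcard : Fintype.card ι = 2 * m) (g : ↥(Cfsg.Geo.quadSimilarityGroup (F := F) ⇑Q)) :
    delta Q hu0 m g * delta Q hu0 m g = 1 := by
  apply Units.ext
  rw [delta_apply]
  have h1 := det_sq_eq_mult_pow Q hQ g
  rw [hcard] at h1
  simp only [Units.val_mul, Units.val_pow_eq_pow_val, Units.val_inv_eq_inv_val, detGO_val,
    Units.val_one]
  have hμ : (multFun Q g : F) ≠ 0 := Units.ne_zero _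
  calc ((g : GL ι F) : Matrix ι ι F).det * ((multFun Q g : F)⁻¹) ^ m *
        (((g : GL ι F) : Matrix ι ι F).det * ((multFun Q g : F)⁻¹) ^ m)
      = (((g : GL ι F) : Matrix ι ι F).det * ((g : GL ι F) : Matrix ι ι F).det) *
          ((multFun Q g : F)⁻¹) ^ (2 * m) := by ring
    _ = 1 := by
        rw [h1, inv_pow, mul_inv_cancel₀ (pow_ne_zero _ hμ)]

theorem delta_cases (hQ : (QuadraticMap.polarBilin Q).Nondegenerate)
    (hcard : Fintype.card ι = 2 * m) (g : ↥(Cfsg.Geo.quadSimilarityGroup (F := F) ⇑Q)) :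
    delta Q hu0 m g = 1 ∨ delta Q hu0 m g = -1 := by
  have h1 := congrArg (fun x : Fˣ => (x : F)) (delta_mul_self Q hu0 m hQ hcard g)
  simp only [Units.val_mul, Units.val_one] at h1
  rcases mul_self_eq_one_iff.mp h1 with h | h
  · left; exact Units.ext h
  · right; exact Units.ext (by rw [h]; rfl)

theorem one_ne_neg_one_units (h2 : (2 : F) ≠ 0) : (1 : Fˣ) ≠ -1 := by
  intro h
  have h3 := congrArg (fun x : Fˣ => (x : F)) h
  simp only [Units.val_one, Units.val_neg] at h3
  apply h2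
  linear_combination h3

/-- the pair (quadratic character of the multiplier, sign of `det / μ^m`) -/
noncomputable def psiGO (h2 : (2 : F) ≠ 0) (hQ : (QuadraticMap.polarBilin Q).Nondegenerate)
    (hcard : Fintype.card ι = 2 * m) :
    ↥(Cfsg.Geo.quadSimilarityGroup (F := F) ⇑Q) →* ℤˣ × ℤˣ :=
  ((quadraticChar F).toUnitHom.comp (mult Q hu0)).prod
    (signHom (delta Q hu0 m) (delta_cases Q hu0 m hQ hcard) (one_ne_neg_one_units h2))

theorem psiGO_eq_one_iff (h2 : (2 : F) ≠ 0) (hQ : (QuadraticMap.polarBilin Q).Nondegenerate)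
    (hcard : Fintype.card ι = 2 * m) (g : ↥(Cfsg.Geo.quadSimilarityGroup (F := F) ⇑Q)) :
    psiGO Q hu0 m h2 hQ hcard g = 1 ↔
      (IsSquare (multFun Q g : F) ∧ delta Q hu0 m g = 1) := by
  unfold psiGO
  rw [MonoidHom.prod_apply, Prod.mk_eq_one, signHom_eq_one_iff, MonoidHom.comp_apply, mult_apply]
  have : (quadraticChar F).toUnitHom (multFun Q g) = 1 ↔ IsSquare (multFun Q g : F) := by
    rw [← quadraticChar_one_iff_isSquare (Units.ne_zero _), ← MulChar.coe_toUnitHom]
    constructor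
    · intro h; rw [h]; rfl
    · intro h; exact Units.ext h
  rw [this]

end psi

section kernel

variable {F : Type u} [Field F] [Fintype F] [DecidableEq F] {ι : Type} [Fintype ι] [DecidableEq ι]
variable (Q : QuadraticForm F (ι → F)) {u0 : ι → F} (hu0 : Q u0 = 1) (m : ℕ)

/-- inclusion of the isometry group in the similarity group -/
def inclGO : ↥(Cfsg.isometryGroup F ⇑Q) →* ↥(Cfsg.Geo.quadSimilarityGroup (F := F) ⇑Q) :=
  Subgroup.inclusion (isometryGroup_le_similarity ⇑Q)

omit [Fintype F] [DecidableEq F] in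
theorem inclGO_val (h : ↥(Cfsg.isometryGroup F ⇑Q)) : ((inclGO Q h : GL ι F)) = (h : GL ι F) := rfl

omit [Fintype F] [DecidableEq F] in
theorem autO_eq_comp : autO (⇑Q) = (autPO (⇑Q)).comp (inclGO Q) := rfl

omit [Fintype F] [DecidableEq F] in
theorem multFun_inclGO {u1 : ι → F} (hu1 : Q u1 = 1) (h : ↥(Cfsg.isometryGroup F ⇑Q)) :
    multFun Q (inclGO Q h) = 1 := by
  apply multFun_unique Q hu1
  intro v
  rw [inclGO_val, Units.val_one, one_mul]
  exact (mem_isometryGroup_iff _ _).1 h.2 v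

/-- scalar similarities -/
def scalGO (c : Fˣ) : ↥(Cfsg.Geo.quadSimilarityGroup (F := F) ⇑Q) :=
  ⟨⟨(c : F) • 1, ((c⁻¹ : Fˣ) : F) • 1, by simp, by simp⟩, ⟨c * c, fun v => by
    simp only [Matrix.smul_mulVec, Matrix.one_mulVec, QuadraticMap.map_smul, smul_eq_mul,
      Units.val_mul]⟩⟩

omit [Fintype F] [DecidableEq F] in
theorem scalGO_val (c : Fˣ) : ((scalGO Q c : GL ι F) : Matrix ι ι F) = (c : F) • 1 := rfl

theorem psiGO_ker_le (h2 : (2 : F) ≠ 0) (hQ : (QuadraticMap.polarBilin Q).Nondegenerate)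
    (hcard : Fintype.card ι = 2 * m)
    (e f : Fin 3 → ι → F) (HT : HypTriple Q e f) :
    (psiGO Q hu0 m h2 hQ hcard).ker =
      (Cfsg.specialIsometryGroup F ⇑Q).map (inclGO Q) ⊔ (autPO (⇑Q)).ker := by
  have RP := reflPairs_of_two_ne_zero Q h2
  -- scalars lie in the kernel of `psiGO`
  have hscal : ∀ g : ↥(Cfsg.Geo.quadSimilarityGroup (F := F) ⇑Q),
      (∃ c : F, ((g : GL ι F) : Matrix ι ι F) = c • 1) → psiGO Q hu0 m h2 hQ hcard g = 1 := by
    rintro g ⟨c, hc⟩
    rw [psiGO_eq_one_iff]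
    have hμ : (multFun Q g : F) = c * c := by
      have h1 := multFun_spec Q g u0
      rw [hc, Matrix.smul_mulVec, Matrix.one_mulVec, QuadraticMap.map_smul, hu0, smul_eq_mul,
        mul_one, mul_one] at h1
      exact h1.symm
    have hc0 : c ≠ 0 := by
      intro h
      have := Units.ne_zero (multFun Q g)
      rw [hμ, h, mul_zero] at this
      exact this rfl
    refine ⟨⟨c, hμ⟩, ?_⟩
    apply Units.ext
    rw [delta_apply]
    simp only [Units.val_mul, Units.val_pow_eq_pow_val, Units.val_inv_eq_inv_val, detGO_val,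
      Units.val_one, hμ, hc, Matrix.det_smul, Matrix.det_one, hcard]
    rw [mul_one, ← pow_two, inv_pow, ← pow_mul, mul_inv_cancel₀ (pow_ne_zero _ hc0)]
  apply le_antisymm
  · intro g hg
    rw [MonoidHom.mem_ker, psiGO_eq_one_iff] at hg
    obtain ⟨⟨lam, hlam⟩, hδ⟩ := hg
    have hlam0 : lam ≠ 0 := by
      intro h
      have := Units.ne_zero (multFun Q g)
      rw [hlam, h, mul_zero] at this
      exact this rfl
    set z := scalGO Q (Units.mk0 lam hlam0) with hz
    have hzker : z ∈ (autPO (⇑Q)).ker := by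
      rw [MonoidHom.mem_ker, autPO_eq_one_iff Q hQ h2 e f HT RP]
      exact ⟨lam, rfl⟩
    set h0 := z⁻¹ * g with hh0
    have hmult : multFun Q h0 = 1 := by
      have h1 : mult Q hu0 h0 = (mult Q hu0 z)⁻¹ * mult Q hu0 g := by
        rw [hh0, map_mul, map_inv]
      have h3 : multFun Q z = Units.mk0 lam hlam0 * Units.mk0 lam hlam0 := by
        apply multFun_unique Q hu0
        intro v
        rw [scalGO_val]
        simp only [Matrix.smul_mulVec, Matrix.one_mulVec, QuadraticMap.map_smul, smul_eq_mul,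
          Units.val_mul]
      rw [mult_apply, mult_apply, mult_apply, h3] at h1
      rw [h1]
      apply Units.ext
      simp only [Units.val_mul, Units.val_inv_eq_inv_val, Units.val_mk0, Units.val_one, hlam]
      field_simp
    have hO : (h0 : GL ι F) ∈ Cfsg.isometryGroup F ⇑Q := by
      rw [mem_isometryGroup_iff]
      intro v
      rw [multFun_spec, hmult, Units.val_one, one_mul]
    have hδ0 : delta Q hu0 m h0 = 1 := by
      have hzδ : delta Q hu0 m z = 1 :=
        ((psiGO_eq_one_iff Q hu0 m h2 hQ hcard z).mp (hscal z ⟨lam, rfl⟩)).2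
      rw [hh0, map_mul, map_inv, hzδ, hδ]
      simp
    have hdet : ((h0 : GL ι F) : Matrix ι ι F).det = 1 := by
      have h1 := congrArg (fun x : Fˣ => (x : F)) hδ0
      rw [delta_apply, hmult] at h1
      simpa [detGO_val] using h1
    have hSO : (⟨(h0 : GL ι F), hO⟩ : ↥(Cfsg.isometryGroup F ⇑Q)) ∈
        Cfsg.specialIsometryGroup F ⇑Q := by
      rw [mem_SO_iff_det]; exact hdet
    have hg : g = z * h0 := by rw [hh0]; group
    rw [hg]
    apply Subgroup.mul_mem
    · exact Subgroup.mem_sup_right hzker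
    · apply Subgroup.mem_sup_left
      exact ⟨⟨(h0 : GL ι F), hO⟩, hSO, Subtype.ext rfl⟩
  · apply sup_le
    · rintro _ ⟨h, hh, rfl⟩
      rw [MonoidHom.mem_ker, psiGO_eq_one_iff, multFun_inclGO Q hu0]
      refine ⟨⟨1, by simp⟩, ?_⟩
      apply Units.ext
      rw [delta_apply, multFun_inclGO Q hu0]
      have hh' := (mem_SO_iff_det Q h).mp hh
      simp only [inv_one, one_pow, mul_one, Units.val_one, detGO_val, inclGO_val]
      exact hh'
    · intro g hg
      rw [MonoidHom.mem_ker, autPO_eq_one_iff Q hQ h2 e f HT RP] at hg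
      exact hscal g hg

end kernel

section surj

variable {F : Type u} [Field F] [Fintype F] [DecidableEq F] {ι : Type} [Fintype ι] [DecidableEq ι]
variable (Q : QuadraticForm F (ι → F)) {u0 : ι → F} (hu0 : Q u0 = 1) (m : ℕ)

theorem psiGO_surjective (h2 : (2 : F) ≠ 0) (hQ : (QuadraticMap.polarBilin Q).Nondegenerate)
    (hcard : Fintype.card ι = 2 * m)
    (g0 : ↥(Cfsg.Geo.quadSimilarityGroup (F := F) ⇑Q)) (hg0 : ¬ IsSquare (multFun Q g0 : F)) :
    Function.Surjective (psiGO Q hu0 m h2 hQ hcard) := by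
  set ψ := psiGO Q hu0 m h2 hQ hcard with hψ
  set r := inclGO Q (Cfsg.Agent.Lib.Helper50.reflO Q u0) with hr
  have hu0' : Q u0 ≠ 0 := by rw [hu0]; exact one_ne_zero
  have hψr : ψ r = (1, -1) := by
    have h1 : (ψ r).1 = 1 := by
      have : (quadraticChar F).toUnitHom (multFun Q r) = 1 := by
        rw [hr, multFun_inclGO Q hu0]; simp
      exact this
    have h3 : (ψ r).2 ≠ 1 := by
      intro h
      have h4 : signHom (delta Q hu0 m) (delta_cases Q hu0 m hQ hcard)
          (one_ne_neg_one_units h2) r = 1 := h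
      rw [signHom_eq_one_iff, delta_apply, hr, multFun_inclGO Q hu0] at h4
      have h5 := congrArg (fun x : Fˣ => (x : F)) h4
      simp only [inv_one, one_pow, mul_one, Units.val_one, detGO_val, inclGO_val] at h5
      rw [Cfsg.Agent.Lib.Helper50.reflO_val Q u0 hu0',
        Cfsg.Agent.Lib.Helper19.reflectionMatrix_det Q u0 hu0'] at h5
      apply h2
      linear_combination -h5
    have h6 : (ψ r).2 = -1 := by
      rcases Int.units_eq_one_or (ψ r).2 with h | h
      · exact absurd h h3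
      · exact h
    exact Prod.ext h1 h6
  have hψg : (ψ g0).1 = -1 := by
    rcases Int.units_eq_one_or (ψ g0).1 with h | h
    · exfalso
      apply hg0
      have h1 : (quadraticChar F).toUnitHom (multFun Q g0) = 1 := h
      rw [← quadraticChar_one_iff_isSquare (Units.ne_zero _), ← MulChar.coe_toUnitHom, h1]
      rfl
    · exact h
  rintro ⟨a, b⟩
  rcases Int.units_eq_one_or a with ha | ha <;> rcases Int.units_eq_one_or b with hb | hb
  · exact ⟨1, by rw [map_one, ha, hb]; rfl⟩
  · exact ⟨r, by rw [hψr, ha, hb]⟩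
  · rcases Int.units_eq_one_or (ψ g0).2 with h | h
    · exact ⟨g0, by rw [ha, hb]; exact Prod.ext hψg h⟩
    · refine ⟨g0 * r, ?_⟩
      rw [map_mul, hψr, ha, hb]
      exact Prod.ext (by simp [hψg]) (by simp [h])
  · rcases Int.units_eq_one_or (ψ g0).2 with h | h
    · refine ⟨g0 * r, ?_⟩
      rw [map_mul, hψr, ha, hb]
      exact Prod.ext (by simp [hψg]) (by simp [h])
    · exact ⟨g0, by rw [ha, hb]; exact Prod.ext hψg h⟩

/-- `ℤˣ ≃* Multiplicative (ZMod 2)` -/
def unitsIntEquiv : ℤˣ ≃* Multiplicative (ZMod 2) where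
  toFun u := if u = 1 then 1 else Multiplicative.ofAdd 1
  invFun z := if z = 1 then 1 else -1
  left_inv := by decide
  right_inv := by decide
  map_mul' := by decide

/-- `ℤˣ × ℤˣ ≃* Multiplicative (ZMod 2 × ZMod 2)` -/
noncomputable def unitsIntProdEquiv : ℤˣ × ℤˣ ≃* Multiplicative (ZMod 2 × ZMod 2) :=
  (MulEquiv.prodCongr unitsIntEquiv unitsIntEquiv).trans
    (MulEquiv.prodMultiplicative (ZMod 2) (ZMod 2)).symm

/-- the image of the similarity group modulo the image of `SO` is a four-group -/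
theorem pgoAut_mod_psoAut (h2 : (2 : F) ≠ 0) (hQ : (QuadraticMap.polarBilin Q).Nondegenerate)
    (hcard : Fintype.card ι = 2 * m) (e f : Fin 3 → ι → F) (HT : HypTriple Q e f)
    (g0 : ↥(Cfsg.Geo.quadSimilarityGroup (F := F) ⇑Q)) (hg0 : ¬ IsSquare (multFun Q g0 : F)) :
    ∃ φ : ↥(Cfsg.pgoAut F ⇑Q) →* Multiplicative (ZMod 2 × ZMod 2), Function.Surjective φ ∧
      φ.ker = (Cfsg.psoAut F ⇑Q).subgroupOf (Cfsg.pgoAut F ⇑Q) := by
  have hu : Q (e 0 + f 0) = 1 := by
    rw [QuadraticMap.map_add (⇑Q), HT.qe, HT.qf, HT.ef]; simp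
  obtain ⟨φ, hφs, hφk⟩ := exists_hom_range (autPO (⇑Q)) (psiGO Q hu m h2 hQ hcard)
    (psiGO_surjective Q hu m h2 hQ hcard g0 hg0)
    ((Cfsg.specialIsometryGroup F ⇑Q).map (inclGO Q)) (psiGO_ker_le Q hu m h2 hQ hcard e f HT)
  rw [pgoAut_eq, psoAut_eq, autO_eq_comp, ← Subgroup.map_map]
  refine ⟨unitsIntProdEquiv.toMonoidHom.comp φ, ?_, ?_⟩
  · exact unitsIntProdEquiv.surjective.comp hφs
  · rw [← hφk]
    ext x
    simp only [MonoidHom.mem_ker, MonoidHom.comp_apply, MulEquiv.coe_toMonoidHom,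
      EmbeddingLike.map_eq_one_iff]

end surj

end Cfsg.Agent.Lib.Helper08
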