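import Mathlib

set_option autoImplicit false

namespace Cfsg.Agent.Lib.Helper08

theorem pow_mod_four_of_mod_one {q : ℕ} (h : q % 4 = 1) (m : ℕ) : q ^ m % 4 = 1 := by
  rw [Nat.pow_mod, h, one_pow]
  rfl

theorem pow_mod_four_of_mod_three_even {q : ℕ} (h : q % 4 = 3) {m : ℕ} (hm : Even m) :
    q ^ m % 4 = 1 := by
  obtain ⟨k, rfl⟩ := hm
  rw [← two_mul, pow_mul, Nat.pow_mod]
  have : q ^ 2 % 4 = 1 := by
    rw [Nat.pow_mod, h]
  rw [this, one_pow]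
  rfl

theorem pow_mod_four_of_mod_three_odd {q : ℕ} (h : q % 4 = 3) {m : ℕ} (hm : Odd m) :
    q ^ m % 4 = 3 := by
  obtain ⟨k, rfl⟩ := hm
  rw [pow_succ, Nat.mul_mod, pow_mod_four_of_mod_three_even h (even_two_mul k), h]

end Cfsg.Agent.Lib.Helper08
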