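import Cfsg.Prelude.Def_LieTypeDatum
import Cfsg.Agent.Lib.Helper19.QuadMat

set_option autoImplicit false

/-! The conjugation action of the similarity group of a quadratic form on `PΩ`, and the subgroups
`pgoAut`, `poAut`, `psoAut`, `Inn` of `Aut(PΩ)` as images. -/

namespace Cfsg.Agent.Lib.Helper08

open Matrix Cfsg.Agent.Lib.Helper19

universe u

section generic

variable {G : Type*} [Group G]

/-- automorphisms act on the quotient by a characteristic subgroup -/
def autQuot (H : Subgroup G) [H.Characteristic] : MulAut G →* MulAut (G ⧸ H) where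
  toFun φ := QuotientGroup.congr H H φ (Subgroup.characteristic_iff_map_eq.mp inferInstance φ)
  map_one' := by
    ext x
    induction x using QuotientGroup.induction_on
    rfl
  map_mul' φ ψ := by
    ext x
    induction x using QuotientGroup.induction_on
    rfl

theorem autQuot_mk (H : Subgroup G) [H.Characteristic] (φ : MulAut G) (x : G) :
    autQuot H φ (QuotientGroup.mk x) = QuotientGroup.mk (φ x) := rfl

end generic

section conj

variable {F : Type u} [Field F] {ι : Type} [Fintype ι] [DecidableEq ι] (Q : (ι → F) → F)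

theorem conj_mem_isometryGroup {g : GL ι F} (hg : g ∈ Cfsg.Geo.quadSimilarityGroup (F := F) Q)
    {s : GL ι F} (hs : s ∈ Cfsg.isometryGroup F Q) : g * s * g⁻¹ ∈ Cfsg.isometryGroup F Q := by
  rw [mem_isometryGroup_iff] at hs ⊢
  obtain ⟨c, hc⟩ := hg
  intro u
  have h1 : ((g * s * g⁻¹ : GL ι F) : Matrix ι ι F) *ᵥ u =
      (g : Matrix ι ι F) *ᵥ ((s : Matrix ι ι F) *ᵥ (((g⁻¹ : GL ι F) : Matrix ι ι F) *ᵥ u)) := by
    simp only [Units.val_mul, Matrix.mulVec_mulVec, Matrix.mul_assoc]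
  rw [h1, hc, hs]
  have h2 := hc (((g⁻¹ : GL ι F) : Matrix ι ι F) *ᵥ u)
  rw [Matrix.mulVec_mulVec, ← Units.val_mul, mul_inv_cancel, Units.val_one, Matrix.one_mulVec] at h2
  exact h2.symm

theorem isometryGroup_le_similarity :
    Cfsg.isometryGroup F Q ≤ Cfsg.Geo.quadSimilarityGroup (F := F) Q := by
  intro g hg
  rw [mem_isometryGroup_iff] at hg
  exact ⟨1, fun v => by rw [hg, Units.val_one, one_mul]⟩

/-- conjugation by a similarity, on the isometry group -/
def conjO (g : ↥(Cfsg.Geo.quadSimilarityGroup (F := F) Q)) : MulAut ↥(Cfsg.isometryGroup F Q) where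
  toFun s := ⟨g.1 * s.1 * g.1⁻¹, conj_mem_isometryGroup Q g.2 s.2⟩
  invFun s := ⟨g.1⁻¹ * s.1 * g.1, by
    have := conj_mem_isometryGroup Q (inv_mem g.2) s.2
    simpa using this⟩
  left_inv s := by
    apply Subtype.ext
    simp [mul_assoc]
  right_inv s := by
    apply Subtype.ext
    simp [mul_assoc]
  map_mul' s t := by
    apply Subtype.ext
    simp [mul_assoc]

theorem conjO_val (g : ↥(Cfsg.Geo.quadSimilarityGroup (F := F) Q))
    (s : ↥(Cfsg.isometryGroup F Q)) : ((conjO Q g s : ↥(Cfsg.isometryGroup F Q)) : GL ι F) =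
      g.1 * s.1 * g.1⁻¹ := rfl

/-- conjugation as a homomorphism -/
def conjOHom : ↥(Cfsg.Geo.quadSimilarityGroup (F := F) Q) →* MulAut ↥(Cfsg.isometryGroup F Q) where
  toFun := conjO Q
  map_one' := by
    ext s
    simp [conjO_val]
  map_mul' g h := by
    ext s
    simp [conjO_val, mul_assoc]

/-- the action of the similarity group on `PΩ` -/
def autPO : ↥(Cfsg.Geo.quadSimilarityGroup (F := F) Q) →* MulAut (Cfsg.POmega F Q) :=
  (autQuot (Subgroup.center ↥(Cfsg.Omega F Q))).comp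
    ((MulAut.characteristic (Cfsg.Omega F Q)).comp (conjOHom Q))

theorem autPO_mk_val (g : ↥(Cfsg.Geo.quadSimilarityGroup (F := F) Q)) (s : ↥(Cfsg.Omega F Q)) :
    ∃ s' : ↥(Cfsg.Omega F Q), autPO Q g (QuotientGroup.mk s) = QuotientGroup.mk s' ∧
      ((s' : ↥(Cfsg.isometryGroup F Q)) : GL ι F) = g.1 * (s.1 : GL ι F) * g.1⁻¹ :=
  ⟨MulAut.characteristic (Cfsg.Omega F Q) (conjOHom Q g) s, rfl, rfl⟩

theorem Omega_ext {s t : ↥(Cfsg.Omega F Q)}
    (h : (((s : ↥(Cfsg.isometryGroup F Q)) : GL ι F) : Matrix ι ι F) =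
      (((t : ↥(Cfsg.isometryGroup F Q)) : GL ι F) : Matrix ι ι F)) : s = t :=
  Subtype.ext (Subtype.ext (Units.ext h))

/-- the predicate of the definitions is the graph of `autPO` -/
theorem isInduced_iff (g : GL ι F) (hg : g ∈ Cfsg.Geo.quadSimilarityGroup (F := F) Q)
    (β : Cfsg.POmega F Q ≃* Cfsg.POmega F Q) :
    Cfsg.IsInducedBySemilinearPOmega Q g (RingEquiv.refl F) β ↔ β = autPO Q ⟨g, hg⟩ := by
  constructor
  · intro h
    ext x
    induction x using QuotientGroup.induction_on with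
    | H s =>
      obtain ⟨s', hs', hv⟩ := autPO_mk_val Q ⟨g, hg⟩ s
      rw [hs']
      apply h s s'
      rw [hv]
      simp
  · rintro rfl s s' hss'
    obtain ⟨s'', hs'', hv⟩ := autPO_mk_val Q ⟨g, hg⟩ s
    rw [hs'']
    congr 1
    apply Omega_ext
    rw [hss', hv]
    simp

theorem pgoAut_eq : Cfsg.pgoAut F Q = (autPO Q).range := by
  unfold Cfsg.pgoAut Cfsg.autSubgroupOf
  have : {β : MulAut (Cfsg.POmega F Q) | Cfsg.IsSimilarityInducedAutPOmega Q β} =
      ((autPO Q).range : Set (MulAut (Cfsg.POmega F Q))) := by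
    ext β
    constructor
    · rintro ⟨g, hg, h⟩
      exact ⟨⟨g, hg⟩, ((isInduced_iff Q g hg β).mp h).symm⟩
    · rintro ⟨g, rfl⟩
      exact ⟨g.1, g.2, (isInduced_iff Q g.1 g.2 _).mpr rfl⟩
  rw [this, Subgroup.closure_eq]

/-- the action of the isometry group on `PΩ` -/
def autO : ↥(Cfsg.isometryGroup F Q) →* MulAut (Cfsg.POmega F Q) :=
  (autPO Q).comp (Subgroup.inclusion (isometryGroup_le_similarity Q))

theorem autO_apply (g : ↥(Cfsg.isometryGroup F Q)) :
    autO Q g = autPO Q ⟨g.1, isometryGroup_le_similarity Q g.2⟩ := rfl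

theorem autO_mk_val (g : ↥(Cfsg.isometryGroup F Q)) (s : ↥(Cfsg.Omega F Q)) :
    ∃ s' : ↥(Cfsg.Omega F Q), autO Q g (QuotientGroup.mk s) = QuotientGroup.mk s' ∧
      (s' : ↥(Cfsg.isometryGroup F Q)) = g * (s : ↥(Cfsg.isometryGroup F Q)) * g⁻¹ := by
  obtain ⟨s', h1, h2⟩ := autPO_mk_val Q ⟨g.1, isometryGroup_le_similarity Q g.2⟩ s
  exact ⟨s', h1, Subtype.ext h2⟩

theorem poAut_eq : Cfsg.poAut F Q = (autO Q).range := by
  unfold Cfsg.poAut Cfsg.autSubgroupOf
  have : {β : MulAut (Cfsg.POmega F Q) | Cfsg.IsIsometryInducedAutPOmega Q β} =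
      ((autO Q).range : Set (MulAut (Cfsg.POmega F Q))) := by
    ext β
    constructor
    · rintro ⟨g, hg, h⟩
      exact ⟨⟨g, hg⟩, ((isInduced_iff Q g (isometryGroup_le_similarity Q hg) β).mp h).symm⟩
    · rintro ⟨g, rfl⟩
      exact ⟨g.1, g.2, (isInduced_iff Q g.1 (isometryGroup_le_similarity Q g.2) _).mpr rfl⟩
  rw [this, Subgroup.closure_eq]

theorem mem_specialIsometryGroup_iff (g : ↥(Cfsg.isometryGroup F Q)) :
    g ∈ Cfsg.specialIsometryGroup F Q ↔ (g : GL ι F) ∈ Cfsg.specialIsometryGL F Q := by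
  unfold Cfsg.specialIsometryGroup Cfsg.specialIsometryGL Cfsg.Geo.specialLinear
  rw [MonoidHom.mem_ker, Subgroup.mem_inf, MonoidHom.mem_ker]
  constructor
  · intro h; exact ⟨g.2, h⟩
  · intro h; exact h.2

theorem psoAut_eq : Cfsg.psoAut F Q = (Cfsg.specialIsometryGroup F Q).map (autO Q) := by
  unfold Cfsg.psoAut Cfsg.autSubgroupOf
  have : {β : MulAut (Cfsg.POmega F Q) | Cfsg.IsSpecialIsometryInducedAutPOmega Q β} =
      (((Cfsg.specialIsometryGroup F Q).map (autO Q) : Subgroup (MulAut (Cfsg.POmega F Q))) :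
        Set (MulAut (Cfsg.POmega F Q))) := by
    ext β
    constructor
    · rintro ⟨g, hg, h⟩
      have hgO : g ∈ Cfsg.isometryGroup F Q := hg.1
      refine ⟨⟨g, hgO⟩, (mem_specialIsometryGroup_iff Q _).mpr hg, ?_⟩
      exact ((isInduced_iff Q g (isometryGroup_le_similarity Q hgO) β).mp h).symm
    · rintro ⟨g, hg, rfl⟩
      exact ⟨g.1, (mem_specialIsometryGroup_iff Q g).mp hg,
        (isInduced_iff Q g.1 (isometryGroup_le_similarity Q g.2) _).mpr rfl⟩
  rw [this, Subgroup.closure_eq]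

theorem autO_of_mem_Omega (s : ↥(Cfsg.Omega F Q)) :
    autO Q (s : ↥(Cfsg.isometryGroup F Q)) = MulAut.conj (QuotientGroup.mk s : Cfsg.POmega F Q) := by
  ext x
  induction x using QuotientGroup.induction_on with
  | H t =>
    obtain ⟨s', h1, h2⟩ := autO_mk_val Q (s : ↥(Cfsg.isometryGroup F Q)) t
    rw [h1, MulAut.conj_apply, ← QuotientGroup.mk_mul, ← QuotientGroup.mk_inv,
      ← QuotientGroup.mk_mul]
    congr 1
    apply Subtype.ext
    rw [h2]
    rfl

theorem inn_eq : Cfsg.Inn (Cfsg.POmega F Q) = (Cfsg.Omega F Q).map (autO Q) := by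
  ext β
  constructor
  · rintro ⟨x, rfl⟩
    induction x using QuotientGroup.induction_on with
    | H s => exact ⟨s.1, s.2, autO_of_mem_Omega Q s⟩
  · rintro ⟨g, hg, rfl⟩
    exact ⟨QuotientGroup.mk ⟨g, hg⟩, (autO_of_mem_Omega Q ⟨g, hg⟩).symm⟩

end conj

end Cfsg.Agent.Lib.Helper08
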