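import Cfsg.Agent.Lib.Helper08.SimilarityMult
import Cfsg.Agent.Lib.Helper66.DihedralIso

set_option autoImplicit false

/-! The quotient of the image of the similarity group in `Aut(PΩ)` by `Inn(PΩ)`
(even dimension, `q` odd): a four-group or dihedral of order eight. -/

namespace Cfsg.Agent.Lib.Helper08

open Matrix Cfsg.Agent.Lib.Helper19 Cfsg.Agent.Lib.Helper43

universe u

section grp

/-- a quotient of order eight generated by two involutions whose product has order four is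
dihedral -/
theorem exists_hom_dihedral_four {G : Type*} [Group G] (N : Subgroup G) [N.Normal]
    (hidx : N.index = 8) (x y : G) (hx : x * x ∈ N) (hy : y * y ∈ N) (hx1 : x ∉ N) (hy1 : y ∉ N)
    (hxy : (x * y) * (x * y) ∉ N) :
    ∃ ψ : G →* DihedralGroup 4, Function.Surjective ψ ∧ ψ.ker = N := by
  have hcard : Nat.card (G ⧸ N) = 8 := by rw [← Subgroup.index_eq_card, hidx]
  have : Finite (G ⧸ N) := Nat.finite_of_card_ne_zero (by rw [hcard]; norm_num)
  set X : G ⧸ N := QuotientGroup.mk x with hX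
  set Y : G ⧸ N := QuotientGroup.mk y with hY
  have hXX : X * X = 1 := by
    rw [hX, ← QuotientGroup.mk_mul, QuotientGroup.eq_one_iff]; exact hx
  have hYY : Y * Y = 1 := by
    rw [hY, ← QuotientGroup.mk_mul, QuotientGroup.eq_one_iff]; exact hy
  have hX1 : X ≠ 1 := by
    rw [hX, Ne, QuotientGroup.eq_one_iff]; exact hx1
  have hY1 : Y ≠ 1 := by
    rw [hY, Ne, QuotientGroup.eq_one_iff]; exact hy1
  have hoX : orderOf X = 2 := orderOf_eq_prime (by rw [pow_two]; exact hXX) hX1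
  have hoY : orderOf Y = 2 := orderOf_eq_prime (by rw [pow_two]; exact hYY) hY1
  have hXY2 : (X * Y) ^ 2 ≠ 1 := by
    rw [pow_two, hX, hY, ← QuotientGroup.mk_mul, ← QuotientGroup.mk_mul, Ne,
      QuotientGroup.eq_one_iff]
    exact hxy
  have hcl := Cfsg.Agent.Lib.Helper66.card_closure_pair hoX hoY
  have hdvd : 2 * orderOf (X * Y) ∣ 8 := by
    rw [← hcl, ← hcard]
    exact Subgroup.card_subgroup_dvd_card _
  have ho4 : orderOf (X * Y) = 4 := by
    have h1 : orderOf (X * Y) ∣ 4 := by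
      have : 2 * orderOf (X * Y) ∣ 2 * 4 := hdvd
      exact (Nat.mul_dvd_mul_iff_left (by norm_num)).mp this
    have h2 : ¬ orderOf (X * Y) ∣ 2 := fun h => hXY2 (orderOf_dvd_iff_pow_eq_one.mp h)
    have h3 : orderOf (X * Y) ≤ 4 := Nat.le_of_dvd (by norm_num) h1
    interval_cases h : orderOf (X * Y) <;> simp_all
  have htop : Subgroup.closure ({X, Y} : Set (G ⧸ N)) = ⊤ := by
    apply Subgroup.eq_top_of_card_eq
    rw [hcl, ho4, hcard]
  obtain ⟨e⟩ := Cfsg.Agent.Lib.Helper66.nonempty_equiv_dihedral_of_closure_eq_top hoX hoY htop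
  rw [ho4] at e
  refine ⟨e.toMonoidHom.comp (QuotientGroup.mk' N), ?_, ?_⟩
  · exact e.surjective.comp (QuotientGroup.mk'_surjective N)
  · ext g
    simp only [MonoidHom.mem_ker, MonoidHom.comp_apply, MulEquiv.coe_toMonoidHom,
      EmbeddingLike.map_eq_one_iff, QuotientGroup.mk'_apply, QuotientGroup.eq_one_iff]

end grp

section conc

variable {F : Type u} [Field F] [Fintype F] [DecidableEq F] {ι : Type} [Fintype ι] [DecidableEq ι]
variable (Q : QuadraticForm F (ι → F))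

omit [Fintype F] [DecidableEq F] in
/-- `A R_u = R_{Au} A` for a similarity `A` -/
theorem similarity_mul_reflection (g : ↥(Cfsg.Geo.quadSimilarityGroup (F := F) ⇑Q)) (u : ι → F) :
    ((g : GL ι F) : Matrix ι ι F) * Cfsg.reflectionMatrix (⇑Q) u =
      Cfsg.reflectionMatrix (⇑Q) (((g : GL ι F) : Matrix ι ι F) *ᵥ u) *
        ((g : GL ι F) : Matrix ι ι F) := by
  have hμ : (multFun Q g : F) ≠ 0 := Units.ne_zero _
  apply Matrix.toLin'.injective
  apply LinearMap.ext
  intro x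
  simp only [Matrix.toLin'_apply, ← Matrix.mulVec_mulVec, reflectionMatrix_mulVec,
    Matrix.mulVec_sub, Matrix.mulVec_smul, multFun_spec, polar_similarity]
  congr 2
  rw [mul_inv, mul_mul_mul_comm, inv_mul_cancel₀ hμ, one_mul]

/-- the image of the similarity group modulo the inner automorphisms -/
theorem pgoAut_mod_inn (m : ℕ) (h2 : (2 : F) ≠ 0)
    (hQ : (QuadraticMap.polarBilin Q).Nondegenerate)
    (hcard : Fintype.card ι = 2 * m) (e f : Fin 3 → ι → F) (HT : HypTriple Q e f)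
    (g0 : ↥(Cfsg.Geo.quadSimilarityGroup (F := F) ⇑Q)) (hg0 : ¬ IsSquare (multFun Q g0 : F))
    (hsq : ∃ a : F, ((g0 : GL ι F) : Matrix ι ι F) * ((g0 : GL ι F) : Matrix ι ι F) = a • 1) :
    ((∃ g : ↥(Cfsg.isometryGroup F ⇑Q), g ∈ Cfsg.Omega F ⇑Q ∧
        ((g : GL ι F) : Matrix ι ι F) = -1) →
      ∃ φ : ↥(Cfsg.pgoAut F ⇑Q) →* DihedralGroup 4, Function.Surjective φ ∧
        φ.ker = (Cfsg.Inn (Cfsg.POmega F ⇑Q)).subgroupOf (Cfsg.pgoAut F ⇑Q)) ∧
    ((¬ ∃ g : ↥(Cfsg.isometryGroup F ⇑Q), g ∈ Cfsg.Omega F ⇑Q ∧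
        ((g : GL ι F) : Matrix ι ι F) = -1) →
      ∃ φ : ↥(Cfsg.pgoAut F ⇑Q) →* Multiplicative (ZMod 2 × ZMod 2), Function.Surjective φ ∧
        φ.ker = (Cfsg.Inn (Cfsg.POmega F ⇑Q)).subgroupOf (Cfsg.pgoAut F ⇑Q)) := by
  have heven : Even (Fintype.card ι) := ⟨m, by rw [hcard]; ring⟩
  have hle : Cfsg.Inn (Cfsg.POmega F ⇑Q) ≤ Cfsg.psoAut F ⇑Q := by
    rw [inn_eq, psoAut_eq]; exact Subgroup.map_mono (Omega_le_SO Q)
  constructor
  · rintro ⟨gm, hgmΩ, hgmv⟩
    have RP := reflPairs_of_two_ne_zero Q h2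
    have hu : Q (e 0 + f 0) = 1 := by
      rw [QuadraticMap.map_add (⇑Q), HT.qe, HT.qf, HT.ef]; simp
    obtain ⟨v, hv⟩ : ∃ v, v = e 0 + f 0 := ⟨_, rfl⟩
    rw [← hv] at hu
    obtain ⟨c, hc⟩ : ∃ c, c = autPO (⇑Q) := ⟨_, rfl⟩
    obtain ⟨N, hN⟩ : ∃ N, N = (Cfsg.Inn (Cfsg.POmega F ⇑Q)).comap c := ⟨_, rfl⟩
    obtain ⟨B, hB⟩ : ∃ B, B = (Cfsg.Omega F ⇑Q).map (inclGO Q) := ⟨_, rfl⟩
    have hBc : B.map c = Cfsg.Inn (Cfsg.POmega F ⇑Q) := by
      rw [hB, Subgroup.map_map, inn_eq, hc]; rfl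
    have hNeq : N = B ⊔ c.ker := by rw [hN, ← hBc, Subgroup.comap_map_eq]
    have hNn : N.Normal := by rw [hN]; infer_instance
    obtain ⟨ψ₀, hψ₀⟩ : ∃ ψ₀, ψ₀ = psiGO Q hu m h2 hQ hcard := ⟨_, rfl⟩
    have hK : ψ₀.ker = (Cfsg.specialIsometryGroup F ⇑Q).map (inclGO Q) ⊔ c.ker := by
      rw [hψ₀, hc]; exact psiGO_ker_le Q hu m h2 hQ hcard e f HT
    have hNK : N ≤ ψ₀.ker := by
      rw [hNeq, hK, hB]; exact sup_le_sup_right (Subgroup.map_mono (Omega_le_SO Q)) _
    have hKmap : ψ₀.ker.map c = Cfsg.psoAut F ⇑Q := by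
      rw [hK, Subgroup.map_sup, Subgroup.map_map, psoAut_eq,
        (Subgroup.map_eq_bot_iff _).mpr (le_refl c.ker), sup_bot_eq, hc]
      rfl
    have hsurj : Function.Surjective ψ₀ := by
      rw [hψ₀]; exact psiGO_surjective Q hu m h2 hQ hcard g0 hg0
    have hKidx : ψ₀.ker.index = 4 := by
      rw [Subgroup.index_ker, MonoidHom.range_eq_top.mpr hsurj,
        Nat.card_congr (Subgroup.topEquiv (G := ℤˣ × ℤˣ)).toEquiv, Nat.card_prod]
      simp
    have hrel : N.relIndex ψ₀.ker = 2 := by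
      rw [hN, Subgroup.relIndex_comap, hKmap]
      exact (relIndex_inn_psoAut Q h2 hQ e f HT heven).1 ⟨gm, hgmΩ, hgmv⟩
    have hidx : N.index = 8 := by
      rw [← Subgroup.relIndex_mul_index hNK, hrel, hKidx]
    have hkerΩ : (autO (⇑Q)).ker ≤ Cfsg.Omega F ⇑Q := by
      intro k hk
      rw [MonoidHom.mem_ker, autO_eq_one_iff Q hQ h2 e f HT RP] at hk
      rcases hk with h1 | h1
      · have : k = 1 := Subtype.ext (Units.ext h1)
        rw [this]; exact one_mem _
      · have : k = gm := Subtype.ext (Units.ext (h1.trans hgmv.symm))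
        rw [this]; exact hgmΩ
    have hmemN : ∀ h : ↥(Cfsg.isometryGroup F ⇑Q), inclGO Q h ∈ N ↔ h ∈ Cfsg.Omega F ⇑Q := by
      intro h
      rw [hN, Subgroup.mem_comap, hc]
      change autO (⇑Q) h ∈ Cfsg.Inn _ ↔ _
      rw [inn_eq, ← Subgroup.mem_comap, Subgroup.comap_map_eq, sup_eq_left.mpr hkerΩ]
    have hkerN : c.ker ≤ N := by rw [hNeq]; exact le_sup_right
    have hz : g0 * g0 ∈ c.ker := by
      rw [MonoidHom.mem_ker, hc, autPO_eq_one_iff Q hQ h2 e f HT RP]
      obtain ⟨a, ha⟩ := hsq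
      exact ⟨a, by rw [Subgroup.coe_mul, Units.val_mul]; exact ha⟩
    have hx : g0 * g0 ∈ N := hkerN hz
    have hx1 : g0 ∉ N := fun h => by
      have h3 := hNK h
      rw [MonoidHom.mem_ker, hψ₀, psiGO_eq_one_iff] at h3
      exact hg0 h3.1
    have hv0 : Q v ≠ 0 := by rw [hu]; exact one_ne_zero
    obtain ⟨r, hr⟩ : ∃ r, r = Cfsg.Agent.Lib.Helper50.reflO Q v := ⟨_, rfl⟩
    have hrv : ((r : GL ι F) : Matrix ι ι F) = Cfsg.reflectionMatrix (⇑Q) v := by
      rw [hr]; exact Cfsg.Agent.Lib.Helper50.reflO_val Q v hv0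
    have hrr : r * r = 1 := by
      apply Subtype.ext; apply Units.ext
      rw [Subgroup.coe_mul, Units.val_mul, hrv,
        Cfsg.Agent.Lib.Helper50.reflectionMatrix_mul_self Q v hv0]
      rfl
    have hy : inclGO Q r * inclGO Q r ∈ N := by
      rw [← map_mul, hrr, map_one]; exact one_mem _
    have hy1 : inclGO Q r ∉ N := by
      rw [hmemN]
      intro h
      have h3 := (mem_SO_iff_det Q r).mp (Omega_le_SO Q h)
      rw [hrv, reflectionMatrix_det Q v hv0] at h3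
      apply h2
      linear_combination -h3
    obtain ⟨w, hw⟩ : ∃ w, w = ((g0 : GL ι F) : Matrix ι ι F) *ᵥ v := ⟨_, rfl⟩
    have hQw : Q w = (multFun Q g0 : F) := by rw [hw, multFun_spec, hu, mul_one]
    have hw0 : Q w ≠ 0 := by rw [hQw]; exact Units.ne_zero _
    obtain ⟨r', hr'⟩ : ∃ r', r' = Cfsg.Agent.Lib.Helper50.reflO Q w := ⟨_, rfl⟩
    have hrw : ((r' : GL ι F) : Matrix ι ι F) = Cfsg.reflectionMatrix (⇑Q) w := by
      rw [hr']; exact Cfsg.Agent.Lib.Helper50.reflO_val Q w hw0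
    have hcomm : g0 * inclGO Q r = inclGO Q r' * g0 := by
      apply Subtype.ext; apply Units.ext
      simp only [Subgroup.coe_mul, Units.val_mul, inclGO_val]
      rw [hrv, hrw, hw]
      exact similarity_mul_reflection Q g0 v
    have hxy : (g0 * inclGO Q r) * (g0 * inclGO Q r) ∉ N := by
      intro h
      have e1 : (g0 * inclGO Q r) * (g0 * inclGO Q r) =
          (inclGO Q r' * (g0 * g0) * (inclGO Q r')⁻¹) * inclGO Q (r' * r) := by
        rw [map_mul]
        nth_rewrite 1 [hcomm]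
        group
      rw [e1] at h
      have h5 : inclGO Q r' * (g0 * g0) * (inclGO Q r')⁻¹ ∈ N := hNn.conj_mem _ hx _
      have h6 := (Subgroup.mul_mem_cancel_left N h5).mp h
      rw [hmemN] at h6
      have h7 := (Cfsg.Agent.Lib.Helper50.spinor_criterion h2 Q (r' * r) [w, v]
        (by
          intro z hz
          simp only [List.mem_cons, List.not_mem_nil, or_false] at hz
          rcases hz with rfl | rfl
          · exact hw0
          · exact hv0)
        (by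
          rw [Subgroup.coe_mul, Units.val_mul, hrv, hrw]
          simp)).mp h6
      apply hg0
      have h8 := h7.2
      simp only [List.map_cons, List.map_nil, List.prod_cons, List.prod_nil, hQw, hu,
        mul_one] at h8
      exact h8
    obtain ⟨ψ, hψs, hψk⟩ := exists_hom_dihedral_four N hidx g0 (inclGO Q r) hx hy hx1 hy1 hxy
    obtain ⟨φ, hφs, hφk⟩ := exists_hom_range c ψ hψs B (by rw [hψk, hNeq])
    have hfin : ∀ (P I : Subgroup (MulAut (Cfsg.POmega F ⇑Q))), P = c.range → I = B.map c →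
        ∃ φ : ↥P →* DihedralGroup 4, Function.Surjective φ ∧ φ.ker = I.subgroupOf P := by
      rintro P I rfl rfl
      exact ⟨φ, hφs, hφk⟩
    exact hfin _ _ (by rw [pgoAut_eq, hc]) hBc.symm
  · intro hno
    have hrel := (relIndex_inn_psoAut Q h2 hQ e f HT heven).2 hno
    have heq : Cfsg.psoAut F ⇑Q = Cfsg.Inn (Cfsg.POmega F ⇑Q) :=
      le_antisymm (Subgroup.relIndex_eq_one.mp hrel) hle
    have hfin : ∀ I : Subgroup (MulAut (Cfsg.POmega F ⇑Q)), Cfsg.psoAut F ⇑Q = I →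
        ∃ φ : ↥(Cfsg.pgoAut F ⇑Q) →* Multiplicative (ZMod 2 × ZMod 2), Function.Surjective φ ∧
          φ.ker = I.subgroupOf (Cfsg.pgoAut F ⇑Q) := by
      rintro I rfl
      exact pgoAut_mod_psoAut Q m h2 hQ hcard e f HT g0 hg0
    exact hfin _ heq

end conc

end Cfsg.Agent.Lib.Helper08
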