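import Cfsg.Agent.Lib.Helper08.OmegaCenterCard

set_option autoImplicit false

/-! A linear endomorphism commuting with the squares of the elements of `Ω(Q)` is a scalar
(odd characteristic, three hyperbolic pairs). This covers similarities inducing the trivial
automorphism of `PΩ`. -/

namespace Cfsg.Agent.Lib.Helper08

open Cfsg.Agent.Lib.Helper19 Cfsg.Agent.Lib.Helper43

section centsq

variable {F : Type*} [Field F] {ι : Type} [Fintype ι] [DecidableEq ι]
variable (Q : QuadraticForm F (ι → F))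

/-- commuting with the squares of the elements of `Ω` -/
def CentSq (Z : Module.End F (ι → F)) : Prop :=
  ∀ g : ↥(Cfsg.isometryGroup F ⇑Q), g ∈ Cfsg.Omega F ⇑Q →
    Z ∘ₗ linOf Q (g * g) = linOf Q (g * g) ∘ₗ Z

variable {Q}

theorem CentSq.conj {Z : Module.End F (ι → F)} (hZ : CentSq Q Z)
    (h : ↥(Cfsg.isometryGroup F ⇑Q)) : CentSq Q (linOf Q h⁻¹ ∘ₗ Z ∘ₗ linOf Q h) := by
  intro g hg
  have hn : h * g * h⁻¹ ∈ Cfsg.Omega F ⇑Q :=
    (inferInstance : (Cfsg.Omega F ⇑Q).Normal).conj_mem g hg h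
  have h1 := hZ _ hn
  have e1 : h * (g * g) = (h * g * h⁻¹) * (h * g * h⁻¹) * h := by group
  have e2 : h⁻¹ * ((h * g * h⁻¹) * (h * g * h⁻¹)) = (g * g) * h⁻¹ := by group
  calc (linOf Q h⁻¹ ∘ₗ Z ∘ₗ linOf Q h) ∘ₗ linOf Q (g * g)
      = linOf Q h⁻¹ ∘ₗ Z ∘ₗ linOf Q (h * (g * g)) := by
        rw [linOf_mul Q h (g * g)]; rfl
    _ = linOf Q h⁻¹ ∘ₗ (Z ∘ₗ linOf Q ((h * g * h⁻¹) * (h * g * h⁻¹))) ∘ₗ linOf Q h := by
        rw [e1, linOf_mul Q _ h]; rfl
    _ = linOf Q h⁻¹ ∘ₗ (linOf Q ((h * g * h⁻¹) * (h * g * h⁻¹)) ∘ₗ Z) ∘ₗ linOf Q h := by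
        rw [h1]
    _ = linOf Q (h⁻¹ * ((h * g * h⁻¹) * (h * g * h⁻¹))) ∘ₗ Z ∘ₗ linOf Q h := by
        rw [linOf_mul Q h⁻¹]; rfl
    _ = linOf Q (g * g) ∘ₗ (linOf Q h⁻¹ ∘ₗ Z ∘ₗ linOf Q h) := by
        rw [e2, linOf_mul Q (g * g) h⁻¹]; rfl

variable (Q)

/-- the square of the Eichler transformation with half parameter -/
theorem eichler_half_sq (h2 : (2 : F) ≠ 0) (u w x : ι → F) (hu : Q u = 1) (hw : Q w = 0)
    (huw : QuadraticMap.polar (⇑Q) u w = 0) :
    reflLin Q u (reflLin Q (u + (2 : F)⁻¹ • w)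
      (reflLin Q u (reflLin Q (u + (2 : F)⁻¹ • w) x))) =
      reflLin Q u (reflLin Q (u + w) x) := by
  have hw' : Q ((2 : F)⁻¹ • w) = 0 := by
    rw [QuadraticMap.map_smul, hw, smul_zero]
  have huw' : QuadraticMap.polar (⇑Q) u ((2 : F)⁻¹ • w) = 0 := by
    rw [QuadraticMap.polar_smul_right, huw, smul_zero]
  have hww : QuadraticMap.polar (⇑Q) w w = 0 := by
    rw [QuadraticMap.polar_self, hw]; simp
  have huu : QuadraticMap.polar (⇑Q) u u = 2 := by
    rw [QuadraticMap.polar_self, hu]; simp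
  have hwu : QuadraticMap.polar (⇑Q) w u = 0 := by
    rw [QuadraticMap.polar_comm]; exact huw
  rw [eichler_apply Q u ((2 : F)⁻¹ • w) x hu hw' huw', eichler_apply Q u ((2 : F)⁻¹ • w) _ hu hw' huw',
    eichler_apply Q u w x hu hw huw]
  simp only [QuadraticMap.polar_smul_left, QuadraticMap.polar_smul_right,
    QuadraticMap.polar_add_right, QuadraticMap.polar_sub_right, hww, huu, huw, hwu, smul_eq_mul,
    mul_zero, add_zero, sub_zero, zero_add]
  have h22 : (2 : F)⁻¹ * 2 = 1 := inv_mul_cancel₀ h2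
  match_scalars <;> field_simp <;> ring

variable {Q}

theorem coreSq (h2 : (2 : F) ≠ 0) (e f : Fin 3 → ι → F) (HT : HypTriple Q e f) (RP : ReflPairs Q)
    (Z : Module.End F (ι → F)) (hz : CentSq Q Z) :
    ∃ β : F, Z (e 0) = β • e 0 := by
  have key : ∀ i : Fin 3, i ≠ 0 →
      ∃ α β : F, Z (e 0) = α • (e i + f i) + β • e 0 := by
    intro i hi
    have hi' : ¬ (0 : Fin 3) = i := fun h => hi h.symm
    have hu : Q (e i + f i) = 1 := by
      rw [QuadraticMap.map_add (⇑Q), HT.qe, HT.qf, HT.ef]; simp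
    have hw : Q (e 0) = 0 := HT.qe 0
    have huw : QuadraticMap.polar (⇑Q) (e i + f i) (e 0) = 0 := by
      rw [QuadraticMap.polar_add_left, HT.ee, HT.fe, if_neg hi, add_zero]
    have hQ2 : Q (e i + f i + (2 : F)⁻¹ • e 0) = Q (e i + f i) := by
      rw [QuadraticMap.map_add (⇑Q) (e i + f i), QuadraticMap.map_smul, hw,
        QuadraticMap.polar_smul_right, huw]
      simp
    obtain ⟨g, hg, hgl⟩ := RP (e i + f i) (e i + f i + (2 : F)⁻¹ • e 0)
      (by rw [hu]; exact one_ne_zero) hQ2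
    have hcomm := hz g hg
    have hZ : ∀ x, Z (reflLin Q (e i + f i) (reflLin Q (e i + f i + e 0) x)) =
        reflLin Q (e i + f i) (reflLin Q (e i + f i + e 0) (Z x)) := by
      intro x
      have h1 := LinearMap.congr_fun hcomm x
      rw [linOf_mul, hgl] at h1
      simp only [LinearMap.comp_apply] at h1
      rw [eichler_half_sq Q h2 _ _ x hu hw huw, eichler_half_sq Q h2 _ _ (Z x) hu hw huw] at h1
      exact h1
    have hx1 : QuadraticMap.polar (⇑Q) (e 0) (-(e i)) = 0 := by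
      rw [QuadraticMap.polar_neg_right, HT.ee, neg_zero]
    have hx2 : QuadraticMap.polar (⇑Q) (e i + f i) (-(e i)) = -1 := by
      rw [QuadraticMap.polar_neg_right, QuadraticMap.polar_add_left, HT.ee, HT.fe, if_pos rfl,
        zero_add]
    have := plane_of_commute Q Z (e i + f i) (e 0) (-(e i)) hu hw huw hx1 hx2 hZ
    rw [this, sub_eq_add_neg, ← neg_smul]
    exact ⟨_, _, rfl⟩
  obtain ⟨α, β, h1⟩ := key 1 (by decide)
  obtain ⟨α', β', h2'⟩ := key 2 (by decide)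
  have hα : α = 0 := by
    have h3 := congrArg (fun v => QuadraticMap.polar (⇑Q) (e 1) v) (h1.symm.trans h2')
    simp only [QuadraticMap.polar_add_right, QuadraticMap.polar_smul_right, HT.ee, HT.ef,
      smul_eq_mul] at h3
    simpa using h3
  exact ⟨β, by rw [h1, hα, zero_smul, zero_add]⟩

theorem line_of_singular_sq (hQ : (QuadraticMap.polarBilin Q).Nondegenerate) (h2 : (2 : F) ≠ 0)
    (e f : Fin 3 → ι → F) (HT : HypTriple Q e f) (RP : ReflPairs Q)
    (Z : Module.End F (ι → F)) (hz : CentSq Q Z) (w : ι → F) (hw : Q w = 0)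
    (hw0 : w ≠ 0) : ∃ β : F, Z w = β • w := by
  have he0 : e 0 ≠ 0 := by
    intro h
    have h1 := HT.ef 0 0
    rw [h, QuadraticMap.polar_zero_left] at h1
    simp at h1
  obtain ⟨σ, hσ, -, hσe⟩ := exists_isometry_fix_hyperplane Q hQ ⊥ (e 0) w
    (by simpa using he0) (by simpa using hw0) (by rw [hw, HT.qe]) (by
      intro h hh
      rw [(Submodule.mem_bot F).1 hh]
      simp)
  obtain ⟨s, hs⟩ := exists_ofLin Q hQ σ hσ
  obtain ⟨β, hβ⟩ := coreSq h2 e f HT RP _ (hz.conj s)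
  refine ⟨β, ?_⟩
  simp only [LinearMap.comp_apply] at hβ
  have h1 := congrArg (linOf Q s) hβ
  rw [← LinearMap.comp_apply, ← linOf_mul, mul_inv_cancel, linOf_one, LinearMap.id_apply,
    map_smul, hs, hσe] at h1
  exact h1

/-- an endomorphism commuting with the squares of `Ω` is a scalar -/
theorem scalar_of_centSq (hQ : (QuadraticMap.polarBilin Q).Nondegenerate) (h2 : (2 : F) ≠ 0)
    (e f : Fin 3 → ι → F) (HT : HypTriple Q e f) (RP : ReflPairs Q)
    (Z : Module.End F (ι → F)) (hz : CentSq Q Z) :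
    ∃ c : F, ∀ v, Z v = c • v :=
  scalar_of_lines e f HT Z (fun w hw hw0 => line_of_singular_sq hQ h2 e f HT RP Z hz w hw hw0)

end centsq

end Cfsg.Agent.Lib.Helper08
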