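import Cfsg.Agent.Lib.Helper08.AutOmega
import Cfsg.Agent.Lib.Helper08.OmegaCentSq
import Cfsg.Agent.Lib.Helper08.POmegaIso

set_option autoImplicit false

/-! The kernel of the action of the similarity group on `PΩ` consists of the scalars; the index
of `Inn(PΩ)` in the image of `SO`. -/

namespace Cfsg.Agent.Lib.Helper08

open Matrix Cfsg.Agent.Lib.Helper19 Cfsg.Agent.Lib.Helper43

universe u

section ker

variable {F : Type u} [Field F] {ι : Type} [Fintype ι] [DecidableEq ι]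
variable (Q : QuadraticForm F (ι → F))

theorem centSq_of_autPO_eq_one (hQ : (QuadraticMap.polarBilin Q).Nondegenerate)
    (e f : Fin 3 → ι → F) (HT : HypTriple Q e f) (RP : ReflPairs Q)
    (g : ↥(Cfsg.Geo.quadSimilarityGroup (F := F) ⇑Q)) (hg : autPO (⇑Q) g = 1) :
    CentSq Q (Matrix.toLin' ((g : GL ι F) : Matrix ι ι F)) := by
  intro s hs
  obtain ⟨s', h1, h2⟩ := autPO_mk_val (⇑Q) g ⟨s, hs⟩
  rw [hg, MulAut.one_apply] at h1
  have hc : (⟨s, hs⟩ : ↥(Cfsg.Omega F ⇑Q))⁻¹ * s' ∈ Subgroup.center ↥(Cfsg.Omega F ⇑Q) :=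
    QuotientGroup.eq.mp h1
  -- the group element `k = s⁻¹ * (g s g⁻¹)` has matrix `±1`
  have hk := center_omVal hQ e f HT RP _ hc
  have hkval : omVal ((⟨s, hs⟩ : ↥(Cfsg.Omega F ⇑Q))⁻¹ * s') =
      (((s : GL ι F)⁻¹ * ((g : GL ι F) * (s : GL ι F) * (g : GL ι F)⁻¹) : GL ι F) :
        Matrix ι ι F) := by
    unfold omVal
    rw [← h2]
    rfl
  rw [hkval] at hk
  have hgs : ((g : GL ι F) * (s : GL ι F) : GL ι F) =
      (s : GL ι F) * ((s : GL ι F)⁻¹ * ((g : GL ι F) * (s : GL ι F) * (g : GL ι F)⁻¹)) *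
        (g : GL ι F) := by group
  have hGS : ((g : GL ι F) : Matrix ι ι F) * ((s : GL ι F) : Matrix ι ι F) =
      ((s : GL ι F) : Matrix ι ι F) * ((g : GL ι F) : Matrix ι ι F) ∨
      ((g : GL ι F) : Matrix ι ι F) * ((s : GL ι F) : Matrix ι ι F) =
      -(((s : GL ι F) : Matrix ι ι F) * ((g : GL ι F) : Matrix ι ι F)) := by
    have h3 := congrArg (fun x : GL ι F => (x : Matrix ι ι F)) hgs
    simp only [Units.val_mul] at h3 hk
    rcases hk with hk | hk
    · left; rw [h3, hk, Matrix.mul_one]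
    · right; rw [h3, hk]; simp
  have hfin : ((g : GL ι F) : Matrix ι ι F) *
      (((s : GL ι F) : Matrix ι ι F) * ((s : GL ι F) : Matrix ι ι F)) =
      (((s : GL ι F) : Matrix ι ι F) * ((s : GL ι F) : Matrix ι ι F)) *
        ((g : GL ι F) : Matrix ι ι F) := by
    rcases hGS with h | h
    · rw [← Matrix.mul_assoc, h, Matrix.mul_assoc, h, Matrix.mul_assoc]
    · rw [← Matrix.mul_assoc, h, Matrix.neg_mul, Matrix.mul_assoc, h, Matrix.mul_neg, neg_neg,
        Matrix.mul_assoc]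
  unfold linOf
  rw [← Matrix.toLin'_mul, ← Matrix.toLin'_mul]
  congr 1

theorem autPO_eq_one_iff (hQ : (QuadraticMap.polarBilin Q).Nondegenerate) (h2 : (2 : F) ≠ 0)
    (e f : Fin 3 → ι → F) (HT : HypTriple Q e f) (RP : ReflPairs Q)
    (g : ↥(Cfsg.Geo.quadSimilarityGroup (F := F) ⇑Q)) :
    autPO (⇑Q) g = 1 ↔ ∃ c : F, ((g : GL ι F) : Matrix ι ι F) = c • 1 := by
  constructor
  · intro hg
    obtain ⟨c, hc⟩ := scalar_of_centSq hQ h2 e f HT RP _
      (centSq_of_autPO_eq_one Q hQ e f HT RP g hg)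
    refine ⟨c, ?_⟩
    apply Matrix.toLin'.injective
    apply LinearMap.ext
    intro v
    rw [hc v, Matrix.toLin'_apply, Matrix.smul_mulVec, Matrix.one_mulVec]
  · rintro ⟨c, hc⟩
    ext x
    induction x using QuotientGroup.induction_on with
    | H s =>
      obtain ⟨s', h1, h3⟩ := autPO_mk_val (⇑Q) g s
      rw [h1, MulAut.one_apply]
      congr 1
      apply Omega_ext
      rw [h3]
      have h4 : ((g : GL ι F) * (s : GL ι F) : GL ι F) = (s : GL ι F) * (g : GL ι F) := by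
        apply Units.ext
        rw [Units.val_mul, Units.val_mul, hc]
        simp
      rw [h4, mul_inv_cancel_right]

theorem autO_eq_one_iff (hQ : (QuadraticMap.polarBilin Q).Nondegenerate) (h2 : (2 : F) ≠ 0)
    (e f : Fin 3 → ι → F) (HT : HypTriple Q e f) (RP : ReflPairs Q)
    (g : ↥(Cfsg.isometryGroup F ⇑Q)) :
    autO (⇑Q) g = 1 ↔ (((g : GL ι F) : Matrix ι ι F) = 1 ∨ ((g : GL ι F) : Matrix ι ι F) = -1) := by
  rw [autO_apply, autPO_eq_one_iff Q hQ h2 e f HT RP]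
  constructor
  · rintro ⟨c, hc⟩
    have hc' : ((g : GL ι F) : Matrix ι ι F) = c • 1 := hc
    have hu : Q (e 0 + f 0) = 1 := by
      rw [QuadraticMap.map_add (⇑Q), HT.qe, HT.qf, HT.ef]; simp
    have h1 := linOf_isometry Q g (e 0 + f 0)
    rw [linOf_apply, hc', Matrix.smul_mulVec, Matrix.one_mulVec, QuadraticMap.map_smul, hu,
      smul_eq_mul, mul_one] at h1
    rcases mul_self_eq_one_iff.mp h1 with h | h
    · left; rw [hc', h, one_smul]
    · right; rw [hc', h, neg_smul, one_smul]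
  · rintro (h | h)
    · exact ⟨1, by rw [one_smul]; exact h⟩
    · exact ⟨-1, by rw [neg_smul, one_smul]; exact h⟩

end ker

section index

variable {F : Type u} [Field F] [Fintype F] {ι : Type} [Fintype ι] [DecidableEq ι]
variable (Q : QuadraticForm F (ι → F))

theorem mem_SO_iff_det (g : ↥(Cfsg.isometryGroup F ⇑Q)) :
    g ∈ Cfsg.specialIsometryGroup F ⇑Q ↔ ((g : GL ι F) : Matrix ι ι F).det = 1 := by
  unfold Cfsg.specialIsometryGroup
  rw [MonoidHom.mem_ker]
  constructor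
  · intro h
    have := congrArg Units.val h
    simpa using this
  · intro h
    apply Units.ext
    simpa using h

theorem Omega_le_SO : Cfsg.Omega F ⇑Q ≤ Cfsg.specialIsometryGroup F ⇑Q :=
  Abelianization.commutator_subset_ker _

theorem det_sq_eq_one (h2 : (2 : F) ≠ 0) (hQ : (QuadraticMap.polarBilin Q).Nondegenerate)
    (g : ↥(Cfsg.isometryGroup F ⇑Q)) :
    ((g : GL ι F) : Matrix ι ι F).det * ((g : GL ι F) : Matrix ι ι F).det = 1 := by
  have h1 := Omega_le_SO Q (sq_mem_Omega h2 Q hQ g)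
  rw [mem_SO_iff_det] at h1
  rw [← Matrix.det_mul]
  exact h1

theorem index_SO (h2 : (2 : F) ≠ 0) (hQ : (QuadraticMap.polarBilin Q).Nondegenerate)
    (u : ι → F) (hu : Q u ≠ 0) : (Cfsg.specialIsometryGroup F ⇑Q).index = 2 := by
  unfold Cfsg.specialIsometryGroup
  rw [Subgroup.index_ker, Nat.card_eq_two_iff]
  set d := Matrix.GeneralLinearGroup.det.comp (Cfsg.isometryGroup F ⇑Q).subtype with hd
  have hneg : d (Cfsg.Agent.Lib.Helper50.reflO Q u) = -1 :=
    Cfsg.Agent.Lib.Helper50.detHom_reflO Q u hu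
  refine ⟨1, ⟨-1, ⟨_, hneg⟩⟩, ?_, ?_⟩
  · intro h
    have h3 := congrArg (fun x : d.range => ((x : Fˣ) : F)) h
    simp only [OneMemClass.coe_one, Units.val_one, Units.val_neg] at h3
    apply h2
    linear_combination h3
  · apply Set.eq_univ_of_forall
    rintro ⟨x, g, rfl⟩
    have h3 := det_sq_eq_one Q h2 hQ g
    have h4 : ((d g : Fˣ) : F) = ((g : GL ι F) : Matrix ι ι F).det := rfl
    rcases mul_self_eq_one_iff.mp h3 with h | h
    · left
      apply Subtype.ext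
      apply Units.ext
      rw [h4, h]; rfl
    · right
      apply Subtype.ext
      apply Units.ext
      rw [h4, h]; rfl

/-- the index of `Inn(PΩ)` in the image of `SO`, even dimension, odd characteristic -/
theorem relIndex_inn_psoAut (h2 : (2 : F) ≠ 0) (hQ : (QuadraticMap.polarBilin Q).Nondegenerate)
    (e f : Fin 3 → ι → F) (HT : HypTriple Q e f) (heven : Even (Fintype.card ι)) :
    ((∃ g : ↥(Cfsg.isometryGroup F ⇑Q), g ∈ Cfsg.Omega F ⇑Q ∧
        ((g : GL ι F) : Matrix ι ι F) = -1) →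
      (Cfsg.Inn (Cfsg.POmega F ⇑Q)).relIndex (Cfsg.psoAut F ⇑Q) = 2) ∧
    ((¬ ∃ g : ↥(Cfsg.isometryGroup F ⇑Q), g ∈ Cfsg.Omega F ⇑Q ∧
        ((g : GL ι F) : Matrix ι ι F) = -1) →
      (Cfsg.Inn (Cfsg.POmega F ⇑Q)).relIndex (Cfsg.psoAut F ⇑Q) = 1) := by
  have RP := reflPairs_of_two_ne_zero Q h2
  have hu : Q (e 0 + f 0) = 1 := by
    rw [QuadraticMap.map_add (⇑Q), HT.qe, HT.qf, HT.ef]; simp
  have hdim : 2 ≤ Fintype.card ι := by
    rcases heven with ⟨k, hk⟩
    have : 0 < Fintype.card ι := Fintype.card_pos_iff.mpr ⟨(Classical.choice (by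
      by_contra hne
      rw [not_nonempty_iff] at hne
      have : e 0 + f 0 = 0 := Subsingleton.elim _ _
      rw [this, map_zero] at hu
      exact zero_ne_one hu))⟩
    omega
  have hSOidx := index_SO Q h2 hQ (e 0 + f 0) (by rw [hu]; exact one_ne_zero)
  have hΩidx : (Cfsg.Omega F ⇑Q).index = 4 :=
    Cfsg.Agent.Lib.Helper50.index_commutator h2 Q hQ hdim
  have hle := Omega_le_SO Q
  have hrel : (Cfsg.Omega F ⇑Q).relIndex (Cfsg.specialIsometryGroup F ⇑Q) = 2 := by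
    have := Subgroup.relIndex_mul_index hle
    rw [hSOidx, hΩidx] at this
    omega
  set K := (autO (⇑Q)).ker with hK
  have hmemK : ∀ g : ↥(Cfsg.isometryGroup F ⇑Q), g ∈ K ↔
      (((g : GL ι F) : Matrix ι ι F) = 1 ∨ ((g : GL ι F) : Matrix ι ι F) = -1) := by
    intro g
    rw [hK, MonoidHom.mem_ker]
    exact autO_eq_one_iff Q hQ h2 e f HT RP g
  have hKSO : K ≤ Cfsg.specialIsometryGroup F ⇑Q := by
    intro g hg
    rw [mem_SO_iff_det]
    rcases (hmemK g).mp hg with h | h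
    · rw [h, Matrix.det_one]
    · rw [h, Matrix.det_neg, Matrix.det_one, heven.neg_one_pow, one_mul]
  rw [inn_eq, psoAut_eq, Subgroup.relIndex_map_map, ← hK, sup_eq_left.mpr hKSO]
  constructor
  · rintro ⟨g0, hg0, hg0v⟩
    have hKΩ : K ≤ Cfsg.Omega F ⇑Q := by
      intro g hg
      rcases (hmemK g).mp hg with h | h
      · have : g = 1 := Subtype.ext (Units.ext h)
        rw [this]; exact Subgroup.one_mem _
      · have : g = g0 := Subtype.ext (Units.ext (h.trans hg0v.symm))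
        rw [this]; exact hg0
    rw [sup_eq_left.mpr hKΩ]
    exact hrel
  · intro hno
    rw [Subgroup.relIndex_eq_one]
    have hneg_mem : Cfsg.Agent.Lib.Helper50.negO Q ∈ K :=
      (hmemK _).mpr (Or.inr (Cfsg.Agent.Lib.Helper50.negO_val Q))
    have hnegΩ : Cfsg.Agent.Lib.Helper50.negO Q ∉ Cfsg.Omega F ⇑Q := fun h =>
      hno ⟨_, h, Cfsg.Agent.Lib.Helper50.negO_val Q⟩
    have h1 := Subgroup.relIndex_mul_index (le_sup_left : Cfsg.Omega F ⇑Q ≤ Cfsg.Omega F ⇑Q ⊔ K)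
    have h3 := Subgroup.relIndex_mul_index
      (sup_le hle hKSO : Cfsg.Omega F ⇑Q ⊔ K ≤ Cfsg.specialIsometryGroup F ⇑Q)
    rw [hΩidx] at h1
    rw [hSOidx] at h3
    have hne1 : (Cfsg.Omega F ⇑Q).relIndex (Cfsg.Omega F ⇑Q ⊔ K) ≠ 1 := by
      intro h
      rw [Subgroup.relIndex_eq_one] at h
      exact hnegΩ (h (Subgroup.mem_sup_right hneg_mem))
    rw [← Subgroup.relIndex_eq_one]
    set a := (Cfsg.Omega F ⇑Q).relIndex (Cfsg.Omega F ⇑Q ⊔ K)
    set r := (Cfsg.Omega F ⇑Q ⊔ K).relIndex (Cfsg.specialIsometryGroup F ⇑Q)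
    set b := (Cfsg.Omega F ⇑Q ⊔ K).index
    have h5 : a * r = 2 := by
      have : a * (r * 2) = 4 := by rw [h3]; exact h1
      nlinarith
    have h6 : a ∣ 2 := ⟨r, h5.symm⟩
    rcases (Nat.dvd_prime Nat.prime_two).mp h6 with h7 | h7
    · exact absurd h7 hne1
    · rw [h7] at h5; omega

end index

end Cfsg.Agent.Lib.Helper08
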