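import Mathlib
import Cfsg.Prelude.Def_Classical

set_option autoImplicit false

namespace Cfsg.Agent.Lib.Helper08

open Matrix

section oddsp

variable {F : Type*} [Field F] {m : ℕ}

/-- the hyperbolic part of `quadFormOdd` -/
def Q2 (w : Fin m ⊕ Fin m → F) : F := ∑ i : Fin m, w (Sum.inl i) * w (Sum.inr i)

/-- its polar form -/
def B2 (u v : Fin m ⊕ Fin m → F) : F :=
  ∑ i : Fin m, (u (Sum.inl i) * v (Sum.inr i) + v (Sum.inl i) * u (Sum.inr i))

theorem quadFormOdd_eq (v : Unit ⊕ (Fin m ⊕ Fin m) → F) :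
    Cfsg.quadFormOdd m F v = v (Sum.inl ()) ^ 2 + Q2 (v ∘ Sum.inr) := rfl

theorem Q2_add (u v : Fin m ⊕ Fin m → F) : Q2 (u + v) = Q2 u + Q2 v + B2 u v := by
  unfold Q2 B2
  rw [← Finset.sum_add_distrib, ← Finset.sum_add_distrib]
  apply Finset.sum_congr rfl
  intro i _
  simp only [Pi.add_apply]
  ring

theorem Q2_smul (c : F) (u : Fin m ⊕ Fin m → F) : Q2 (c • u) = c ^ 2 * Q2 u := by
  unfold Q2
  rw [Finset.mul_sum]
  apply Finset.sum_congr rfl
  intro i _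
  simp only [Pi.smul_apply, smul_eq_mul]
  ring

theorem B2_single_inr (u : Fin m ⊕ Fin m → F) (i : Fin m) :
    B2 u (Pi.single (Sum.inr i) 1) = u (Sum.inl i) := by
  unfold B2
  rw [Finset.sum_eq_single i]
  · simp
  · intro j _ hj
    simp [hj]
  · intro h; exact absurd (Finset.mem_univ i) h

theorem B2_single_inl (u : Fin m ⊕ Fin m → F) (i : Fin m) :
    B2 u (Pi.single (Sum.inl i) 1) = u (Sum.inr i) := by
  unfold B2
  rw [Finset.sum_eq_single i]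
  · simp
  · intro j _ hj
    simp [hj]
  · intro h; exact absurd (Finset.mem_univ i) h

variable [CharP F 2]

theorem B2_eq_dot (u v : Fin m ⊕ Fin m → F) : B2 u v = u ⬝ᵥ (Matrix.J (Fin m) F *ᵥ v) := by
  unfold Matrix.J
  rw [Matrix.fromBlocks_mulVec]
  unfold B2 dotProduct
  rw [Fintype.sum_sum_type, ← Finset.sum_add_distrib]
  apply Finset.sum_congr rfl
  intro i _
  simp only [Sum.elim_inl, Sum.elim_inr, Pi.add_apply, Matrix.zero_mulVec, Matrix.neg_mulVec,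
    Matrix.one_mulVec, Pi.neg_apply, Pi.zero_apply, Function.comp_apply, zero_add, add_zero]
  rw [CharTwo.neg_eq]
  ring

theorem sq_add_two (x y : F) : (x + y) ^ 2 = x ^ 2 + y ^ 2 := by
  rw [add_sq]
  have : (2 : F) = 0 := CharTwo.two_eq_zero
  rw [this]; ring

theorem sq_inj_two {x y : F} (h : x ^ 2 = y ^ 2) : x = y := by
  have : (x + y) ^ 2 = 0 := by
    rw [sq_add_two, h, CharTwo.add_self_eq_zero]
  have h2 := pow_eq_zero_iff (two_ne_zero) |>.mp this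
  exact CharTwo.add_eq_zero.mp h2

/-- the compatibility condition between the row `β` and the block `δ` -/
def Compat (β : Matrix Unit (Fin m ⊕ Fin m) F) (δ : Matrix (Fin m ⊕ Fin m) (Fin m ⊕ Fin m) F) :
    Prop :=
  ∀ w : Fin m ⊕ Fin m → F, (β *ᵥ w) () ^ 2 + Q2 (δ *ᵥ w) = Q2 w

omit [CharP F 2] in
theorem blk2_mulVec (β : Matrix Unit (Fin m ⊕ Fin m) F)
    (δ : Matrix (Fin m ⊕ Fin m) (Fin m ⊕ Fin m) F) (x : Unit ⊕ (Fin m ⊕ Fin m) → F) :
    Matrix.fromBlocks (1 : Matrix Unit Unit F) β 0 δ *ᵥ x =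
      Sum.elim (x ∘ Sum.inl + β *ᵥ (x ∘ Sum.inr)) (δ *ᵥ (x ∘ Sum.inr)) := by
  rw [Matrix.fromBlocks_mulVec]
  simp

theorem blk2_iso_iff (β : Matrix Unit (Fin m ⊕ Fin m) F)
    (δ : Matrix (Fin m ⊕ Fin m) (Fin m ⊕ Fin m) F) :
    (∀ x, Cfsg.quadFormOdd m F (Matrix.fromBlocks (1 : Matrix Unit Unit F) β 0 δ *ᵥ x) =
      Cfsg.quadFormOdd m F x) ↔ Compat β δ := by
  constructor
  · intro h w
    have := h (Sum.elim 0 w)
    rw [blk2_mulVec, quadFormOdd_eq, quadFormOdd_eq] at this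
    simpa using this
  · intro h x
    rw [blk2_mulVec, quadFormOdd_eq, quadFormOdd_eq]
    simp only [Sum.elim_inl, Sum.elim_comp_inr, Pi.add_apply, Function.comp_apply]
    rw [sq_add_two, add_assoc, h]

/-- compatible blocks preserve the polar form -/
theorem Compat.B2_eq {β : Matrix Unit (Fin m ⊕ Fin m) F}
    {δ : Matrix (Fin m ⊕ Fin m) (Fin m ⊕ Fin m) F} (h : Compat β δ) (u v : Fin m ⊕ Fin m → F) :
    B2 (δ *ᵥ u) (δ *ᵥ v) = B2 u v := by
  have h1 := h (u + v)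
  have h2 := h u
  have h3 := h v
  rw [Matrix.mulVec_add, Matrix.mulVec_add, Q2_add, Q2_add, Pi.add_apply, sq_add_two] at h1
  linear_combination h1 - h2 - h3

omit [CharP F 2] in
theorem dot_aux (δ : Matrix (Fin m ⊕ Fin m) (Fin m ⊕ Fin m) F) (u v : Fin m ⊕ Fin m → F) :
    u ⬝ᵥ ((δᵀ * Matrix.J (Fin m) F * δ) *ᵥ v) =
      (δ *ᵥ u) ⬝ᵥ (Matrix.J (Fin m) F *ᵥ (δ *ᵥ v)) := by
  rw [← Matrix.mulVec_mulVec, ← Matrix.mulVec_mulVec, Matrix.dotProduct_mulVec u δᵀ,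
    Matrix.vecMul_transpose]

theorem symplectic_of_B2 (δ : Matrix (Fin m ⊕ Fin m) (Fin m ⊕ Fin m) F)
    (h : ∀ u v, B2 (δ *ᵥ u) (δ *ᵥ v) = B2 u v) : δ ∈ Matrix.symplecticGroup (Fin m) F := by
  rw [SymplecticGroup.mem_iff']
  apply Matrix.toBilin'.injective
  apply LinearMap.ext
  intro u
  apply LinearMap.ext
  intro v
  rw [Matrix.toBilin'_apply', Matrix.toBilin'_apply', ← B2_eq_dot, ← h u v, B2_eq_dot, dot_aux]

theorem B2_of_symplectic (δ : Matrix (Fin m ⊕ Fin m) (Fin m ⊕ Fin m) F)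
    (hδ : δ ∈ Matrix.symplecticGroup (Fin m) F) (u v : Fin m ⊕ Fin m → F) :
    B2 (δ *ᵥ u) (δ *ᵥ v) = B2 u v := by
  rw [SymplecticGroup.mem_iff'] at hδ
  rw [B2_eq_dot, B2_eq_dot, ← dot_aux, hδ]

theorem Compat.unique {β β' : Matrix Unit (Fin m ⊕ Fin m) F}
    {δ : Matrix (Fin m ⊕ Fin m) (Fin m ⊕ Fin m) F} (h : Compat β δ) (h' : Compat β' δ) :
    β = β' := by
  ext ⟨⟩ j
  have h1 := h (Pi.single j 1)
  have h2 := h' (Pi.single j 1)
  have h3 : (β *ᵥ (Pi.single j 1)) () ^ 2 = (β' *ᵥ (Pi.single j 1)) () ^ 2 := by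
    linear_combination h1 - h2
  have h4 := sq_inj_two h3
  rw [Matrix.mulVec_single_one, Matrix.mulVec_single_one] at h4
  exact h4

theorem sum_sq_two {κ : Type*} (s : Finset κ) (f : κ → F) :
    (∑ j ∈ s, f j) ^ 2 = ∑ j ∈ s, f j ^ 2 := by
  classical
  induction s using Finset.induction_on with
  | empty => simp
  | insert a s ha ih =>
    rw [Finset.sum_insert ha, Finset.sum_insert ha, sq_add_two, ih]

theorem exists_compat [Finite F] (δ : Matrix (Fin m ⊕ Fin m) (Fin m ⊕ Fin m) F)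
    (hδ : δ ∈ Matrix.symplecticGroup (Fin m) F) :
    ∃ β : Matrix Unit (Fin m ⊕ Fin m) F, Compat β δ := by
  classical
  have hB := B2_of_symplectic δ hδ
  -- the defect
  let D : (Fin m ⊕ Fin m → F) →+ F :=
    { toFun := fun w => Q2 w - Q2 (δ *ᵥ w)
      map_zero' := by simp [Q2]
      map_add' := by
        intro u v
        show Q2 (u + v) - Q2 (δ *ᵥ (u + v)) = Q2 u - Q2 (δ *ᵥ u) + (Q2 v - Q2 (δ *ᵥ v))
        rw [Matrix.mulVec_add, Q2_add, Q2_add, hB]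
        ring }
  have hD : ∀ w, D w = Q2 w - Q2 (δ *ᵥ w) := fun _ => rfl
  have hDsmul : ∀ (c : F) (w : Fin m ⊕ Fin m → F), D (c • w) = c ^ 2 * D w := by
    intro c w
    rw [hD, hD, Matrix.mulVec_smul, Q2_smul, Q2_smul]
    ring
  have hDsum : ∀ w : Fin m ⊕ Fin m → F, D w = ∑ j, w j ^ 2 * D (Pi.single j 1) := by
    intro w
    conv_lhs => rw [← Finset.univ_sum_single w]
    rw [map_sum]
    apply Finset.sum_congr rfl
    intro j _
    have : (Pi.single j (w j) : Fin m ⊕ Fin m → F) = w j • Pi.single j (1 : F) := by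
      ext k
      by_cases hk : k = j
      · subst hk; simp
      · simp [hk]
    rw [this, hDsmul]
  have hperf : PerfectRing F 2 := PerfectRing.ofFiniteOfIsReduced 2 F
  let b : Fin m ⊕ Fin m → F := fun j => (frobeniusEquiv F 2).symm (D (Pi.single j 1))
  have hb : ∀ j, b j ^ 2 = D (Pi.single j 1) := fun j => frobeniusEquiv_symm_pow_p F 2 _
  refine ⟨Matrix.of (fun _ j => b j), ?_⟩
  intro w
  have h1 : (Matrix.of (fun (_ : Unit) j => b j) *ᵥ w) () = ∑ j, b j * w j := rfl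
  rw [h1, sum_sq_two]
  have h2 : ∑ j, (b j * w j) ^ 2 = D w := by
    rw [hDsum]
    apply Finset.sum_congr rfl
    intro j _
    rw [mul_pow, hb]; ring
  rw [h2, hD]
  ring

omit [CharP F 2] in
theorem mem_isometryGroup_iff {ι : Type} [Fintype ι] [DecidableEq ι] (Q : (ι → F) → F)
    (g : Matrix.GeneralLinearGroup ι F) :
    g ∈ Cfsg.isometryGroup F Q ↔ ∀ u, Q ((g : Matrix ι ι F) *ᵥ u) = Q u :=
  ⟨fun h u => h u u, fun h u _ => h u⟩

theorem first_col (g : Matrix.GeneralLinearGroup (Unit ⊕ (Fin m ⊕ Fin m)) F)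
    (hg : g ∈ Cfsg.isometryGroup F (Cfsg.quadFormOdd m F)) :
    (g : Matrix (Unit ⊕ (Fin m ⊕ Fin m)) (Unit ⊕ (Fin m ⊕ Fin m)) F) *ᵥ
      (Pi.single (Sum.inl ()) 1) = Pi.single (Sum.inl ()) 1 := by
  rw [mem_isometryGroup_iff] at hg
  set M := (g : Matrix (Unit ⊕ (Fin m ⊕ Fin m)) (Unit ⊕ (Fin m ⊕ Fin m)) F) with hM
  set e0 : Unit ⊕ (Fin m ⊕ Fin m) → F := Pi.single (Sum.inl ()) 1 with he0
  set c := M *ᵥ e0 with hc
  have he0r : e0 ∘ Sum.inr = 0 := by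
    ext j; simp [he0]
  have he0l : e0 (Sum.inl ()) = 1 := by simp [he0]
  have hQe0 : Cfsg.quadFormOdd m F e0 = 1 := by
    rw [quadFormOdd_eq, he0r, he0l]; simp [Q2]
  have hQc : Cfsg.quadFormOdd m F c = 1 := by rw [hc, hg, hQe0]
  have step1 : ∀ w, Cfsg.quadFormOdd m F (c + w) = 1 + Cfsg.quadFormOdd m F w := by
    intro w
    set w0 := ((g⁻¹ : Matrix.GeneralLinearGroup (Unit ⊕ (Fin m ⊕ Fin m)) F) :
      Matrix (Unit ⊕ (Fin m ⊕ Fin m)) (Unit ⊕ (Fin m ⊕ Fin m)) F) *ᵥ w with hw0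
    have hMw0 : M *ᵥ w0 = w := by
      rw [hw0, hM, Matrix.mulVec_mulVec, ← Matrix.GeneralLinearGroup.coe_mul, mul_inv_cancel]
      simp
    rw [← hMw0, hc, ← Matrix.mulVec_add, hg, hg, quadFormOdd_eq, quadFormOdd_eq]
    have : (e0 + w0) ∘ Sum.inr = w0 ∘ Sum.inr := by
      ext j; simp [he0]
    rw [this, Pi.add_apply, he0l, sq_add_two]
    ring
  have hcr : c ∘ Sum.inr = 0 := by
    have hB : ∀ w' : Fin m ⊕ Fin m → F, B2 (c ∘ Sum.inr) w' = 0 := by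
      intro w'
      have h1 := step1 (Sum.elim (0 : Unit → F) w')
      rw [quadFormOdd_eq, quadFormOdd_eq] at h1
      have h2 : (c + Sum.elim (0 : Unit → F) w') ∘ Sum.inr = c ∘ Sum.inr + w' := by
        ext j; simp
      rw [h2, Q2_add] at h1
      have h3 := hQc
      rw [quadFormOdd_eq] at h3
      simp only [Pi.add_apply, Sum.elim_inl, Pi.zero_apply, add_zero, Sum.elim_comp_inr] at h1
      have h4 : (0 : F) ^ 2 = 0 := by norm_num
      rw [h4] at h1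
      linear_combination h1 - h3
    ext j
    rcases j with i | i
    · have := hB (Pi.single (Sum.inr i) 1)
      rw [B2_single_inr] at this
      simpa using this
    · have := hB (Pi.single (Sum.inl i) 1)
      rw [B2_single_inl] at this
      simpa using this
  have hcl : c (Sum.inl ()) = 1 := by
    have h3 := hQc
    rw [quadFormOdd_eq, hcr] at h3
    have h4 : c (Sum.inl ()) ^ 2 = (1 : F) ^ 2 := by
      simp only [Q2, Pi.zero_apply, mul_zero, Finset.sum_const_zero, add_zero] at h3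
      rw [h3]; norm_num
    exact sq_inj_two h4
  ext j
  rcases j with ⟨⟨⟩⟩ | j
  · rw [hcl, he0l]
  · have := congrFun hcr j
    simp only [Function.comp_apply, Pi.zero_apply] at this
    rw [this]
    simp [he0]

/-- block form of an isometry -/
theorem isometry_blocks (g : Matrix.GeneralLinearGroup (Unit ⊕ (Fin m ⊕ Fin m)) F)
    (hg : g ∈ Cfsg.isometryGroup F (Cfsg.quadFormOdd m F)) :
    (g : Matrix (Unit ⊕ (Fin m ⊕ Fin m)) (Unit ⊕ (Fin m ⊕ Fin m)) F) =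
      Matrix.fromBlocks (1 : Matrix Unit Unit F)
        (g : Matrix (Unit ⊕ (Fin m ⊕ Fin m)) (Unit ⊕ (Fin m ⊕ Fin m)) F).toBlocks₁₂ 0
        (g : Matrix (Unit ⊕ (Fin m ⊕ Fin m)) (Unit ⊕ (Fin m ⊕ Fin m)) F).toBlocks₂₂ := by
  have hcol := first_col g hg
  set M := (g : Matrix (Unit ⊕ (Fin m ⊕ Fin m)) (Unit ⊕ (Fin m ⊕ Fin m)) F) with hM
  have hcol' : ∀ i, M i (Sum.inl ()) = (Pi.single (Sum.inl ()) 1 : Unit ⊕ (Fin m ⊕ Fin m) → F) i := by
    intro i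
    have := congrFun hcol i
    rw [Matrix.mulVec_single_one] at this
    exact this
  ext i j
  rcases i with ⟨⟨⟩⟩ | i <;> rcases j with ⟨⟨⟩⟩ | j
  · rw [hcol']; simp
  · simp [Matrix.toBlocks₁₂]
  · rw [hcol']; simp
  · simp [Matrix.toBlocks₂₂]

theorem compat_of_mem (g : Matrix.GeneralLinearGroup (Unit ⊕ (Fin m ⊕ Fin m)) F)
    (hg : g ∈ Cfsg.isometryGroup F (Cfsg.quadFormOdd m F)) :
    Compat (g : Matrix (Unit ⊕ (Fin m ⊕ Fin m)) (Unit ⊕ (Fin m ⊕ Fin m)) F).toBlocks₁₂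
      (g : Matrix (Unit ⊕ (Fin m ⊕ Fin m)) (Unit ⊕ (Fin m ⊕ Fin m)) F).toBlocks₂₂ := by
  have h := isometry_blocks g hg
  apply (blk2_iso_iff _ _).mp
  intro x
  rw [← h]
  exact (mem_isometryGroup_iff _ g).mp hg x

/-- the isomorphism `O_{2m+1}(q) → Sp_{2m}(q)` in characteristic two, as a homomorphism -/
noncomputable def oddToSp (F : Type*) [Field F] [CharP F 2] (m : ℕ) :
    Cfsg.isometryGroup F (Cfsg.quadFormOdd m F) →* Matrix.symplecticGroup (Fin m) F where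
  toFun g := ⟨(g.1 : Matrix (Unit ⊕ (Fin m ⊕ Fin m)) (Unit ⊕ (Fin m ⊕ Fin m)) F).toBlocks₂₂,
    symplectic_of_B2 _ (compat_of_mem g.1 g.2).B2_eq⟩
  map_one' := by
    apply Subtype.ext
    show ((1 : Matrix.GeneralLinearGroup (Unit ⊕ (Fin m ⊕ Fin m)) F) :
      Matrix (Unit ⊕ (Fin m ⊕ Fin m)) (Unit ⊕ (Fin m ⊕ Fin m)) F).toBlocks₂₂ = 1
    ext i j
    simp [Matrix.toBlocks₂₂, Matrix.one_apply]
  map_mul' g h := by
    apply Subtype.ext
    show ((g.1 * h.1 : Matrix.GeneralLinearGroup (Unit ⊕ (Fin m ⊕ Fin m)) F) :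
      Matrix (Unit ⊕ (Fin m ⊕ Fin m)) (Unit ⊕ (Fin m ⊕ Fin m)) F).toBlocks₂₂ =
      (g.1 : Matrix (Unit ⊕ (Fin m ⊕ Fin m)) (Unit ⊕ (Fin m ⊕ Fin m)) F).toBlocks₂₂ *
      (h.1 : Matrix (Unit ⊕ (Fin m ⊕ Fin m)) (Unit ⊕ (Fin m ⊕ Fin m)) F).toBlocks₂₂
    rw [Matrix.GeneralLinearGroup.coe_mul]
    conv_lhs => rw [isometry_blocks g.1 g.2, isometry_blocks h.1 h.2, Matrix.fromBlocks_multiply]
    rw [Matrix.toBlocks_fromBlocks₂₂]
    simp

theorem oddToSp_injective : Function.Injective (oddToSp F m) := by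
  intro g h hgh
  have h1 : (g.1 : Matrix (Unit ⊕ (Fin m ⊕ Fin m)) (Unit ⊕ (Fin m ⊕ Fin m)) F).toBlocks₂₂ =
      (h.1 : Matrix (Unit ⊕ (Fin m ⊕ Fin m)) (Unit ⊕ (Fin m ⊕ Fin m)) F).toBlocks₂₂ :=
    congrArg Subtype.val hgh
  have cg := compat_of_mem g.1 g.2
  have ch := compat_of_mem h.1 h.2
  rw [h1] at cg
  have h2 := cg.unique ch
  apply Subtype.ext
  apply Units.ext
  rw [isometry_blocks g.1 g.2, isometry_blocks h.1 h.2, h1, h2]

theorem oddToSp_surjective [Finite F] : Function.Surjective (oddToSp F m) := by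
  intro A
  obtain ⟨β, hβ⟩ := exists_compat A.1 A.2
  set M : Matrix (Unit ⊕ (Fin m ⊕ Fin m)) (Unit ⊕ (Fin m ⊕ Fin m)) F :=
    Matrix.fromBlocks (1 : Matrix Unit Unit F) β 0 A.1 with hM
  have hiso : ∀ x, Cfsg.quadFormOdd m F (M *ᵥ x) = Cfsg.quadFormOdd m F x :=
    (blk2_iso_iff β A.1).mpr hβ
  have hunit : IsUnit M := by
    rw [Matrix.isUnit_iff_isUnit_det, hM, Matrix.det_fromBlocks_zero₂₁, Matrix.det_one, one_mul]
    exact SymplecticGroup.symplectic_det A.2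
  refine ⟨⟨hunit.unit, (mem_isometryGroup_iff _ _).mpr hiso⟩, ?_⟩
  apply Subtype.ext
  show (hunit.unit : Matrix (Unit ⊕ (Fin m ⊕ Fin m)) (Unit ⊕ (Fin m ⊕ Fin m)) F).toBlocks₂₂ = A.1
  rw [IsUnit.unit_spec, hM, Matrix.toBlocks_fromBlocks₂₂]

end oddsp

end Cfsg.Agent.Lib.Helper08
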