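import Cfsg.Agent.Lib.Helper08.B2Basis

/-! generated: conjugation of the Chevalley basis of sp_4 by the root element of root 4 -/

set_option autoImplicit false
set_option linter.unnecessarySeqFocus false
set_option linter.unusedSimpArgs false
set_option linter.unusedTactic false
set_option linter.unreachableTactic false

namespace Cfsg.Agent.Lib.Helper08.B2Sp

open Cfsg Cfsg.Lie Cfsg.Agent.Lib.Helper24 Matrix

variable {F : Type*} [Field F]

theorem conjcol_4_0 (t : F) : (1 + t • bN (2 + 4)) * bN 0 * (1 - t • bN (2 + 4)) =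
    bN (F := F) 0 + ((fullShape chevB2 4 0).map fun e => (((e.2.1 : ℤ) : F) * t ^ e.2.2) • bN e.1).sum := by
  rw [show fullShape chevB2 4 0 = [(6, 2, 1)] from by decide]
  simp only [List.map_cons, List.map_nil, List.sum_cons, List.sum_nil, bN]
  ext i j
  rcases i with i | i <;> rcases j with j | j <;> fin_cases i <;> fin_cases j <;>
    simp [Matrix.mul_apply, Fintype.sum_sum_type, Fin.sum_univ_two, Matrix.one_apply,
      Matrix.sub_apply, Matrix.add_apply] <;> ring

theorem conjcol_4_1 (t : F) : (1 + t • bN (2 + 4)) * bN 1 * (1 - t • bN (2 + 4)) =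
    bN (F := F) 1 + ((fullShape chevB2 4 1).map fun e => (((e.2.1 : ℤ) : F) * t ^ e.2.2) • bN e.1).sum := by
  rw [show fullShape chevB2 4 1 = [(6, -2, 1)] from by decide]
  simp only [List.map_cons, List.map_nil, List.sum_cons, List.sum_nil, bN]
  ext i j
  rcases i with i | i <;> rcases j with j | j <;> fin_cases i <;> fin_cases j <;>
    simp [Matrix.mul_apply, Fintype.sum_sum_type, Fin.sum_univ_two, Matrix.one_apply,
      Matrix.sub_apply, Matrix.add_apply] <;> ring

theorem conjcol_4_2 (t : F) : (1 + t • bN (2 + 4)) * bN 2 * (1 - t • bN (2 + 4)) =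
    bN (F := F) 2 + ((fullShape chevB2 4 2).map fun e => (((e.2.1 : ℤ) : F) * t ^ e.2.2) • bN e.1).sum := by
  rw [show fullShape chevB2 4 2 = [] from by decide]
  simp only [List.map_cons, List.map_nil, List.sum_cons, List.sum_nil, bN]
  ext i j
  rcases i with i | i <;> rcases j with j | j <;> fin_cases i <;> fin_cases j <;>
    simp [Matrix.mul_apply, Fintype.sum_sum_type, Fin.sum_univ_two, Matrix.one_apply,
      Matrix.sub_apply, Matrix.add_apply] <;> ring

theorem conjcol_4_3 (t : F) : (1 + t • bN (2 + 4)) * bN 3 * (1 - t • bN (2 + 4)) =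
    bN (F := F) 3 + ((fullShape chevB2 4 3).map fun e => (((e.2.1 : ℤ) : F) * t ^ e.2.2) • bN e.1).sum := by
  rw [show fullShape chevB2 4 3 = [(4, -1, 1)] from by decide]
  simp only [List.map_cons, List.map_nil, List.sum_cons, List.sum_nil, bN]
  ext i j
  rcases i with i | i <;> rcases j with j | j <;> fin_cases i <;> fin_cases j <;>
    simp [Matrix.mul_apply, Fintype.sum_sum_type, Fin.sum_univ_two, Matrix.one_apply,
      Matrix.sub_apply, Matrix.add_apply] <;> ring

theorem conjcol_4_4 (t : F) : (1 + t • bN (2 + 4)) * bN 4 * (1 - t • bN (2 + 4)) =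
    bN (F := F) 4 + ((fullShape chevB2 4 4).map fun e => (((e.2.1 : ℤ) : F) * t ^ e.2.2) • bN e.1).sum := by
  rw [show fullShape chevB2 4 4 = [] from by decide]
  simp only [List.map_cons, List.map_nil, List.sum_cons, List.sum_nil, bN]
  ext i j
  rcases i with i | i <;> rcases j with j | j <;> fin_cases i <;> fin_cases j <;>
    simp [Matrix.mul_apply, Fintype.sum_sum_type, Fin.sum_univ_two, Matrix.one_apply,
      Matrix.sub_apply, Matrix.add_apply] <;> ring

theorem conjcol_4_5 (t : F) : (1 + t • bN (2 + 4)) * bN 5 * (1 - t • bN (2 + 4)) =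
    bN (F := F) 5 + ((fullShape chevB2 4 5).map fun e => (((e.2.1 : ℤ) : F) * t ^ e.2.2) • bN e.1).sum := by
  rw [show fullShape chevB2 4 5 = [(6, -1, 2), (0, 0, 1), (1, 1, 1)] from by decide]
  simp only [List.map_cons, List.map_nil, List.sum_cons, List.sum_nil, bN]
  ext i j
  rcases i with i | i <;> rcases j with j | j <;> fin_cases i <;> fin_cases j <;>
    simp [Matrix.mul_apply, Fintype.sum_sum_type, Fin.sum_univ_two, Matrix.one_apply,
      Matrix.sub_apply, Matrix.add_apply] <;> ring

theorem conjcol_4_6 (t : F) : (1 + t • bN (2 + 4)) * bN 6 * (1 - t • bN (2 + 4)) =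
    bN (F := F) 6 + ((fullShape chevB2 4 6).map fun e => (((e.2.1 : ℤ) : F) * t ^ e.2.2) • bN e.1).sum := by
  rw [show fullShape chevB2 4 6 = [] from by decide]
  simp only [List.map_cons, List.map_nil, List.sum_cons, List.sum_nil, bN]
  ext i j
  rcases i with i | i <;> rcases j with j | j <;> fin_cases i <;> fin_cases j <;>
    simp [Matrix.mul_apply, Fintype.sum_sum_type, Fin.sum_univ_two, Matrix.one_apply,
      Matrix.sub_apply, Matrix.add_apply] <;> ring

theorem conjcol_4_7 (t : F) : (1 + t • bN (2 + 4)) * bN 7 * (1 - t • bN (2 + 4)) =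
    bN (F := F) 7 + ((fullShape chevB2 4 7).map fun e => (((e.2.1 : ℤ) : F) * t ^ e.2.2) • bN e.1).sum := by
  rw [show fullShape chevB2 4 7 = [(8, 1, 1)] from by decide]
  simp only [List.map_cons, List.map_nil, List.sum_cons, List.sum_nil, bN]
  ext i j
  rcases i with i | i <;> rcases j with j | j <;> fin_cases i <;> fin_cases j <;>
    simp [Matrix.mul_apply, Fintype.sum_sum_type, Fin.sum_univ_two, Matrix.one_apply,
      Matrix.sub_apply, Matrix.add_apply] <;> ring

theorem conjcol_4_8 (t : F) : (1 + t • bN (2 + 4)) * bN 8 * (1 - t • bN (2 + 4)) =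
    bN (F := F) 8 + ((fullShape chevB2 4 8).map fun e => (((e.2.1 : ℤ) : F) * t ^ e.2.2) • bN e.1).sum := by
  rw [show fullShape chevB2 4 8 = [] from by decide]
  simp only [List.map_cons, List.map_nil, List.sum_cons, List.sum_nil, bN]
  ext i j
  rcases i with i | i <;> rcases j with j | j <;> fin_cases i <;> fin_cases j <;>
    simp [Matrix.mul_apply, Fintype.sum_sum_type, Fin.sum_univ_two, Matrix.one_apply,
      Matrix.sub_apply, Matrix.add_apply] <;> ring

theorem conjcol_4_9 (t : F) : (1 + t • bN (2 + 4)) * bN 9 * (1 - t • bN (2 + 4)) =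
    bN (F := F) 9 + ((fullShape chevB2 4 9).map fun e => (((e.2.1 : ℤ) : F) * t ^ e.2.2) • bN e.1).sum := by
  rw [show fullShape chevB2 4 9 = [] from by decide]
  simp only [List.map_cons, List.map_nil, List.sum_cons, List.sum_nil, bN]
  ext i j
  rcases i with i | i <;> rcases j with j | j <;> fin_cases i <;> fin_cases j <;>
    simp [Matrix.mul_apply, Fintype.sum_sum_type, Fin.sum_univ_two, Matrix.one_apply,
      Matrix.sub_apply, Matrix.add_apply] <;> ring

theorem conjcol_4 (k : ℕ) (hk : k < 10) (t : F) : (1 + t • bN (2 + 4)) * bN k * (1 - t • bN (2 + 4)) =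
    bN (F := F) k + ((fullShape chevB2 4 k).map fun e => (((e.2.1 : ℤ) : F) * t ^ e.2.2) • bN e.1).sum := by
  interval_cases k
  · exact conjcol_4_0 t
  · exact conjcol_4_1 t
  · exact conjcol_4_2 t
  · exact conjcol_4_3 t
  · exact conjcol_4_4 t
  · exact conjcol_4_5 t
  · exact conjcol_4_6 t
  · exact conjcol_4_7 t
  · exact conjcol_4_8 t
  · exact conjcol_4_9 t

end Cfsg.Agent.Lib.Helper08.B2Sp
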