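import Cfsg.Agent.Lib.Helper08.B2Lin
import Cfsg.Agent.Lib.Helper08.B2Conj0
import Cfsg.Agent.Lib.Helper08.B2Conj1
import Cfsg.Agent.Lib.Helper08.B2Conj2
import Cfsg.Agent.Lib.Helper08.B2Conj3
import Cfsg.Agent.Lib.Helper08.B2Conj4
import Cfsg.Agent.Lib.Helper08.B2Conj5
import Cfsg.Agent.Lib.Helper08.B2Conj6
import Cfsg.Agent.Lib.Helper08.B2Conj7

/-!
# The adjoint representation of `Sp_4(F)` in the Chevalley basis, and the root elements
-/

set_option autoImplicit false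
set_option linter.unusedSimpArgs false
set_option linter.unnecessarySeqFocus false
set_option linter.unusedTactic false
set_option linter.unreachableTactic false

namespace Cfsg.Agent.Lib.Helper08.B2Sp

open Cfsg Cfsg.Lie Cfsg.Agent.Lib.Helper24 Matrix

variable {F : Type*} [Field F]

local notation "Sp4" => Matrix.symplecticGroup (Fin 2) F

theorem val_mul' (A B : Sp4) : (A * B).1 = A.1 * B.1 := rfl

theorem val_one' : (1 : Sp4).1 = 1 := rfl

theorem val_mul_inv (A : Sp4) : A.1 * (A⁻¹).1 = 1 := by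
  rw [← val_mul', mul_inv_cancel, val_one']

theorem val_inv_mul (A : Sp4) : (A⁻¹).1 * A.1 = 1 := by
  rw [← val_mul', inv_mul_cancel, val_one']

theorem conj_isSp4 (A : Sp4) (X : Mat4 F) (hX : IsSp4 X) : IsSp4 (A.1 * X * (A⁻¹).1) := by
  unfold IsSp4 at hX ⊢
  have hA : A.1 * J (Fin 2) F * A.1ᵀ = J (Fin 2) F := (SymplecticGroup.mem_iff).mp A.2
  have hB : (A⁻¹).1 * J (Fin 2) F * (A⁻¹).1ᵀ = J (Fin 2) F := (SymplecticGroup.mem_iff).mp (A⁻¹).2
  have h1 : (A⁻¹).1 * J (Fin 2) F = J (Fin 2) F * A.1ᵀ := by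
    calc (A⁻¹).1 * J (Fin 2) F = (A⁻¹).1 * (A.1 * J (Fin 2) F * A.1ᵀ) := by rw [hA]
      _ = ((A⁻¹).1 * A.1) * J (Fin 2) F * A.1ᵀ := by simp only [Matrix.mul_assoc]
      _ = J (Fin 2) F * A.1ᵀ := by rw [val_inv_mul, Matrix.one_mul]
  have h2 : J (Fin 2) F * (A⁻¹).1ᵀ = A.1 * J (Fin 2) F := by
    calc J (Fin 2) F * (A⁻¹).1ᵀ = (A.1 * J (Fin 2) F * A.1ᵀ) * (A⁻¹).1ᵀ := by rw [hA]
      _ = A.1 * J (Fin 2) F * ((A⁻¹).1 * A.1)ᵀ := by
          rw [Matrix.transpose_mul]; simp only [Matrix.mul_assoc]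
      _ = A.1 * J (Fin 2) F := by rw [val_inv_mul, Matrix.transpose_one, Matrix.mul_one]
  calc A.1 * X * (A⁻¹).1 * J (Fin 2) F + J (Fin 2) F * (A.1 * X * (A⁻¹).1)ᵀ
      = A.1 * X * ((A⁻¹).1 * J (Fin 2) F) + (J (Fin 2) F * (A⁻¹).1ᵀ) * Xᵀ * A.1ᵀ := by
        rw [Matrix.transpose_mul, Matrix.transpose_mul]; simp only [Matrix.mul_assoc]
    _ = A.1 * (X * J (Fin 2) F + J (Fin 2) F * Xᵀ) * A.1ᵀ := by
        rw [h1, h2, Matrix.mul_add, Matrix.add_mul]; simp only [Matrix.mul_assoc]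
    _ = 0 := by rw [hX, Matrix.mul_zero, Matrix.zero_mul]

theorem sum_enc (g : ℕ → F) :
    ∑ k : chevB2.Idx, g (enc chevB2 k) = ∑ k ∈ Finset.range 10, g k := by
  rw [Fintype.sum_sum_type]
  show ∑ i : Fin 2, g i.val + ∑ s : Fin 8, g (2 + s.val) = _
  simp [Fin.sum_univ_succ, Finset.sum_range_succ]
  ring

theorem enc_lt' (i : chevB2.Idx) : enc chevB2 i < 10 := enc_lt chevB2 i

/-- the adjoint matrix of `A ∈ Sp_4(F)` in the Chevalley basis -/
def adMat (A : Sp4) : Matrix chevB2.Idx chevB2.Idx F :=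
  Matrix.of fun i j => cN (A.1 * bN (enc chevB2 j) * (A⁻¹).1) (enc chevB2 i)

theorem adMat_one : adMat (1 : Sp4) = 1 := by
  ext i j
  simp only [adMat, Matrix.of_apply, inv_one, val_one', Matrix.one_mul, Matrix.mul_one]
  rw [cN_bN _ _ (enc_lt' i), Matrix.one_apply]
  by_cases h : i = j
  · subst h; simp
  · rw [if_neg h, if_neg]
    intro h'
    exact h (enc_injective chevB2 h').symm

theorem adMat_mul (A B : Sp4) : adMat (A * B) = adMat A * adMat B := by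
  ext i j
  simp only [adMat, Matrix.of_apply, Matrix.mul_apply, _root_.mul_inv_rev, val_mul']
  have hY : IsSp4 (B.1 * bN (enc chevB2 j) * (B⁻¹).1) := conj_isSp4 B _ (isSp4_bN _)
  have e1 : A.1 * B.1 * bN (enc chevB2 j) * ((B⁻¹).1 * (A⁻¹).1) =
      A.1 * (B.1 * bN (enc chevB2 j) * (B⁻¹).1) * (A⁻¹).1 := by
    simp only [Matrix.mul_assoc]
  rw [e1]
  conv_lhs => rw [recon _ hY]
  rw [Finset.mul_sum, Finset.sum_mul, cN_sum]
  rw [sum_enc (fun k => cN (A.1 * bN k * (A⁻¹).1) (enc chevB2 i) *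
    cN (B.1 * bN (enc chevB2 j) * (B⁻¹).1) k)]
  apply Finset.sum_congr rfl
  intro k _
  rw [Matrix.mul_smul, Matrix.smul_mul, cN_smul, mul_comm]

/-- the adjoint representation as a monoid homomorphism -/
def adHom0 : Sp4 →* Matrix chevB2.Idx chevB2.Idx F where
  toFun := adMat
  map_one' := adMat_one
  map_mul' := adMat_mul

/-- the adjoint representation `Sp_4(F) → GL_10(F)` -/
noncomputable def adHom : Sp4 →* GL chevB2.Idx F := adHom0.toHomUnits

theorem adHom_val (A : Sp4) : ((adHom A : GL chevB2.Idx F) : Matrix chevB2.Idx chevB2.Idx F) = adMat A := rfl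

end Cfsg.Agent.Lib.Helper08.B2Sp
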