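import Mathlib
import Cfsg.Prelude.Def_ChevB2
import Cfsg.Agent.Lib.Helper24.DiagConj

/-!
# A Chevalley basis of `sp_4` matching the Prelude tables of type `B₂`

`bN k` (`k < 10`) is a basis of the symplectic Lie algebra of Mathlib's `Matrix.J (Fin 2) F`:
`bN 0, bN 1` are the fundamental coroots, `bN (2 + r)` is the root vector of the root with index `r`
of `Cfsg.Lie.chevB2`. `cN X k` are the coordinates of `X` in this basis.
-/

set_option autoImplicit false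

namespace Cfsg.Agent.Lib.Helper08.B2Sp

open Cfsg Cfsg.Lie Cfsg.Agent.Lib.Helper24 Matrix

variable {F : Type*} [Field F]

/-- `4 × 4` matrices on the index set of Mathlib's symplectic group -/
abbrev Mat4 (F : Type*) [Field F] := Matrix (Fin 2 ⊕ Fin 2) (Fin 2 ⊕ Fin 2) F

/-- Chevalley basis of `sp_4` (indexed by `ℕ`: `0, 1` Cartan, `2 + r` the root `r`) -/
def bN : ℕ → Mat4 F
  | 0 => fromBlocks !![1,0;0,-1] 0 0 !![-1,0;0,1]
  | 1 => fromBlocks !![0,0;0,1] 0 0 !![0,0;0,-1]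
  | 2 => fromBlocks 0 0 !![1,0;0,0] 0
  | 3 => fromBlocks 0 0 !![0,1;1,0] 0
  | 4 => fromBlocks !![0,0;1,0] 0 0 !![0,-1;0,0]
  | 5 => fromBlocks 0 0 !![0,0;0,-1] 0
  | 6 => fromBlocks 0 !![0,0;0,-1] 0 0
  | 7 => fromBlocks !![0,1;0,0] 0 0 !![0,0;-1,0]
  | 8 => fromBlocks 0 !![0,1;1,0] 0 0
  | 9 => fromBlocks 0 !![1,0;0,0] 0 0
  | _ => 0

/-- coordinates with respect to `bN` -/
def cN (X : Mat4 F) : ℕ → F
  | 0 => X (Sum.inl 0) (Sum.inl 0)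
  | 1 => X (Sum.inl 0) (Sum.inl 0) + X (Sum.inl 1) (Sum.inl 1)
  | 2 => X (Sum.inr 0) (Sum.inl 0)
  | 3 => X (Sum.inr 0) (Sum.inl 1)
  | 4 => X (Sum.inl 1) (Sum.inl 0)
  | 5 => - X (Sum.inr 1) (Sum.inl 1)
  | 6 => - X (Sum.inl 1) (Sum.inr 1)
  | 7 => X (Sum.inl 0) (Sum.inl 1)
  | 8 => X (Sum.inl 0) (Sum.inr 1)
  | 9 => X (Sum.inl 0) (Sum.inr 0)
  | _ => 0

end Cfsg.Agent.Lib.Helper08.B2Sp
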