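import Cfsg.Agent.Lib.Helper08.B2Root
import Cfsg.Agent.Lib.Helper11.SpPerfect
import Cfsg.Agent.S0765

/-!
# `Sp_4(F)` is generated by its eight root subgroups
-/

set_option autoImplicit false
set_option linter.unusedSimpArgs false
set_option linter.unnecessarySeqFocus false
set_option linter.unusedTactic false
set_option linter.unreachableTactic false

namespace Cfsg.Agent.Lib.Helper08.B2Sp

open Cfsg Cfsg.Lie Cfsg.Agent.Lib.Helper24 Matrix
open Cfsg.Agent.Lib.Helper18 Cfsg.Agent.Lib.Helper11.SpPerfect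

variable {F : Type*} [Field F]

local notation "Sp4" => Matrix.symplecticGroup (Fin 2) F
local notation "V4" => (Fin 2 ⊕ Fin 2 → F)

/-- a vector of `F^4` from its coordinates -/
def vec (a b c d : F) : V4 := Sum.elim ![a, b] ![c, d]

theorem vec_eta (x : V4) : x = vec (x (Sum.inl 0)) (x (Sum.inl 1)) (x (Sum.inr 0)) (x (Sum.inr 1)) := by
  funext i
  rcases i with i | i <;> fin_cases i <;> simp [vec]

theorem x7_act (s a b c d : F) : (xSp 7 s).1 *ᵥ vec a b c d = vec (a + s * c) b c d := by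
  funext i
  rcases i with i | i <;> fin_cases i <;>
    simp [xSp_val, bN, vec, Matrix.mulVec, dotProduct, Fintype.sum_sum_type, Fin.sum_univ_two,
      Matrix.add_apply, Matrix.one_apply]

theorem x0_act (s a b c d : F) : (xSp 0 s).1 *ᵥ vec a b c d = vec a b (c + s * a) d := by
  funext i
  rcases i with i | i <;> fin_cases i <;>
    simp [xSp_val, bN, vec, Matrix.mulVec, dotProduct, Fintype.sum_sum_type, Fin.sum_univ_two,
      Matrix.add_apply, Matrix.one_apply] <;> ring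

theorem x4_act (s a b c d : F) : (xSp 4 s).1 *ᵥ vec a b c d = vec a (b - s * d) c d := by
  funext i
  rcases i with i | i <;> fin_cases i <;>
    simp [xSp_val, bN, vec, Matrix.mulVec, dotProduct, Fintype.sum_sum_type, Fin.sum_univ_two,
      Matrix.add_apply, Matrix.one_apply] <;> ring

theorem x3_act (s a b c d : F) : (xSp 3 s).1 *ᵥ vec a b c d = vec a b c (d - s * b) := by
  funext i
  rcases i with i | i <;> fin_cases i <;>
    simp [xSp_val, bN, vec, Matrix.mulVec, dotProduct, Fintype.sum_sum_type, Fin.sum_univ_two,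
      Matrix.add_apply, Matrix.one_apply] <;> ring

theorem x6_act (s a b c d : F) : (xSp 6 s).1 *ᵥ vec a b c d = vec (a + s * d) (b + s * c) c d := by
  funext i
  rcases i with i | i <;> fin_cases i <;>
    simp [xSp_val, bN, vec, Matrix.mulVec, dotProduct, Fintype.sum_sum_type, Fin.sum_univ_two,
      Matrix.add_apply, Matrix.one_apply] <;> ring

theorem sf_vec (a b c d a' b' c' d' : F) :
    Cfsg.sympForm 2 F (vec a b c d) (vec a' b' c' d') = - a * c' - b * d' + c * a' + d * b' := by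
  simp [Cfsg.sympForm, Matrix.J, vec, Matrix.mulVec, dotProduct, Fintype.sum_sum_type,
    Fin.sum_univ_two, Matrix.one_apply]
  ring

theorem vec_add (a b c d a' b' c' d' : F) :
    vec a b c d + vec a' b' c' d' = vec (a + a') (b + b') (c + c') (d + d') := by
  funext i
  rcases i with i | i <;> fin_cases i <;> simp [vec]

theorem vec_smul (s a b c d : F) : s • vec a b c d = vec (s * a) (s * b) (s * c) (s * d) := by
  funext i
  rcases i with i | i <;> fin_cases i <;> simp [vec]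

theorem vec_congr {a b c d a' b' c' d' : F} (h1 : a = a') (h2 : b = b') (h3 : c = c') (h4 : d = d') :
    vec a b c d = vec a' b' c' d' := by
  rw [h1, h2, h3, h4]

/-- the subgroup generated by the root elements -/
def rootGroup : Subgroup Sp4 :=
  Subgroup.closure {A | ∃ (r : Fin chevB2.nroots) (t : F), A = xSp r.val t}

theorem xSp_mem (r : ℕ) (hr : r < 8) (t : F) : xSp r t ∈ rootGroup (F := F) :=
  Subgroup.subset_closure ⟨⟨r, hr⟩, t, rfl⟩

theorem tv_e1 (c : F) : tv 2 (vec 1 0 0 0) c = xSp 7 c := by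
  apply sp_ext
  intro x
  rw [vec_eta x, tv_act, x7_act, sf_vec, vec_smul, vec_add]
  apply vec_congr <;> ring

theorem tv_e2 (c : F) : tv 2 (vec 0 1 0 0) c = xSp 4 (-c) := by
  apply sp_ext
  intro x
  rw [vec_eta x, tv_act, x4_act, sf_vec, vec_smul, vec_add]
  apply vec_congr <;> ring

theorem tv_e12 (c : F) : tv 2 (vec 1 1 0 0) c = xSp 7 c * xSp 4 (-c) * xSp 6 c := by
  apply sp_ext
  intro x
  rw [vec_eta x, tv_act, val_mul', val_mul', ← Matrix.mulVec_mulVec, ← Matrix.mulVec_mulVec,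
    x6_act, x4_act, x7_act, sf_vec, vec_smul, vec_add]
  apply vec_congr <;> ring

theorem move1 (α β : F) (h : α ≠ 0 ∨ β ≠ 0) :
    ∃ A ∈ rootGroup (F := F), ∀ b d, A.1 *ᵥ vec 1 b 0 d = vec α b β d := by
  by_cases hβ : β = 0
  · have hα : α ≠ 0 := by
      rcases h with h | h
      · exact h
      · exact absurd hβ h
    refine ⟨xSp 0 (-1 / α) * xSp 7 (α - 1) * xSp 0 1,
      Subgroup.mul_mem _ (Subgroup.mul_mem _ (xSp_mem 0 (by norm_num) _) (xSp_mem 7 (by norm_num) _))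
        (xSp_mem 0 (by norm_num) _), ?_⟩
    intro b d
    rw [val_mul', val_mul', ← Matrix.mulVec_mulVec, ← Matrix.mulVec_mulVec, x0_act, x7_act, x0_act]
    apply vec_congr
    · ring
    · rfl
    · rw [hβ]; field_simp; ring
    · rfl
  · refine ⟨xSp 7 ((α - 1) / β) * xSp 0 β,
      Subgroup.mul_mem _ (xSp_mem 7 (by norm_num) _) (xSp_mem 0 (by norm_num) _), ?_⟩
    intro b d
    rw [val_mul', ← Matrix.mulVec_mulVec, x0_act, x7_act]
    apply vec_congr
    · field_simp; ring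
    · rfl
    · ring
    · rfl

theorem move2 (γ δ : F) (h : γ ≠ 0 ∨ δ ≠ 0) :
    ∃ A ∈ rootGroup (F := F), ∀ a c, A.1 *ᵥ vec a 1 c 0 = vec a γ c δ := by
  by_cases hδ : δ = 0
  · have hγ : γ ≠ 0 := by
      rcases h with h | h
      · exact h
      · exact absurd hδ h
    refine ⟨xSp 3 (1 / γ) * xSp 4 (1 - γ) * xSp 3 (-1),
      Subgroup.mul_mem _ (Subgroup.mul_mem _ (xSp_mem 3 (by norm_num) _) (xSp_mem 4 (by norm_num) _))
        (xSp_mem 3 (by norm_num) _), ?_⟩
    intro a c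
    rw [val_mul', val_mul', ← Matrix.mulVec_mulVec, ← Matrix.mulVec_mulVec, x3_act, x4_act, x3_act]
    apply vec_congr
    · rfl
    · ring
    · rfl
    · rw [hδ]; field_simp; ring
  · refine ⟨xSp 4 ((1 - γ) / δ) * xSp 3 (-δ),
      Subgroup.mul_mem _ (xSp_mem 4 (by norm_num) _) (xSp_mem 3 (by norm_num) _), ?_⟩
    intro a c
    rw [val_mul', ← Matrix.mulVec_mulVec, x3_act, x4_act]
    apply vec_congr
    · rfl
    · field_simp; ring
    · rfl
    · ring

theorem tv_mem_of_move (A : Sp4) (hA : A ∈ rootGroup (F := F)) (w₀ w : V4) (hw : A.1 *ᵥ w₀ = w)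
    (c : F) (h₀ : tv 2 w₀ c ∈ rootGroup (F := F)) : tv 2 w c ∈ rootGroup (F := F) := by
  rw [← hw, ← conj_tv]
  exact Subgroup.mul_mem _ (Subgroup.mul_mem _ hA h₀) (Subgroup.inv_mem _ hA)

theorem tv_mem (w : V4) (c : F) : tv 2 w c ∈ rootGroup (F := F) := by
  have he1 : tv 2 (vec 1 0 0 0) c ∈ rootGroup (F := F) := by
    rw [tv_e1]; exact xSp_mem 7 (by norm_num) _
  have he2 : tv 2 (vec 0 1 0 0) c ∈ rootGroup (F := F) := by
    rw [tv_e2]; exact xSp_mem 4 (by norm_num) _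
  have he12 : tv 2 (vec 1 1 0 0) c ∈ rootGroup (F := F) := by
    rw [tv_e12]
    exact Subgroup.mul_mem _ (Subgroup.mul_mem _ (xSp_mem 7 (by norm_num) _)
      (xSp_mem 4 (by norm_num) _)) (xSp_mem 6 (by norm_num) _)
  rw [vec_eta w]
  obtain ⟨α, hα⟩ : ∃ α, α = w (Sum.inl 0) := ⟨_, rfl⟩
  obtain ⟨γ, hγ⟩ : ∃ γ, γ = w (Sum.inl 1) := ⟨_, rfl⟩
  obtain ⟨β, hβ⟩ : ∃ β, β = w (Sum.inr 0) := ⟨_, rfl⟩
  obtain ⟨δ, hδ⟩ : ∃ δ, δ = w (Sum.inr 1) := ⟨_, rfl⟩
  rw [← hα, ← hβ, ← hγ, ← hδ]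
  by_cases h1 : α ≠ 0 ∨ β ≠ 0
  · obtain ⟨A, hA, hAv⟩ := move1 α β h1
    by_cases h2 : γ ≠ 0 ∨ δ ≠ 0
    · obtain ⟨B, hB, hBv⟩ := move2 γ δ h2
      apply tv_mem_of_move (A * B) (Subgroup.mul_mem _ hA hB) (vec 1 1 0 0) _ _ c he12
      rw [val_mul', ← Matrix.mulVec_mulVec, hBv, hAv]
    · push Not at h2
      rw [h2.1, h2.2]
      exact tv_mem_of_move A hA (vec 1 0 0 0) _ (hAv 0 0) c he1
  · push Not at h1
    rw [h1.1, h1.2]
    by_cases h2 : γ ≠ 0 ∨ δ ≠ 0
    · obtain ⟨B, hB, hBv⟩ := move2 γ δ h2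
      exact tv_mem_of_move B hB (vec 0 1 0 0) _ (hBv 0 0) c he2
    · push Not at h2
      rw [h2.1, h2.2]
      have : vec (0 : F) 0 0 0 = 0 := by
        funext i
        rcases i with i | i <;> fin_cases i <;> simp [vec]
      rw [this, tv_zero_left]
      exact Subgroup.one_mem _

theorem rootGroup_eq_top : rootGroup (F := F) = ⊤ := by
  rw [eq_top_iff, ← Cfsg.Agent.S0765.result (F := F) 2, Subgroup.closure_le]
  rintro A ⟨w, c, hA⟩
  have : A = tv 2 w c := Subtype.ext (by rw [hA, tv_val])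
  rw [this]
  exact tv_mem w c

end Cfsg.Agent.Lib.Helper08.B2Sp
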