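import Cfsg.Agent.Lib.Helper08.B2Root

/-!
# The kernel of the adjoint representation of `Sp_4(F)` is the centre
-/

set_option autoImplicit false
set_option linter.unusedSimpArgs false
set_option linter.unnecessarySeqFocus false
set_option linter.unusedTactic false
set_option linter.unreachableTactic false

namespace Cfsg.Agent.Lib.Helper08.B2Sp

open Cfsg Cfsg.Lie Cfsg.Agent.Lib.Helper24 Matrix

variable {F : Type*} [Field F]

local notation "Sp4" => Matrix.symplecticGroup (Fin 2) F

theorem bN9_eq : bN (F := F) 9 = Matrix.single (Sum.inl 0) (Sum.inr 0) 1 := by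
  ext i j
  rcases i with i | i <;> rcases j with j | j <;> fin_cases i <;> fin_cases j <;>
    simp [bN, Matrix.single_apply]

theorem bN2_eq : bN (F := F) 2 = Matrix.single (Sum.inr 0) (Sum.inl 0) 1 := by
  ext i j
  rcases i with i | i <;> rcases j with j | j <;> fin_cases i <;> fin_cases j <;>
    simp [bN, Matrix.single_apply]

theorem bN6_eq : bN (F := F) 6 = - Matrix.single (Sum.inl 1) (Sum.inr 1) 1 := by
  ext i j
  rcases i with i | i <;> rcases j with j | j <;> fin_cases i <;> fin_cases j <;>
    simp [bN, Matrix.single_apply]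

theorem bN5_eq : bN (F := F) 5 = - Matrix.single (Sum.inr 1) (Sum.inl 1) 1 := by
  ext i j
  rcases i with i | i <;> rcases j with j | j <;> fin_cases i <;> fin_cases j <;>
    simp [bN, Matrix.single_apply]

/-- a matrix commuting with the root vectors is scalar -/
theorem scalar_of_commute (g : Mat4 F) (h : ∀ r < 8, g * bN (2 + r) = bN (2 + r) * g) :
    ∃ a : F, g = a • (1 : Mat4 F) := by
  have c9 : Commute (Matrix.single (Sum.inl 0) (Sum.inr 0) (1 : F)) g := by
    rw [← bN9_eq]; exact (h 7 (by norm_num)).symm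
  have c2 : Commute (Matrix.single (Sum.inr 0) (Sum.inl 0) (1 : F)) g := by
    rw [← bN2_eq]; exact (h 0 (by norm_num)).symm
  have c6 : Commute (Matrix.single (Sum.inl 1) (Sum.inr 1) (1 : F)) g := by
    have := h 4 (by norm_num)
    rw [show 2 + 4 = 6 from rfl, bN6_eq, Matrix.mul_neg, Matrix.neg_mul, neg_inj] at this
    exact this.symm
  have c5 : Commute (Matrix.single (Sum.inr 1) (Sum.inl 1) (1 : F)) g := by
    have := h 3 (by norm_num)
    rw [show 2 + 3 = 5 from rfl, bN5_eq, Matrix.mul_neg, Matrix.neg_mul, neg_inj] at this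
    exact this.symm
  have d1 : g (Sum.inl 0) (Sum.inl 0) = g (Sum.inr 0) (Sum.inr 0) := diag_eq_of_commute_single c9
  have d2 : g (Sum.inl 1) (Sum.inl 1) = g (Sum.inr 1) (Sum.inr 1) := diag_eq_of_commute_single c6
  have d3 : g (Sum.inl 0) (Sum.inl 0) = g (Sum.inl 1) (Sum.inl 1) := by
    have h7 := h 5 (by norm_num)
    have := congrFun (congrFun h7 (Sum.inl 0)) (Sum.inl 1)
    simp [bN, Matrix.mul_apply, Fintype.sum_sum_type, Fin.sum_univ_two] at this
    exact this
  refine ⟨g (Sum.inl 0) (Sum.inl 0), ?_⟩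
  ext i j
  by_cases hij : i = j
  · subst hij
    rcases i with i | i <;> fin_cases i <;> simp [Matrix.smul_apply] <;>
      first | exact d3.symm | exact d1.symm | exact (d2.symm.trans d3.symm)
  · rw [Matrix.smul_apply, Matrix.one_apply_ne hij, smul_zero]
    rcases j with j | j <;> fin_cases j
    · exact col_eq_zero_of_commute_single c9 hij
    · exact col_eq_zero_of_commute_single c6 hij
    · exact col_eq_zero_of_commute_single c2 hij
    · exact col_eq_zero_of_commute_single c5 hij

/-- the inverse of `enc` on `k < 10` -/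
def dec (k : ℕ) : chevB2.Idx :=
  if h : k < 2 then Sum.inl ⟨k, h⟩ else if h' : k - 2 < 8 then Sum.inr ⟨k - 2, h'⟩ else Sum.inl ⟨0, by decide⟩

theorem enc_dec (k : ℕ) (hk : k < 10) : enc chevB2 (dec k) = k := by
  unfold dec
  split_ifs with h h'
  · rfl
  · show 2 + (k - 2) = k
    omega
  · omega

theorem conj_eq_of_adMat_eq_one (A : Sp4) (hA : adMat A = 1) (k : ℕ) (hk : k < 10) :
    A.1 * bN k * (A⁻¹).1 = bN k := by
  have hY : IsSp4 (A.1 * bN k * (A⁻¹).1) := conj_isSp4 A _ (isSp4_bN _)
  rw [recon _ hY]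
  have hc : ∀ l ∈ Finset.range 10, cN (A.1 * bN k * (A⁻¹).1) l • bN (F := F) l =
      if l = k then bN k else 0 := by
    intro l hl
    rw [Finset.mem_range] at hl
    have h1 : cN (A.1 * bN k * (A⁻¹).1) l = adMat A (dec l) (dec k) := by
      simp only [adMat, Matrix.of_apply, enc_dec _ hl, enc_dec _ hk]
    rw [h1, hA, Matrix.one_apply]
    by_cases hlk : l = k
    · subst hlk; simp
    · rw [if_neg hlk, if_neg, zero_smul]
      intro h'
      apply hlk
      rw [← enc_dec l hl, ← enc_dec k hk, h']
  rw [Finset.sum_congr rfl hc, Finset.sum_ite_eq' (Finset.range 10) k, if_pos (Finset.mem_range.mpr hk)]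

theorem adMat_eq_one_of_scalar (A : Sp4) (a : F) (hA : A.1 = a • (1 : Mat4 F)) : adMat A = 1 := by
  rw [← adMat_one]
  ext i j
  simp only [adMat, Matrix.of_apply, inv_one, val_one', Matrix.one_mul, Matrix.mul_one]
  congr 1
  have : A.1 * bN (enc chevB2 j) = bN (enc chevB2 j) * A.1 := by
    rw [hA, Matrix.smul_mul, Matrix.mul_smul, Matrix.one_mul, Matrix.mul_one]
  rw [this, Matrix.mul_assoc, val_mul_inv, Matrix.mul_one]

theorem adMat_eq_one_iff (A : Sp4) : adMat A = 1 ↔ A ∈ Subgroup.center Sp4 := by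
  constructor
  · intro hA
    have hcomm : ∀ r < 8, A.1 * bN (2 + r) = bN (2 + r) * A.1 := by
      intro r hr
      have := conj_eq_of_adMat_eq_one A hA (2 + r) (by omega)
      calc A.1 * bN (2 + r) = A.1 * bN (2 + r) * ((A⁻¹).1 * A.1) := by
            rw [val_inv_mul, Matrix.mul_one]
        _ = (A.1 * bN (2 + r) * (A⁻¹).1) * A.1 := by simp only [Matrix.mul_assoc]
        _ = bN (2 + r) * A.1 := by rw [this]
    obtain ⟨a, ha⟩ := scalar_of_commute A.1 hcomm
    rw [Subgroup.mem_center_iff]
    intro B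
    apply Subtype.ext
    rw [val_mul', val_mul', ha, Matrix.smul_mul, Matrix.mul_smul, Matrix.one_mul, Matrix.mul_one]
  · intro hA
    rw [Subgroup.mem_center_iff] at hA
    have hcomm : ∀ r < 8, A.1 * bN (2 + r) = bN (2 + r) * A.1 := by
      intro r _
      have h1 := congrArg Subtype.val (hA (xSp r 1))
      rw [val_mul', val_mul', xSp_val, one_smul, Matrix.add_mul, Matrix.mul_add, Matrix.one_mul,
        Matrix.mul_one] at h1
      exact (add_left_cancel h1).symm
    obtain ⟨a, ha⟩ := scalar_of_commute A.1 hcomm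
    exact adMat_eq_one_of_scalar A a ha

theorem adHom_ker : (adHom (F := F)).ker = Subgroup.center Sp4 := by
  ext A
  rw [MonoidHom.mem_ker, ← adMat_eq_one_iff]
  constructor
  · intro h
    have := congrArg (fun g : GL chevB2.Idx F => (g : Matrix chevB2.Idx chevB2.Idx F)) h
    simpa [adHom_val] using this
  · intro h
    apply Units.ext
    rw [adHom_val, h]; rfl

end Cfsg.Agent.Lib.Helper08.B2Sp
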