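import Cfsg.Agent.Lib.Helper08.B2Gen
import Cfsg.Agent.Lib.Helper08.B2Ker
import Cfsg.Prelude.Def_Classical

/-!
# `B₂(F) ≃* PSp₄(F)` for every field `F`

The Chevalley group `Cfsg.Lie.chevB2.group F` (adjoint type, generated by the matrices `x_r(t)` on the
Lie algebra) is the image of the adjoint representation of `Sp_4(F)`, whose kernel is the centre.
-/

set_option autoImplicit false

namespace Cfsg.Agent.Lib.Helper08.B2Sp

open Cfsg Cfsg.Lie Cfsg.Agent.Lib.Helper24 Matrix

variable {F : Type*} [Field F]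

local notation "Sp4" => Matrix.symplecticGroup (Fin 2) F

theorem adHom_range : (adHom (F := F)).range = chevB2.group F := by
  rw [MonoidHom.range_eq_map, ← rootGroup_eq_top, rootGroup, MonoidHom.map_closure]
  unfold ChevalleyDatum.group
  congr 1
  ext g
  constructor
  · rintro ⟨A, ⟨r, t, rfl⟩, rfl⟩
    exact ⟨r, t, adHom_xSp r t⟩
  · rintro ⟨r, t, hg⟩
    refine ⟨xSp r.val t, ⟨r, t, rfl⟩, ?_⟩
    apply Units.ext
    rw [hg, adHom_xSp]

/-- `B₂(F) ≃* PSp₄(F)` for every field `F` -/
noncomputable def b2Iso : ↥(chevB2.group F) ≃* Cfsg.PSp 2 F :=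
  ((MulEquiv.subgroupCongr (adHom_range (F := F))).symm.trans
    (QuotientGroup.quotientKerEquivRange (adHom (F := F))).symm).trans
    (QuotientGroup.quotientMulEquivOfEq (adHom_ker (F := F)))

end Cfsg.Agent.Lib.Helper08.B2Sp
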