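import Cfsg.Agent.Lib.Helper08.B2Basis

/-!
# Linear algebra of the Chevalley basis `bN` of `sp_4`
-/

set_option autoImplicit false
set_option linter.unusedSimpArgs false
set_option linter.unnecessarySeqFocus false
set_option linter.unusedTactic false
set_option linter.unreachableTactic false

namespace Cfsg.Agent.Lib.Helper08.B2Sp

open Cfsg Cfsg.Lie Cfsg.Agent.Lib.Helper24 Matrix

variable {F : Type*} [Field F]

theorem bN_ge (k : ℕ) (hk : 10 ≤ k) : bN (F := F) k = 0 := by
  obtain ⟨n, rfl⟩ : ∃ n, k = n + 10 := ⟨k - 10, by omega⟩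
  rfl

theorem cN_ge (X : Mat4 F) (k : ℕ) (hk : 10 ≤ k) : cN X k = 0 := by
  obtain ⟨n, rfl⟩ : ∃ n, k = n + 10 := ⟨k - 10, by omega⟩
  rfl

theorem cN_add (X Y : Mat4 F) (l : ℕ) : cN (X + Y) l = cN X l + cN Y l := by
  by_cases hl : l < 10
  · interval_cases l <;> simp [cN] <;> ring
  · rw [cN_ge _ _ (by omega), cN_ge _ _ (by omega), cN_ge _ _ (by omega), add_zero]

theorem cN_smul (a : F) (X : Mat4 F) (l : ℕ) : cN (a • X) l = a * cN X l := by
  by_cases hl : l < 10
  · interval_cases l <;> simp [cN] <;> ring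
  · rw [cN_ge _ _ (by omega), cN_ge _ _ (by omega), mul_zero]

theorem cN_zero (l : ℕ) : cN (0 : Mat4 F) l = 0 := by
  have := cN_smul (0 : F) (0 : Mat4 F) l
  rwa [zero_smul, zero_mul] at this

theorem cN_sum {ι : Type*} (s : Finset ι) (X : ι → Mat4 F) (l : ℕ) :
    cN (∑ i ∈ s, X i) l = ∑ i ∈ s, cN (X i) l := by
  classical
  induction s using Finset.induction_on with
  | empty => simp [cN_zero]
  | insert a s ha ih => rw [Finset.sum_insert ha, Finset.sum_insert ha, cN_add, ih]

theorem cN_list_sum (L : List (Mat4 F)) (l : ℕ) : cN L.sum l = (L.map fun X => cN X l).sum := by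
  induction L with
  | nil => simp [cN_zero]
  | cons a L ih => rw [List.sum_cons, List.map_cons, List.sum_cons, cN_add, ih]

theorem cN_bN (k l : ℕ) (hl : l < 10) : cN (bN (F := F) k) l = if k = l then 1 else 0 := by
  by_cases hk : k < 10
  · interval_cases k <;> interval_cases l <;> simp [cN, bN]
  · rw [bN_ge _ (by omega), cN_zero, if_neg (by omega)]

/-- membership in the symplectic Lie algebra -/
def IsSp4 (X : Mat4 F) : Prop := X * Matrix.J (Fin 2) F + Matrix.J (Fin 2) F * Xᵀ = 0

theorem isSp4_bN (k : ℕ) : IsSp4 (bN (F := F) k) := by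
  unfold IsSp4
  by_cases hk : k < 10
  · interval_cases k <;>
    · simp only [bN, Matrix.J]
      ext i j
      rcases i with i | i <;> rcases j with j | j <;> fin_cases i <;> fin_cases j <;>
        simp [Matrix.mul_apply, Fintype.sum_sum_type, Fin.sum_univ_two, Matrix.one_apply,
          Matrix.add_apply, Matrix.transpose_apply]
  · rw [bN_ge _ (by omega)]; simp

/-- reconstruction from the coordinates -/
theorem recon (X : Mat4 F) (hX : IsSp4 X) : X = ∑ k ∈ Finset.range 10, cN X k • bN k := by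
  unfold IsSp4 at hX
  have h := fun i j => congrFun (congrFun hX i) j
  have h1 := h (Sum.inl 0) (Sum.inl 0)
  have h2 := h (Sum.inl 0) (Sum.inl 1)
  have h3 := h (Sum.inl 1) (Sum.inl 0)
  have h4 := h (Sum.inl 1) (Sum.inl 1)
  have h5 := h (Sum.inl 0) (Sum.inr 0)
  have h6 := h (Sum.inl 0) (Sum.inr 1)
  have h7 := h (Sum.inl 1) (Sum.inr 0)
  have h8 := h (Sum.inl 1) (Sum.inr 1)
  have h9 := h (Sum.inr 0) (Sum.inr 0)
  have h10 := h (Sum.inr 0) (Sum.inr 1)
  have h11 := h (Sum.inr 1) (Sum.inr 0)
  have h12 := h (Sum.inr 1) (Sum.inr 1)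
  simp [Matrix.J, Matrix.mul_apply, Fintype.sum_sum_type, Fin.sum_univ_two, Matrix.one_apply,
    Matrix.add_apply, Matrix.transpose_apply] at h1 h2 h3 h4 h5 h6 h7 h8 h9 h10 h11 h12
  ext i j
  rcases i with i | i <;> rcases j with j | j <;> fin_cases i <;> fin_cases j <;>
    simp [Finset.sum_range_succ, cN, bN, Matrix.add_apply, Matrix.smul_apply] <;>
    first
      | linear_combination h3
      | linear_combination h10
      | linear_combination (-1 : F) * h5
      | linear_combination (-1 : F) * h7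
      | linear_combination (-1 : F) * h6
      | linear_combination (-1 : F) * h8

end Cfsg.Agent.Lib.Helper08.B2Sp
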