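import Cfsg.Agent.Lib.Helper08.B2Ad

/-!
# Root elements of `Sp_4(F)` and their adjoint matrices
-/

set_option autoImplicit false
set_option linter.unusedSimpArgs false
set_option linter.unnecessarySeqFocus false
set_option linter.unusedTactic false
set_option linter.unreachableTactic false

namespace Cfsg.Agent.Lib.Helper08.B2Sp

open Cfsg Cfsg.Lie Cfsg.Agent.Lib.Helper24 Matrix

variable {F : Type*} [Field F]

local notation "Sp4" => Matrix.symplecticGroup (Fin 2) F

theorem bN_sq (r : ℕ) : bN (F := F) (2 + r) * bN (2 + r) = 0 := by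
  by_cases hr : r < 8
  · interval_cases r <;>
    · simp only [bN]
      ext i j
      rcases i with i | i <;> rcases j with j | j <;> fin_cases i <;> fin_cases j <;>
        simp [Matrix.mul_apply, Fintype.sum_sum_type, Fin.sum_univ_two]
  · rw [bN_ge _ (by omega), Matrix.zero_mul]

theorem root_mem (r : ℕ) (t : F) : 1 + t • bN (2 + r) ∈ Matrix.symplecticGroup (Fin 2) F := by
  rw [SymplecticGroup.mem_iff]
  have h1 : bN (F := F) (2 + r) * J (Fin 2) F + J (Fin 2) F * (bN (2 + r))ᵀ = 0 := isSp4_bN (2 + r)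
  have h2 : bN (F := F) (2 + r) * J (Fin 2) F * (bN (2 + r))ᵀ = 0 := by
    have e : bN (F := F) (2 + r) * J (Fin 2) F = - (J (Fin 2) F * (bN (2 + r))ᵀ) :=
      eq_neg_of_add_eq_zero_left h1
    rw [e, Matrix.neg_mul, Matrix.mul_assoc, ← Matrix.transpose_mul, bN_sq, Matrix.transpose_zero,
      Matrix.mul_zero, neg_zero]
  have key : (1 + t • bN (2 + r)) * J (Fin 2) F * (1 + t • bN (2 + r))ᵀ =
      J (Fin 2) F + t • (bN (2 + r) * J (Fin 2) F + J (Fin 2) F * (bN (2 + r))ᵀ) +
        (t * t) • (bN (2 + r) * J (Fin 2) F * (bN (2 + r))ᵀ) := by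
    simp only [Matrix.transpose_add, Matrix.transpose_one, Matrix.transpose_smul, Matrix.add_mul,
      Matrix.mul_add, Matrix.one_mul, Matrix.mul_one, Matrix.smul_mul, Matrix.mul_smul, smul_add,
      smul_smul]
    abel
  rw [key, h1, h2, smul_zero, smul_zero, add_zero, add_zero]

/-- the root element `x_r(t)` of `Sp_4(F)` -/
def xSp (r : ℕ) (t : F) : Sp4 := ⟨1 + t • bN (2 + r), root_mem r t⟩

theorem xSp_val (r : ℕ) (t : F) : (xSp r t).1 = 1 + t • bN (2 + r) := rfl

theorem xSp_mul (r : ℕ) (s t : F) : xSp r s * xSp r t = xSp r (s + t) := by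
  apply Subtype.ext
  rw [val_mul', xSp_val, xSp_val, xSp_val, Matrix.add_mul, Matrix.mul_add, Matrix.mul_add,
    Matrix.one_mul, Matrix.mul_one, Matrix.one_mul, Matrix.smul_mul, Matrix.mul_smul, bN_sq,
    smul_zero, smul_zero, add_zero, add_smul, add_assoc, add_comm (t • _)]

theorem xSp_zero (r : ℕ) : xSp r (0 : F) = 1 := by
  apply Subtype.ext
  rw [xSp_val, zero_smul, add_zero]; rfl

theorem xSp_inv (r : ℕ) (t : F) : (xSp r t)⁻¹ = xSp r (-t) := by
  apply inv_eq_of_mul_eq_one_right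
  rw [xSp_mul, add_neg_cancel, xSp_zero]

theorem conjcol (r k : ℕ) (hr : r < 8) (hk : k < 10) (t : F) :
    (1 + t • bN (2 + r)) * bN k * (1 - t • bN (2 + r)) =
      bN (F := F) k + ((fullShape chevB2 r k).map fun e =>
        (((e.2.1 : ℤ) : F) * t ^ e.2.2) • bN e.1).sum := by
  interval_cases r
  · exact conjcol_0 k hk t
  · exact conjcol_1 k hk t
  · exact conjcol_2 k hk t
  · exact conjcol_3 k hk t
  · exact conjcol_4 k hk t
  · exact conjcol_5 k hk t
  · exact conjcol_6 k hk t
  · exact conjcol_7 k hk t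

theorem adMat_xSp (r : Fin chevB2.nroots) (t : F) : adMat (xSp r.val t) = chevB2.xMat F r t := by
  have hr : r.val < 8 := r.isLt
  ext i j
  rw [xMat_entry]
  simp only [adMat, Matrix.of_apply]
  rw [xSp_inv, xSp_val, xSp_val, neg_smul, ← sub_eq_add_neg, conjcol _ _ hr (enc_lt' j), cN_add,
    cN_bN _ _ (enc_lt' i), cN_list_sum, List.map_map]
  congr 2
  apply List.map_congr_left
  intro e _
  simp only [Function.comp, cN_smul, cN_bN _ _ (enc_lt' i), mul_ite, mul_one, mul_zero]

theorem adHom_xSp (r : Fin chevB2.nroots) (t : F) :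
    ((adHom (xSp r.val t) : GL chevB2.Idx F) : Matrix chevB2.Idx chevB2.Idx F) = chevB2.xMat F r t := by
  rw [adHom_val, adMat_xSp]

end Cfsg.Agent.Lib.Helper08.B2Sp
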