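import Cfsg.Prelude.Def_LieExceptional

set_option autoImplicit false

namespace Cfsg.Agent.Lib.Helper08

open Cfsg

variable {G : Type*} [Group G] (P : Cfsg.BNPair G)

/-- membership of `g` in the double coset `B n B`, unfolded -/
def DC (n g : G) : Prop := ∃ b1 ∈ P.B, ∃ b2 ∈ P.B, g = b1 * n * b2

theorem mem_dc_iff (n g : G) :
    g ∈ DoubleCoset.doubleCoset n (P.B : Set G) P.B ↔ DC P n g :=
  DoubleCoset.mem_doubleCoset

theorem DC_self (n : G) : DC P n n :=
  ⟨1, P.B.one_mem, 1, P.B.one_mem, by simp⟩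

theorem DC_mul_left {n g b : G} (hb : b ∈ P.B) (h : DC P n g) : DC P n (b * g) := by
  obtain ⟨b1, h1, b2, h2, rfl⟩ := h
  exact ⟨b * b1, P.B.mul_mem hb h1, b2, h2, by simp [mul_assoc]⟩

theorem DC_mul_right {n g b : G} (hb : b ∈ P.B) (h : DC P n g) : DC P n (g * b) := by
  obtain ⟨b1, h1, b2, h2, rfl⟩ := h
  exact ⟨b1, h1, b2 * b, P.B.mul_mem h2 hb, by simp [mul_assoc]⟩

theorem DC_trans {n m g : G} (h1 : DC P n m) (h2 : DC P m g) : DC P n g := by
  obtain ⟨b1, hb1, b2, hb2, rfl⟩ := h1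
  obtain ⟨c1, hc1, c2, hc2, rfl⟩ := h2
  exact ⟨c1 * b1, P.B.mul_mem hc1 hb1, b2 * c2, P.B.mul_mem hb2 hc2, by simp [mul_assoc]⟩

theorem DC_symm {n m : G} (h : DC P n m) : DC P m n := by
  obtain ⟨b1, hb1, b2, hb2, rfl⟩ := h
  exact ⟨b1⁻¹, P.B.inv_mem hb1, b2⁻¹, P.B.inv_mem hb2, by simp [mul_assoc]⟩

theorem DC_inv {n g : G} (h : DC P n g) : DC P n⁻¹ g⁻¹ := by
  obtain ⟨b1, hb1, b2, hb2, rfl⟩ := h
  exact ⟨b2⁻¹, P.B.inv_mem hb2, b1⁻¹, P.B.inv_mem hb1, by simp [mul_assoc]⟩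

theorem DC_one_iff {g : G} : DC P 1 g ↔ g ∈ P.B := by
  constructor
  · rintro ⟨b1, hb1, b2, hb2, rfl⟩
    simpa using P.B.mul_mem hb1 hb2
  · intro h
    exact ⟨g, h, 1, P.B.one_mem, by simp⟩

theorem DC_of_mem {n g : G} (hn : n ∈ P.B) : DC P n g ↔ g ∈ P.B := by
  constructor
  · rintro ⟨b1, hb1, b2, hb2, rfl⟩
    exact P.B.mul_mem (P.B.mul_mem hb1 hn) hb2
  · intro h
    exact ⟨g * n⁻¹, P.B.mul_mem h (P.B.inv_mem hn), 1, P.B.one_mem, by simp⟩

/-- `B n B = B m B` as sets iff `m ∈ B n B` -/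
theorem dc_eq_iff (n m : G) :
    DoubleCoset.doubleCoset n (P.B : Set G) P.B = DoubleCoset.doubleCoset m (P.B : Set G) P.B ↔
      DC P n m := by
  constructor
  · intro h
    rw [← mem_dc_iff, h]
    exact DoubleCoset.mem_doubleCoset_self _ _ _
  · intro h
    exact (DoubleCoset.doubleCoset_eq_of_mem ((mem_dc_iff P n m).2 h)).symm

/-! ### the torus `B ⊓ N` is normal in `N` -/

theorem conj_mem_B {n t : G} (hn : n ∈ P.N) (ht : t ∈ P.B) (ht' : t ∈ P.N) :
    n * t * n⁻¹ ∈ P.B :=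
  P.conj_mem n hn t ⟨ht, ht'⟩

theorem conj_mem_B' {n t : G} (hn : n ∈ P.N) (ht : t ∈ P.B) (ht' : t ∈ P.N) :
    n⁻¹ * t * n ∈ P.B := by
  have := P.conj_mem n⁻¹ (P.N.inv_mem hn) t ⟨ht, ht'⟩
  simpa using this

/-- the relation `n T = m T` for `n m ∈ N` -/
def Eqv (n m : G) : Prop := n⁻¹ * m ∈ P.B

theorem Eqv_refl (n : G) : Eqv P n n := by simp [Eqv, P.B.one_mem]

theorem Eqv_symm {n m : G} (h : Eqv P n m) : Eqv P m n := by
  have := P.B.inv_mem h
  simpa [Eqv] using this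

theorem Eqv_trans {n m k : G} (h1 : Eqv P n m) (h2 : Eqv P m k) : Eqv P n k := by
  have := P.B.mul_mem h1 h2
  simpa [Eqv, mul_assoc] using this

theorem Eqv_mul_left {n m : G} (x : G) (h : Eqv P n m) : Eqv P (x * n) (x * m) := by
  simpa [Eqv, mul_assoc] using h

theorem Eqv_mul_right {n m x : G} (hn : n ∈ P.N) (hm : m ∈ P.N) (hx : x ∈ P.N)
    (h : Eqv P n m) : Eqv P (n * x) (m * x) := by
  have := conj_mem_B' P hx h (P.N.mul_mem (P.N.inv_mem hn) hm)
  simpa [Eqv, mul_assoc] using this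

theorem Eqv_mul_B {n b : G} (hb : b ∈ P.B) : Eqv P n (n * b) := by
  simpa [Eqv] using hb

theorem Eqv_T_mul {n t : G} (hn : n ∈ P.N) (ht : t ∈ P.B) (ht' : t ∈ P.N) :
    Eqv P (t * n) n := by
  have := conj_mem_B' P hn (P.B.inv_mem ht) (P.N.inv_mem ht')
  simpa [Eqv, mul_assoc] using this

theorem Eqv_toDC {n m : G} (h : Eqv P n m) : DC P n m :=
  ⟨1, P.B.one_mem, n⁻¹ * m, h, by simp⟩

theorem Eqv_dc_iff {n m g : G} (h : Eqv P n m) : DC P n g ↔ DC P m g :=
  ⟨fun hg => DC_trans P (DC_symm P (Eqv_toDC P h)) hg, fun hg => DC_trans P (Eqv_toDC P h) hg⟩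

theorem S_mem_N {s : G} (hs : s ∈ P.S) : s ∈ P.N := P.subset hs

theorem sq_mem_B {s : G} (hs : s ∈ P.S) : s * s ∈ P.B := P.sq_mem s hs

theorem sq_mem_N {s : G} (hs : s ∈ P.S) : s * s ∈ P.N :=
  P.N.mul_mem (S_mem_N P hs) (S_mem_N P hs)

theorem Eqv_inv_S {s : G} (hs : s ∈ P.S) : Eqv P s⁻¹ s := by
  simpa [Eqv] using sq_mem_B P hs

theorem Eqv_sq_mul {s n : G} (hs : s ∈ P.S) (hn : n ∈ P.N) : Eqv P (s * (s * n)) n := by
  rw [← mul_assoc]
  exact Eqv_T_mul P hn (sq_mem_B P hs) (sq_mem_N P hs)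

theorem Eqv_inv_mul {s n : G} (hs : s ∈ P.S) (hn : n ∈ P.N) : Eqv P (s⁻¹ * n) (s * n) := by
  have h1 : s⁻¹ * n = (s * s)⁻¹ * (s * n) := by group
  rw [h1]
  exact Eqv_T_mul P (P.N.mul_mem (S_mem_N P hs) hn) (P.B.inv_mem (sq_mem_B P hs))
    (P.N.inv_mem (sq_mem_N P hs))

/-! ### variants of the double coset axiom -/

theorem axL {s n b : G} (hs : s ∈ P.S) (hn : n ∈ P.N) (hb : b ∈ P.B) :
    DC P (s * n) (s * b * n) ∨ DC P n (s * b * n) := by
  have := P.mul_mem_union s hs n hn b hb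
  rcases this with h | h
  · exact Or.inl ((mem_dc_iff P _ _).1 h)
  · exact Or.inr ((mem_dc_iff P _ _).1 h)

theorem axL_inv {s n b : G} (hs : s ∈ P.S) (hn : n ∈ P.N) (hb : b ∈ P.B) :
    DC P (s * n) (s⁻¹ * b * n) ∨ DC P n (s⁻¹ * b * n) := by
  have h1 : s⁻¹ * b * n = (s * s)⁻¹ * (s * b * n) := by group
  rw [h1]
  rcases axL P hs hn hb with h | h
  · exact Or.inl (DC_mul_left P (P.B.inv_mem (sq_mem_B P hs)) h)
  · exact Or.inr (DC_mul_left P (P.B.inv_mem (sq_mem_B P hs)) h)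

theorem axR {m t b : G} (hm : m ∈ P.N) (ht : t ∈ P.S) (hb : b ∈ P.B) :
    DC P (m * t) (m * b * t) ∨ DC P m (m * b * t) := by
  have h := axL_inv P ht (P.N.inv_mem hm) (P.B.inv_mem hb)
  have e1 : (t⁻¹ * b⁻¹ * m⁻¹)⁻¹ = m * b * t := by group
  rcases h with h | h
  · left
    have h2 := DC_inv P h
    rw [e1] at h2
    have e2 : (t * m⁻¹)⁻¹ = m * t⁻¹ := by group
    rw [e2] at h2
    have h3 : Eqv P (m * t⁻¹) (m * t) := Eqv_mul_left P m (Eqv_inv_S P ht)
    exact (Eqv_dc_iff P h3).1 h2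
  · right
    have h2 := DC_inv P h
    rw [e1] at h2
    simpa using h2

/-! ### Bruhat decomposition: existence -/

/-- the subgroup of elements `g` with `g X ⊆ X` and `g⁻¹ X ⊆ X` -/
def stabSub (X : Set G) : Subgroup G where
  carrier := {g | ∀ x ∈ X, g * x ∈ X ∧ g⁻¹ * x ∈ X}
  mul_mem' := by
    intro a b ha hb x hx
    refine ⟨?_, ?_⟩
    · rw [mul_assoc]; exact (ha _ (hb x hx).1).1
    · rw [mul_inv_rev, mul_assoc]; exact (hb _ (ha x hx).2).2
  one_mem' := by intro x hx; simp [hx]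
  inv_mem' := by
    intro a ha x hx
    exact ⟨(ha x hx).2, by simpa using (ha x hx).1⟩

theorem mem_stabSub {X : Set G} {g : G} :
    g ∈ stabSub X ↔ ∀ x ∈ X, g * x ∈ X ∧ g⁻¹ * x ∈ X := Iff.rfl

/-- the union of the double cosets `B n B`, `n ∈ K` -/
def BKB (K : Subgroup G) : Set G := {g | ∃ n ∈ K, DC P n g}

theorem one_mem_BKB (K : Subgroup G) : (1 : G) ∈ BKB P K :=
  ⟨1, K.one_mem, DC_self P 1⟩

theorem B_le_stabSub_BKB (K : Subgroup G) : P.B ≤ stabSub (BKB P K) := by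
  intro b hb x hx
  obtain ⟨n, hn, hx⟩ := hx
  exact ⟨⟨n, hn, DC_mul_left P hb hx⟩, ⟨n, hn, DC_mul_left P (P.B.inv_mem hb) hx⟩⟩

theorem S_mem_stabSub_BKB {K : Subgroup G} (hK : K ≤ P.N) {s : G} (hs : s ∈ P.S)
    (hsK : s ∈ K) : s ∈ stabSub (BKB P K) := by
  intro x hx
  obtain ⟨n, hn, b1, hb1, b2, hb2, rfl⟩ := hx
  constructor
  · have e : s * (b1 * n * b2) = (s * b1 * n) * b2 := by group
    rw [e]
    rcases axL P hs (hK hn) hb1 with h | h
    · exact ⟨s * n, K.mul_mem hsK hn, DC_mul_right P hb2 h⟩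
    · exact ⟨n, hn, DC_mul_right P hb2 h⟩
  · have e : s⁻¹ * (b1 * n * b2) = (s⁻¹ * b1 * n) * b2 := by group
    rw [e]
    rcases axL_inv P hs (hK hn) hb1 with h | h
    · exact ⟨s * n, K.mul_mem hsK hn, DC_mul_right P hb2 h⟩
    · exact ⟨n, hn, DC_mul_right P hb2 h⟩

theorem closure_S_le_N : Subgroup.closure P.S ≤ P.N :=
  (Subgroup.closure_le _).2 P.subset

/-- Bruhat decomposition, existence. -/
theorem bruhat_exists (g : G) : ∃ n ∈ P.N, DC P n g := by
  have h1 : Subgroup.closure P.S ≤ stabSub (BKB P P.N) :=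
    (Subgroup.closure_le _).2 fun s hs => S_mem_stabSub_BKB P le_rfl hs (P.subset hs)
  have h2 : P.B ⊓ P.N ≤ stabSub (BKB P P.N) := inf_le_left.trans (B_le_stabSub_BKB P _)
  have h3 : P.N ≤ stabSub (BKB P P.N) := by
    conv_lhs => rw [← P.closure_sup]
    exact sup_le h1 h2
  have h4 : (⊤ : Subgroup G) ≤ stabSub (BKB P P.N) := by
    rw [← P.sup_eq_top]
    exact sup_le (B_le_stabSub_BKB P _) h3
  have h5 := (h4 (Subgroup.mem_top g) 1 (one_mem_BKB P _)).1
  rw [mul_one] at h5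
  exact h5

/-! ### words and length -/

/-- `l` is a word in `S` representing the coset `n T` -/
def IsWord (l : List G) (n : G) : Prop := (∀ s ∈ l, s ∈ P.S) ∧ Eqv P l.prod n

theorem prod_mem_N {l : List G} (hl : ∀ s ∈ l, s ∈ P.S) : l.prod ∈ P.N :=
  Subgroup.list_prod_mem _ fun s hs => P.subset (hl s hs)

theorem IsWord_congr {l : List G} {n m : G} (h : Eqv P n m) (hl : IsWord P l n) :
    IsWord P l m :=
  ⟨hl.1, Eqv_trans P hl.2 h⟩

theorem exists_word {n : G} (hn : n ∈ P.N) : ∃ l, IsWord P l n := by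
  set X : Set G := {n | n ∈ P.N ∧ ∃ l, IsWord P l n} with hX
  have h1 : Subgroup.closure P.S ≤ stabSub X := by
    refine (Subgroup.closure_le _).2 fun s hs => ?_
    intro x hx
    obtain ⟨hxN, l, hl, hlx⟩ := hx
    have hsN := P.subset hs
    refine ⟨⟨P.N.mul_mem hsN hxN, s :: l, ?_, ?_⟩, ⟨P.N.mul_mem (P.N.inv_mem hsN) hxN, s :: l, ?_, ?_⟩⟩
    · intro a ha
      rcases List.mem_cons.1 ha with rfl | ha
      · exact hs
      · exact hl a ha
    · rw [List.prod_cons]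
      exact Eqv_mul_left P s hlx
    · intro a ha
      rcases List.mem_cons.1 ha with rfl | ha
      · exact hs
      · exact hl a ha
    · rw [List.prod_cons]
      exact Eqv_trans P (Eqv_mul_left P s hlx) (Eqv_symm P (Eqv_inv_mul P hs hxN))
  have h2 : P.B ⊓ P.N ≤ stabSub X := by
    intro t ht x hx
    obtain ⟨hxN, l, hl, hlx⟩ := hx
    refine ⟨⟨P.N.mul_mem ht.2 hxN, l, hl, ?_⟩, ⟨P.N.mul_mem (P.N.inv_mem ht.2) hxN, l, hl, ?_⟩⟩
    · exact Eqv_trans P hlx (Eqv_symm P (Eqv_T_mul P hxN ht.1 ht.2))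
    · exact Eqv_trans P hlx (Eqv_symm P (Eqv_T_mul P hxN (P.B.inv_mem ht.1) (P.N.inv_mem ht.2)))
  have h3 : P.N ≤ stabSub X := by
    conv_lhs => rw [← P.closure_sup]
    exact sup_le h1 h2
  have h4 := (h3 hn 1 ⟨P.N.one_mem, [], by simp, by simp [Eqv_refl]⟩).1
  rw [mul_one] at h4
  exact h4.2

/-- the length of the coset `n T` with respect to `S` -/
noncomputable def len (n : G) : ℕ := sInf {k | ∃ l : List G, l.length = k ∧ IsWord P l n}

theorem len_le {l : List G} {n : G} (h : IsWord P l n) : len P n ≤ l.length :=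
  Nat.sInf_le ⟨l, rfl, h⟩

theorem exists_word_len {n : G} (hn : n ∈ P.N) : ∃ l : List G, l.length = len P n ∧ IsWord P l n := by
  obtain ⟨l, hl⟩ := exists_word P hn
  exact Nat.sInf_mem (s := {k | ∃ l : List G, l.length = k ∧ IsWord P l n}) ⟨l.length, l, rfl, hl⟩

theorem len_congr {n m : G} (h : Eqv P n m) : len P n = len P m := by
  unfold len
  congr 1
  ext k
  constructor
  · rintro ⟨l, hl, hw⟩
    exact ⟨l, hl, IsWord_congr P h hw⟩
  · rintro ⟨l, hl, hw⟩
    exact ⟨l, hl, IsWord_congr P (Eqv_symm P h) hw⟩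

theorem mem_B_of_len_eq_zero {n : G} (hn : n ∈ P.N) (h : len P n = 0) : n ∈ P.B := by
  obtain ⟨l, hl, hw⟩ := exists_word_len P hn
  rw [h, List.length_eq_zero_iff] at hl
  subst hl
  simpa [Eqv] using hw.2

theorem len_S_mul_le {s n : G} (hs : s ∈ P.S) (hn : n ∈ P.N) : len P (s * n) ≤ len P n + 1 := by
  obtain ⟨l, hl, hw⟩ := exists_word_len P hn
  have : IsWord P (s :: l) (s * n) := by
    refine ⟨?_, ?_⟩
    · intro a ha
      rcases List.mem_cons.1 ha with rfl | ha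
      · exact hs
      · exact hw.1 a ha
    · rw [List.prod_cons]
      exact Eqv_mul_left P s hw.2
  have := len_le P this
  simpa [hl] using this

theorem len_le_S_mul {s n : G} (hs : s ∈ P.S) (hn : n ∈ P.N) : len P n ≤ len P (s * n) + 1 := by
  have h1 : len P n = len P (s * (s * n)) := (len_congr P (Eqv_sq_mul P hs hn)).symm
  rw [h1]
  exact len_S_mul_le P hs (P.N.mul_mem (P.subset hs) hn)

theorem len_mul_S_le {t n : G} (ht : t ∈ P.S) (hn : n ∈ P.N) : len P (n * t) ≤ len P n + 1 := by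
  obtain ⟨l, hl, hw⟩ := exists_word_len P hn
  have : IsWord P (l ++ [t]) (n * t) := by
    refine ⟨?_, ?_⟩
    · intro a ha
      rcases List.mem_append.1 ha with ha | ha
      · exact hw.1 a ha
      · rw [List.mem_singleton] at ha
        subst ha
        exact ht
    · rw [List.prod_append, List.prod_singleton]
      exact Eqv_mul_right P (prod_mem_N P hw.1) hn (P.subset ht) hw.2
  have := len_le P this
  simpa [hl] using this

theorem len_le_mul_S {t n : G} (ht : t ∈ P.S) (hn : n ∈ P.N) : len P n ≤ len P (n * t) + 1 := by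
  have h0 : Eqv P n (n * t * t) := by
    have : n⁻¹ * (n * t * t) = t * t := by group
    rw [Eqv, this]
    exact sq_mem_B P ht
  rw [len_congr P h0]
  exact len_mul_S_le P ht (P.N.mul_mem hn (P.subset ht))

theorem peel_left {n : G} (hn : n ∈ P.N) {k : ℕ} (hk : len P n = k + 1) :
    ∃ s ∈ P.S, ∃ n'' ∈ P.N, n = s * n'' ∧ len P n'' ≤ k := by
  obtain ⟨l, hl, hw⟩ := exists_word_len P hn
  rw [hk] at hl
  match l, hl, hw with
  | s :: l'', hl, hw =>
    have hs : s ∈ P.S := hw.1 s (List.mem_cons_self ..)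
    refine ⟨s, hs, s⁻¹ * n, P.N.mul_mem (P.N.inv_mem (P.subset hs)) hn, by group, ?_⟩
    have hw'' : IsWord P l'' (s⁻¹ * n) := by
      refine ⟨fun a ha => hw.1 a (List.mem_cons_of_mem _ ha), ?_⟩
      have := hw.2
      rw [List.prod_cons] at this
      have e : (l''.prod)⁻¹ * (s⁻¹ * n) = (s * l''.prod)⁻¹ * n := by group
      rw [Eqv, e]
      exact this
    have := len_le P hw''
    simp only [List.length_cons, Nat.add_right_cancel_iff] at hl
    omega

theorem peel_right {n : G} (hn : n ∈ P.N) {k : ℕ} (hk : len P n = k + 1) :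
    ∃ t ∈ P.S, ∃ n' ∈ P.N, Eqv P (n' * t) n ∧ len P n' ≤ k := by
  obtain ⟨l, hl, hw⟩ := exists_word_len P hn
  rw [hk] at hl
  rcases List.eq_nil_or_concat l with rfl | ⟨l', t, rfl⟩
  · simp at hl
  · have ht : t ∈ P.S := hw.1 t (by simp)
    have hl' : ∀ a ∈ l', a ∈ P.S := fun a ha => hw.1 a (by simp [ha])
    refine ⟨t, ht, l'.prod, prod_mem_N P hl', ?_, ?_⟩
    · have := hw.2
      simpa [List.prod_append] using this
    · have : IsWord P l' l'.prod := ⟨hl', Eqv_refl P _⟩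
      have := len_le P this
      simp at hl
      omega

/-! ### Bruhat decomposition: uniqueness -/

theorem bruhat_unique_aux : ∀ k : ℕ, ∀ n n' : G, n ∈ P.N → n' ∈ P.N → len P n ≤ k →
    len P n ≤ len P n' → DC P n n' → Eqv P n n' := by
  intro k
  induction k with
  | zero =>
    intro n n' hn hn' hk _ hdc
    have hnB : n ∈ P.B := mem_B_of_len_eq_zero P hn (Nat.le_zero.1 hk)
    have hn'B : n' ∈ P.B := (DC_of_mem P hnB).1 hdc
    exact P.B.mul_mem (P.B.inv_mem hnB) hn'B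
  | succ k ih =>
    intro n n' hn hn' hk hle hdc
    rcases Nat.lt_or_ge (len P n) (k + 1) with hlt | hge
    · exact ih n n' hn hn' (Nat.lt_succ_iff.1 hlt) hle hdc
    · have hk' : len P n = k + 1 := le_antisymm hk hge
      obtain ⟨s, hs, n'', hn'', rfl, hlen''⟩ := peel_left P hn hk'
      obtain ⟨b1, hb1, b2, hb2, e⟩ := DC_symm P hdc
      have e2 : n'' = (s⁻¹ * b1 * n') * b2 := by
        have : n'' = s⁻¹ * (s * n'') := by group
        rw [this, e]; group
      have hsn' : s * n' ∈ P.N := P.N.mul_mem (P.subset hs) hn'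
      rcases axL_inv P hs hn' hb1 with h | h
      · -- n'' ∈ B (s n') B
        have h1 : DC P (s * n') n'' := by rw [e2]; exact DC_mul_right P hb2 h
        have h2 : len P n'' ≤ len P (s * n') := by
          have := len_le_S_mul P hs hn'
          omega
        have h3 := ih n'' (s * n') hn'' hsn' hlen'' h2 (DC_symm P h1)
        exact Eqv_trans P (Eqv_mul_left P s h3) (Eqv_sq_mul P hs hn')
      · -- n'' ∈ B n' B : impossible
        have h1 : DC P n' n'' := by rw [e2]; exact DC_mul_right P hb2 h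
        have h3 := ih n'' n' hn'' hn' hlen'' (by omega) (DC_symm P h1)
        have := len_congr P h3
        omega

theorem bruhat_unique {n n' : G} (hn : n ∈ P.N) (hn' : n' ∈ P.N) (h : DC P n n') : Eqv P n n' := by
  rcases le_total (len P n) (len P n') with hle | hle
  · exact bruhat_unique_aux P _ n n' hn hn' le_rfl hle h
  · exact Eqv_symm P (bruhat_unique_aux P _ n' n hn' hn le_rfl hle (DC_symm P h))

end Cfsg.Agent.Lib.Helper08
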