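import Mathlib

set_option autoImplicit false

namespace Cfsg.Agent.Lib.Helper08

section Abstract

variable {W : Type*} [Group W] {B : Type*}

/-- word product -/
def wp {X : Type*} [Monoid X] (σ : B → X) (l : List B) : X := (l.map σ).prod

@[simp] theorem wp_nil {X : Type*} [Monoid X] (σ : B → X) : wp σ [] = 1 := by simp [wp]

@[simp] theorem wp_cons {X : Type*} [Monoid X] (σ : B → X) (b : B) (l : List B) :
    wp σ (b :: l) = σ b * wp σ l := by simp [wp]

@[simp] theorem wp_append {X : Type*} [Monoid X] (σ : B → X) (l1 l2 : List B) :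
    wp σ (l1 ++ l2) = wp σ l1 * wp σ l2 := by simp [wp]

theorem wp_singleton {X : Type*} [Monoid X] (σ : B → X) (b : B) : wp σ [b] = σ b := by simp [wp]

/-- a word is reduced if no shorter word has the same product -/
def Red (σ : B → W) (l : List B) : Prop := ∀ l', wp σ l' = wp σ l → l.length ≤ l'.length

theorem Red.prefix {σ : B → W} {l1 l2 : List B} (h : Red σ (l1 ++ l2)) : Red σ l1 := by
  intro l' hl'
  have := h (l' ++ l2) (by simp [hl'])
  simp only [List.length_append] at this
  omega

theorem Red.suffix {σ : B → W} {l1 l2 : List B} (h : Red σ (l1 ++ l2)) : Red σ l2 := by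
  intro l' hl'
  have := h (l1 ++ l') (by simp [hl'])
  simp only [List.length_append] at this
  omega

theorem Red.tail {σ : B → W} {b : B} {l : List B} (h : Red σ (b :: l)) : Red σ l :=
  Red.suffix (l1 := [b]) h

theorem Red.length_eq {σ : B → W} {l l' : List B} (h : Red σ l) (h' : Red σ l')
    (he : wp σ l = wp σ l') : l.length = l'.length :=
  le_antisymm (h l' he.symm) (h' l he)

theorem Red.of_length_le {σ : B → W} {v z : List B} (hv : Red σ v) (he : wp σ z = wp σ v)
    (hl : z.length ≤ v.length) : Red σ z := by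
  intro l' hl'
  have := hv l' (hl'.trans he)
  omega

theorem red_nil (σ : B → W) : Red σ [] := fun _ _ => Nat.zero_le _

theorem list_eq_nil_or_snoc {α : Type*} (l : List α) : l = [] ∨ ∃ l' b, l = l' ++ [b] := by
  rcases List.eq_nil_or_concat l with h | ⟨l', b, h⟩
  · exact Or.inl h
  · exact Or.inr ⟨l', b, by rw [h, List.concat_eq_append]⟩

theorem exists_red (σ : B → W) (gen : ∀ w : W, ∃ l : List B, wp σ l = w) (w : W) :
    ∃ l, Red σ l ∧ wp σ l = w := by
  classical
  have hex : ∃ k, ∃ l : List B, l.length = k ∧ wp σ l = w := by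
    obtain ⟨l, hl⟩ := gen w
    exact ⟨l.length, l, rfl, hl⟩
  obtain ⟨l, hl, hw⟩ := Nat.find_spec hex
  refine ⟨l, ?_, hw⟩
  intro l' hl'
  have := Nat.find_min' hex ⟨l', rfl, hl'.trans hw⟩
  omega

/-- alternating word starting with `x` -/
def altp (x y : B) : ℕ → List B
  | 0 => []
  | k + 1 => x :: altp y x k

@[simp] theorem altp_zero (x y : B) : altp x y 0 = [] := rfl

@[simp] theorem altp_succ (x y : B) (k : ℕ) : altp x y (k + 1) = x :: altp y x k := rfl

@[simp] theorem altp_length (x y : B) (k : ℕ) : (altp x y k).length = k := by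
  induction k generalizing x y with
  | zero => rfl
  | succ k ih => simp [ih]

theorem altp_succ_eq_concat (x y : B) (k : ℕ) : ∃ u, altp x y (k + 1) = altp x y k ++ [u] := by
  induction k generalizing x y with
  | zero => exact ⟨x, rfl⟩
  | succ k ih =>
    obtain ⟨u, hu⟩ := ih y x
    refine ⟨u, ?_⟩
    rw [altp_succ, hu]
    simp

/-- alternating product -/
def altprod {X : Type*} [Monoid X] (a b : X) : ℕ → X
  | 0 => 1
  | k + 1 => a * altprod b a k

theorem wp_altp {X : Type*} [Monoid X] (σ : B → X) (x y : B) (k : ℕ) :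
    wp σ (altp x y k) = altprod (σ x) (σ y) k := by
  induction k generalizing x y with
  | zero => simp [altprod]
  | succ k ih => simp [altprod, ih]

theorem altprod_mul_inv {X : Type*} [Group X] {a b : X} (ha : a * a = 1) (hb : b * b = 1)
    (k : ℕ) : altprod a b k * (altprod b a k)⁻¹ = (a * b) ^ k := by
  have hainv : a⁻¹ = a := inv_eq_of_mul_eq_one_right ha
  have hbinv : b⁻¹ = b := inv_eq_of_mul_eq_one_right hb
  induction k with
  | zero => simp [altprod]
  | succ k ih =>
    have h1 : altprod a b (k + 1) * (altprod b a (k + 1))⁻¹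
        = a * (altprod a b k * (altprod b a k)⁻¹)⁻¹ * b⁻¹ := by
      simp only [altprod]; group
    rw [h1, ih, hbinv]
    have h2 : ((a * b) ^ k)⁻¹ = (b * a) ^ k := by
      rw [← inv_pow, mul_inv_rev, hainv, hbinv]
    rw [h2, pow_succ']
    have h3 : ∀ n : ℕ, a * (b * a) ^ n = (a * b) ^ n * a := by
      intro n
      induction n with
      | zero => simp
      | succ n ihn => rw [pow_succ, ← mul_assoc, ihn, pow_succ]; group
    rw [h3, mul_assoc, ← pow_succ]
    rw [pow_succ']

theorem altprod_eq_iff {X : Type*} [Group X] {a b : X} (ha : a * a = 1) (hb : b * b = 1)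
    (k : ℕ) : altprod a b k = altprod b a k ↔ (a * b) ^ k = 1 := by
  rw [← altprod_mul_inv ha hb k, mul_inv_eq_one]

variable (σ : B → W) (sq : ∀ b, σ b * σ b = 1)
  (exch : ∀ (l : List B) (b : B), Red σ l → ¬ Red σ (b :: l) →
    ∃ l1 t l2, l = l1 ++ t :: l2 ∧ σ b * wp σ l = wp σ (l1 ++ l2))
  {C : Type*} [Group C] (τ : B → C) (tsq : ∀ b, τ b * τ b = 1)
  (trel : ∀ x y, (τ x * τ y) ^ orderOf (σ x * σ y) = 1)

include sq in
theorem sq_cancel (b : B) (w : W) : σ b * (σ b * w) = w := by
  rw [← mul_assoc, sq, one_mul]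

include sq exch tsq trel in
/-- inner induction of Prop. 5 -/
theorem prop5_inner (q : ℕ)
    (IH : ∀ q' < q, ∀ l l' : List B, Red σ l → Red σ l' → l.length = q' → wp σ l = wp σ l' →
      wp τ l = wp τ l') :
    ∀ (n : ℕ) (x y : B) (k : ℕ) (c y0 : List B), 1 ≤ k → c.length = n →
      (altp x y k ++ c).length = q → Red σ (altp x y k ++ c) → Red σ (y :: y0) →
      wp σ (altp x y k ++ c) = wp σ (y :: y0) → wp τ (altp x y k ++ c) = wp τ (y :: y0) := by
  intro n
  induction n with
  | zero =>
    intro x y k c y0 hk hc hq hredv hredy hw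
    rw [List.length_eq_zero_iff] at hc
    subst hc
    simp only [List.append_nil] at *
    simp only [altp_length] at hq
    subst hq
    -- v = altp x y k
    have hylen : (y :: y0).length = k := by
      have := Red.length_eq hredy hredv hw.symm
      simpa using this
    have hnot : ¬ Red σ (y :: altp x y k) := by
      intro hr
      have := hr y0 (by rw [wp_cons, hw, wp_cons, sq_cancel σ sq])
      simp only [List.length_cons, altp_length] at this hylen
      omega
    obtain ⟨l1, t, l2, hv, he⟩ := exch _ y hredv hnot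
    have hzw : wp σ (y :: (l1 ++ l2)) = wp σ (altp x y k) := by
      rw [wp_cons, ← he, sq_cancel σ sq]
    have hzlen : (y :: (l1 ++ l2)).length = k := by
      have := congrArg List.length hv
      simp only [altp_length, List.length_append, List.length_cons] at this ⊢
      omega
    have hredz : Red σ (y :: (l1 ++ l2)) :=
      Red.of_length_le hredv hzw (by rw [hzlen, altp_length])
    have h3 : wp τ (y :: (l1 ++ l2)) = wp τ (y :: y0) := by
      rw [wp_cons, wp_cons]
      congr 1
      apply IH (k - 1) (by omega) _ _ hredz.tail hredy.tail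
      · simp only [List.length_cons] at hzlen; omega
      · have h4 : σ y * wp σ (l1 ++ l2) = σ y * wp σ y0 := by
          rw [← wp_cons, ← wp_cons, hzw, hw]
        exact mul_left_cancel h4
    rw [← h3]
    rcases list_eq_nil_or_snoc l2 with hl2 | ⟨l2', u, hl2⟩
    · subst hl2
      obtain ⟨k', rfl⟩ : ∃ k', k = k' + 1 := ⟨k - 1, by omega⟩
      obtain ⟨u, hu⟩ := altp_succ_eq_concat x y k'
      rw [hu] at hv
      have hl1 : altp x y k' = l1 := (List.append_inj' hv rfl).1
      have hz : y :: (l1 ++ []) = altp y x (k' + 1) := by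
        rw [List.append_nil, ← hl1, altp_succ]
      rw [hz] at hzw ⊢
      rw [wp_altp, wp_altp] at hzw ⊢
      have h5 : (σ x * σ y) ^ (k' + 1) = 1 :=
        (altprod_eq_iff (sq x) (sq y) _).1 hzw.symm
      have h6 : (τ x * τ y) ^ (k' + 1) = 1 := by
        obtain ⟨d, hd⟩ := orderOf_dvd_of_pow_eq_one h5
        rw [hd, pow_mul, trel, one_pow]
      exact (altprod_eq_iff (tsq x) (tsq y) _).2 h6
    · subst hl2
      have hv' : altp x y k = (l1 ++ t :: l2') ++ [u] := by rw [hv]; simp
      have hz' : y :: (l1 ++ (l2' ++ [u])) = (y :: (l1 ++ l2')) ++ [u] := by simp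
      rw [hz', hv', wp_append τ (l1 ++ t :: l2') [u], wp_append τ (y :: (l1 ++ l2')) [u]]
      congr 1
      rw [hv'] at hredv hzw
      rw [hz'] at hredz hzw
      apply IH (k - 1) (by omega) _ _ hredv.prefix hredz.prefix ?_ ?_
      · have := congrArg List.length hv'
        simp only [altp_length, List.length_append, List.length_cons, List.length_nil] at this ⊢
        omega
      · rw [wp_append σ (l1 ++ t :: l2') [u], wp_append σ (y :: (l1 ++ l2')) [u]] at hzw
        exact (mul_right_cancel hzw).symm
  | succ n ih =>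
    intro x y k c y0 hk hc hq hredv hredy hw
    have hylen : (y :: y0).length = q := by
      have := Red.length_eq hredy hredv hw.symm
      omega
    have hnot : ¬ Red σ (y :: (altp x y k ++ c)) := by
      intro hr
      have := hr y0 (by rw [wp_cons, hw, wp_cons, sq_cancel σ sq])
      simp only [List.length_cons] at this hylen
      omega
    obtain ⟨l1, t, l2, hv, he⟩ := exch _ y hredv hnot
    have hzw : wp σ (y :: (l1 ++ l2)) = wp σ (altp x y k ++ c) := by
      rw [wp_cons, ← he, sq_cancel σ sq]
    have hzlen : (y :: (l1 ++ l2)).length = q := by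
      have := congrArg List.length hv
      rw [hq] at this
      simp only [List.length_append, List.length_cons] at this ⊢
      omega
    have hredz : Red σ (y :: (l1 ++ l2)) :=
      Red.of_length_le hredv hzw (by rw [hzlen, hq])
    have h3 : wp τ (y :: (l1 ++ l2)) = wp τ (y :: y0) := by
      rw [wp_cons, wp_cons]
      congr 1
      apply IH (q - 1) (by simp only [List.length_cons] at hylen; omega) _ _ hredz.tail hredy.tail
      · simp only [List.length_cons] at hzlen; omega
      · have h4 : σ y * wp σ (l1 ++ l2) = σ y * wp σ y0 := by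
          rw [← wp_cons, ← wp_cons, hzw, hw]
        exact mul_left_cancel h4
    rw [← h3]
    have hqpos : 0 < q := by simp only [List.length_cons] at hylen; omega
    rcases list_eq_nil_or_snoc l2 with hl2 | ⟨l2', u, hl2⟩
    · subst hl2
      -- c = c' ++ [t]
      rcases list_eq_nil_or_snoc c with hc0 | ⟨c', u, hcc⟩
      · subst hc0; simp at hc
      · subst hcc
        have hv2 : (altp x y k ++ c') ++ [u] = l1 ++ [t] := by rw [← hv]; simp
        have hl1 : altp x y k ++ c' = l1 := (List.append_inj' hv2 rfl).1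
        have hz : y :: (l1 ++ []) = altp y x (k + 1) ++ c' := by
          rw [List.append_nil, ← hl1, altp_succ]; simp
        rw [hz] at hzw hredz hzlen ⊢
        obtain ⟨k', rfl⟩ : ∃ k', k = k' + 1 := ⟨k - 1, by omega⟩
        have hvx : altp x y (k' + 1) ++ (c' ++ [u]) = x :: (altp y x k' ++ (c' ++ [u])) := by
          rw [altp_succ]; simp
        have hc' : c'.length = n := by
          simp only [List.length_append, List.length_cons, List.length_nil] at hc; omega
        have := ih y x (k' + 1 + 1) c' (altp y x k' ++ (c' ++ [u])) (by omega) hc' hzlen hredz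
          (hvx ▸ hredv) (by rw [hzw, hvx])
        rw [this, hvx]
    · subst hl2
      have hv' : altp x y k ++ c = (l1 ++ t :: l2') ++ [u] := by rw [hv]; simp
      have hz' : y :: (l1 ++ (l2' ++ [u])) = (y :: (l1 ++ l2')) ++ [u] := by simp
      rw [hz', hv', wp_append τ (l1 ++ t :: l2') [u], wp_append τ (y :: (l1 ++ l2')) [u]]
      congr 1
      rw [hv'] at hredv hzw hq
      rw [hz'] at hredz hzw
      apply IH (q - 1) (by omega) _ _ hredv.prefix hredz.prefix ?_ ?_
      · simp only [List.length_append, List.length_cons, List.length_nil] at hq ⊢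
        omega
      · rw [wp_append σ (l1 ++ t :: l2') [u], wp_append σ (y :: (l1 ++ l2')) [u]] at hzw
        exact (mul_right_cancel hzw).symm

include sq exch tsq trel in
/-- Prop. 5: the `τ`-product of a reduced word depends only on its `σ`-product -/
theorem prop5 : ∀ (q : ℕ) (l l' : List B), Red σ l → Red σ l' → l.length = q →
    wp σ l = wp σ l' → wp τ l = wp τ l' := by
  intro q
  induction q using Nat.strong_induction_on with
  | _ q IH =>
    intro l l' hl hl' hq hw
    have hlen' : l'.length = q := by rw [← Red.length_eq hl hl' hw, hq]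
    match l, l', hl, hl', hq, hlen', hw with
    | [], [], _, _, _, _, _ => rfl
    | [], _ :: _, _, _, hq, hlen', _ => simp at hq hlen'; omega
    | _ :: _, [], _, _, hq, hlen', _ => simp at hq hlen'; omega
    | s :: l0, s' :: l0', hl, hl', hq, hlen', hw =>
      by_cases hss : s = s'
      · subst hss
        rw [wp_cons, wp_cons]
        congr 1
        apply IH (q - 1) (by simp at hq; omega) l0 l0' hl.tail hl'.tail (by simp at hq; omega)
        rw [wp_cons, wp_cons] at hw
        exact mul_left_cancel hw
      · have := prop5_inner σ sq exch τ tsq trel q IH l0.length s s' 1 l0 l0' le_rfl rfl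
          (by simpa using hq) (by simpa using hl) hl' (by simpa using hw)
        simpa using this

include sq exch tsq trel in
theorem exists_psi (gen : ∀ w : W, ∃ l : List B, wp σ l = w) :
    ∃ ψ : W → C, ∀ l : List B, ψ (wp σ l) = wp τ l := by
  classical
  have hex := exists_red σ gen
  let ψ : W → C := fun w => wp τ (hex w).choose
  have hψ : ∀ (w : W) (l : List B), Red σ l → wp σ l = w → ψ w = wp τ l := by
    intro w l hl hw
    have h1 := (hex w).choose_spec
    exact prop5 σ sq exch τ tsq trel _ _ _ h1.1 hl rfl (h1.2.trans hw.symm)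
  have htinv : ∀ b, (τ b)⁻¹ = τ b := fun b => inv_eq_of_mul_eq_one_right (tsq b)
  have hmul : ∀ (b : B) (w : W), ψ (σ b * w) = τ b * ψ w := by
    intro b w
    obtain ⟨l, hl, hw⟩ := hex w
    by_cases hr : Red σ (b :: l)
    · rw [hψ (σ b * w) (b :: l) hr (by rw [wp_cons, hw]), hψ w l hl hw, wp_cons]
    · obtain ⟨l1, t, l2, hsplit, he⟩ := exch l b hl hr
      have hlen : (l1 ++ l2).length + 1 = l.length := by
        rw [hsplit]; simp; omega
      have hw3 : wp σ (b :: (l1 ++ l2)) = w := by
        rw [wp_cons, ← he, sq_cancel σ sq, hw]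
      have hred3' : Red σ (b :: (l1 ++ l2)) :=
        Red.of_length_le hl (hw3.trans hw.symm) (by simp only [List.length_cons]; omega)
      have hred3 : Red σ (l1 ++ l2) := hred3'.tail
      have h5 : ψ (σ b * w) = wp τ (l1 ++ l2) := hψ _ _ hred3 (by rw [← he, hw])
      have h6 : ψ w = τ b * wp τ (l1 ++ l2) := by
        rw [hψ w _ hred3' hw3, wp_cons]
      rw [h5, h6, ← mul_assoc, tsq, one_mul]
  refine ⟨ψ, ?_⟩
  intro l
  induction l with
  | nil => exact hψ _ [] (red_nil σ) rfl
  | cons b l ih => rw [wp_cons, hmul, ih, wp_cons]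

end Abstract

/-- the Coxeter matrix of orders of products of two generators -/
noncomputable def orderMatrix {W : Type*} [Group W] {B : Type*} (σ : B → W) (sq : ∀ b, σ b * σ b = 1)
    (inj : Function.Injective σ) : CoxeterMatrix B where
  M := Matrix.of fun b b' => orderOf (σ b * σ b')
  isSymm := by
    ext b b'
    simp only [Matrix.transpose_apply, Matrix.of_apply]
    have h1 : (σ b)⁻¹ = σ b := inv_eq_of_mul_eq_one_right (sq b)
    have h2 : (σ b')⁻¹ = σ b' := inv_eq_of_mul_eq_one_right (sq b')
    have : σ b' * σ b = (σ b * σ b')⁻¹ := by rw [mul_inv_rev, h1, h2]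
    rw [this, orderOf_inv]
  diagonal := by
    intro b
    simp [sq b]
  off_diagonal := by
    intro b b' hne h
    simp only [Matrix.of_apply, orderOf_eq_one_iff] at h
    have h1 : (σ b)⁻¹ = σ b := inv_eq_of_mul_eq_one_right (sq b)
    have : σ b' = σ b := by
      rw [← h1]; exact (inv_eq_of_mul_eq_one_right h).symm
    exact hne (inj this).symm

theorem orderMatrix_apply {W : Type*} [Group W] {B : Type*} (σ : B → W) (sq : ∀ b, σ b * σ b = 1)
    (inj : Function.Injective σ) (b b' : B) :
    (orderMatrix σ sq inj) b b' = orderOf (σ b * σ b') := rfl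

/-- a group generated by involutions satisfying the exchange condition is a Coxeter group -/
theorem coxeterSystem_of_exchange {W : Type*} [Group W] {B : Type*} (σ : B → W)
    (sq : ∀ b, σ b * σ b = 1) (inj : Function.Injective σ)
    (gen : ∀ w : W, ∃ l : List B, wp σ l = w)
    (exch : ∀ (l : List B) (b : B), Red σ l → ¬ Red σ (b :: l) →
      ∃ l1 t l2, l = l1 ++ t :: l2 ∧ σ b * wp σ l = wp σ (l1 ++ l2)) :
    ∃ cs : CoxeterSystem (orderMatrix σ sq inj) W, ∀ b, cs.simple b = σ b := by
  set M := orderMatrix σ sq inj with hM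
  let cs0 := M.toCoxeterSystem
  have hlift : M.IsLiftable σ := fun b b' => by
    rw [orderMatrix_apply]; exact pow_orderOf_eq_one _
  let φ : M.Group →* W := cs0.lift ⟨σ, hlift⟩
  have hφ : ∀ b, φ (M.simple b) = σ b := fun b => cs0.lift_apply_simple hlift b
  have hφw : ∀ l : List B, φ (wp M.simple l) = wp σ l := by
    intro l
    induction l with
    | nil => simp
    | cons b l ih => rw [wp_cons, map_mul, hφ, ih, wp_cons]
  have tsq : ∀ b, M.simple b * M.simple b = 1 := fun b => cs0.simple_mul_simple_self b
  have trel : ∀ x y, (M.simple x * M.simple y) ^ orderOf (σ x * σ y) = 1 := fun x y => by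
    have := cs0.simple_mul_simple_pow x y
    rwa [orderMatrix_apply] at this
  obtain ⟨ψ, hψ⟩ := exists_psi σ sq exch M.simple tsq trel gen
  have hsurjC : ∀ x : M.Group, ∃ l : List B, wp M.simple l = x := fun x => by
    obtain ⟨l, hl⟩ := cs0.wordProd_surjective x
    exact ⟨l, hl⟩
  have hinj : Function.Injective φ := by
    intro x y hxy
    obtain ⟨lx, rfl⟩ := hsurjC x
    obtain ⟨ly, rfl⟩ := hsurjC y
    rw [hφw, hφw] at hxy
    rw [← hψ lx, ← hψ ly, hxy]
  have hsurj : Function.Surjective φ := by
    intro w
    obtain ⟨l, rfl⟩ := gen w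
    exact ⟨wp M.simple l, hφw l⟩
  refine ⟨⟨(MulEquiv.ofBijective φ ⟨hinj, hsurj⟩).symm⟩, fun b => ?_⟩
  show (MulEquiv.ofBijective φ ⟨hinj, hsurj⟩).symm.symm (PresentedGroup.of b) = σ b
  rw [MulEquiv.symm_symm]
  exact hφ b

end Cfsg.Agent.Lib.Helper08
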