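import Cfsg.Agent.Lib.Helper08.BNPairSimple
import Cfsg.Agent.Lib.Helper08.ExchangeCoxeter

set_option autoImplicit false

namespace Cfsg.Agent.Lib.Helper08

open Cfsg

variable {G : Type*} [Group G] (P : Cfsg.BNPair G)
  [hN : ((P.B ⊓ P.N).subgroupOf P.N).Normal]

/-- the distinguished generators of the Weyl group -/
def weylGen (s : P.S) : P.N ⧸ (P.B ⊓ P.N).subgroupOf P.N :=
  QuotientGroup.mk (⟨(s : G), P.subset s.2⟩ : P.N)

omit hN in
theorem weyl_mk_eq_iff {n m : G} (hn : n ∈ P.N) (hm : m ∈ P.N) :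
    (QuotientGroup.mk (⟨n, hn⟩ : P.N) : P.N ⧸ (P.B ⊓ P.N).subgroupOf P.N) =
      QuotientGroup.mk (⟨m, hm⟩ : P.N) ↔ Eqv P n m := by
  rw [QuotientGroup.eq, Subgroup.mem_subgroupOf]
  constructor
  · intro h
    exact h.1
  · intro h
    exact ⟨h, P.N.mul_mem (P.N.inv_mem hn) hm⟩

theorem weyl_mk_eq_one_iff {n : G} (hn : n ∈ P.N) :
    (QuotientGroup.mk (⟨n, hn⟩ : P.N) : P.N ⧸ (P.B ⊓ P.N).subgroupOf P.N) = 1 ↔ n ∈ P.B := by
  rw [QuotientGroup.eq_one_iff, Subgroup.mem_subgroupOf]
  exact ⟨fun h => h.1, fun h => ⟨h, hn⟩⟩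

omit hN in
theorem valList_mem_S (l : List P.S) : ∀ a ∈ l.map Subtype.val, a ∈ P.S := by
  intro a ha
  obtain ⟨s, _, rfl⟩ := List.mem_map.1 ha
  exact s.2

theorem wp_weylGen (l : List P.S) :
    wp (weylGen P) l = QuotientGroup.mk (⟨(l.map Subtype.val).prod,
      prod_mem_N P (valList_mem_S P l)⟩ : P.N) := by
  induction l with
  | nil =>
    simp only [wp_nil, List.map_nil, List.prod_nil]
    rfl
  | cons s l ih =>
    rw [wp_cons, ih, weylGen, ← QuotientGroup.mk_mul]
    congr 1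

theorem weylGen_sq (s : P.S) : weylGen P s * weylGen P s = 1 := by
  rw [weylGen, ← QuotientGroup.mk_mul]
  have : (⟨(s : G), P.subset s.2⟩ : P.N) * ⟨(s : G), P.subset s.2⟩ =
      ⟨(s : G) * s, P.N.mul_mem (P.subset s.2) (P.subset s.2)⟩ := rfl
  rw [this, weyl_mk_eq_one_iff]
  exact P.sq_mem s s.2

omit hN in
theorem weylGen_injective : Function.Injective (weylGen P) := by
  intro s s' h
  rw [weylGen, weylGen, weyl_mk_eq_iff] at h
  exact Subtype.ext (P.inj s s.2 s' s'.2 h)

omit hN in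
theorem exists_lift_list (lG : List G) (h : ∀ a ∈ lG, a ∈ P.S) :
    ∃ l : List P.S, l.map Subtype.val = lG := by
  induction lG with
  | nil => exact ⟨[], rfl⟩
  | cons a lG ih =>
    obtain ⟨l, hl⟩ := ih fun x hx => h x (List.mem_cons_of_mem _ hx)
    exact ⟨⟨a, h a (List.mem_cons_self ..)⟩ :: l, by simp [hl]⟩

theorem weylGen_gen (w : P.N ⧸ (P.B ⊓ P.N).subgroupOf P.N) :
    ∃ l : List P.S, wp (weylGen P) l = w := by
  induction w using QuotientGroup.induction_on with
  | H n =>
    obtain ⟨lG, hlG, heqv⟩ := exists_word P n.2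
    obtain ⟨l, rfl⟩ := exists_lift_list P lG hlG
    refine ⟨l, ?_⟩
    rw [wp_weylGen]
    exact (weyl_mk_eq_iff P _ n.2).2 heqv

theorem red_iff_reduced (l : List P.S) :
    Red (weylGen P) l ↔ Reduced P (l.map Subtype.val) := by
  constructor
  · intro h
    refine ⟨valList_mem_S P l, le_antisymm ?_ ?_⟩
    · exact len_le P ⟨valList_mem_S P l, Eqv_refl P _⟩
    · obtain ⟨lG', hlen, hw⟩ := exists_word_len P (prod_mem_N P (valList_mem_S P l))
      obtain ⟨l', rfl⟩ := exists_lift_list P lG' hw.1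
      have h1 : wp (weylGen P) l' = wp (weylGen P) l := by
        rw [wp_weylGen, wp_weylGen]
        exact (weyl_mk_eq_iff P _ _).2 hw.2
      have := h l' h1
      simp only [List.length_map] at hlen ⊢
      omega
  · intro h l' hl'
    rw [wp_weylGen, wp_weylGen, weyl_mk_eq_iff] at hl'
    have h1 : IsWord P (l'.map Subtype.val) (l.map Subtype.val).prod :=
      ⟨valList_mem_S P l', hl'⟩
    have h2 := len_le P h1
    have h3 := h.2
    simp only [List.length_map] at h2 h3
    omega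

theorem weylGen_exchange (l : List P.S) (b : P.S) (hl : Red (weylGen P) l)
    (hnot : ¬ Red (weylGen P) (b :: l)) :
    ∃ l1 t l2, l = l1 ++ t :: l2 ∧
      weylGen P b * wp (weylGen P) l = wp (weylGen P) (l1 ++ l2) := by
  have hred : Reduced P (l.map Subtype.val) := (red_iff_reduced P l).1 hl
  have hnot' : ¬ Reduced P ((b :: l).map Subtype.val) := fun h => hnot ((red_iff_reduced P _).2 h)
  have hN' : (l.map Subtype.val).prod ∈ P.N := prod_mem_N P hred.1
  have hlt : len P ((b : G) * (l.map Subtype.val).prod) < len P (l.map Subtype.val).prod := by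
    rcases len_S_mul_lt_or_gt P b.2 hN' with h | h
    · exact h
    · exfalso
      apply hnot'
      refine ⟨valList_mem_S P (b :: l), ?_⟩
      have h1 := len_S_mul_le P b.2 hN'
      have h2 := hred.2
      simp only [List.map_cons, List.prod_cons, List.length_cons, List.length_map] at h2 ⊢
      omega
  obtain ⟨l1, t, l2, hsplit, heqv⟩ := exchange P b.2 _ hred hlt
  -- pull the splitting back to `List P.S`
  obtain ⟨l1', r, hl, hl1, hr⟩ := List.map_eq_append_iff.1 hsplit
  obtain ⟨t', l2', hr', ht, hl2⟩ := List.map_eq_cons_iff.1 hr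
  refine ⟨l1', t', l2', by rw [hl, hr'], ?_⟩
  have e1 : weylGen P b * wp (weylGen P) l = wp (weylGen P) (b :: l) := (wp_cons _ _ _).symm
  rw [e1, wp_weylGen, wp_weylGen, weyl_mk_eq_iff]
  have e2 : ((l1' ++ l2').map Subtype.val) = l1 ++ l2 := by
    rw [List.map_append, hl1, hl2]
  rw [e2]
  simpa using heqv

/-- The Weyl group of a (B,N)-pair is a Coxeter group. -/
theorem weyl_coxeterSystem :
    ∃ cs : CoxeterSystem (orderMatrix (weylGen P) (weylGen_sq P) (weylGen_injective P))
      (P.N ⧸ (P.B ⊓ P.N).subgroupOf P.N), ∀ s : P.S, cs.simple s = weylGen P s :=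
  coxeterSystem_of_exchange (weylGen P) (weylGen_sq P) (weylGen_injective P) (weylGen_gen P)
    (weylGen_exchange P)

end Cfsg.Agent.Lib.Helper08
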