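import Cfsg.Agent.Lib.Helper08.BNPairParabolic

set_option autoImplicit false

namespace Cfsg.Agent.Lib.Helper08

open Cfsg

variable {G : Type*} [Group G] (P : Cfsg.BNPair G)

theorem S_not_mem_B {s : G} (hs : s ∈ P.S) : s ∉ P.B := by
  intro hsB
  obtain ⟨b, hb, hnot⟩ := exists_conj_not_mem P hs
  exact hnot (P.B.mul_mem (P.B.mul_mem hsB hb) hsB)

theorem len_eq_zero_of_mem_B {n : G} (hn : n ∈ P.B) : len P n = 0 := by
  have : IsWord P [] n := ⟨by simp, by simpa [Eqv] using hn⟩
  simpa using len_le P this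

theorem len_S {s : G} (hs : s ∈ P.S) : len P s = 1 := by
  have h1 : len P s ≤ 1 := by
    have : IsWord P [s] s := ⟨by simpa using hs, by simp [Eqv_refl]⟩
    simpa using len_le P this
  have h2 : len P s ≠ 0 := fun h => S_not_mem_B P hs (mem_B_of_len_eq_zero P (P.subset hs) h)
  omega

/-- if `l(n) ≤ l(sn)` then `s B n ⊆ B s n B` -/
theorem claimA_le_aux : ∀ k : ℕ, ∀ s n : G, s ∈ P.S → n ∈ P.N → len P n ≤ k →
    len P n ≤ len P (s * n) → ∀ b ∈ P.B, DC P (s * n) (s * b * n) := by
  intro k
  induction k with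
  | zero =>
    intro s n hs hn hk _ b hb
    have hnB : n ∈ P.B := mem_B_of_len_eq_zero P hn (Nat.le_zero.1 hk)
    have e : s * b * n = (s * n) * (n⁻¹ * b * n) := by group
    rw [e]
    exact DC_mul_right P (P.B.mul_mem (P.B.mul_mem (P.B.inv_mem hnB) hb) hnB) (DC_self P _)
  | succ k ih =>
    intro s n hs hn hk hlt b hb
    rcases Nat.lt_or_ge (len P n) (k + 1) with hlt' | hge
    · exact ih s n hs hn (Nat.lt_succ_iff.1 hlt') hlt b hb
    · have hk' : len P n = k + 1 := le_antisymm hk hge
      obtain ⟨t, ht, n', hn', heqv, hlen'⟩ := peel_right P hn hk'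
      have hsN : s ∈ P.N := P.subset hs
      have hsn' : s * n' ∈ P.N := P.N.mul_mem hsN hn'
      have h1 : Eqv P (s * n' * t) (s * n) := by
        rw [mul_assoc]; exact Eqv_mul_left P s heqv
      have h2 : len P (s * n' * t) = len P (s * n) := len_congr P h1
      have h3 : len P (s * n' * t) ≤ len P (s * n') + 1 := len_mul_S_le P ht hsn'
      have h4 : len P n' ≤ len P (s * n') := by omega
      have ih' := ih s n' hs hn' hlen' h4
      set b0 := (n' * t)⁻¹ * n with hb0
      have hb0B : b0 ∈ P.B := heqv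
      have en : n = n' * t * b0 := by rw [hb0]; group
      obtain ⟨b1, hb1, b2, hb2, e1⟩ := ih' b hb
      have e2 : s * b * n = b1 * (s * n' * b2 * t) * b0 := by
        have : s * b * n = (s * b * n') * t * b0 := by
          conv_lhs => rw [en]
          group
        rw [this, e1]; group
      rcases axR P hsn' ht hb2 with h | h
      · have h5 : DC P (s * n' * t) (s * b * n) := by
          rw [e2]; exact DC_mul_right P hb0B (DC_mul_left P hb1 h)
        exact (Eqv_dc_iff P h1).1 h5
      · have h5 : DC P (s * n') (s * b * n) := by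
          rw [e2]; exact DC_mul_right P hb0B (DC_mul_left P hb1 h)
        rcases axL P hs hn hb with h6 | h6
        · exact h6
        · exfalso
          have h7 : DC P n (s * n') := DC_trans P h6 (DC_symm P h5)
          have h8 : Eqv P n (s * n') := bruhat_unique P hn hsn' h7
          have h9 : Eqv P (s * n) n' :=
            Eqv_trans P (Eqv_mul_left P s h8) (Eqv_sq_mul P hs hn')
          have := len_congr P h9
          omega

theorem claimA_le {s n : G} (hs : s ∈ P.S) (hn : n ∈ P.N) (hle : len P n ≤ len P (s * n))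
    {b : G} (hb : b ∈ P.B) : DC P (s * n) (s * b * n) :=
  claimA_le_aux P _ s n hs hn le_rfl hle b hb

/-- `l(sn) ≠ l(n)` -/
theorem len_S_mul_ne {s n : G} (hs : s ∈ P.S) (hn : n ∈ P.N) : len P (s * n) ≠ len P n := by
  intro heq
  have hsN := P.subset hs
  have hsn : s * n ∈ P.N := P.N.mul_mem hsN hn
  have hA1 : ∀ b ∈ P.B, DC P (s * n) (s * b * n) := fun b hb =>
    claimA_le P hs hn (le_of_eq heq.symm) hb
  have hlen2 : len P (s * (s * n)) = len P n := len_congr P (Eqv_sq_mul P hs hn)
  have hA2 : ∀ b ∈ P.B, DC P n (s * b * (s * n)) := fun b hb =>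
    (Eqv_dc_iff P (Eqv_sq_mul P hs hn)).1 (claimA_le P hs hsn (by omega) hb)
  obtain ⟨b0, hb0, hnot⟩ := exists_conj_not_mem P hs
  rcases axL P hs hsN hb0 with h | h
  · exact hnot ((DC_of_mem P (sq_mem_B P hs)).1 h)
  · obtain ⟨b1, hb1, b2, hb2, e⟩ := h
    have e2 : s * b0 * (s * n) = b1 * (s * b2 * n) := by
      have : s * b0 * (s * n) = (s * b0 * s) * n := by group
      rw [this, e]; group
    have h1 : DC P (s * n) (s * b0 * (s * n)) := by
      rw [e2]; exact DC_mul_left P hb1 (hA1 b2 hb2)
    have h2 : DC P n (s * b0 * (s * n)) := hA2 b0 hb0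
    have h3 : Eqv P n (s * n) := bruhat_unique P hn hsn (DC_trans P h2 (DC_symm P h1))
    -- n⁻¹ s n ∈ B, so s ∈ B
    have h4 : n⁻¹ * (s * n) ∈ P.B := h3
    have h5 : n⁻¹ * (s * n) ∈ P.N := P.N.mul_mem (P.N.inv_mem hn) hsn
    have h6 := conj_mem_B P hn h4 h5
    have e3 : n * (n⁻¹ * (s * n)) * n⁻¹ = s := by group
    rw [e3] at h6
    exact S_not_mem_B P hs h6

theorem len_S_mul_lt_or_gt {s n : G} (hs : s ∈ P.S) (hn : n ∈ P.N) :
    len P (s * n) < len P n ∨ len P n < len P (s * n) :=
  lt_or_gt_of_ne (len_S_mul_ne P hs hn)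

/-- if `l(sn) < l(n)` then `s B n` meets `B n B` -/
theorem keyB {s n : G} (hs : s ∈ P.S) (hn : n ∈ P.N) (hlt : len P (s * n) < len P n) :
    ∃ b ∈ P.B, DC P n (s * b * n) := by
  have hsN := P.subset hs
  set n'' := s⁻¹ * n with hn''
  have hn''N : n'' ∈ P.N := P.N.mul_mem (P.N.inv_mem hsN) hn
  have en : n = s * n'' := by rw [hn'']; group
  have h1 : len P n'' = len P (s * n) := len_congr P (Eqv_inv_mul P hs hn)
  have hlt' : len P n'' < len P (s * n'') := by rw [← en]; omega
  obtain ⟨b0, hb0, hnot⟩ := exists_conj_not_mem P hs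
  refine ⟨b0, hb0, ?_⟩
  rcases axL P hs hsN hb0 with h | h
  · exact absurd ((DC_of_mem P (sq_mem_B P hs)).1 h) hnot
  · obtain ⟨b1, hb1, b2, hb2, e⟩ := h
    have e2 : s * b0 * n = b1 * (s * b2 * n'') := by
      have : s * b0 * n = (s * b0 * s) * n'' := by rw [en]; group
      rw [this, e]; group
    rw [e2]
    have := claimA P hs hn''N hlt' hb2
    rw [← en] at this
    exact DC_mul_left P hb1 this

/-- condition (C): if `l(sw) > l(w)` and `l(swt) < l(wt)` then `s w = w t` in `W` -/
theorem condC {s t w : G} (hs : s ∈ P.S) (ht : t ∈ P.S) (hw : w ∈ P.N)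
    (h1 : len P w < len P (s * w)) (h2 : len P (s * (w * t)) < len P (w * t)) :
    Eqv P (s * w) (w * t) := by
  have hsN := P.subset hs
  have htN := P.subset ht
  have hwt : w * t ∈ P.N := P.N.mul_mem hw htN
  have hsw : s * w ∈ P.N := P.N.mul_mem hsN hw
  obtain ⟨b, hb, hdc⟩ := keyB P hs hwt h2
  obtain ⟨b1, hb1, b2, hb2, e1⟩ := claimA P hs hw h1 hb
  have e2 : s * b * (w * t) = b1 * (s * w * b2 * t) := by
    have : s * b * (w * t) = (s * b * w) * t := by group
    rw [this, e1]; group
  rcases axR P hsw ht hb2 with h | h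
  · exfalso
    have h3 : DC P (s * w * t) (s * b * (w * t)) := by rw [e2]; exact DC_mul_left P hb1 h
    have h4 : Eqv P (w * t) (s * w * t) :=
      bruhat_unique P hwt (P.N.mul_mem hsw htN) (DC_trans P hdc (DC_symm P h3))
    have := len_congr P h4
    rw [mul_assoc] at this
    omega
  · have h3 : DC P (s * w) (s * b * (w * t)) := by rw [e2]; exact DC_mul_left P hb1 h
    exact bruhat_unique P hsw hwt (DC_trans P h3 (DC_symm P hdc))

/-- a word is reduced if its length is the length of its product -/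
def Reduced (l : List G) : Prop := (∀ a ∈ l, a ∈ P.S) ∧ len P l.prod = l.length

theorem Reduced.prefix {l1 l2 : List G} (h : Reduced P (l1 ++ l2)) : Reduced P l1 := by
  have hl1 : ∀ a ∈ l1, a ∈ P.S := fun a ha => h.1 a (List.mem_append_left _ ha)
  refine ⟨hl1, le_antisymm ?_ ?_⟩
  · exact len_le P ⟨hl1, Eqv_refl P _⟩
  · -- len (l1.prod * l2.prod) ≤ len l1.prod + l2.length
    have key : ∀ (l2 : List G), (∀ a ∈ l2, a ∈ P.S) → ∀ n ∈ P.N, len P (n * l2.prod) ≤ len P n + l2.length := by
      intro l2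
      induction l2 with
      | nil => intro _ n _; simp
      | cons a l2 ih =>
        intro hl2 n hn
        have ha : a ∈ P.S := hl2 a (List.mem_cons_self ..)
        have := ih (fun x hx => hl2 x (List.mem_cons_of_mem _ hx)) (n * a) (P.N.mul_mem hn (P.subset ha))
        have h2 := len_mul_S_le P ha hn
        rw [List.prod_cons, ← mul_assoc]
        simp only [List.length_cons]
        omega
    have hl2 : ∀ a ∈ l2, a ∈ P.S := fun a ha => h.1 a (List.mem_append_right _ ha)
    have := key l2 hl2 l1.prod (prod_mem_N P hl1)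
    have h3 := h.2
    rw [List.prod_append, List.length_append] at h3
    omega

/-- exchange condition -/
theorem exchange {s : G} (hs : s ∈ P.S) : ∀ l : List G, Reduced P l →
    len P (s * l.prod) < len P l.prod →
    ∃ l1 t l2, l = l1 ++ t :: l2 ∧ Eqv P (s * l.prod) (l1 ++ l2).prod := by
  intro l
  induction l using List.reverseRecOn with
  | nil =>
    intro _ h
    simp at h
    rw [len_eq_zero_of_mem_B P P.B.one_mem] at h
    omega
  | append_singleton l' t ih =>
    intro hred hlt
    have hred' : Reduced P l' := Reduced.prefix P hred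
    have ht : t ∈ P.S := hred.1 t (by simp)
    have htN := P.subset ht
    have hw'N : l'.prod ∈ P.N := prod_mem_N P hred'.1
    have hsN := P.subset hs
    rw [List.prod_append, List.prod_singleton] at hlt
    rcases len_S_mul_lt_or_gt P hs hw'N with hcase | hcase
    · obtain ⟨l1, u, l2, hl', heqv⟩ := ih hred' hcase
      refine ⟨l1, u, l2 ++ [t], by rw [hl']; simp, ?_⟩
      rw [List.prod_append, List.prod_singleton, ← mul_assoc]
      have : (l1 ++ (l2 ++ [t])).prod = (l1 ++ l2).prod * t := by
        simp [List.prod_append, mul_assoc]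
      rw [this]
      have hl12 : (l1 ++ l2).prod ∈ P.N := by
        apply prod_mem_N P
        intro a ha
        apply hred'.1
        rw [hl']
        rcases List.mem_append.1 ha with ha | ha
        · exact List.mem_append_left _ ha
        · exact List.mem_append_right _ (List.mem_cons_of_mem _ ha)
      exact Eqv_mul_right P (P.N.mul_mem hsN hw'N) hl12 htN heqv
    · have hC := condC P hs ht hw'N hcase hlt
      refine ⟨l', t, [], rfl, ?_⟩
      rw [List.prod_append, List.prod_singleton, List.append_nil, ← mul_assoc]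
      have h1 : Eqv P (s * l'.prod * t) (l'.prod * t * t) :=
        Eqv_mul_right P (P.N.mul_mem hsN hw'N) (P.N.mul_mem hw'N htN) htN hC
      have h2 : Eqv P (l'.prod * t * t) l'.prod := by
        apply Eqv_symm
        have : (l'.prod)⁻¹ * (l'.prod * t * t) = t * t := by group
        rw [Eqv, this]
        exact sq_mem_B P ht
      exact Eqv_trans P h1 h2

/-- every word has a reduced subword with the same image in `W` -/
theorem exists_reduced_sublist : ∀ l : List G, (∀ a ∈ l, a ∈ P.S) →
    ∃ l' : List G, l'.Sublist l ∧ Reduced P l' ∧ Eqv P l.prod l'.prod := by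
  intro l
  induction l with
  | nil =>
    intro _
    exact ⟨[], List.Sublist.refl _, ⟨by simp, by simpa using len_eq_zero_of_mem_B P P.B.one_mem⟩,
      Eqv_refl P _⟩
  | cons s l ih =>
    intro hl
    have hs : s ∈ P.S := hl s (List.mem_cons_self ..)
    obtain ⟨l', hsub, hred, heqv⟩ := ih fun a ha => hl a (List.mem_cons_of_mem _ ha)
    have hl'N : l'.prod ∈ P.N := prod_mem_N P hred.1
    rcases len_S_mul_lt_or_gt P hs hl'N with hcase | hcase
    · obtain ⟨l1, t, l2, hl', hE⟩ := exchange P hs l' hred hcase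
      have hsub2 : (l1 ++ l2).Sublist l' := by
        rw [hl']
        exact List.Sublist.append_left (List.sublist_cons_self t l2) l1
      have hS12 : ∀ a ∈ l1 ++ l2, a ∈ P.S := fun a ha => hred.1 a (hsub2.subset ha)
      refine ⟨l1 ++ l2, (hsub2.trans hsub).trans (List.sublist_cons_self s l), ⟨hS12, ?_⟩, ?_⟩
      · have h1 : len P (l1 ++ l2).prod ≤ (l1 ++ l2).length := len_le P ⟨hS12, Eqv_refl P _⟩
        have h2 : len P (s * l'.prod) = len P (l1 ++ l2).prod := len_congr P hE
        have h3 := len_le_S_mul P hs hl'N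
        have h4 := hred.2
        have h5 : l'.length = (l1 ++ l2).length + 1 := by rw [hl']; simp; omega
        omega
      · rw [List.prod_cons]
        exact Eqv_trans P (Eqv_mul_left P s heqv) hE
    · refine ⟨s :: l', hsub.cons_cons s, ⟨?_, ?_⟩, ?_⟩
      · intro a ha
        rcases List.mem_cons.1 ha with rfl | ha
        · exact hs
        · exact hred.1 a ha
      · rw [List.prod_cons, List.length_cons]
        have h3 := len_S_mul_le P hs hl'N
        have h4 := hred.2
        omega
      · rw [List.prod_cons, List.prod_cons]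
        exact Eqv_mul_left P s heqv

/-- every element of `closure J` is represented by a word in `J` -/
theorem exists_word_of_mem_closure {J : Set G} (hJ : J ⊆ P.S) {n : G}
    (hn : n ∈ Subgroup.closure J) : ∃ l : List G, (∀ a ∈ l, a ∈ J) ∧ Eqv P l.prod n := by
  set X : Set G := {n | n ∈ P.N ∧ ∃ l : List G, (∀ a ∈ l, a ∈ J) ∧ Eqv P l.prod n} with hX
  have h1 : Subgroup.closure J ≤ stabSub X := by
    refine (Subgroup.closure_le _).2 fun s hsJ => ?_
    have hs := hJ hsJ
    intro x hx
    obtain ⟨hxN, l, hl, hlx⟩ := hx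
    have hsN := P.subset hs
    refine ⟨⟨P.N.mul_mem hsN hxN, s :: l, ?_, ?_⟩, ⟨P.N.mul_mem (P.N.inv_mem hsN) hxN, s :: l, ?_, ?_⟩⟩
    · intro a ha
      rcases List.mem_cons.1 ha with rfl | ha
      · exact hsJ
      · exact hl a ha
    · rw [List.prod_cons]
      exact Eqv_mul_left P s hlx
    · intro a ha
      rcases List.mem_cons.1 ha with rfl | ha
      · exact hsJ
      · exact hl a ha
    · rw [List.prod_cons]
      exact Eqv_trans P (Eqv_mul_left P s hlx) (Eqv_symm P (Eqv_inv_mul P hs hxN))
  have h4 := (h1 hn 1 ⟨P.N.one_mem, [], by simp, by simp [Eqv_refl]⟩).1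
  rw [mul_one] at h4
  exact h4.2

/-- `S ∩ P_J = J` -/
theorem mem_of_mem_parabolic {J : Set G} (hJ : J ⊆ P.S) {s : G} (hs : s ∈ P.S)
    (h : s ∈ P.parabolic J) : s ∈ J := by
  obtain ⟨m, hm, hdc⟩ := (mem_parabolic_iff P hJ s).1 h
  have hmN : m ∈ P.N := ((Subgroup.closure_le _).2 fun a ha => P.subset (hJ ha) : Subgroup.closure J ≤ P.N) hm
  have h1 : Eqv P m s := bruhat_unique P hmN (P.subset hs) hdc
  obtain ⟨l, hl, hlm⟩ := exists_word_of_mem_closure P hJ hm
  obtain ⟨l', hsub, hred, heqv⟩ := exists_reduced_sublist P l fun a ha => hJ (hl a ha)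
  have h2 : Eqv P l'.prod s := Eqv_trans P (Eqv_symm P heqv) (Eqv_trans P hlm h1)
  have h3 : l'.length = 1 := by
    rw [← hred.2, len_congr P h2, len_S P hs]
  obtain ⟨t, rfl⟩ := List.length_eq_one_iff.1 h3
  have htJ : t ∈ J := hl t (hsub.subset (by simp))
  have h4 : t⁻¹ * s ∈ P.B := by simpa [Eqv] using h2
  have := P.inj t (hJ htJ) s hs h4
  rw [← this]
  exact htJ

theorem parabolic_mono {J K : Set G} (h : J ⊆ K) : P.parabolic J ≤ P.parabolic K :=
  sup_le_sup_left (Subgroup.closure_mono h) _

theorem subset_of_parabolic_le {J K : Set G} (hJ : J ⊆ P.S) (hK : K ⊆ P.S)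
    (h : P.parabolic J ≤ P.parabolic K) : J ⊆ K := fun _ hs =>
  mem_of_mem_parabolic P hK (hJ hs)
    (h ((le_sup_right : Subgroup.closure J ≤ P.B ⊔ Subgroup.closure J) (Subgroup.subset_closure hs)))

end Cfsg.Agent.Lib.Helper08
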