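import Cfsg.Agent.Lib.Helper08.BNPair

set_option autoImplicit false

namespace Cfsg.Agent.Lib.Helper08

open Cfsg

variable {G : Type*} [Group G] (P : Cfsg.BNPair G)

/-- if `l(sn) > l(n)` then `s B n ⊆ B s n B` -/
theorem claimA_aux : ∀ k : ℕ, ∀ s n : G, s ∈ P.S → n ∈ P.N → len P n ≤ k →
    len P n < len P (s * n) → ∀ b ∈ P.B, DC P (s * n) (s * b * n) := by
  intro k
  induction k with
  | zero =>
    intro s n hs hn hk _ b hb
    have hnB : n ∈ P.B := mem_B_of_len_eq_zero P hn (Nat.le_zero.1 hk)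
    have e : s * b * n = (s * n) * (n⁻¹ * b * n) := by group
    rw [e]
    exact DC_mul_right P (P.B.mul_mem (P.B.mul_mem (P.B.inv_mem hnB) hb) hnB) (DC_self P _)
  | succ k ih =>
    intro s n hs hn hk hlt b hb
    rcases Nat.lt_or_ge (len P n) (k + 1) with hlt' | hge
    · exact ih s n hs hn (Nat.lt_succ_iff.1 hlt') hlt b hb
    · have hk' : len P n = k + 1 := le_antisymm hk hge
      obtain ⟨t, ht, n', hn', heqv, hlen'⟩ := peel_right P hn hk'
      have hsN : s ∈ P.N := P.subset hs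
      have hsn' : s * n' ∈ P.N := P.N.mul_mem hsN hn'
      -- l(s n') > l(n')
      have h1 : Eqv P (s * n' * t) (s * n) := by
        rw [mul_assoc]; exact Eqv_mul_left P s heqv
      have h2 : len P (s * n' * t) = len P (s * n) := len_congr P h1
      have h3 : len P (s * n' * t) ≤ len P (s * n') + 1 := len_mul_S_le P ht hsn'
      have h4 : len P n' < len P (s * n') := by omega
      have ih' := ih s n' hs hn' hlen' h4
      -- write n = n' t b0
      set b0 := (n' * t)⁻¹ * n with hb0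
      have hb0B : b0 ∈ P.B := heqv
      have en : n = n' * t * b0 := by rw [hb0]; group
      obtain ⟨b1, hb1, b2, hb2, e1⟩ := ih' b hb
      have e2 : s * b * n = b1 * (s * n' * b2 * t) * b0 := by
        have : s * b * n = (s * b * n') * t * b0 := by
          conv_lhs => rw [en]
          group
        rw [this, e1]; group
      rcases axR P hsn' ht hb2 with h | h
      · -- in B (s n' t) B = B (s n) B
        have h5 : DC P (s * n' * t) (s * b * n) := by
          rw [e2]; exact DC_mul_right P hb0B (DC_mul_left P hb1 h)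
        exact (Eqv_dc_iff P h1).1 h5
      · have h5 : DC P (s * n') (s * b * n) := by
          rw [e2]; exact DC_mul_right P hb0B (DC_mul_left P hb1 h)
        rcases axL P hs hn hb with h6 | h6
        · exact h6
        · exfalso
          have h7 : DC P n (s * n') := DC_trans P h6 (DC_symm P h5)
          have h8 : Eqv P n (s * n') := bruhat_unique P hn hsn' h7
          have h9 : Eqv P (s * n) n' :=
            Eqv_trans P (Eqv_mul_left P s h8) (Eqv_sq_mul P hs hn')
          have := len_congr P h9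
          omega

theorem claimA {s n : G} (hs : s ∈ P.S) (hn : n ∈ P.N) (hlt : len P n < len P (s * n))
    {b : G} (hb : b ∈ P.B) : DC P (s * n) (s * b * n) :=
  claimA_aux P _ s n hs hn le_rfl hlt b hb

theorem exists_conj_not_mem {s : G} (hs : s ∈ P.S) : ∃ b ∈ P.B, s * b * s ∉ P.B := by
  by_contra hcon
  push Not at hcon
  apply P.conj_ne s hs
  apply Set.Subset.antisymm
  · rintro _ ⟨b, hb, rfl⟩
    exact hcon b hb
  · intro b' hb'
    refine ⟨s⁻¹ * b' * s⁻¹, ?_, by group⟩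
    have e : s⁻¹ * b' * s⁻¹ = (s * s)⁻¹ * (s * b' * s) * (s * s)⁻¹ := by group
    have hsq := P.B.inv_mem (sq_mem_B P hs)
    show s⁻¹ * b' * s⁻¹ ∈ P.B
    rw [e]
    exact P.B.mul_mem (P.B.mul_mem hsq (hcon b' hb')) hsq

/-- key lemma: the first letter `s` of a reduced word of `n` lies in `B n B n⁻¹ B` -/
theorem keyK {n : G} (hn : n ∈ P.N) {k : ℕ} (hk : len P n = k + 1) :
    ∃ s ∈ P.S, ∃ n'' ∈ P.N, n = s * n'' ∧ len P n'' ≤ k ∧ ∃ b ∈ P.B, DC P n (s * b * n) := by
  obtain ⟨s, hs, n'', hn'', rfl, hlen''⟩ := peel_left P hn hk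
  refine ⟨s, hs, n'', hn'', rfl, hlen'', ?_⟩
  have hlt : len P n'' < len P (s * n'') := by omega
  obtain ⟨b0, hb0, hnot⟩ := exists_conj_not_mem P hs
  refine ⟨b0, hb0, ?_⟩
  rcases axL P hs (P.subset hs) hb0 with h | h
  · exact absurd ((DC_of_mem P (sq_mem_B P hs)).1 h) hnot
  · obtain ⟨b1, hb1, b2, hb2, e⟩ := h
    have e2 : s * b0 * (s * n'') = b1 * (s * b2 * n'') := by
      have : s * b0 * (s * n'') = (s * b0 * s) * n'' := by group
      rw [this, e]; group
    rw [e2]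
    exact DC_mul_left P hb1 (claimA P hs hn'' hlt hb2)

/-- if `M ≥ B` and `n B n⁻¹ ⊆ M` then `n ∈ ⟨B, S ∩ M⟩` -/
theorem mem_of_conj_B_aux (M : Subgroup G) (hM : P.B ≤ M) : ∀ k : ℕ, ∀ n : G, n ∈ P.N → len P n ≤ k →
    (∀ b ∈ P.B, n * b * n⁻¹ ∈ M) → n ∈ P.B ⊔ Subgroup.closure (P.S ∩ (M : Set G)) := by
  intro k
  induction k with
  | zero =>
    intro n hn hk _
    exact (le_sup_left : P.B ≤ _) (mem_B_of_len_eq_zero P hn (Nat.le_zero.1 hk))
  | succ k ih =>
    intro n hn hk hconj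
    rcases Nat.lt_or_ge (len P n) (k + 1) with hlt' | hge
    · exact ih n hn (Nat.lt_succ_iff.1 hlt') hconj
    · have hk' : len P n = k + 1 := le_antisymm hk hge
      obtain ⟨s, hs, n'', hn'', e, hlen'', b, hb, b1, hb1, b2, hb2, e2⟩ := keyK P hn hk'
      have hsM : s ∈ M := by
        have e3 : s = b1 * (n * b2 * n⁻¹) * b⁻¹ := by
          have : s = (s * b * n) * n⁻¹ * b⁻¹ := by group
          rw [this, e2]; group
        rw [e3]
        exact M.mul_mem (M.mul_mem (hM hb1) (hconj b2 hb2)) (M.inv_mem (hM hb))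
      have hs' : s ∈ Subgroup.closure (P.S ∩ (M : Set G)) := Subgroup.subset_closure ⟨hs, hsM⟩
      have hconj'' : ∀ b ∈ P.B, n'' * b * n''⁻¹ ∈ M := by
        intro b hb
        have : n'' * b * n''⁻¹ = s⁻¹ * (n * b * n⁻¹) * s := by rw [e]; group
        rw [this]
        exact M.mul_mem (M.mul_mem (M.inv_mem hsM) (hconj b hb)) hsM
      have h'' := ih n'' hn'' hlen'' hconj''
      rw [e]
      exact Subgroup.mul_mem _ ((le_sup_right : Subgroup.closure (P.S ∩ (M : Set G)) ≤ _) hs') h''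

theorem mem_of_conj_B (M : Subgroup G) (hM : P.B ≤ M) {n : G} (hn : n ∈ P.N)
    (hconj : ∀ b ∈ P.B, n * b * n⁻¹ ∈ M) : n ∈ P.parabolic (P.S ∩ (M : Set G)) :=
  mem_of_conj_B_aux P M hM _ n hn le_rfl hconj

theorem parabolic_inter_le (M : Subgroup G) (hM : P.B ≤ M) : P.parabolic (P.S ∩ (M : Set G)) ≤ M :=
  sup_le hM ((Subgroup.closure_le _).2 Set.inter_subset_right)

theorem B_le_parabolic (J : Set G) : P.B ≤ P.parabolic J := le_sup_left

/-- every subgroup containing `B` is parabolic -/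
theorem eq_parabolic_of_B_le (M : Subgroup G) (hM : P.B ≤ M) : M = P.parabolic (P.S ∩ (M : Set G)) := by
  apply le_antisymm
  · intro g hg
    obtain ⟨n, hn, b1, hb1, b2, hb2, rfl⟩ := bruhat_exists P g
    have hnM : n ∈ M := by
      have : n = b1⁻¹ * (b1 * n * b2) * b2⁻¹ := by group
      rw [this]
      exact M.mul_mem (M.mul_mem (M.inv_mem (hM hb1)) hg) (M.inv_mem (hM hb2))
    have h := mem_of_conj_B P M hM hn fun b hb => M.mul_mem (M.mul_mem hnM (hM hb)) (M.inv_mem hnM)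
    exact Subgroup.mul_mem _ (Subgroup.mul_mem _ (B_le_parabolic P _ hb1) h) (B_le_parabolic P _ hb2)
  · exact parabolic_inter_le P M hM

/-- if `M, M' ≥ B` and `g M g⁻¹ ≤ M'` then `g ∈ M'` -/
theorem mem_of_conj_le (M M' : Subgroup G) (hM : P.B ≤ M) (hM' : P.B ≤ M') {g : G}
    (h : ∀ x ∈ M, g * x * g⁻¹ ∈ M') : g ∈ M' := by
  obtain ⟨n, hn, b1, hb1, b2, hb2, rfl⟩ := bruhat_exists P g
  have hconj : ∀ b ∈ P.B, n * b * n⁻¹ ∈ M' := by
    intro b hb
    have e : n * b * n⁻¹ = b1⁻¹ * ((b1 * n * b2) * (b2⁻¹ * b * b2) * (b1 * n * b2)⁻¹) * b1 := by group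
    rw [e]
    have h1 := h (b2⁻¹ * b * b2) (hM (P.B.mul_mem (P.B.mul_mem (P.B.inv_mem hb2) hb) hb2))
    exact M'.mul_mem (M'.mul_mem (M'.inv_mem (hM' hb1)) h1) (hM' hb1)
  have hnM' : n ∈ M' := parabolic_inter_le P M' hM' (mem_of_conj_B P M' hM' hn hconj)
  exact M'.mul_mem (M'.mul_mem (hM' hb1) hnM') (hM' hb2)

/-- `P_J = B W_J B` -/
theorem mem_parabolic_iff {J : Set G} (hJ : J ⊆ P.S) (g : G) :
    g ∈ P.parabolic J ↔ ∃ n ∈ Subgroup.closure J, DC P n g := by
  constructor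
  · intro hg
    have hK : Subgroup.closure J ≤ P.N := (Subgroup.closure_le _).2 fun s hs => P.subset (hJ hs)
    have h1 : Subgroup.closure J ≤ stabSub (BKB P (Subgroup.closure J)) :=
      (Subgroup.closure_le _).2 fun s hs =>
        S_mem_stabSub_BKB P hK (hJ hs) (Subgroup.subset_closure hs)
    have h2 : P.parabolic J ≤ stabSub (BKB P (Subgroup.closure J)) :=
      sup_le (B_le_stabSub_BKB P _) h1
    have h3 := (h2 hg 1 (one_mem_BKB P _)).1
    rw [mul_one] at h3
    exact h3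
  · rintro ⟨n, hn, b1, hb1, b2, hb2, rfl⟩
    have hn' : n ∈ P.parabolic J := (le_sup_right : Subgroup.closure J ≤ P.B ⊔ Subgroup.closure J) hn
    exact Subgroup.mul_mem _ (Subgroup.mul_mem _ (B_le_parabolic P _ hb1) hn') (B_le_parabolic P _ hb2)

end Cfsg.Agent.Lib.Helper08
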