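import Cfsg.Agent.Lib.Helper08.BNPairExchange

set_option autoImplicit false

namespace Cfsg.Agent.Lib.Helper08

open Cfsg

variable {G : Type*} [Group G] (P : Cfsg.BNPair G)

/-- `T = B ⊓ N` as a subgroup of `N` -/
abbrev Tn : Subgroup P.N := (P.B ⊓ P.N).subgroupOf P.N

theorem Tn_normal : (Tn P).Normal := by
  constructor
  intro t ht n
  rw [Subgroup.mem_subgroupOf] at ht ⊢
  refine ⟨?_, (n * t * n⁻¹).2⟩
  have := P.conj_mem n.1 n.2 t.1 ht
  simpa using this

theorem mem_Tn_iff (x : P.N) : x ∈ Tn P ↔ (x : G) ∈ P.B := by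
  rw [Subgroup.mem_subgroupOf]
  exact ⟨fun h => h.1, fun h => ⟨h, x.2⟩⟩

/-- the first letter of a reduced expression lies in any subgroup containing `B` and the element -/
theorem first_letter_mem {s n'' : G} (hs : s ∈ P.S) (hn'' : n'' ∈ P.N)
    (hlt : len P n'' < len P (s * n'')) (M : Subgroup G) (hM : P.B ≤ M) (hmem : s * n'' ∈ M) :
    s ∈ M := by
  obtain ⟨b0, hb0, hnot⟩ := exists_conj_not_mem P hs
  rcases axL P hs (P.subset hs) hb0 with h | h
  · exact absurd ((DC_of_mem P (sq_mem_B P hs)).1 h) hnot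
  · obtain ⟨b1, hb1, b2, hb2, e⟩ := h
    obtain ⟨b3, hb3, b4, hb4, e'⟩ := claimA P hs hn'' hlt hb2
    have e2 : s * b0 * (s * n'') = b1 * (b3 * (s * n'') * b4) := by
      have : s * b0 * (s * n'') = (s * b0 * s) * n'' := by group
      rw [this, e, ← e']; group
    have e3 : s = b1 * (b3 * (s * n'') * b4) * (s * n'')⁻¹ * b0⁻¹ := by
      rw [← e2]; group
    rw [e3]
    exact M.mul_mem (M.mul_mem (M.mul_mem (hM hb1)
      (M.mul_mem (M.mul_mem (hM hb3) hmem) (hM hb4))) (M.inv_mem hmem)) (M.inv_mem (hM hb0))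

theorem len_mul_of_ne {s t : G} (hs : s ∈ P.S) (ht : t ∈ P.S) (hne : s ≠ t) :
    len P (s * t) = 2 := by
  have h1 := len_S_mul_ne P hs (P.subset ht)
  have h2 := len_S_mul_le P hs (P.subset ht)
  rw [len_S P ht] at h1 h2
  have h3 : len P (s * t) ≠ 0 := by
    intro h0
    have hB : s * t ∈ P.B :=
      mem_B_of_len_eq_zero P (P.N.mul_mem (P.subset hs) (P.subset ht)) h0
    have h4 : Eqv P s⁻¹ t := by simpa [Eqv] using hB
    have h5 : Eqv P s t := Eqv_trans P (Eqv_symm P (Eqv_inv_S P hs)) h4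
    exact hne (P.inj s hs t ht h5)
  omega

/-- `s₁ ∈ BH`, `s₂ ∉ BH`, `H` normal: then `s₁` and `s₂` commute modulo `B ⊓ N` -/
theorem comm_of_normal (H : Subgroup G) [hH : H.Normal] {s1 s2 : G} (hs1 : s1 ∈ P.S)
    (hs2 : s2 ∈ P.S) (h1 : s1 ∈ P.B ⊔ H) (h2 : s2 ∉ P.B ⊔ H) :
    s1 * s2 * s1⁻¹ * s2⁻¹ ∈ P.B := by
  set M := P.B ⊔ H with hM
  have hBM : P.B ≤ M := le_sup_left
  have hHM : H ≤ M := le_sup_right
  have hne : s1 ≠ s2 := fun h => h2 (h ▸ h1)
  have hs1N := P.subset hs1
  have hs2N := P.subset hs2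
  have hl21 : len P (s2 * s1) = 2 := len_mul_of_ne P hs2 hs1 (Ne.symm hne)
  have hl12 : len P (s1 * s2) = 2 := len_mul_of_ne P hs1 hs2 hne
  obtain ⟨b, hb, h, hh, e⟩ := Subgroup.mem_sup_of_normal_right.1 h1
  -- g = s2 h s2⁻¹ ∈ H
  have hg : s2 * h * s2⁻¹ ∈ H := hH.conj_mem h hh s2
  have eh : h = b⁻¹ * s1 := by rw [← e]; group
  have hlt1 : len P s1 < len P (s2 * s1) := by rw [len_S P hs1, hl21]; omega
  obtain ⟨b1, hb1, b2, hb2, e1⟩ := claimA P hs2 hs1N hlt1 (P.B.inv_mem hb)
  have hsq : (s2 * s2)⁻¹ ∈ P.B := P.B.inv_mem (sq_mem_B P hs2)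
  have eg : s2 * h * s2⁻¹ = b1 * (s2 * s1 * b2 * s2) * (s2 * s2)⁻¹ := by
    rw [eh]
    have : s2 * (b⁻¹ * s1) * s2⁻¹ = (s2 * b⁻¹ * s1) * s2⁻¹ := by group
    rw [this, e1]; group
  have hs21N : s2 * s1 ∈ P.N := P.N.mul_mem hs2N hs1N
  rcases axR P hs21N hs2 hb2 with hc | hc
  · -- g ∈ B (s2 s1 s2) B
    obtain ⟨c1, hc1, c2, hc2, ec⟩ := hc
    have hnM : s2 * (s1 * s2) ∈ M := by
      have : s2 * (s1 * s2) = c1⁻¹ * (b1⁻¹ * (s2 * h * s2⁻¹) * (s2 * s2)) * c2⁻¹ := by
        rw [eg, ec]; group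
      rw [this]
      exact M.mul_mem (M.mul_mem (M.inv_mem (hBM hc1))
        (M.mul_mem (M.mul_mem (M.inv_mem (hBM hb1)) (hHM hg)) (hBM (sq_mem_B P hs2))))
        (M.inv_mem (hBM hc2))
    have hs12N : s1 * s2 ∈ P.N := P.N.mul_mem hs1N hs2N
    rcases len_S_mul_lt_or_gt P hs2 hs12N with hcase | hcase
    · -- exchange
      have hred : Reduced P [s1, s2] := by
        refine ⟨?_, ?_⟩
        · intro a ha
          simp only [List.mem_cons, List.not_mem_nil, or_false] at ha
          rcases ha with rfl | rfl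
          · exact hs1
          · exact hs2
        · simpa using hl12
      have hcase' : len P (s2 * [s1, s2].prod) < len P [s1, s2].prod := by simpa using hcase
      obtain ⟨l1, t, l2, hl, hE⟩ := exchange P hs2 [s1, s2] hred hcase'
      have hE' : Eqv P (s2 * (s1 * s2)) (l1 ++ l2).prod := by simpa using hE
      -- two possibilities
      have hposs : (l1 ++ l2 = [s2]) ∨ (l1 ++ l2 = [s1]) := by
        match l1, hl with
        | [], hl =>
          simp only [List.nil_append, List.cons.injEq] at hl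
          left; simp [hl.2]
        | [a], hl =>
          simp only [List.cons_append, List.nil_append, List.cons.injEq] at hl
          right
          obtain ⟨ha, _, hl2⟩ := hl
          simp [← ha, ← hl2]
        | a :: a' :: l1', hl =>
          simp only [List.cons_append, List.cons.injEq] at hl
          obtain ⟨_, _, hl2⟩ := hl
          simp at hl2
      rcases hposs with hp | hp
      · exfalso
        rw [hp] at hE'
        simp only [List.prod_cons, List.prod_nil, mul_one] at hE'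
        have : s1 * s2 ∈ P.B := by
          have h3 := P.B.inv_mem hE'
          simpa [Eqv, mul_assoc] using h3
        have := len_eq_zero_of_mem_B P this
        omega
      · rw [hp] at hE'
        simp only [List.prod_cons, List.prod_nil, mul_one] at hE'
        -- pass to W = N / T
        have := Tn_normal P
        let π : P.N →* P.N ⧸ Tn P := QuotientGroup.mk' (Tn P)
        have hπ : ∀ x : P.N, π x = 1 ↔ (x : G) ∈ P.B := fun x => by
          rw [QuotientGroup.mk'_apply, QuotientGroup.eq_one_iff, mem_Tn_iff]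
        set a : P.N ⧸ Tn P := π ⟨s1, hs1N⟩ with ha
        set c : P.N ⧸ Tn P := π ⟨s2, hs2N⟩ with hc
        have haa : a * a = 1 := by
          rw [ha, ← map_mul, hπ]; exact sq_mem_B P hs1
        have hcc : c * c = 1 := by
          rw [hc, ← map_mul, hπ]; exact sq_mem_B P hs2
        have hrel : (c * (a * c))⁻¹ * a = 1 := by
          rw [ha, hc, ← map_mul, ← map_mul, ← map_inv, ← map_mul, hπ]
          exact hE'
        have hgoal : a * c * a⁻¹ * c⁻¹ = 1 := by
          have hainv : a⁻¹ = a := inv_eq_of_mul_eq_one_right haa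
          have hcinv : c⁻¹ = c := inv_eq_of_mul_eq_one_right hcc
          have h5 : a = c * (a * c) := by
            have := inv_mul_eq_one.1 hrel
            exact this.symm
          rw [hainv, hcinv]
          have h6 : a * c = c * a := by
            calc a * c = (c * (a * c)) * c := by rw [← h5]
              _ = c * a * (c * c) := by group
              _ = c * a := by rw [hcc, mul_one]
          calc a * c * a * c = (c * a) * a * c := by rw [h6]
            _ = c * (a * a) * c := by group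
            _ = 1 := by rw [haa, mul_one, hcc]
        rw [ha, hc, ← map_mul, ← map_inv, ← map_mul, ← map_inv, ← map_mul, hπ] at hgoal
        exact hgoal
    · exact absurd (first_letter_mem P hs2 hs12N hcase M hBM hnM) h2
  · -- g ∈ B (s2 s1) B
    obtain ⟨c1, hc1, c2, hc2, ec⟩ := hc
    have hnM : s2 * s1 ∈ M := by
      have : s2 * s1 = c1⁻¹ * (b1⁻¹ * (s2 * h * s2⁻¹) * (s2 * s2)) * c2⁻¹ := by
        rw [eg, ec]; group
      rw [this]
      exact M.mul_mem (M.mul_mem (M.inv_mem (hBM hc1))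
        (M.mul_mem (M.mul_mem (M.inv_mem (hBM hb1)) (hHM hg)) (hBM (sq_mem_B P hs2))))
        (M.inv_mem (hBM hc2))
    exact absurd (first_letter_mem P hs2 hs1N hlt1 M hBM hnM) h2

end Cfsg.Agent.Lib.Helper08
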