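import Cfsg.Agent.Lib.Helper24.HNAll
import Cfsg.Agent.Lib.Helper24.FactsAll

/-!
The Chevalley group of a tabulated datum is generated by the root elements of the fundamental roots and of
their negatives (via `n_p`-conjugation and helper24's orbit table).
-/

set_option autoImplicit false

namespace Cfsg.Agent.Lib.Helper08.ChevGen

theorem simple_lt_of_hn {D : Cfsg.Lie.ChevalleyDatum} {tab : List ℕ} {orb : List (ℕ × ℕ × ℕ)}
    (hH : Cfsg.Agent.Lib.Helper24.HNFacts D tab orb) (i : ℕ) (hi : i < D.rank) : D.simple i < D.nroots := by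
  have := hH.orbit
  simp only [Cfsg.Agent.Lib.Helper24.orbitOK, Bool.and_eq_true, Cfsg.Agent.Lib.Helper24.simpleSuppOK,
    List.all_eq_true, List.mem_range, decide_eq_true_eq] at this
  exact (this.1 i hi).1

open Cfsg.Lie Cfsg.Agent.Lib.Helper24

variable {F : Type*} [Field F] {D : ChevalleyDatum} {tab : List ℕ} {orb : List (ℕ × ℕ × ℕ)}

/-- the generating set: root elements of the fundamental roots and of their negatives -/
def simpleSet (D : ChevalleyDatum) (F : Type*) [Field F] : Set (GL D.Idx F) :=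
  {g | ∃ (i : ℕ) (t : F), i < D.rank ∧
    ((g : Matrix D.Idx D.Idx F) = D.x F (D.simple i) t ∨
      (g : Matrix D.Idx D.Idx F) = D.x F (D.neg (D.simple i)) t)}

/-- the subgroup generated by the root elements of the fundamental roots and of their negatives -/
def simpleGen (D : ChevalleyDatum) (F : Type*) [Field F] : Subgroup (GL D.Idx F) :=
  Subgroup.closure (simpleSet D F)

theorem eta_sq (D : ChevalleyDatum) (P s : ℕ) (t : F) :
    ((etaT D P s : ℤ) : F) * (((etaT D P s : ℤ) : F) * t) = t := by
  rcases etaT_cases D P s with h | h <;> rw [h] <;> simp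

theorem nS_mem_simpleGen (hF : Facts D) (i : ℕ) (hi : i < D.rank) :
    (hF.nS i : GL D.Idx F) ∈ simpleGen D F := by
  unfold Facts.nS
  rw [hF.nGL_def]
  refine mul_mem (mul_mem ?_ ?_) ?_
  · exact Subgroup.subset_closure ⟨i, 1, hi, Or.inl rfl⟩
  · exact Subgroup.subset_closure ⟨i, _, hi, Or.inr rfl⟩
  · exact Subgroup.subset_closure ⟨i, 1, hi, Or.inl rfl⟩

theorem xGL_mem_simpleGen (hF : Facts D) (hN : NFacts D tab) (hH : HNFacts D tab orb) :
    ∀ r < D.nroots, ∀ t : F, hF.xGL r t ∈ simpleGen D F := by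
  apply orbit_induction D tab orb hH.orbit (fun r => ∀ t : F, hF.xGL r t ∈ simpleGen D F)
  · intro j hj _ _ t
    exact Subgroup.subset_closure ⟨j, t, hj, Or.inl rfl⟩
  · intro r i r' hi hr' hw _ ih t
    rw [wfast_eq D _ i (hH.perm i hi) r' hr'] at hw
    have hc := hF.nS_conj' hN i hi r' hr' (((etaT D (tab.getD i 0) r' : ℤ) : F) * t)
    rw [eta_sq, hw] at hc
    rw [← hc]
    exact mul_mem (mul_mem (nS_mem_simpleGen hF i hi) (ih _)) (inv_mem (nS_mem_simpleGen hF i hi))

theorem group_le_simpleGen (hF : Facts D) (hN : NFacts D tab) (hH : HNFacts D tab orb) :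
    D.group F ≤ simpleGen D F := by
  unfold ChevalleyDatum.group
  rw [Subgroup.closure_le]
  rintro g ⟨r, t, hg⟩
  have : g = hF.xGL r.val t := by
    apply Units.ext
    rw [hg, Facts.xGL_val]
    unfold ChevalleyDatum.x
    rw [dif_pos r.isLt]
  rw [this]
  exact xGL_mem_simpleGen hF hN hH r.val r.isLt t

theorem x_mem_group (D : ChevalleyDatum) (g : GL D.Idx F) (r : ℕ) (t : F)
    (hg : (g : Matrix D.Idx D.Idx F) = D.x F r t) : g ∈ D.group F := by
  by_cases hr : r < D.nroots
  · apply Subgroup.subset_closure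
    refine ⟨⟨r, hr⟩, t, ?_⟩
    rw [hg]
    unfold ChevalleyDatum.x
    rw [dif_pos hr]
  · have : g = 1 := by
      apply Units.ext
      rw [hg]
      unfold ChevalleyDatum.x
      rw [dif_neg hr]
      rfl
    rw [this]
    exact one_mem _

theorem simpleSet_subset_group (D : ChevalleyDatum) : simpleSet D F ⊆ (D.group F : Set (GL D.Idx F)) := by
  rintro g ⟨i, t, _, hg | hg⟩
  · exact x_mem_group D g _ t hg
  · exact x_mem_group D g _ t hg

/-- the generating set inside the group -/
def simpleSetG (D : ChevalleyDatum) (F : Type*) [Field F] : Set ↥(D.group F) :=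
  {y | ∃ (i : ℕ) (t : F), i < D.rank ∧
    (((y : GL D.Idx F) : Matrix D.Idx D.Idx F) = D.x F (D.simple i) t ∨
      ((y : GL D.Idx F) : Matrix D.Idx D.Idx F) = D.x F (D.neg (D.simple i)) t)}

/-- the Chevalley group is generated by the root elements of the fundamental roots and their negatives -/
theorem closure_simpleSetG (hF : Facts D) (hN : NFacts D tab) (hH : HNFacts D tab orb) :
    Subgroup.closure (simpleSetG D F) = ⊤ := by
  rw [eq_top_iff]
  intro y _
  have h1 : simpleGen D F ≤ (Subgroup.closure (simpleSetG D F)).map (D.group F).subtype := by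
    unfold simpleGen
    rw [Subgroup.closure_le]
    intro g hg
    have hgG := simpleSet_subset_group D hg
    refine ⟨⟨g, hgG⟩, Subgroup.subset_closure ?_, rfl⟩
    obtain ⟨i, t, hi, h⟩ := hg
    exact ⟨i, t, hi, h⟩
  have h2 := h1 (group_le_simpleGen hF hN hH y.2)
  obtain ⟨y', hy', e⟩ := h2
  have : y' = y := Subtype.ext e
  rw [← this]
  exact hy'

theorem closure_simpleSetG_all (D : ChevalleyDatum)
    (hD : D ∈ [chevG2, chevB2, chevD4, chevF4, chevE6, chevE7, chevE8]) :
    Subgroup.closure (simpleSetG D F) = ⊤ := by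
  obtain ⟨tab, orb, hN, hH, _⟩ := hnfacts_all D hD
  exact closure_simpleSetG (facts_all D hD) hN hH

theorem simple_lt_all (D : ChevalleyDatum)
    (hD : D ∈ [chevG2, chevB2, chevD4, chevF4, chevE6, chevE7, chevE8]) (i : ℕ) (hi : i < D.rank) :
    D.simple i < D.nroots := by
  obtain ⟨tab, orb, _, hH, _⟩ := hnfacts_all D hD
  exact simple_lt_of_hn hH i hi

theorem neg_lt_all (D : ChevalleyDatum)
    (hD : D ∈ [chevG2, chevB2, chevD4, chevF4, chevE6, chevE7, chevE8]) (s : ℕ) (hs : s < D.nroots) :
    D.neg s < D.nroots := by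
  obtain ⟨tab, orb, _, hH, _⟩ := hnfacts_all D hD
  have hr : 0 < D.rank := by
    rcases List.mem_cons.mp hD with rfl | hD
    · decide
    rcases List.mem_cons.mp hD with rfl | hD
    · decide
    rcases List.mem_cons.mp hD with rfl | hD
    · decide
    rcases List.mem_cons.mp hD with rfl | hD
    · decide
    rcases List.mem_cons.mp hD with rfl | hD
    · decide
    rcases List.mem_cons.mp hD with rfl | hD
    · decide
    rcases List.mem_cons.mp hD with rfl | hD
    · decide
    simp at hD
  have hc := allBelow_elim _ _ (hH.negc 0 hr) s hs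
  simp only [Bool.and_eq_true, decide_eq_true_eq] at hc
  exact hc.1.1

end Cfsg.Agent.Lib.Helper08.ChevGen
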