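import Cfsg.Agent.Lib.Helper24.HNAll
import Cfsg.Agent.Lib.Helper24.FactsAll
import Cfsg.Prelude.Def_ChevAutomorphisms

/-!
Signs of a graph automorphism on all root elements: if `φ` maps `x_{±p_i}(t)` to `x_{±p_{π i}}(t)` and `P` is a
permutation of the roots compatible with the fundamental reflections, then `φ(x_r(t)) = x_{P r}(±t)`.
-/

set_option autoImplicit false

namespace Cfsg.Agent.Lib.Helper08.ChevGraphSign

open Cfsg.Lie Cfsg.Agent.Lib.Helper24

variable {F : Type*} [Field F] {D : ChevalleyDatum} {tab : List ℕ} {orb : List (ℕ × ℕ × ℕ)}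

theorem xGL_mem_group (hF : Facts D) (r : ℕ) (t : F) : hF.xGL r t ∈ D.group F := by
  by_cases hr : r < D.nroots
  · apply Subgroup.subset_closure
    refine ⟨⟨r, hr⟩, t, ?_⟩
    rw [Facts.xGL_val]
    unfold ChevalleyDatum.x
    rw [dif_pos hr]
  · have : hF.xGL r t = 1 := by
      apply Units.ext
      rw [Facts.xGL_val]
      unfold ChevalleyDatum.x
      rw [dif_neg hr]
      rfl
    rw [this]
    exact one_mem _

theorem nS_mem_group (hF : Facts D) (i : ℕ) : (hF.nS i : GL D.Idx F) ∈ D.group F := by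
  unfold Facts.nS
  rw [hF.nGL_def]
  exact mul_mem (mul_mem (xGL_mem_group hF _ _) (xGL_mem_group hF _ _)) (xGL_mem_group hF _ _)

theorem eta_sq (D : ChevalleyDatum) (P s : ℕ) (t : F) :
    ((etaT D P s : ℤ) : F) * (((etaT D P s : ℤ) : F) * t) = t := by
  rcases etaT_cases D P s with h | h <;> rw [h] <;> simp

theorem eta_cast_cases (D : ChevalleyDatum) (P s : ℕ) :
    ((etaT D P s : ℤ) : F) = 1 ∨ ((etaT D P s : ℤ) : F) = -1 := by
  rcases etaT_cases D P s with h | h <;> rw [h] <;> simp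

theorem graph_signs (hF : Facts D) (hN : NFacts D tab) (hH : HNFacts D tab orb)
    (π : ℕ → ℕ) (P : ℕ → ℕ)
    (hπ : ∀ i < D.rank, π i < D.rank)
    (hP1 : ∀ i < D.rank, P (D.simple i) = D.simple (π i))
    (hP2 : ∀ i < D.rank, ∀ s < D.nroots, P (D.reflectRoot i s) = D.reflectRoot (π i) (P s))
    (hP3 : ∀ s < D.nroots, P s < D.nroots)
    (φ : ↥(D.group F) ≃* ↥(D.group F))
    (hφ : ∀ (g : ↥(D.group F)) (i : ℕ) (t : F), i < D.rank →
      (((g : GL D.Idx F) : Matrix D.Idx D.Idx F) = D.x F (D.simple i) t →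
        ((φ g : GL D.Idx F) : Matrix D.Idx D.Idx F) = D.x F (D.simple (π i)) t) ∧
      (((g : GL D.Idx F) : Matrix D.Idx D.Idx F) = D.x F (D.neg (D.simple i)) t →
        ((φ g : GL D.Idx F) : Matrix D.Idx D.Idx F) = D.x F (D.neg (D.simple (π i))) t)) :
    ∀ r < D.nroots, ∃ ε : F, (ε = 1 ∨ ε = -1) ∧ ∀ (g : ↥(D.group F)) (t : F),
      ((g : GL D.Idx F) : Matrix D.Idx D.Idx F) = D.x F r t →
        ((φ g : GL D.Idx F) : Matrix D.Idx D.Idx F) = D.x F (P r) (ε * t) := by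
  -- the image of `n_{p_i}`
  have hn : ∀ i < D.rank, ((φ ⟨hF.nS i, nS_mem_group hF i⟩ : ↥(D.group F)) : GL D.Idx F) = hF.nS (π i) := by
    intro i hi
    have e : (⟨hF.nS i, nS_mem_group hF i⟩ : ↥(D.group F)) =
        ⟨hF.xGL (D.simple i) 1, xGL_mem_group hF _ _⟩ *
          ⟨hF.xGL (D.neg (D.simple i)) (-(1 : F)⁻¹), xGL_mem_group hF _ _⟩ *
          ⟨hF.xGL (D.simple i) 1, xGL_mem_group hF _ _⟩ := by
      apply Subtype.ext
      simp only [Subgroup.coe_mul]
      unfold Facts.nS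
      rw [hF.nGL_def]
    rw [e, map_mul, map_mul]
    simp only [Subgroup.coe_mul]
    unfold Facts.nS
    rw [hF.nGL_def]
    have h1 := (hφ ⟨hF.xGL (D.simple i) 1, xGL_mem_group hF _ _⟩ i 1 hi).1 rfl
    have h2 := (hφ ⟨hF.xGL (D.neg (D.simple i)) (-(1 : F)⁻¹), xGL_mem_group hF _ _⟩ i _ hi).2 rfl
    rw [hF.eq_xGL _ _ _ h1, hF.eq_xGL _ _ _ h2]
  apply orbit_induction D tab orb hH.orbit (fun r => ∃ ε : F, (ε = 1 ∨ ε = -1) ∧
    ∀ (g : ↥(D.group F)) (t : F), ((g : GL D.Idx F) : Matrix D.Idx D.Idx F) = D.x F r t →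
      ((φ g : GL D.Idx F) : Matrix D.Idx D.Idx F) = D.x F (P r) (ε * t))
  · intro j hj _ _
    refine ⟨1, Or.inl rfl, fun g t hg => ?_⟩
    rw [hP1 j hj, one_mul]
    exact (hφ g j t hj).1 hg
  · intro r i r' hi hr' hw _ ih
    rw [wfast_eq D _ i (hH.perm i hi) r' hr'] at hw
    obtain ⟨ε', hε', ih⟩ := ih
    set η : F := ((etaT D (tab.getD i 0) r' : ℤ) : F) with hη
    set η' : F := ((etaT D (tab.getD (π i) 0) (P r') : ℤ) : F) with hη'
    refine ⟨η' * (ε' * η), ?_, fun g t hg => ?_⟩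
    · rcases eta_cast_cases (F := F) D (tab.getD i 0) r' with h1 | h1 <;>
        rcases eta_cast_cases (F := F) D (tab.getD (π i) 0) (P r') with h2 | h2 <;>
        rcases hε' with h3 | h3 <;> rw [hη, hη', h1, h2, h3] <;> simp
    · have hc := hF.nS_conj' hN i hi r' hr' (η * t)
      rw [hη, eta_sq, hw] at hc
      -- `g = n * y * n⁻¹`
      have hgx : (g : GL D.Idx F) = hF.xGL r t := hF.eq_xGL _ _ _ hg
      have e : g = ⟨hF.nS i, nS_mem_group hF i⟩ * ⟨hF.xGL r' (η * t), xGL_mem_group hF _ _⟩ *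
          (⟨hF.nS i, nS_mem_group hF i⟩ : ↥(D.group F))⁻¹ := by
        apply Subtype.ext
        simp only [Subgroup.coe_mul, Subgroup.coe_inv]
        rw [hgx, hη, hc]
      have hy := ih ⟨hF.xGL r' (η * t), xGL_mem_group hF _ _⟩ (η * t) rfl
      have hy' := hF.eq_xGL _ _ _ hy
      have hfin : ((φ g : ↥(D.group F)) : GL D.Idx F) = hF.xGL (P r) (η' * (ε' * η) * t) := by
        rw [e, map_mul, map_mul, map_inv]
        simp only [Subgroup.coe_mul, Subgroup.coe_inv]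
        rw [hn i hi, hy', hF.nS_conj' hN (π i) (hπ i hi) (P r') (hP3 r' hr'), ← hP2 i hi r' hr', hw]
        congr 1
        rw [hη']
        ring
      rw [hfin, Facts.xGL_val]

end Cfsg.Agent.Lib.Helper08.ChevGraphSign
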