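import Cfsg.Prelude.Def_ChevAutomorphisms
import Cfsg.Prelude.Def_ChevD4
import Cfsg.Prelude.Def_ChevE6

/-!
Table check for the diagram symmetries of `D₄` and `E₆`: the induced permutation of the roots maps fundamental roots
to fundamental roots and commutes with the fundamental reflections.
-/

set_option autoImplicit false

namespace Cfsg.Agent.Lib.Helper08.ChevGraphTab

open Cfsg.Lie

instance instDecDiagSym (D : ChevalleyDatum) (π : Equiv.Perm (Fin D.rank)) :
    Decidable (D.IsDiagramSymmetry π) := by
  unfold ChevalleyDatum.IsDiagramSymmetry; infer_instance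

/-- compatibility of `permRoot π` with the fundamental roots and the fundamental reflections, for every diagram
symmetry `π` -/
def GraphOK (D : ChevalleyDatum) : Prop :=
  ∀ π : Equiv.Perm (Fin D.rank), D.IsDiagramSymmetry π →
    (∀ i : Fin D.rank, D.permRoot π (D.simple i) = D.simple (π i)) ∧
    (∀ i : Fin D.rank, ∀ s : Fin D.nroots,
      D.permRoot π (D.reflectRoot i s) = D.reflectRoot (π i) (D.permRoot π s)) ∧
    (∀ s : Fin D.nroots, D.permRoot π s < D.nroots)

instance instDecGraphOK (D : ChevalleyDatum) : Decidable (GraphOK D) := by
  unfold GraphOK; infer_instance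

set_option maxRecDepth 100000 in
theorem graphOK_D4 : GraphOK chevD4 := by decide +kernel

set_option maxRecDepth 100000 in
theorem graphOK_E6 : GraphOK chevE6 := by decide +kernel

end Cfsg.Agent.Lib.Helper08.ChevGraphTab
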