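import Cfsg.Agent.Lib.Helper24.HNAll
import Cfsg.Agent.Lib.Helper24.FactsAll
import Cfsg.Agent.Lib.Helper24.NConj
import Cfsg.Agent.S1025
import Cfsg.Prelude.Def_ChevAutomorphisms
import Cfsg.Prelude.Def_LieTypes
import Cfsg.Prelude.Def_ChevB2

/-!
Generation of a Chevalley group by its monomial subgroup `N` and a few fundamental root subgroups.
-/

set_option autoImplicit false

namespace Cfsg.Agent.Lib.Helper08.ChevNGen

theorem simple_lt_of_hn {D : Cfsg.Lie.ChevalleyDatum} {tab : List ℕ} {orb : List (ℕ × ℕ × ℕ)}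
    (hH : Cfsg.Agent.Lib.Helper24.HNFacts D tab orb) (i : ℕ) (hi : i < D.rank) : D.simple i < D.nroots := by
  have := hH.orbit
  simp only [Cfsg.Agent.Lib.Helper24.orbitOK, Bool.and_eq_true, Cfsg.Agent.Lib.Helper24.simpleSuppOK,
    List.all_eq_true, List.mem_range, decide_eq_true_eq] at this
  exact (this.1 i hi).1

open Cfsg.Lie Cfsg.Agent.Lib.Helper24

variable {F : Type*} [Field F] {D : ChevalleyDatum} {tab : List ℕ} {orb : List (ℕ × ℕ × ℕ)}

/-- the root subgroup `X_r` lies in `M` -/
def Good (hF : Facts D) (M : Subgroup (GL D.Idx F)) (r : ℕ) : Prop := ∀ t : F, hF.xGL r t ∈ M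

theorem eta_sq (D : ChevalleyDatum) (P s : ℕ) (t : F) :
    ((etaT D P s : ℤ) : F) * (((etaT D P s : ℤ) : F) * t) = t := by
  rcases etaT_cases D P s with h | h <;> rw [h] <;> simp

theorem Good.refl (hF : Facts D) (hN : NFacts D tab) (hH : HNFacts D tab orb)
    (M : Subgroup (GL D.Idx F)) (hNM : D.monomialSubgroup F ≤ M) (i : ℕ) (hi : i < D.rank) (s : ℕ)
    (hs : s < D.nroots) (h : Good hF M s) : Good hF M (D.reflectRoot i s) := by
  intro t
  have hc := hF.nS_conj' hN i hi s hs (((etaT D (tab.getD i 0) s : ℤ) : F) * t)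
  rw [eta_sq] at hc
  rw [← hc]
  have hn : (hF.nS i : GL D.Idx F) ∈ M := hNM (hF.nS_mem_monomial i (simple_lt_of_hn hH i hi))
  exact mul_mem (mul_mem hn (h _)) (inv_mem hn)

theorem reflectRoot_lt (hN : NFacts D tab) (i : ℕ) (hi : i < D.rank) (s : ℕ) (hs : s < D.nroots) :
    D.reflectRoot i s < D.nroots :=
  reflectRoot_lt_of_reflOK2 D _ i s (hN.refl i hi s hs)

theorem group_le_of_good_simple (hF : Facts D) (hN : NFacts D tab) (hH : HNFacts D tab orb)
    (M : Subgroup (GL D.Idx F)) (hNM : D.monomialSubgroup F ≤ M)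
    (h : ∀ j < D.rank, Good hF M (D.simple j)) : D.group F ≤ M := by
  have hall : ∀ r < D.nroots, Good hF M r := by
    apply orbit_induction D tab orb hH.orbit (fun r => Good hF M r)
    · intro j hj _ _
      exact h j hj
    · intro r i r' hi hr' hw _ ih
      rw [wfast_eq D _ i (hH.perm i hi) r' hr'] at hw
      rw [← hw]
      exact Good.refl hF hN hH M hNM i hi r' hr' ih
  unfold ChevalleyDatum.group
  rw [Subgroup.closure_le]
  rintro g ⟨r, t, hg⟩
  have : g = hF.xGL r.val t := by
    apply Units.ext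
    rw [hg, Facts.xGL_val]
    unfold ChevalleyDatum.x
    rw [dif_pos r.isLt]
  rw [this]
  exact hall r.val r.isLt t

/-! ### adjacent fundamental roots joined by a single bond are conjugate under `N` -/

/-- for nodes `i`, `j` joined by a single bond, `w_i w_j (p_i) = p_j` -/
def adjOK (D : ChevalleyDatum) : Bool :=
  (List.range D.rank).all fun i => (List.range D.rank).all fun j =>
    !(decide (D.bonds i j = 1)) || Nat.beq (D.reflectRoot i (D.reflectRoot j (D.simple i))) (D.simple j)

theorem good_adj (hF : Facts D) (hN : NFacts D tab) (hH : HNFacts D tab orb)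
    (M : Subgroup (GL D.Idx F)) (hNM : D.monomialSubgroup F ≤ M) (hadj : adjOK D = true)
    (i j : ℕ) (hi : i < D.rank) (hj : j < D.rank) (hb : D.bonds i j = 1)
    (h : Good hF M (D.simple i)) : Good hF M (D.simple j) := by
  simp only [adjOK, List.all_eq_true, List.mem_range, Bool.or_eq_true, Bool.not_eq_true',
    decide_eq_false_iff_not] at hadj
  rcases hadj i hi j hj with h1 | h1
  · exact absurd hb h1
  · rw [← Nat.eq_of_beq_eq_true h1]
    have hs := simple_lt_of_hn hH i hi
    exact Good.refl hF hN hH M hNM i hi _ (reflectRoot_lt hN j hj _ hs)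
      (Good.refl hF hN hH M hNM j hj _ hs h)

/-- one step of the reachability computation along single bonds -/
def reachStep (D : ChevalleyDatum) (L : List ℕ) : List ℕ :=
  L ++ (List.range D.rank).filter fun j => L.any fun k => decide (D.bonds k j = 1)

/-- the nodes reachable from `i` along single bonds -/
def reachList (D : ChevalleyDatum) (i : ℕ) : List ℕ := (reachStep D)^[D.rank] [i]

theorem good_reachStep (hF : Facts D) (hN : NFacts D tab) (hH : HNFacts D tab orb)
    (M : Subgroup (GL D.Idx F)) (hNM : D.monomialSubgroup F ≤ M) (hadj : adjOK D = true)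
    (L : List ℕ) (hL : ∀ k ∈ L, k < D.rank ∧ Good hF M (D.simple k)) :
    ∀ k ∈ reachStep D L, k < D.rank ∧ Good hF M (D.simple k) := by
  intro k hk
  unfold reachStep at hk
  rcases List.mem_append.mp hk with hk | hk
  · exact hL k hk
  · simp only [List.mem_filter, List.mem_range, List.any_eq_true, decide_eq_true_eq] at hk
    obtain ⟨hk1, k', hk', hb⟩ := hk
    exact ⟨hk1, good_adj hF hN hH M hNM hadj k' k (hL k' hk').1 hk1 hb (hL k' hk').2⟩

theorem good_iterate (hF : Facts D) (hN : NFacts D tab) (hH : HNFacts D tab orb)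
    (M : Subgroup (GL D.Idx F)) (hNM : D.monomialSubgroup F ≤ M) (hadj : adjOK D = true) (n : ℕ)
    (L : List ℕ) (hL : ∀ k ∈ L, k < D.rank ∧ Good hF M (D.simple k)) :
    ∀ k ∈ (reachStep D)^[n] L, k < D.rank ∧ Good hF M (D.simple k) := by
  induction n generalizing L with
  | zero => simpa using hL
  | succ n ih =>
    rw [Function.iterate_succ_apply]
    exact ih _ (good_reachStep hF hN hH M hNM hadj L hL)

theorem good_reach (hF : Facts D) (hN : NFacts D tab) (hH : HNFacts D tab orb)
    (M : Subgroup (GL D.Idx F)) (hNM : D.monomialSubgroup F ≤ M) (hadj : adjOK D = true)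
    (i : ℕ) (hi : i < D.rank) (h : Good hF M (D.simple i)) (j : ℕ) (hj : j ∈ reachList D i) :
    Good hF M (D.simple j) := by
  refine (good_iterate hF hN hH M hNM hadj D.rank [i] ?_ j hj).2
  intro k hk
  rw [List.mem_singleton] at hk
  subst hk
  exact ⟨hi, h⟩

/-! ### the commutator of two root subgroups -/

theorem good_comm (hF : Facts D)
    (hD : D ∈ [chevG2, chevB2, chevD4, chevF4, chevE6, chevE7, chevE8])
    (M : Subgroup (GL D.Idx F)) (r s c : ℕ) (C : ℤ) (hr : r < D.nroots) (hs : s < D.nroots)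
    (hrs : s ≠ r) (hneg : s ≠ D.neg r) (hterms : D.commTerms r s = [(c, C, 1, 1)])
    (hC : ((C : ℤ) : F) ≠ 0) (hgr : Good hF M r) (hgs : Good hF M s) : Good hF M c := by
  intro v
  have h := Cfsg.Agent.S1025.result (F := F) D hD r s hr hs hrs hneg (-(v / (C : F))) 1
  have hw : D.wordMat F (D.commWord F r s (-(v / (C : F))) 1) = D.x F c v := by
    unfold ChevalleyDatum.commWord ChevalleyDatum.wordMat
    rw [hterms]
    simp only [List.map_cons, List.map_nil, List.prod_cons, List.prod_nil, mul_one, pow_one, neg_neg]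
    congr 1
    field_simp
  rw [hw] at h
  have e : hF.xGL c v = (hF.xGL r (-(v / (C : F))) * hF.xGL s 1)⁻¹ *
      (hF.xGL s 1 * hF.xGL r (-(v / (C : F)))) := by
    rw [eq_inv_mul_iff_mul_eq]
    apply Units.ext
    simp only [Units.val_mul, Facts.xGL_val]
    rw [h]
  rw [e]
  exact mul_mem (inv_mem (mul_mem (hgr _) (hgs _))) (mul_mem (hgs _) (hgr _))

theorem xGL_mem_rootSubgroup (hF : Facts D) (r : ℕ) (t : F) : hF.xGL r t ∈ D.rootSubgroup F r :=
  Subgroup.subset_closure ⟨t, rfl⟩

end Cfsg.Agent.Lib.Helper08.ChevNGen
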