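import Cfsg.Agent.Lib.Helper08.ChevNGen

/-!
Table facts (checked by evaluation) for the generation of Chevalley groups by `N` and fundamental root subgroups.
-/

set_option autoImplicit false

namespace Cfsg.Agent.Lib.Helper08.ChevNGen

open Cfsg.Lie

set_option maxRecDepth 100000 in
theorem adjOK_all : ∀ D ∈ [chevG2, chevB2, chevD4, chevF4, chevE6, chevE7, chevE8], adjOK D = true := by
  decide +kernel

/-- every node is reachable from every node along single bonds -/
def connOK (D : ChevalleyDatum) : Bool :=
  (List.range D.rank).all fun i => (List.range D.rank).all fun j => (reachList D i).contains j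

set_option maxRecDepth 100000 in
theorem connOK_all : ∀ D ∈ [chevD4, chevE6, chevE7, chevE8], connOK D = true := by
  decide +kernel

theorem mem_reachList_of_connOK (D : ChevalleyDatum) (h : connOK D = true) (i j : ℕ) (hi : i < D.rank)
    (hj : j < D.rank) : j ∈ reachList D i := by
  simp only [connOK, List.all_eq_true, List.mem_range, List.contains_iff_mem] at h
  exact h i hi j hj

/-! ### `G₂` -/

theorem g2_long : chevG2.isLong (chevG2.simple 1) = true := by decide +kernel

theorem g2_s : chevG2.reflectRoot 0 (chevG2.reflectRoot 1 (chevG2.simple 0)) = 9 := by decide +kernel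

theorem g2_simple0 : chevG2.simple 0 = 7 := by decide +kernel

theorem g2_neg : chevG2.neg 7 = 4 := by decide +kernel

theorem g2_terms : chevG2.commTerms 7 9 = [(10, 3, 1, 1)] := by decide +kernel

theorem g2_back : chevG2.reflectRoot 0 10 = chevG2.simple 1 := by decide +kernel

/-! ### `B₂` -/

theorem b2_long : chevB2.isLong (chevB2.simple 1) = true := by decide +kernel

theorem b2_s : chevB2.reflectRoot 1 (chevB2.simple 0) = 6 := by decide +kernel

theorem b2_simple0 : chevB2.simple 0 = 5 := by decide +kernel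

theorem b2_neg : chevB2.neg 5 = 2 := by decide +kernel

theorem b2_terms : chevB2.commTerms 5 6 = [(7, 2, 1, 1)] := by decide +kernel

theorem b2_back : chevB2.reflectRoot 0 7 = chevB2.simple 1 := by decide +kernel

/-! ### `F₄` -/

theorem f4_long2 : chevF4.isLong (chevF4.simple 2) = true := by decide +kernel

theorem f4_long3 : chevF4.isLong (chevF4.simple 3) = true := by decide +kernel

theorem f4_s : chevF4.reflectRoot 2 (chevF4.simple 1) = 28 := by decide +kernel

theorem f4_simple1 : chevF4.simple 1 = 27 := by decide +kernel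

theorem f4_neg : chevF4.neg 27 = 20 := by decide +kernel

theorem f4_terms : chevF4.commTerms 27 28 = [(30, 2, 1, 1)] := by decide +kernel

theorem f4_back : chevF4.reflectRoot 1 30 = chevF4.simple 2 := by decide +kernel

theorem f4_bonds01 : chevF4.bonds 0 1 = 1 := by decide +kernel

theorem f4_bonds10 : chevF4.bonds 1 0 = 1 := by decide +kernel

theorem f4_bonds23 : chevF4.bonds 2 3 = 1 := by decide +kernel

theorem f4_bonds02 : chevF4.bonds 0 2 = 0 := by decide +kernel

theorem f4_bonds03 : chevF4.bonds 0 3 = 0 := by decide +kernel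

theorem f4_bonds13 : chevF4.bonds 1 3 = 0 := by decide +kernel

theorem g2_short0 : chevG2.isLong (chevG2.simple 0) = false := by decide +kernel

theorem b2_short0 : chevB2.isLong (chevB2.simple 0) = false := by decide +kernel

theorem f4_short0 : chevF4.isLong (chevF4.simple 0) = false := by decide +kernel

theorem f4_short1 : chevF4.isLong (chevF4.simple 1) = false := by decide +kernel

/-! ### consequences -/

open Cfsg.Agent.Lib.Helper24

variable {K : Type*} [Field K] {tab : List ℕ} {orb : List (ℕ × ℕ × ℕ)}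

theorem three_ne_zero_of_ringChar (h : ringChar K ≠ 3) : (3 : K) ≠ 0 := by
  intro h0
  have h1 : ringChar K ∣ 3 := (ringChar.spec K 3).mp (by exact_mod_cast h0)
  rcases (Nat.dvd_prime Nat.prime_three).mp h1 with h2 | h2
  · exact CharP.ringChar_ne_one h2
  · exact h h2

theorem simple_good_laced (D : ChevalleyDatum) (hD : D ∈ [chevD4, chevE6, chevE7, chevE8])
    (hF : Facts D) (hN : NFacts D tab) (hH : HNFacts D tab orb) (M : Subgroup (GL D.Idx K))
    (hNM : D.monomialSubgroup K ≤ M) (hadj : adjOK D = true) (i : ℕ) (hi : i < D.rank)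
    (h : Good hF M (D.simple i)) : ∀ j < D.rank, Good hF M (D.simple j) := fun j hj =>
  good_reach hF hN hH M hNM hadj i hi h j (mem_reachList_of_connOK D (connOK_all D hD) i j hi hj)

theorem simple_good_G2 (hF : Facts chevG2) (hN : NFacts chevG2 tab) (hH : HNFacts chevG2 tab orb)
    (M : Subgroup (GL chevG2.Idx K)) (hNM : chevG2.monomialSubgroup K ≤ M) (h3 : (3 : K) ≠ 0)
    (h : Good hF M (chevG2.simple 0)) : ∀ j < chevG2.rank, Good hF M (chevG2.simple j) := by
  have hD : chevG2 ∈ [chevG2, chevB2, chevD4, chevF4, chevE6, chevE7, chevE8] := by simp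
  have hs0 : chevG2.simple 0 < chevG2.nroots := simple_lt_of_hn hH 0 (by decide)
  have h1 : Good hF M (chevG2.reflectRoot 1 (chevG2.simple 0)) :=
    Good.refl hF hN hH M hNM 1 (by decide) _ hs0 h
  have h2 : Good hF M (chevG2.reflectRoot 0 (chevG2.reflectRoot 1 (chevG2.simple 0))) :=
    Good.refl hF hN hH M hNM 0 (by decide) _ (reflectRoot_lt hN 1 (by decide) _ hs0) h1
  rw [g2_s] at h2
  have h' := h
  rw [g2_simple0] at h'
  have h3' : Good hF M 10 := good_comm hF hD M 7 9 10 3 (by decide) (by decide) (by decide)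
    (by rw [g2_neg]; decide) g2_terms (by exact_mod_cast h3) h' h2
  have h4 : Good hF M (chevG2.reflectRoot 0 10) :=
    Good.refl hF hN hH M hNM 0 (by decide) 10 (by decide) h3'
  rw [g2_back] at h4
  intro j hj
  have hj' : j = 0 ∨ j = 1 := by
    have : j < 2 := hj
    omega
  rcases hj' with rfl | rfl
  · exact h
  · exact h4

theorem simple_good_B2 (hF : Facts chevB2) (hN : NFacts chevB2 tab) (hH : HNFacts chevB2 tab orb)
    (M : Subgroup (GL chevB2.Idx K)) (hNM : chevB2.monomialSubgroup K ≤ M) (h2 : (2 : K) ≠ 0)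
    (h : Good hF M (chevB2.simple 0)) : ∀ j < chevB2.rank, Good hF M (chevB2.simple j) := by
  have hD : chevB2 ∈ [chevG2, chevB2, chevD4, chevF4, chevE6, chevE7, chevE8] := by simp
  have hs0 : chevB2.simple 0 < chevB2.nroots := simple_lt_of_hn hH 0 (by decide)
  have h1 : Good hF M (chevB2.reflectRoot 1 (chevB2.simple 0)) :=
    Good.refl hF hN hH M hNM 1 (by decide) _ hs0 h
  rw [b2_s] at h1
  have h' := h
  rw [b2_simple0] at h'
  have h3' : Good hF M 7 := good_comm hF hD M 5 6 7 2 (by decide) (by decide) (by decide)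
    (by rw [b2_neg]; decide) b2_terms (by exact_mod_cast h2) h' h1
  have h4 : Good hF M (chevB2.reflectRoot 0 7) :=
    Good.refl hF hN hH M hNM 0 (by decide) 7 (by decide) h3'
  rw [b2_back] at h4
  intro j hj
  have hj' : j = 0 ∨ j = 1 := by
    have : j < 2 := hj
    omega
  rcases hj' with rfl | rfl
  · exact h
  · exact h4

theorem simple_good_F4_of_12 (hF : Facts chevF4) (hN : NFacts chevF4 tab) (hH : HNFacts chevF4 tab orb)
    (M : Subgroup (GL chevF4.Idx K)) (hNM : chevF4.monomialSubgroup K ≤ M)
    (hadj : adjOK chevF4 = true)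
    (h1 : Good hF M (chevF4.simple 1)) (h2 : Good hF M (chevF4.simple 2)) :
    ∀ j < chevF4.rank, Good hF M (chevF4.simple j) := by
  have h0 : Good hF M (chevF4.simple 0) :=
    good_adj hF hN hH M hNM hadj 1 0 (by decide) (by decide) f4_bonds10 h1
  have h3 : Good hF M (chevF4.simple 3) :=
    good_adj hF hN hH M hNM hadj 2 3 (by decide) (by decide) f4_bonds23 h2
  intro j hj
  have hj' : j = 0 ∨ j = 1 ∨ j = 2 ∨ j = 3 := by
    have : j < 4 := hj
    omega
  rcases hj' with rfl | rfl | rfl | rfl
  · exact h0
  · exact h1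
  · exact h2
  · exact h3

theorem simple_good_F4 (hF : Facts chevF4) (hN : NFacts chevF4 tab) (hH : HNFacts chevF4 tab orb)
    (M : Subgroup (GL chevF4.Idx K)) (hNM : chevF4.monomialSubgroup K ≤ M) (h2 : (2 : K) ≠ 0)
    (hadj : adjOK chevF4 = true)
    (h : Good hF M (chevF4.simple 1)) : ∀ j < chevF4.rank, Good hF M (chevF4.simple j) := by
  have hD : chevF4 ∈ [chevG2, chevB2, chevD4, chevF4, chevE6, chevE7, chevE8] := by simp
  have hs1 : chevF4.simple 1 < chevF4.nroots := simple_lt_of_hn hH 1 (by decide)
  have h1 : Good hF M (chevF4.reflectRoot 2 (chevF4.simple 1)) :=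
    Good.refl hF hN hH M hNM 2 (by decide) _ hs1 h
  rw [f4_s] at h1
  have h' := h
  rw [f4_simple1] at h'
  have h3' : Good hF M 30 := good_comm hF hD M 27 28 30 2 (by decide) (by decide) (by decide)
    (by rw [f4_neg]; decide) f4_terms (by exact_mod_cast h2) h' h1
  have h4 : Good hF M (chevF4.reflectRoot 1 30) :=
    Good.refl hF hN hH M hNM 1 (by decide) 30 (by decide) h3'
  rw [f4_back] at h4
  exact simple_good_F4_of_12 hF hN hH M hNM hadj h h4

end Cfsg.Agent.Lib.Helper08.ChevNGen
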