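import Cfsg.Agent.Lib.Helper08.D4Basis

/-! generated: the action of the root elements `0..3` on the Chevalley basis over `ℤ`, by kernel computation -/

set_option autoImplicit false

namespace Cfsg.Agent.Lib.Helper08.D4O

open Matrix Cfsg Cfsg.Lie Cfsg.Agent.Lib.Helper24

set_option maxRecDepth 100000 in
theorem chk_0 : ∀ k : Fin 28, lin1 (GamZ 0) (bZ k) = shapeSum 1 0 k ∧ lin2 (GamZ 0) (bZ k) = shapeSum 2 0 k := by
  decide +kernel

set_option maxRecDepth 100000 in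
theorem chk_1 : ∀ k : Fin 28, lin1 (GamZ 1) (bZ k) = shapeSum 1 1 k ∧ lin2 (GamZ 1) (bZ k) = shapeSum 2 1 k := by
  decide +kernel

set_option maxRecDepth 100000 in
theorem chk_2 : ∀ k : Fin 28, lin1 (GamZ 2) (bZ k) = shapeSum 1 2 k ∧ lin2 (GamZ 2) (bZ k) = shapeSum 2 2 k := by
  decide +kernel

set_option maxRecDepth 100000 in
theorem chk_3 : ∀ k : Fin 28, lin1 (GamZ 3) (bZ k) = shapeSum 1 3 k ∧ lin2 (GamZ 3) (bZ k) = shapeSum 2 3 k := by
  decide +kernel

end Cfsg.Agent.Lib.Helper08.D4O
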