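import Cfsg.Agent.Lib.Helper08.D4Basis

/-! generated: the action of the root elements `12..15` on the Chevalley basis over `ℤ`, by kernel computation -/

set_option autoImplicit false

namespace Cfsg.Agent.Lib.Helper08.D4O

open Matrix Cfsg Cfsg.Lie Cfsg.Agent.Lib.Helper24

set_option maxRecDepth 100000 in
theorem chk_12 : ∀ k : Fin 28, lin1 (GamZ 12) (bZ k) = shapeSum 1 12 k ∧ lin2 (GamZ 12) (bZ k) = shapeSum 2 12 k := by
  decide +kernel

set_option maxRecDepth 100000 in
theorem chk_13 : ∀ k : Fin 28, lin1 (GamZ 13) (bZ k) = shapeSum 1 13 k ∧ lin2 (GamZ 13) (bZ k) = shapeSum 2 13 k := by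
  decide +kernel

set_option maxRecDepth 100000 in
theorem chk_14 : ∀ k : Fin 28, lin1 (GamZ 14) (bZ k) = shapeSum 1 14 k ∧ lin2 (GamZ 14) (bZ k) = shapeSum 2 14 k := by
  decide +kernel

set_option maxRecDepth 100000 in
theorem chk_15 : ∀ k : Fin 28, lin1 (GamZ 15) (bZ k) = shapeSum 1 15 k ∧ lin2 (GamZ 15) (bZ k) = shapeSum 2 15 k := by
  decide +kernel

end Cfsg.Agent.Lib.Helper08.D4O
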