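import Cfsg.Agent.Lib.Helper08.D4Basis

/-! generated: the action of the root elements `16..19` on the Chevalley basis over `ℤ`, by kernel computation -/

set_option autoImplicit false

namespace Cfsg.Agent.Lib.Helper08.D4O

open Matrix Cfsg Cfsg.Lie Cfsg.Agent.Lib.Helper24

set_option maxRecDepth 100000 in
theorem chk_16 : ∀ k : Fin 28, lin1 (GamZ 16) (bZ k) = shapeSum 1 16 k ∧ lin2 (GamZ 16) (bZ k) = shapeSum 2 16 k := by
  decide +kernel

set_option maxRecDepth 100000 in
theorem chk_17 : ∀ k : Fin 28, lin1 (GamZ 17) (bZ k) = shapeSum 1 17 k ∧ lin2 (GamZ 17) (bZ k) = shapeSum 2 17 k := by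
  decide +kernel

set_option maxRecDepth 100000 in
theorem chk_18 : ∀ k : Fin 28, lin1 (GamZ 18) (bZ k) = shapeSum 1 18 k ∧ lin2 (GamZ 18) (bZ k) = shapeSum 2 18 k := by
  decide +kernel

set_option maxRecDepth 100000 in
theorem chk_19 : ∀ k : Fin 28, lin1 (GamZ 19) (bZ k) = shapeSum 1 19 k ∧ lin2 (GamZ 19) (bZ k) = shapeSum 2 19 k := by
  decide +kernel

end Cfsg.Agent.Lib.Helper08.D4O
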