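import Cfsg.Agent.Lib.Helper08.D4Basis

/-! generated: the action of the root elements `20..23` on the Chevalley basis over `ℤ`, by kernel computation -/

set_option autoImplicit false

namespace Cfsg.Agent.Lib.Helper08.D4O

open Matrix Cfsg Cfsg.Lie Cfsg.Agent.Lib.Helper24

set_option maxRecDepth 100000 in
theorem chk_20 : ∀ k : Fin 28, lin1 (GamZ 20) (bZ k) = shapeSum 1 20 k ∧ lin2 (GamZ 20) (bZ k) = shapeSum 2 20 k := by
  decide +kernel

set_option maxRecDepth 100000 in
theorem chk_21 : ∀ k : Fin 28, lin1 (GamZ 21) (bZ k) = shapeSum 1 21 k ∧ lin2 (GamZ 21) (bZ k) = shapeSum 2 21 k := by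
  decide +kernel

set_option maxRecDepth 100000 in
theorem chk_22 : ∀ k : Fin 28, lin1 (GamZ 22) (bZ k) = shapeSum 1 22 k ∧ lin2 (GamZ 22) (bZ k) = shapeSum 2 22 k := by
  decide +kernel

set_option maxRecDepth 100000 in
theorem chk_23 : ∀ k : Fin 28, lin1 (GamZ 23) (bZ k) = shapeSum 1 23 k ∧ lin2 (GamZ 23) (bZ k) = shapeSum 2 23 k := by
  decide +kernel

end Cfsg.Agent.Lib.Helper08.D4O
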