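import Cfsg.Agent.Lib.Helper08.D4Recon
import Cfsg.Agent.Lib.Helper08.D4Chk0
import Cfsg.Agent.Lib.Helper08.D4Chk1
import Cfsg.Agent.Lib.Helper08.D4Chk2
import Cfsg.Agent.Lib.Helper08.D4Chk3
import Cfsg.Agent.Lib.Helper08.D4Chk4
import Cfsg.Agent.Lib.Helper08.D4Chk5
import Cfsg.Prelude.Def_Classical

/-!
# The representation of `O₈⁺(F)` on the Chevalley lattice of type `D₄`, and the root elements
-/

set_option autoImplicit false
set_option linter.unusedSimpArgs false
set_option linter.unnecessarySeqFocus false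
set_option linter.unusedTactic false
set_option linter.unreachableTactic false

namespace Cfsg.Agent.Lib.Helper08.D4O

open Matrix Cfsg Cfsg.Lie Cfsg.Agent.Lib.Helper24

variable {F : Type*} [Field F]

/-- the orthogonal group of `Σ xᵢ yᵢ` in dimension `8` -/
abbrev O8 (F : Type*) [Field F] := ↥(Cfsg.isometryGroup F (Cfsg.quadFormPlus 4 F))

/-- the matrix of an element of `O₈⁺(F)` -/
def mat (g : O8 F) : Matrix I8 I8 F := ((g : GL I8 F) : Matrix I8 I8 F)

theorem mat_mul (g h : O8 F) : mat (g * h) = mat g * mat h := rfl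

theorem mat_one : mat (1 : O8 F) = 1 := rfl

theorem mat_injective : Function.Injective (mat (F := F)) := by
  intro g h e
  apply Subtype.ext
  apply Units.ext
  exact e

theorem mat_mul_inv (g : O8 F) : mat g * mat g⁻¹ = 1 := by
  rw [← mat_mul, mul_inv_cancel, mat_one]

theorem mat_inv_mul (g : O8 F) : mat g⁻¹ * mat g = 1 := by
  rw [← mat_mul, inv_mul_cancel, mat_one]

theorem quadFormPlus_eq (v : I8 → F) : Cfsg.quadFormPlus 4 F v = Qf v := rfl

theorem mat_Qf (g : O8 F) (v : I8 → F) : Qf (mat g *ᵥ v) = Qf v := g.2 v v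

theorem isOrth_mat (g : O8 F) : IsOrth (mat g) := isOrth_of_Qf (mat_Qf g)

/-- an orthogonal matrix with a two-sided inverse, as an element of `O₈⁺(F)` -/
def mkO (A B : Matrix I8 I8 F) (hAB : A * B = 1) (hBA : B * A = 1) (hA : IsOrth A) : O8 F :=
  ⟨⟨A, B, hAB, hBA⟩, fun u _ => hA.Qf_mulVec u⟩

theorem mat_mkO (A B : Matrix I8 I8 F) (hAB : A * B = 1) (hBA : B * A = 1) (hA : IsOrth A) :
    mat (mkO A B hAB hBA hA) = A := rfl

/-! ### The representation -/

theorem sum_enc (g : ℕ → F) :
    ∑ k : chevD4.Idx, g (enc chevD4 k) = ∑ k ∈ Finset.range 28, g k := by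
  rw [Fintype.sum_sum_type]
  show ∑ i : Fin 4, g i.val + ∑ s : Fin 24, g (4 + s.val) = _
  rw [Fin.sum_univ_eq_sum_range, Fin.sum_univ_eq_sum_range (fun s => g (4 + s)),
    show (28 : ℕ) = 4 + 24 from rfl, Finset.sum_range_add]

theorem enc_lt' (i : chevD4.Idx) : enc chevD4 i < 28 := enc_lt chevD4 i

/-- the matrix of `g ∈ O₈⁺(F)` on the Chevalley lattice -/
def adMat (g : O8 F) : Matrix chevD4.Idx chevD4.Idx F :=
  Matrix.of fun i j => cN (rho (mat g) (bR F (enc chevD4 j))) (enc chevD4 i)

theorem adMat_one : adMat (1 : O8 F) = 1 := by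
  ext i j
  simp only [adMat, Matrix.of_apply, mat_one, rho_one]
  rw [cN_bR _ _ (enc_lt' i), Matrix.one_apply]
  by_cases h : i = j
  · subst h; simp
  · rw [if_neg h, if_neg]
    intro h'
    exact h (enc_injective chevD4 h').symm

theorem adMat_mul (g h : O8 F) : adMat (g * h) = adMat g * adMat h := by
  ext i j
  simp only [adMat, Matrix.of_apply, Matrix.mul_apply, mat_mul]
  rw [rho_mul (isOrth_mat g) (mat h) (isAlt_bR _)]
  have hY : rho (mat h) (bR F (enc chevD4 j)) =
      ∑ k ∈ Finset.range 28, cN (rho (mat h) (bR F (enc chevD4 j))) k • bR F k :=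
    recon _ (rho_isAlt _ (isAlt_bR _)) (by rw [trW_rho (isOrth_mat h) (isAlt_bR _), trW_bR])
  conv_lhs => rw [hY]
  rw [map_sum, cN_sum]
  rw [sum_enc (fun k => cN (rho (mat g) (bR F k)) (enc chevD4 i) *
    cN (rho (mat h) (bR F (enc chevD4 j))) k)]
  apply Finset.sum_congr rfl
  intro k _
  rw [map_smul, cN_smul, mul_comm]

/-- the representation as a monoid homomorphism to matrices -/
def adHom0 : O8 F →* Matrix chevD4.Idx chevD4.Idx F where
  toFun := adMat
  map_one' := adMat_one
  map_mul' := adMat_mul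

/-- the representation `O₈⁺(F) → GL₂₈(F)` -/
noncomputable def adHom : O8 F →* GL chevD4.Idx F := adHom0.toHomUnits

theorem adHom_val (g : O8 F) :
    ((adHom g : GL chevD4.Idx F) : Matrix chevD4.Idx chevD4.Idx F) = adMat g := rfl

/-! ### Root elements -/

theorem chk (r : Fin 24) (k : Fin 28) :
    lin1 (GamZ r) (bZ k) = shapeSum 1 r k ∧ lin2 (GamZ r) (bZ k) = shapeSum 2 r k := by
  fin_cases r
  · exact chk_0 k
  · exact chk_1 k
  · exact chk_2 k
  · exact chk_3 k
  · exact chk_4 k
  · exact chk_5 k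
  · exact chk_6 k
  · exact chk_7 k
  · exact chk_8 k
  · exact chk_9 k
  · exact chk_10 k
  · exact chk_11 k
  · exact chk_12 k
  · exact chk_13 k
  · exact chk_14 k
  · exact chk_15 k
  · exact chk_16 k
  · exact chk_17 k
  · exact chk_18 k
  · exact chk_19 k
  · exact chk_20 k
  · exact chk_21 k
  · exact chk_22 k
  · exact chk_23 k

theorem GamR_sq (r : Fin 24) : GamR F r * GamR F r = 0 := by
  unfold GamR
  rw [← Matrix.map_mul, (int_root r).2.2.1]
  ext p q; simp

theorem isAlt_GamR1 (r : Fin 24) : IsAlt ((GamR F r)ᵀ * Nm F + Nm F * GamR F r) := by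
  have := isAlt_map (Int.castRingHom F) (int_root r).1
  rwa [Matrix.map_add (hf := map_add _), Matrix.map_mul, Matrix.map_mul, Matrix.transpose_map,
    Nm_map] at this

theorem isAlt_GamR2 (r : Fin 24) : IsAlt ((GamR F r)ᵀ * Nm F * GamR F r) := by
  have := isAlt_map (Int.castRingHom F) (int_root r).2.1
  rwa [Matrix.map_mul, Matrix.map_mul, Matrix.transpose_map, Nm_map] at this

theorem root_mul_inv (r : Fin 24) (t : F) : (1 + t • GamR F r) * (1 + (-t) • GamR F r) = 1 := by
  rw [Matrix.add_mul, Matrix.mul_add, Matrix.mul_add, Matrix.one_mul, Matrix.mul_one, Matrix.one_mul,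
    Matrix.smul_mul, Matrix.mul_smul, GamR_sq, smul_zero, smul_zero, add_zero, neg_smul]
  abel

/-- the root element `x_r(t)` of `O₈⁺(F)` -/
def xO (r : Fin 24) (t : F) : O8 F :=
  mkO (1 + t • GamR F r) (1 + (-t) • GamR F r) (root_mul_inv r t)
    (by have := root_mul_inv r (-t); rwa [neg_neg] at this)
    (isOrth_root (isAlt_GamR1 r) (isAlt_GamR2 r) t)

theorem mat_xO (r : Fin 24) (t : F) : mat (xO r t) = 1 + t • GamR F r := rfl

theorem xO_mul (r : Fin 24) (s t : F) : xO r s * xO r t = xO r (s + t) := by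
  apply mat_injective
  rw [mat_mul, mat_xO, mat_xO, mat_xO, Matrix.add_mul, Matrix.mul_add, Matrix.mul_add,
    Matrix.one_mul, Matrix.mul_one, Matrix.one_mul, Matrix.smul_mul, Matrix.mul_smul, GamR_sq,
    smul_zero, smul_zero, add_zero, add_smul, add_assoc, add_comm (t • _)]

theorem xO_zero (r : Fin 24) : xO r (0 : F) = 1 := by
  apply mat_injective
  rw [mat_xO, zero_smul, add_zero, mat_one]

theorem xO_inv (r : Fin 24) (t : F) : (xO r t)⁻¹ = xO r (-t) := by
  apply inv_eq_of_mul_eq_one_right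
  rw [xO_mul, add_neg_cancel, xO_zero]

theorem mapW_zsmul {R S : Type*} [CommRing R] [CommRing S] (f : R →+* S) (n : ℤ) (w : WW R) :
    mapW f (n • w) = (n : S) • mapW f w := by
  unfold mapW
  apply Prod.ext
  · simp
  · ext p q
    show f ((n • w.2) p q) = ((n : S) • (w.2.map f)) p q
    rw [Matrix.smul_apply, Matrix.smul_apply, Matrix.map_apply, map_zsmul, zsmul_eq_mul, smul_eq_mul]

theorem mapW_shapeSum (e r k : ℕ) : mapW (Int.castRingHom F) (shapeSum e r k) =
    (((fullShape chevD4 r k).filter fun x => x.2.2 = e).map fun x => ((x.2.1 : ℤ) : F) • bR F x.1).sum := by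
  unfold shapeSum
  induction ((fullShape chevD4 r k).filter fun x => x.2.2 = e) with
  | nil => simp [mapW_zero]
  | cons a L ih =>
    rw [List.map_cons, List.sum_cons, mapW_add, ih, mapW_zsmul, List.map_cons, List.sum_cons]
    rfl

theorem split_pow (l : ℕ) (t : F) (L : List (ℕ × ℤ × ℕ)) (hL : ∀ x ∈ L, x.2.2 = 1 ∨ x.2.2 = 2) :
    (L.map fun e => if e.1 = l then ((e.2.1 : ℤ) : F) * t ^ e.2.2 else 0).sum =
      t * ((L.filter fun x => x.2.2 = 1).map fun e => if e.1 = l then ((e.2.1 : ℤ) : F) else 0).sum +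
      t * t * ((L.filter fun x => x.2.2 = 2).map fun e => if e.1 = l then ((e.2.1 : ℤ) : F) else 0).sum := by
  induction L with
  | nil => simp
  | cons a L ih =>
    have ih' := ih (fun x hx => hL x (List.mem_cons_of_mem _ hx))
    rw [List.map_cons, List.sum_cons, ih']
    rcases hL a (List.mem_cons_self) with h | h
    · rw [List.filter_cons_of_pos (by simpa using h), List.filter_cons_of_neg (by simp [h]),
        List.map_cons, List.sum_cons, h]
      split_ifs <;> ring
    · rw [List.filter_cons_of_neg (by simp [h]), List.filter_cons_of_pos (by simpa using h),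
        List.map_cons, List.sum_cons, h]
      split_ifs <;> ring

theorem adMat_xO (r : Fin 24) (t : F) :
    adMat (xO (F := F) r t) = chevD4.xMat F (r : Fin chevD4.nroots) t := by
  ext i j
  rw [xMat_entry chevD4 (r : Fin chevD4.nroots) t i j]
  simp only [adMat, Matrix.of_apply]
  have hj := enc_lt' j
  obtain ⟨hc1, hc2⟩ := chk r ⟨enc chevD4 j, hj⟩
  have e1 : lin1 (GamR F r) (bR F (enc chevD4 j)) =
      mapW (Int.castRingHom F) (shapeSum 1 r (enc chevD4 j)) := by
    rw [← hc1]; exact lin1_map _ _ _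
  have e2 : lin2 (GamR F r) (bR F (enc chevD4 j)) =
      mapW (Int.castRingHom F) (shapeSum 2 r (enc chevD4 j)) := by
    rw [← hc2]; exact lin2_map _ _ _
  rw [mat_xO, rho_root, e1, e2, mapW_shapeSum, mapW_shapeSum, cN_add, cN_add, cN_smul, cN_smul,
    cN_bR _ _ (enc_lt' i), cN_list_sum, cN_list_sum, List.map_map, List.map_map,
    split_pow _ _ _ (shape_pow r ⟨enc chevD4 j, hj⟩), add_assoc]
  congr 2
  · congr 2
    apply List.map_congr_left
    intro e _
    simp only [Function.comp, cN_smul, cN_bR _ _ (enc_lt' i), mul_ite, mul_one, mul_zero]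
  · congr 2
    apply List.map_congr_left
    intro e _
    simp only [Function.comp, cN_smul, cN_bR _ _ (enc_lt' i), mul_ite, mul_one, mul_zero]

theorem adHom_xO (r : Fin 24) (t : F) :
    ((adHom (xO (F := F) r t) : GL chevD4.Idx F) : Matrix chevD4.Idx chevD4.Idx F) =
      chevD4.xMat F (r : Fin chevD4.nroots) t := by
  rw [adHom_val, adMat_xO]

end Cfsg.Agent.Lib.Helper08.D4O
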