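import Mathlib

/-!
# Alternating `8 × 8` matrices, the half-trace pairing, and the action of the orthogonal group
of `Σ xᵢ yᵢ` on `R × Alt₈(R)` (the even part of degree `≤ 2` of the Clifford algebra)

Everything here is over an arbitrary commutative ring, so that integer computations can be
transported to every field.
-/

set_option autoImplicit false

namespace Cfsg.Agent.Lib.Helper08.D4O

open Matrix

/-- the index set of the hyperbolic basis `e₁..e₄, f₁..f₄` -/
abbrev I8 := Fin 4 ⊕ Fin 4

/-- the opposite index -/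
def bar (p : I8) : I8 := Sum.swap p

@[simp] theorem bar_bar (p : I8) : bar (bar p) = p := Sum.swap_swap p

theorem bar_ne (p : I8) : bar p ≠ p := by cases p <;> simp [bar]

theorem bar_inl (i : Fin 4) : bar (Sum.inl i) = Sum.inr i := rfl

theorem bar_inr (i : Fin 4) : bar (Sum.inr i) = Sum.inl i := rfl

theorem bar_injective : Function.Injective bar := fun p q h => by
  have := congrArg bar h
  simpa using this

/-- a linear order rank on the index set -/
def rk : I8 → ℕ
  | Sum.inl i => i.val
  | Sum.inr i => 4 + i.val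

theorem rk_injective : Function.Injective rk := by
  intro p q h
  rcases p with i | i <;> rcases q with j | j <;> simp only [rk] at h
  · exact congrArg _ (Fin.ext h)
  · omega
  · omega
  · exact congrArg _ (Fin.ext (by omega))

/-- strictly upper triangular positions -/
def up (p q : I8) : Prop := rk p < rk q

instance (p q : I8) : Decidable (up p q) := by unfold up; infer_instance

section ring

variable {R : Type*} [CommRing R]

/-- the matrix of the (non symmetric) bilinear form `β(u, v) = Σ u(fᵢ) v(eᵢ)`, with `β(v, v) = Q(v)` -/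
def Nm (R : Type*) [CommRing R] : Matrix I8 I8 R := Matrix.of fun p q =>
  match p, q with
  | Sum.inr a, Sum.inl b => if a = b then 1 else 0
  | _, _ => 0

/-- the Gram matrix of the polar form -/
def Jm (R : Type*) [CommRing R] : Matrix I8 I8 R := Matrix.of fun p q => if p = bar q then 1 else 0

theorem Nm_add_transpose : Nm R + (Nm R)ᵀ = Jm R := by
  ext p q
  rcases p with a | a <;> rcases q with b | b <;>
    simp [Nm, Jm, bar, eq_comm]

/-- alternating matrices -/
def IsAlt (A : Matrix I8 I8 R) : Prop := (∀ p, A p p = 0) ∧ ∀ p q, A q p = - A p q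

instance [DecidableEq R] (A : Matrix I8 I8 R) : Decidable (IsAlt A) := by unfold IsAlt; infer_instance

theorem IsAlt.transpose {A : Matrix I8 I8 R} (hA : IsAlt A) : Aᵀ = -A := by
  ext p q
  exact hA.2 p q

theorem isAlt_zero : IsAlt (0 : Matrix I8 I8 R) := ⟨fun _ => rfl, fun _ _ => by simp⟩

theorem IsAlt.add {A B : Matrix I8 I8 R} (hA : IsAlt A) (hB : IsAlt B) : IsAlt (A + B) :=
  ⟨fun p => by rw [Matrix.add_apply, hA.1, hB.1, add_zero],
   fun p q => by rw [Matrix.add_apply, Matrix.add_apply, hA.2, hB.2, neg_add]⟩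

theorem IsAlt.smul {A : Matrix I8 I8 R} (hA : IsAlt A) (a : R) : IsAlt (a • A) :=
  ⟨fun p => by rw [Matrix.smul_apply, hA.1, smul_zero],
   fun p q => by rw [Matrix.smul_apply, Matrix.smul_apply, hA.2, smul_neg]⟩

theorem IsAlt.neg {A : Matrix I8 I8 R} (hA : IsAlt A) : IsAlt (-A) :=
  ⟨fun p => by rw [Matrix.neg_apply, hA.1, neg_zero],
   fun p q => by rw [Matrix.neg_apply, Matrix.neg_apply, hA.2]⟩

theorem IsAlt.sub {A B : Matrix I8 I8 R} (hA : IsAlt A) (hB : IsAlt B) : IsAlt (A - B) := by
  rw [sub_eq_add_neg]; exact hA.add hB.neg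

theorem isAlt_sub_transpose (M : Matrix I8 I8 R) : IsAlt (M - Mᵀ) :=
  ⟨fun p => by simp, fun p q => by simp⟩

/-- the sum of `K p q * S p q` vanishes for alternating `K` and symmetric `S` -/
theorem sum_alt_symm {K S : Matrix I8 I8 R} (hK : IsAlt K) (hS : ∀ p q, S q p = S p q) :
    ∑ p, ∑ q, K p q * S p q = 0 := by
  rw [← Fintype.sum_prod_type' (f := fun p q => K p q * S p q)]
  apply Finset.sum_ninvolution (fun x => (x.2, x.1))
  · intro x
    rw [hK.2 x.1 x.2, hS x.1 x.2]
    ring
  · intro x hx h
    apply hx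
    have h1 : x.2 = x.1 := congrArg Prod.fst h
    rw [h1, hK.1, zero_mul]
  · intro x; exact Finset.mem_univ _
  · intro x; rfl

/-- the half-trace pairing `Σ_{p<q} K p q * A p q` -/
def pair (K A : Matrix I8 I8 R) : R := ∑ p, ∑ q, if up p q then K p q * A p q else 0

/-- the strictly upper triangular part -/
def upper (A : Matrix I8 I8 R) : Matrix I8 I8 R := Matrix.of fun p q => if up p q then A p q else 0

theorem pair_eq_upper (K A : Matrix I8 I8 R) : pair K A = ∑ p, ∑ q, K p q * upper A p q := by
  unfold pair upper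
  apply Finset.sum_congr rfl; intro p _
  apply Finset.sum_congr rfl; intro q _
  simp only [Matrix.of_apply, mul_ite, mul_zero]

theorem upper_sub_transpose {A : Matrix I8 I8 R} (hA : IsAlt A) : upper A - (upper A)ᵀ = A := by
  ext p q
  simp only [upper, Matrix.sub_apply, Matrix.transpose_apply, Matrix.of_apply]
  rcases lt_trichotomy (rk p) (rk q) with h | h | h
  · rw [if_pos (show up p q from h), if_neg (show ¬ up q p from by unfold up; omega), sub_zero]
  · have : p = q := rk_injective h
    subst this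
    rw [if_neg (show ¬ up p p from by unfold up; omega), sub_zero, hA.1]
  · rw [if_neg (show ¬ up p q from by unfold up; omega), if_pos (show up q p from h), zero_sub,
      hA.2 p q, neg_neg]

theorem pair_add_left (K K' A : Matrix I8 I8 R) : pair (K + K') A = pair K A + pair K' A := by
  unfold pair
  rw [← Finset.sum_add_distrib]
  apply Finset.sum_congr rfl; intro p _
  rw [← Finset.sum_add_distrib]
  apply Finset.sum_congr rfl; intro q _
  split_ifs
  · rw [Matrix.add_apply, add_mul]
  · rw [add_zero]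

theorem pair_add_right (K A A' : Matrix I8 I8 R) : pair K (A + A') = pair K A + pair K A' := by
  unfold pair
  rw [← Finset.sum_add_distrib]
  apply Finset.sum_congr rfl; intro p _
  rw [← Finset.sum_add_distrib]
  apply Finset.sum_congr rfl; intro q _
  split_ifs
  · rw [Matrix.add_apply, mul_add]
  · rw [add_zero]

theorem pair_smul_left (a : R) (K A : Matrix I8 I8 R) : pair (a • K) A = a * pair K A := by
  unfold pair
  rw [Finset.mul_sum]
  apply Finset.sum_congr rfl; intro p _
  rw [Finset.mul_sum]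
  apply Finset.sum_congr rfl; intro q _
  split_ifs
  · rw [Matrix.smul_apply, smul_eq_mul, mul_assoc]
  · rw [mul_zero]

theorem pair_smul_right (a : R) (K A : Matrix I8 I8 R) : pair K (a • A) = a * pair K A := by
  unfold pair
  rw [Finset.mul_sum]
  apply Finset.sum_congr rfl; intro p _
  rw [Finset.mul_sum]
  apply Finset.sum_congr rfl; intro q _
  split_ifs
  · rw [Matrix.smul_apply, smul_eq_mul]; ring
  · rw [mul_zero]

theorem pair_zero_left (A : Matrix I8 I8 R) : pair 0 A = 0 := by
  have := pair_smul_left (0 : R) 0 A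
  rwa [zero_smul, zero_mul] at this

theorem pair_sub_left (K K' A : Matrix I8 I8 R) : pair (K - K') A = pair K A - pair K' A := by
  have h := pair_add_left (K - K') K' A
  rw [sub_add_cancel] at h
  rw [h, add_sub_cancel_right]

/-- `Σ K p q * M p q` only depends on `M - Mᵀ` when `K` is alternating -/
theorem pair_sub_transpose {K : Matrix I8 I8 R} (hK : IsAlt K) (M : Matrix I8 I8 R) :
    pair K (M - Mᵀ) = ∑ p, ∑ q, K p q * M p q := by
  have hA : IsAlt (M - Mᵀ) := isAlt_sub_transpose M
  have hS : ∀ p q, (M - upper (M - Mᵀ)) q p = (M - upper (M - Mᵀ)) p q := by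
    intro p q
    have h := congrFun (congrFun (upper_sub_transpose hA) p) q
    simp only [Matrix.sub_apply, Matrix.transpose_apply] at h ⊢
    linear_combination h
  have h0 := sum_alt_symm hK hS
  rw [pair_eq_upper]
  have : ∀ p q, K p q * M p q = K p q * upper (M - Mᵀ) p q + K p q * (M - upper (M - Mᵀ)) p q := by
    intro p q
    rw [Matrix.sub_apply]; ring
  simp only [this, Finset.sum_add_distrib, h0, add_zero]

theorem sum_mul_eq_trace (X Y : Matrix I8 I8 R) : ∑ p, ∑ q, X p q * Y p q = Matrix.trace (Xᵀ * Y) := by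
  rw [Finset.sum_comm]
  simp only [Matrix.trace, Matrix.diag, Matrix.mul_apply, Matrix.transpose_apply]

theorem isAlt_congr {K : Matrix I8 I8 R} (hK : IsAlt K) (h : Matrix I8 I8 R) : IsAlt (hᵀ * K * h) := by
  constructor
  · intro p
    have h0 := sum_alt_symm (S := Matrix.of fun a b => h a p * h b p) hK
      (fun a b => by simp only [Matrix.of_apply]; ring)
    rw [← h0]
    simp only [Matrix.mul_apply, Matrix.transpose_apply, Finset.sum_mul, Matrix.of_apply]
    rw [Finset.sum_comm]
    apply Finset.sum_congr rfl; intro a _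
    apply Finset.sum_congr rfl; intro b _
    ring
  · intro p q
    have : (hᵀ * K * h)ᵀ = -(hᵀ * K * h) := by
      rw [Matrix.transpose_mul, Matrix.transpose_mul, Matrix.transpose_transpose, hK.transpose]
      simp [Matrix.mul_assoc]
    have := congrFun (congrFun this p) q
    simpa using this

theorem isAlt_congr' {A : Matrix I8 I8 R} (hA : IsAlt A) (h : Matrix I8 I8 R) : IsAlt (h * A * hᵀ) := by
  have := isAlt_congr hA hᵀ
  rwa [Matrix.transpose_transpose] at this

/-- the pairing is compatible with congruence -/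
theorem pair_congr {K A : Matrix I8 I8 R} (hK : IsAlt K) (hA : IsAlt A) (h : Matrix I8 I8 R) :
    pair (hᵀ * K * h) A = pair K (h * A * hᵀ) := by
  have e1 : A = upper A - (upper A)ᵀ := (upper_sub_transpose hA).symm
  have e2 : h * A * hᵀ = h * upper A * hᵀ - (h * upper A * hᵀ)ᵀ := by
    conv_lhs => rw [e1]
    rw [Matrix.transpose_mul, Matrix.transpose_mul, Matrix.transpose_transpose, Matrix.mul_sub,
      Matrix.sub_mul, Matrix.mul_assoc h (upper A)ᵀ hᵀ]
  conv_lhs => rw [e1]
  rw [e2, pair_sub_transpose (isAlt_congr hK h), pair_sub_transpose hK, sum_mul_eq_trace,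
    sum_mul_eq_trace, Matrix.transpose_mul, Matrix.transpose_mul, Matrix.transpose_transpose,
    Matrix.mul_assoc, Matrix.mul_assoc, Matrix.trace_mul_comm]
  simp only [Matrix.mul_assoc]

/-- for alternating `K`, `A`: the full sum is twice the pairing -/
theorem sum_eq_two_pair {K A : Matrix I8 I8 R} (hK : IsAlt K) (hA : IsAlt A) :
    ∑ p, ∑ q, K p q * A p q = 2 * pair K A := by
  have e1 : A = upper A - (upper A)ᵀ := (upper_sub_transpose hA).symm
  have h1 : pair K A = ∑ p, ∑ q, K p q * upper A p q := pair_eq_upper K A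
  have h2 : ∑ p, ∑ q, K p q * (upper A)ᵀ p q = - ∑ p, ∑ q, K p q * upper A p q := by
    rw [Finset.sum_comm, ← Finset.sum_neg_distrib]
    apply Finset.sum_congr rfl; intro p _
    rw [← Finset.sum_neg_distrib]
    apply Finset.sum_congr rfl; intro q _
    rw [Matrix.transpose_apply, hK.2 p q]; ring
  conv_lhs => rw [e1]
  simp only [Matrix.sub_apply, mul_sub, Finset.sum_sub_distrib]
  rw [h2, h1]; ring

/-! ### Orthogonal matrices -/

/-- `g` preserves the quadratic form `Σ xᵢ yᵢ` (matrix form, valid over every commutative ring) -/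
def IsOrth (g : Matrix I8 I8 R) : Prop := IsAlt (gᵀ * Nm R * g - Nm R)

theorem isOrth_one : IsOrth (1 : Matrix I8 I8 R) := by
  unfold IsOrth
  rw [Matrix.transpose_one, Matrix.one_mul, Matrix.mul_one, sub_self]
  exact isAlt_zero

theorem cocycle_eq (g h : Matrix I8 I8 R) :
    (g * h)ᵀ * Nm R * (g * h) - Nm R = hᵀ * (gᵀ * Nm R * g - Nm R) * h + (hᵀ * Nm R * h - Nm R) := by
  rw [Matrix.transpose_mul, Matrix.mul_sub, Matrix.sub_mul]
  simp only [Matrix.mul_assoc]
  abel

theorem IsOrth.mul {g h : Matrix I8 I8 R} (hg : IsOrth g) (hh : IsOrth h) : IsOrth (g * h) := by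
  unfold IsOrth
  rw [cocycle_eq]
  exact (isAlt_congr hg h).add hh

/-- the quadratic form `Σ xᵢ yᵢ` -/
def Qf (v : I8 → R) : R := ∑ i : Fin 4, v (Sum.inl i) * v (Sum.inr i)

theorem Qf_eq (v : I8 → R) : Qf v = ∑ p, ∑ q, Nm R p q * (v p * v q) := by
  unfold Qf
  rw [Fintype.sum_sum_type]
  simp only [Fintype.sum_sum_type, Nm, Matrix.of_apply, zero_mul, Finset.sum_const_zero, add_zero,
    zero_add, ite_mul, one_mul, Finset.sum_ite_eq, Finset.mem_univ, if_true]
  apply Finset.sum_congr rfl; intro i _
  ring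

theorem sum_eq_dot (M : Matrix I8 I8 R) (v : I8 → R) :
    ∑ p, ∑ q, M p q * (v p * v q) = v ⬝ᵥ (M *ᵥ v) := by
  simp only [dotProduct, Matrix.mulVec, Finset.mul_sum]
  apply Finset.sum_congr rfl; intro p _
  apply Finset.sum_congr rfl; intro q _
  ring

theorem Qf_mulVec (g : Matrix I8 I8 R) (v : I8 → R) :
    Qf (g *ᵥ v) = ∑ p, ∑ q, (gᵀ * Nm R * g) p q * (v p * v q) := by
  rw [Qf_eq, sum_eq_dot, sum_eq_dot]
  have e1 : (gᵀ * Nm R * g) *ᵥ v = gᵀ *ᵥ (Nm R *ᵥ (g *ᵥ v)) := by
    simp only [Matrix.mulVec_mulVec, Matrix.mul_assoc]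
  rw [e1, Matrix.dotProduct_mulVec v, Matrix.vecMul_transpose]

/-- orthogonal matrices preserve the quadratic form -/
theorem IsOrth.Qf_mulVec {g : Matrix I8 I8 R} (hg : IsOrth g) (v : I8 → R) : Qf (g *ᵥ v) = Qf v := by
  rw [D4O.Qf_mulVec, Qf_eq]
  have h0 := sum_alt_symm (S := Matrix.of fun p q => v p * v q) hg
    (fun a b => by simp only [Matrix.of_apply]; ring)
  simp only [Matrix.sub_apply, Matrix.of_apply, sub_mul, Finset.sum_sub_distrib] at h0
  exact sub_eq_zero.mp h0

theorem sum_single_single (K : Matrix I8 I8 R) (p q : I8) :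
    ∑ a, ∑ b, K a b * ((Pi.single p (1 : R) : I8 → R) a * (Pi.single q (1 : R) : I8 → R) b) = K p q := by
  simp [Pi.single_apply, Finset.sum_ite_eq', mul_ite]

/-- conversely, matrices preserving the quadratic form are orthogonal -/
theorem isOrth_of_Qf {g : Matrix I8 I8 R} (hg : ∀ v, Qf (g *ᵥ v) = Qf v) : IsOrth g := by
  unfold IsOrth
  obtain ⟨K, hK⟩ : ∃ K, K = gᵀ * Nm R * g - Nm R := ⟨_, rfl⟩
  rw [← hK]
  have key : ∀ v : I8 → R, ∑ p, ∑ q, K p q * (v p * v q) = 0 := by
    intro v
    have := hg v
    rw [D4O.Qf_mulVec, Qf_eq] at this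
    rw [hK]
    simp only [Matrix.sub_apply, sub_mul, Finset.sum_sub_distrib]
    exact sub_eq_zero.mpr this
  have diag : ∀ p, K p p = 0 := by
    intro p
    have := key (Pi.single p 1)
    rwa [sum_single_single] at this
  refine ⟨diag, ?_⟩
  intro p q
  have h1 := key (Pi.single p 1 + Pi.single q 1)
  have e : ∀ a b, K a b * ((Pi.single p (1 : R) + Pi.single q (1 : R) : I8 → R) a *
      (Pi.single p (1 : R) + Pi.single q (1 : R) : I8 → R) b) =
      K a b * ((Pi.single p (1 : R) : I8 → R) a * (Pi.single p (1 : R) : I8 → R) b) +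
      K a b * ((Pi.single p (1 : R) : I8 → R) a * (Pi.single q (1 : R) : I8 → R) b) +
      K a b * ((Pi.single q (1 : R) : I8 → R) a * (Pi.single p (1 : R) : I8 → R) b) +
      K a b * ((Pi.single q (1 : R) : I8 → R) a * (Pi.single q (1 : R) : I8 → R) b) := by
    intro a b
    rw [Pi.add_apply, Pi.add_apply]; ring
  simp only [e, Finset.sum_add_distrib, sum_single_single, diag] at h1
  linear_combination h1

end ring

end Cfsg.Agent.Lib.Helper08.D4O
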