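import Cfsg.Agent.Lib.Helper08.D4Rho
import Cfsg.Prelude.Def_ChevD4
import Cfsg.Agent.Lib.Helper24.DiagConj

/-!
# The Chevalley basis of type `D₄` inside `ℤ × Alt₈(ℤ)`, matching the Prelude tables
-/

set_option autoImplicit false

namespace Cfsg.Agent.Lib.Helper08.D4O

open Matrix Cfsg Cfsg.Lie Cfsg.Agent.Lib.Helper24

/-- row index of the root element of the root `r` -/
def rootP : ℕ → I8
  | 0 => Sum.inr 0
  | 1 => Sum.inr 0
  | 2 => Sum.inl 3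
  | 3 => Sum.inr 0
  | 4 => Sum.inl 2
  | 5 => Sum.inl 1
  | 6 => Sum.inr 1
  | 7 => Sum.inl 3
  | 8 => Sum.inr 1
  | 9 => Sum.inl 2
  | 10 => Sum.inl 3
  | 11 => Sum.inr 2
  | 12 => Sum.inl 2
  | 13 => Sum.inl 2
  | 14 => Sum.inl 1
  | 15 => Sum.inl 1
  | 16 => Sum.inl 1
  | 17 => Sum.inl 1
  | 18 => Sum.inl 0
  | 19 => Sum.inl 0
  | 20 => Sum.inl 0
  | 21 => Sum.inl 0
  | 22 => Sum.inl 0
  | 23 => Sum.inl 0
  | _ => Sum.inl 0

/-- column index of the root element of the root `r` -/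
def rootQ : ℕ → I8
  | 0 => Sum.inl 1
  | 1 => Sum.inl 2
  | 2 => Sum.inl 0
  | 3 => Sum.inl 3
  | 4 => Sum.inl 0
  | 5 => Sum.inl 0
  | 6 => Sum.inl 2
  | 7 => Sum.inl 1
  | 8 => Sum.inl 3
  | 9 => Sum.inl 1
  | 10 => Sum.inl 2
  | 11 => Sum.inl 3
  | 12 => Sum.inr 3
  | 13 => Sum.inl 3
  | 14 => Sum.inl 2
  | 15 => Sum.inr 3
  | 16 => Sum.inl 3
  | 17 => Sum.inr 2
  | 18 => Sum.inl 1
  | 19 => Sum.inl 2
  | 20 => Sum.inr 3
  | 21 => Sum.inl 3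
  | 22 => Sum.inr 2
  | 23 => Sum.inr 1
  | _ => Sum.inl 1

/-- sign of the root element of the root `r` -/
def rootS : ℕ → ℤ
  | 0 => -1
  | 1 => -1
  | 2 => 1
  | 3 => -1
  | 4 => -1
  | 5 => 1
  | 6 => 1
  | 7 => -1
  | 8 => 1
  | 9 => 1
  | 10 => 1
  | 11 => -1
  | 12 => 1
  | 13 => 1
  | 14 => 1
  | 15 => -1
  | 16 => -1
  | 17 => -1
  | 18 => 1
  | 19 => -1
  | 20 => 1
  | 21 => 1
  | 22 => 1
  | 23 => 1
  | _ => 0

/-- the generic Lie algebra element `E p q - E (bar q) (bar p)` over `ℤ` -/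
def GamPQ (p q : I8) : Matrix I8 I8 ℤ := Matrix.single p q 1 - Matrix.single (bar q) (bar p) 1

/-- the root vector of the root `r` as an element of `so₈(ℤ)` -/
def GamZ (r : ℕ) : Matrix I8 I8 ℤ := rootS r • GamPQ (rootP r) (rootQ r)

/-- the root vector of the root `r` as an alternating matrix -/
def AZ (r : ℕ) : Matrix I8 I8 ℤ :=
  rootS r • (Matrix.single (rootP r) (bar (rootQ r)) 1 - Matrix.single (bar (rootQ r)) (rootP r) 1)

/-- the bivector `eₐ fₐ` -/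
def HZ (a : Fin 4) : Matrix I8 I8 ℤ :=
  Matrix.single (Sum.inl a) (Sum.inr a) 1 - Matrix.single (Sum.inr a) (Sum.inl a) 1

/-- the Chevalley basis over `ℤ`: `0..3` the fundamental coroots, `4 + r` the root `r` -/
def bZ : ℕ → WW ℤ
  | 0 => (0, HZ 0 - HZ 1)
  | 1 => (0, HZ 1 - HZ 2)
  | 2 => (0, HZ 2 - HZ 3)
  | 3 => (-1, HZ 2 + HZ 3)
  | 4 => (0, AZ 0)
  | 5 => (0, AZ 1)
  | 6 => (0, AZ 2)
  | 7 => (0, AZ 3)
  | 8 => (0, AZ 4)
  | 9 => (0, AZ 5)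
  | 10 => (0, AZ 6)
  | 11 => (0, AZ 7)
  | 12 => (0, AZ 8)
  | 13 => (0, AZ 9)
  | 14 => (0, AZ 10)
  | 15 => (0, AZ 11)
  | 16 => (0, AZ 12)
  | 17 => (0, AZ 13)
  | 18 => (0, AZ 14)
  | 19 => (0, AZ 15)
  | 20 => (0, AZ 16)
  | 21 => (0, AZ 17)
  | 22 => (0, AZ 18)
  | 23 => (0, AZ 19)
  | 24 => (0, AZ 20)
  | 25 => (0, AZ 21)
  | 26 => (0, AZ 22)
  | 27 => (0, AZ 23)
  | _ => 0

/-- the expected coefficient of `t ^ e` in `x_r(t) b_k - b_k` -/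
def shapeSum (e r k : ℕ) : WW ℤ :=
  (((fullShape chevD4 r k).filter fun x => x.2.2 = e).map fun x => x.2.1 • bZ x.1).sum

section coords

variable {R : Type*} [CommRing R]

/-- coordinates with respect to the Chevalley basis -/
def cN (w : WW R) : ℕ → R
  | 0 => w.2 (Sum.inl 0) (Sum.inr 0)
  | 1 => w.2 (Sum.inl 0) (Sum.inr 0) + w.2 (Sum.inl 1) (Sum.inr 1)
  | 2 => - w.1 - w.2 (Sum.inl 3) (Sum.inr 3)
  | 3 => - w.1
  | (r + 4) => (rootS r : R) * w.2 (rootP r) (bar (rootQ r))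

end coords

end Cfsg.Agent.Lib.Helper08.D4O
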