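import Cfsg.Agent.Lib.Helper08.D4Gen
import Cfsg.Agent.Lib.Helper24.GroupLemmas

/-!
# The commutator subgroup of `O₈⁺(F)` is the subgroup generated by the root elements
-/

set_option autoImplicit false
set_option linter.unusedSimpArgs false
set_option linter.unnecessarySeqFocus false
set_option linter.unusedTactic false
set_option linter.unreachableTactic false
set_option linter.unusedVariables false

namespace Cfsg.Agent.Lib.Helper08.D4O

open Matrix Cfsg Cfsg.Lie Cfsg.Agent.Lib.Helper24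

variable {F : Type*} [Field F]

/-! ### Normality of the root group -/

theorem sw_bar : ∀ (i : Fin 4) (a : I8), sw i (bar a) = bar (sw i a) := by decide

theorem conj_xPQ_mem (a : O8 F) (ha : a ∈ torGens F) (p q : I8) (h : p ≠ q) (h' : q ≠ bar p) (t : F) :
    a * xPQ p q h t * a⁻¹ ∈ rootGrp F := by
  rcases ha with ⟨i, c, hc, rfl⟩ | ⟨i, rfl⟩
  · unfold dlt
    rw [dO_conj_xPQ, mul_assoc, mul_inv_cancel, mul_one]
    exact xPQ_mem p q h h' _
  · obtain ⟨h2, e⟩ := sO_conj_xPQ (F := F) i p q h t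
    rw [e, mul_assoc, mul_inv_cancel, mul_one]
    apply xPQ_mem
    rw [← sw_bar]
    intro e'
    apply h'
    have := congrArg (sw i) e'
    rwa [sw_sw, sw_sw] at this

theorem dlt_inv (i : Fin 4) (c : F) (hc : c ≠ 0) : (dlt i c hc)⁻¹ = dlt i c⁻¹ (inv_ne_zero hc) := by
  unfold dlt
  rw [dO_inv]
  apply mat_injective
  rw [mat_dO, mat_dO]
  congr 1
  funext p
  rcases p with j | j <;> by_cases h : j = i <;> simp [delta, bar, h]

theorem torGens_inv (a : O8 F) (ha : a ∈ torGens F) : a⁻¹ ∈ torGens F := by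
  rcases ha with ⟨i, c, hc, rfl⟩ | ⟨i, rfl⟩
  · exact Or.inl ⟨i, c⁻¹, inv_ne_zero hc, dlt_inv i c hc⟩
  · exact Or.inr ⟨i, sO_inv i⟩

theorem torA_le_normalizer : torA F ≤ Subgroup.normalizer (rootGrp F : Set (O8 F)) := by
  unfold torA
  rw [Subgroup.closure_le]
  intro a ha
  unfold rootGrp
  apply mem_normalizer_closure
  · rintro x ⟨r, t, rfl⟩
    rw [xO_eq_xPQ]
    exact conj_xPQ_mem a ha _ _ _ (int_root_pq r).2.1 _
  · rintro x ⟨r, t, rfl⟩
    rw [xO_eq_xPQ]
    have := conj_xPQ_mem a⁻¹ (torGens_inv a ha) _ _ (int_root_pq r).1 (int_root_pq r).2.1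
      (t * ((rootS r : ℤ) : F))
    rwa [inv_inv] at this

theorem rootGrp_normal : (rootGrp F).Normal := by
  rw [← Subgroup.normalizer_eq_top_iff, eq_top_iff, ← bigK_eq_top, bigK]
  exact sup_le Subgroup.le_normalizer torA_le_normalizer

/-! ### Squares of torus elements lie in the root group -/

/-- the Weyl element of the pair `(p, q)` -/
def weyl (p q : I8) (h : p ≠ q) : O8 F := xPQ p q h 1 * xPQ q p (Ne.symm h) (-1) * xPQ p q h 1

theorem weyl_mem (p q : I8) (h : p ≠ q) (h' : q ≠ bar p) : weyl (F := F) p q h ∈ rootGrp F := by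
  unfold weyl
  have h'' : p ≠ bar q := by
    intro e; apply h'; rw [e, bar_bar]
  exact Subgroup.mul_mem _ (Subgroup.mul_mem _ (xPQ_mem p q h h' _) (xPQ_mem q p (Ne.symm h) h'' _))
    (xPQ_mem p q h h' _)

theorem mat_weyl (p q : I8) (h : p ≠ q) : mat (weyl (F := F) p q h) = (WZ p q).map (Int.castRingHom F) := by
  unfold weyl WZ
  rw [mat_mul, mat_mul, mat_xPQ, mat_xPQ, Matrix.map_mul, Matrix.map_mul,
    Matrix.map_add (hf := map_add _), Matrix.map_sub (hf := map_sub _), Matrix.map_one _ (map_zero _) (map_one _),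
    one_smul, neg_smul, one_smul, ← sub_eq_add_neg]
  rfl

/-- a product of Weyl elements inducing the permutation `bar` -/
def zZ : Matrix I8 I8 ℤ :=
  WZ (Sum.inl 0) (Sum.inr 1) * WZ (Sum.inl 0) (Sum.inl 1) * (WZ (Sum.inl 2) (Sum.inr 3) * WZ (Sum.inl 2) (Sum.inl 3))

set_option maxRecDepth 100000 in
theorem zZ_monomial : ∀ ab : I8 × I8, zZ ab.1 ab.2 = 0 ∨ ab.2 = bar ab.1 := by
  decide +kernel

/-- the corresponding element of the root group -/
def zO : O8 F :=
  weyl (Sum.inl 0) (Sum.inr 1) (by simp) * weyl (Sum.inl 0) (Sum.inl 1) (by simp) *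
    (weyl (Sum.inl 2) (Sum.inr 3) (by simp) * weyl (Sum.inl 2) (Sum.inl 3) (by simp))

theorem zO_mem : zO (F := F) ∈ rootGrp F := by
  unfold zO
  refine Subgroup.mul_mem _ (Subgroup.mul_mem _ (weyl_mem _ _ _ ?_) (weyl_mem _ _ _ ?_))
    (Subgroup.mul_mem _ (weyl_mem _ _ _ ?_) (weyl_mem _ _ _ ?_)) <;> simp [bar]

theorem mat_zO : mat (zO (F := F)) = zZ.map (Int.castRingHom F) := by
  unfold zO zZ
  rw [mat_mul, mat_mul, mat_mul, mat_weyl, mat_weyl, mat_weyl, mat_weyl, Matrix.map_mul, Matrix.map_mul,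
    Matrix.map_mul]

/-- a monomial integer matrix conjugates diagonal matrices by its permutation -/
theorem monomial_mul_diagonal (M : Matrix I8 I8 ℤ) (τ : I8 → I8)
    (hM : ∀ ab : I8 × I8, M ab.1 ab.2 = 0 ∨ ab.2 = τ ab.1) (d : I8 → F) :
    M.map (Int.castRingHom F) * Matrix.diagonal d =
      Matrix.diagonal (fun a => d (τ a)) * M.map (Int.castRingHom F) := by
  ext a b
  rw [Matrix.mul_diagonal, Matrix.diagonal_mul, Matrix.map_apply]
  rcases hM (a, b) with h | h
  · simp only at h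
    rw [h]; simp
  · simp only at h
    rw [h]; ring

theorem zO_conj (d : I8 → F) (hd : ∀ p, d p * d (bar p) = 1) : zO * dO d hd = (dO d hd)⁻¹ * zO := by
  rw [dO_inv]
  apply mat_injective
  rw [mat_mul, mat_mul, mat_dO, mat_dO, mat_zO]
  exact monomial_mul_diagonal zZ bar zZ_monomial d

/-- squares of diagonal elements lie in the root group -/
theorem dO_sq_mem (d : I8 → F) (hd : ∀ p, d p * d (bar p) = 1) : dO d hd * dO d hd ∈ rootGrp F := by
  have h1 : dO d hd * zO * (dO d hd)⁻¹ ∈ rootGrp F := (rootGrp_normal (F := F)).conj_mem _ zO_mem _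
  have h2 : dO d hd * dO d hd = (dO d hd * zO * (dO d hd)⁻¹) * zO⁻¹ := by
    have e : zO * dO d hd * zO⁻¹ = (dO d hd)⁻¹ := by
      rw [zO_conj, mul_assoc, mul_inv_cancel, mul_one]
    have e2 : zO * (dO d hd)⁻¹ * zO⁻¹ = dO d hd := by
      calc zO * (dO d hd)⁻¹ * zO⁻¹ = (zO * dO d hd * zO⁻¹)⁻¹ := by group
        _ = dO d hd := by rw [e, inv_inv]
    calc dO d hd * dO d hd = dO d hd * (zO * (dO d hd)⁻¹ * zO⁻¹) := by rw [e2]
      _ = _ := by group
  rw [h2]
  exact Subgroup.mul_mem _ h1 (Subgroup.inv_mem _ zO_mem)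

end Cfsg.Agent.Lib.Helper08.D4O
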