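import Cfsg.Agent.Lib.Helper08.D4Int

/-!
# Integer matrix facts about commutators of root elements of `O₈⁺`
-/

set_option autoImplicit false

namespace Cfsg.Agent.Lib.Helper08.D4O

open Matrix Cfsg Cfsg.Lie Cfsg.Agent.Lib.Helper24

set_option maxRecDepth 100000 in
theorem int_comm : ∀ p s q : I8, good3 p s q →
    GamPQ p s * GamPQ s q - GamPQ s q * GamPQ p s = GamPQ p q ∧
    GamPQ p s * GamPQ s q * GamPQ p s = 0 ∧ GamPQ s q * GamPQ p s * GamPQ s q = 0 := by
  decide +kernel

end Cfsg.Agent.Lib.Helper08.D4O
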