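import Cfsg.Agent.Lib.Helper08.D4Ad
import Cfsg.Agent.Lib.Helper08.D4Int2

/-!
# Root elements, diagonal elements and swaps in `O₈⁺(F)`, with generic indices
-/

set_option autoImplicit false
set_option linter.unusedSimpArgs false
set_option linter.unnecessarySeqFocus false
set_option linter.unusedTactic false
set_option linter.unreachableTactic false

namespace Cfsg.Agent.Lib.Helper08.D4O

open Matrix Cfsg Cfsg.Lie Cfsg.Agent.Lib.Helper24

variable {F : Type*} [Field F]

/-- `E p q - E q̄ p̄` over `F` -/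
def GamF (F : Type*) [Field F] (p q : I8) : Matrix I8 I8 F := (GamPQ p q).map (Int.castRingHom F)

theorem GamF_eq (p q : I8) :
    GamF F p q = Matrix.single p q 1 - Matrix.single (bar q) (bar p) 1 := by
  ext a b
  simp only [GamF, GamPQ, Matrix.map_apply, Matrix.sub_apply, Matrix.single_apply, eq_intCast]
  split_ifs <;> simp

theorem GamF_sq (p q : I8) (h : p ≠ q) : GamF F p q * GamF F p q = 0 := by
  unfold GamF
  rw [← Matrix.map_mul, (int_pq p q h).2.2]
  ext a b; simp

theorem isAlt_GamF1 (p q : I8) (h : p ≠ q) : IsAlt ((GamF F p q)ᵀ * Nm F + Nm F * GamF F p q) := by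
  have := isAlt_map (Int.castRingHom F) (int_pq p q h).1
  rwa [Matrix.map_add (hf := map_add _), Matrix.map_mul, Matrix.map_mul, Matrix.transpose_map,
    Nm_map] at this

theorem isAlt_GamF2 (p q : I8) (h : p ≠ q) : IsAlt ((GamF F p q)ᵀ * Nm F * GamF F p q) := by
  have := isAlt_map (Int.castRingHom F) (int_pq p q h).2.1
  rwa [Matrix.map_mul, Matrix.map_mul, Matrix.transpose_map, Nm_map] at this

theorem pq_mul_inv (p q : I8) (h : p ≠ q) (t : F) :
    (1 + t • GamF F p q) * (1 + (-t) • GamF F p q) = 1 := by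
  rw [Matrix.add_mul, Matrix.mul_add, Matrix.mul_add, Matrix.one_mul, Matrix.mul_one, Matrix.one_mul,
    Matrix.smul_mul, Matrix.mul_smul, GamF_sq p q h, smul_zero, smul_zero, add_zero, neg_smul]
  abel

/-- the Eichler root element `1 + t (E p q - E q̄ p̄)` -/
def xPQ (p q : I8) (h : p ≠ q) (t : F) : O8 F :=
  mkO (1 + t • GamF F p q) (1 + (-t) • GamF F p q) (pq_mul_inv p q h t)
    (by have := pq_mul_inv p q h (-t); rwa [neg_neg] at this)
    (isOrth_root (isAlt_GamF1 p q h) (isAlt_GamF2 p q h) t)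

theorem mat_xPQ (p q : I8) (h : p ≠ q) (t : F) : mat (xPQ p q h t) = 1 + t • GamF F p q := rfl

theorem xPQ_mul (p q : I8) (h : p ≠ q) (s t : F) : xPQ p q h s * xPQ p q h t = xPQ p q h (s + t) := by
  apply mat_injective
  rw [mat_mul, mat_xPQ, mat_xPQ, mat_xPQ, Matrix.add_mul, Matrix.mul_add, Matrix.mul_add,
    Matrix.one_mul, Matrix.mul_one, Matrix.one_mul, Matrix.smul_mul, Matrix.mul_smul, GamF_sq p q h,
    smul_zero, smul_zero, add_zero, add_smul, add_assoc, add_comm (t • _)]

theorem xPQ_zero (p q : I8) (h : p ≠ q) : xPQ p q h (0 : F) = 1 := by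
  apply mat_injective
  rw [mat_xPQ, zero_smul, add_zero, mat_one]

theorem xPQ_inv (p q : I8) (h : p ≠ q) (t : F) : (xPQ p q h t)⁻¹ = xPQ p q h (-t) := by
  apply inv_eq_of_mul_eq_one_right
  rw [xPQ_mul, add_neg_cancel, xPQ_zero]

/-- the standard basis vectors -/
def ev (p : I8) : I8 → F := Pi.single p 1

theorem ev_apply (p a : I8) : (ev p : I8 → F) a = if a = p then 1 else 0 := by
  unfold ev; rw [Pi.single_apply]

theorem mat_mul_mulVec (g h : O8 F) (v : I8 → F) : mat (g * h) *ᵥ v = mat g *ᵥ (mat h *ᵥ v) := by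
  rw [mat_mul, Matrix.mulVec_mulVec]

theorem xPQ_mulVec (p q : I8) (h : p ≠ q) (t : F) (v : I8 → F) :
    mat (xPQ p q h t) *ᵥ v = v + t • (v q • ev p - v (bar p) • ev (bar q)) := by
  rw [mat_xPQ, GamF_eq, Matrix.add_mulVec, Matrix.one_mulVec, Matrix.smul_mulVec, Matrix.sub_mulVec,
    Matrix.single_mulVec_eq, Matrix.single_mulVec_eq, one_mul, one_mul]
  rfl

theorem xPQ_mulVec_apply (p q : I8) (h : p ≠ q) (t : F) (v : I8 → F) (a : I8) :
    (mat (xPQ p q h t) *ᵥ v) a =
      v a + t * ((if a = p then v q else 0) - (if a = bar q then v (bar p) else 0)) := by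
  rw [xPQ_mulVec]
  simp only [Pi.add_apply, Pi.smul_apply, Pi.sub_apply, ev_apply, smul_eq_mul, mul_ite, mul_one,
    mul_zero]

/-- the root elements of the Prelude numbering are root elements `xPQ` -/
theorem GamR_eq (r : Fin 24) : GamR F r = ((rootS r : ℤ) : F) • GamF F (rootP r) (rootQ r) := by
  ext a b
  simp only [GamR, GamF, GamZ, Matrix.map_apply, Matrix.smul_apply, smul_eq_mul, eq_intCast,
    Int.cast_mul]

theorem xO_eq_xPQ (r : Fin 24) (t : F) :
    xO r t = xPQ (rootP r) (rootQ r) (int_root_pq r).1 (t * ((rootS r : ℤ) : F)) := by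
  apply mat_injective
  rw [mat_xO, mat_xPQ, GamR_eq, smul_smul]

/-- the subgroup generated by the root elements -/
def rootGrp (F : Type*) [Field F] : Subgroup (O8 F) :=
  Subgroup.closure {g | ∃ (r : Fin 24) (t : F), g = xO r t}

theorem xO_mem (r : Fin 24) (t : F) : xO r t ∈ rootGrp F := Subgroup.subset_closure ⟨r, t, rfl⟩

theorem xPQ_mem (p q : I8) (h : p ≠ q) (h' : q ≠ bar p) (t : F) : xPQ p q h t ∈ rootGrp F := by
  obtain ⟨r, hr⟩ := int_pq_root p q h h'
  have key : ∃ s : F, xPQ p q h t = xO r s := by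
    rcases hr with hr | hr
    · refine ⟨t, ?_⟩
      apply mat_injective
      rw [mat_xO, mat_xPQ]
      unfold GamF GamR
      rw [hr]
    · refine ⟨-t, ?_⟩
      apply mat_injective
      rw [mat_xO, mat_xPQ]
      unfold GamF GamR
      rw [hr, neg_smul, ← smul_neg]
      congr 2
      ext a b
      simp
  obtain ⟨s, hs⟩ := key
  rw [hs]
  exact xO_mem r s

/-! ### Diagonal elements -/

theorem Qf_diagonal (d : I8 → F) (hd : ∀ p, d p * d (bar p) = 1) (v : I8 → F) :
    Qf (Matrix.diagonal d *ᵥ v) = Qf v := by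
  unfold Qf
  apply Finset.sum_congr rfl
  intro i _
  rw [Matrix.mulVec_diagonal, Matrix.mulVec_diagonal]
  have := hd (Sum.inl i)
  rw [bar_inl] at this
  linear_combination (v (Sum.inl i) * v (Sum.inr i)) * this

theorem diagonal_mul_bar (d : I8 → F) (hd : ∀ p, d p * d (bar p) = 1) :
    Matrix.diagonal d * Matrix.diagonal (fun p => d (bar p)) = 1 := by
  rw [Matrix.diagonal_mul_diagonal]
  have : (fun p => d p * d (bar p)) = fun _ => (1 : F) := funext hd
  rw [this, Matrix.diagonal_one]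

/-- the diagonal element with entries `d` -/
def dO (d : I8 → F) (hd : ∀ p, d p * d (bar p) = 1) : O8 F :=
  mkO (Matrix.diagonal d) (Matrix.diagonal fun p => d (bar p)) (diagonal_mul_bar d hd)
    (by
      have := diagonal_mul_bar (fun p => d (bar p)) (fun p => by rw [bar_bar, mul_comm]; exact hd p)
      simpa using this)
    (isOrth_of_Qf (Qf_diagonal d hd))

theorem mat_dO (d : I8 → F) (hd : ∀ p, d p * d (bar p) = 1) : mat (dO d hd) = Matrix.diagonal d := rfl

theorem dO_mulVec (d : I8 → F) (hd : ∀ p, d p * d (bar p) = 1) (v : I8 → F) (a : I8) :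
    (mat (dO d hd) *ᵥ v) a = d a * v a := by
  rw [mat_dO, Matrix.mulVec_diagonal]

theorem dO_inv (d : I8 → F) (hd : ∀ p, d p * d (bar p) = 1) :
    (dO d hd)⁻¹ = dO (fun p => d (bar p)) (fun p => by rw [bar_bar, mul_comm]; exact hd p) := by
  apply inv_eq_of_mul_eq_one_right
  apply mat_injective
  rw [mat_mul, mat_dO, mat_dO, mat_one, diagonal_mul_bar d hd]

/-- conjugating a root element by a diagonal element -/
theorem diag_mul_GamF (d : I8 → F) (hd : ∀ p, d p * d (bar p) = 1) (p q : I8) :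
    Matrix.diagonal d * GamF F p q = (d p * d (bar q)) • (GamF F p q * Matrix.diagonal d) := by
  have hq := hd q
  have hp := hd p
  ext a b
  rw [Matrix.diagonal_mul, Matrix.smul_apply, Matrix.mul_diagonal, GamF_eq, Matrix.sub_apply,
    Matrix.single_apply, Matrix.single_apply, smul_eq_mul]
  by_cases h1 : p = a ∧ q = b
  · obtain ⟨rfl, rfl⟩ := h1
    by_cases h2 : bar q = p ∧ bar p = q
    · rw [if_pos ⟨rfl, rfl⟩, if_pos h2]; ring
    · rw [if_pos ⟨rfl, rfl⟩, if_neg h2]
      linear_combination (-(d p)) * hq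
  · by_cases h2 : bar q = a ∧ bar p = b
    · obtain ⟨rfl, rfl⟩ := h2
      rw [if_neg h1, if_pos ⟨rfl, rfl⟩]
      linear_combination (d (bar q)) * hp
    · rw [if_neg h1, if_neg h2]; ring

theorem dO_conj_xPQ (d : I8 → F) (hd : ∀ p, d p * d (bar p) = 1) (p q : I8) (h : p ≠ q) (t : F) :
    dO d hd * xPQ p q h t = xPQ p q h (d p * d (bar q) * t) * dO d hd := by
  apply mat_injective
  rw [mat_mul, mat_mul, mat_dO, mat_xPQ, mat_xPQ, Matrix.mul_add, Matrix.add_mul, Matrix.mul_one,
    Matrix.one_mul, Matrix.mul_smul, diag_mul_GamF d hd, Matrix.smul_mul, smul_smul, mul_comm t]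

/-! ### Swaps -/

theorem sw_sw : ∀ (i : Fin 4) (a : I8), sw i (sw i a) = a := by decide

/-- the permutation matrix of `sw i` over `F` -/
def PF (F : Type*) [Field F] (i : Fin 4) : Matrix I8 I8 F := (PZ i).map (Int.castRingHom F)

theorem PF_mul_self (i : Fin 4) : PF F i * PF F i = 1 := by
  unfold PF
  rw [← Matrix.map_mul, (int_sw i).1]
  ext a b
  simp [Matrix.one_apply]

theorem isOrth_PF (i : Fin 4) : IsOrth (PF F i) := by
  have := isAlt_map (Int.castRingHom F) (int_sw i).2.1
  unfold IsOrth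
  rwa [Matrix.map_sub (hf := map_sub _), Matrix.map_mul, Matrix.map_mul, Matrix.transpose_map,
    Nm_map] at this

/-- the swap of the `i`-th hyperbolic pair -/
def sO (i : Fin 4) : O8 F := mkO (PF F i) (PF F i) (PF_mul_self i) (PF_mul_self i) (isOrth_PF i)

theorem mat_sO (i : Fin 4) : mat (sO (F := F) i) = PF F i := rfl

theorem sO_mul_self (i : Fin 4) : sO (F := F) i * sO i = 1 := by
  apply mat_injective
  rw [mat_mul, mat_sO, PF_mul_self, mat_one]

theorem sO_inv (i : Fin 4) : (sO (F := F) i)⁻¹ = sO i := inv_eq_of_mul_eq_one_right (sO_mul_self i)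

theorem sO_mulVec (i : Fin 4) (v : I8 → F) (a : I8) : (mat (sO i) *ᵥ v) a = v (sw i a) := by
  rw [mat_sO]
  simp only [PF, PZ, Matrix.mulVec, dotProduct, Matrix.map_apply, Matrix.of_apply, eq_intCast]
  rw [Finset.sum_eq_single (sw i a)]
  · rw [if_pos (sw_sw i a).symm]; simp
  · intro b _ hb
    rw [if_neg]
    · simp
    · intro h
      apply hb
      rw [h, sw_sw]
  · intro h; exact absurd (Finset.mem_univ _) h

theorem sO_comm (i j : Fin 4) : sO (F := F) i * sO j = sO j * sO i := by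
  apply mat_injective
  rw [mat_mul, mat_mul, mat_sO, mat_sO]
  unfold PF
  rw [← Matrix.map_mul, ← Matrix.map_mul, (int_sw i).2.2.1 j]

theorem sO_conj_xPQ (i : Fin 4) (p q : I8) (h : p ≠ q) (t : F) :
    ∃ h' : sw i p ≠ sw i q, sO i * xPQ p q h t = xPQ (sw i p) (sw i q) h' t * sO i := by
  have h' : sw i p ≠ sw i q := by
    intro e
    apply h
    have := congrArg (sw i) e
    rwa [sw_sw, sw_sw] at this
  refine ⟨h', ?_⟩
  apply mat_injective
  rw [mat_mul, mat_mul, mat_sO, mat_xPQ, mat_xPQ, Matrix.mul_add, Matrix.add_mul, Matrix.mul_one,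
    Matrix.one_mul, Matrix.mul_smul, Matrix.smul_mul]
  congr 2
  unfold PF GamF
  rw [← Matrix.map_mul, ← Matrix.map_mul, (int_sw i).2.2.2 p q]

end Cfsg.Agent.Lib.Helper08.D4O
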