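import Cfsg.Agent.Lib.Helper08.D4Elts

/-!
# `O₈⁺(F)` is generated by the root elements, the diagonal elements and the swaps

Stabiliser chain on the hyperbolic pairs, uniform in the characteristic.
-/

set_option autoImplicit false
set_option linter.unusedSimpArgs false
set_option linter.unnecessarySeqFocus false
set_option linter.unusedTactic false
set_option linter.unreachableTactic false
set_option linter.unusedVariables false

namespace Cfsg.Agent.Lib.Helper08.D4O

open Matrix Cfsg Cfsg.Lie Cfsg.Agent.Lib.Helper24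

variable {F : Type*} [Field F]

/-- the polar form of the quadratic form -/
def Bf (u v : I8 → F) : F := Qf (u + v) - Qf u - Qf v

theorem Bf_eq (u w : I8 → F) :
    Bf u w = ∑ i : Fin 4, (u (Sum.inl i) * w (Sum.inr i) + u (Sum.inr i) * w (Sum.inl i)) := by
  unfold Bf Qf
  rw [← Finset.sum_sub_distrib, ← Finset.sum_sub_distrib]
  apply Finset.sum_congr rfl
  intro i _
  simp only [Pi.add_apply]
  ring

theorem Bf_ev (v : I8 → F) (p : I8) : Bf v (ev p) = v (bar p) := by
  rw [Bf_eq]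
  rcases p with j | j
  · simp [ev_apply, bar, Finset.sum_ite_eq']
  · simp [ev_apply, bar, Finset.sum_ite_eq']

theorem Bf_mat (g : O8 F) (u v : I8 → F) : Bf (mat g *ᵥ u) (mat g *ᵥ v) = Bf u v := by
  unfold Bf
  rw [← Matrix.mulVec_add, mat_Qf, mat_Qf, mat_Qf]

theorem Qf_ev (p : I8) : Qf (ev p : I8 → F) = 0 := by
  unfold Qf
  apply Finset.sum_eq_zero
  intro i _
  rcases p with j | j
  · rw [ev_apply (Sum.inl j) (Sum.inr i), if_neg (by simp), mul_zero]
  · rw [ev_apply (Sum.inr j) (Sum.inl i), if_neg (by simp), zero_mul]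

/-- the hyperbolic pair of an index -/
def idx : I8 → Fin 4 := Sum.elim id id

theorem idx_bar (p : I8) : idx (bar p) = idx p := by cases p <;> rfl

theorem idx_inl (i : Fin 4) : idx (Sum.inl i) = i := rfl

theorem idx_inr (i : Fin 4) : idx (Sum.inr i) = i := rfl

theorem eq_of_idx (p : I8) (i : Fin 4) (h : idx p = i) : p = Sum.inl i ∨ p = Sum.inr i := by
  rcases p with j | j
  · left; exact congrArg _ h
  · right; exact congrArg _ h

/-- `g` fixes the basis vectors of the hyperbolic pairs in `S` -/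
def Fixes (g : O8 F) (S : Finset (Fin 4)) : Prop := ∀ p, idx p ∈ S → mat g *ᵥ ev p = ev p

theorem Fixes.mul {g h : O8 F} {S : Finset (Fin 4)} (hg : Fixes g S) (hh : Fixes h S) :
    Fixes (g * h) S := by
  intro p hp
  rw [mat_mul_mulVec, hh p hp, hg p hp]

theorem fixes_one (S : Finset (Fin 4)) : Fixes (1 : O8 F) S := by
  intro p _
  rw [mat_one, Matrix.one_mulVec]

theorem vanish_of_fixes {g : O8 F} {S : Finset (Fin 4)} (hg : Fixes g S) (p₀ : I8) (hp₀ : idx p₀ ∉ S)
    (p : I8) (hp : idx p ∈ S) : (mat g *ᵥ ev p₀) p = 0 := by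
  have h1 : (mat g *ᵥ ev p₀) p = Bf (mat g *ᵥ ev p₀) (ev (bar p)) := by rw [Bf_ev, bar_bar]
  have h2 : mat g *ᵥ ev (bar p) = ev (bar p) := hg (bar p) (by rw [idx_bar]; exact hp)
  rw [h1, ← h2, Bf_mat, Bf_ev, bar_bar, ev_apply, if_neg]
  intro e
  apply hp₀
  rw [← e]; exact hp

theorem eq_ev_of (v : I8 → F) (p : I8) (h0 : ∀ a, a ≠ p → v a = 0) (h1 : v p = 1) : v = ev p := by
  funext a
  rw [ev_apply]
  by_cases h : a = p
  · rw [if_pos h, h, h1]
  · rw [if_neg h, h0 a h]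

theorem Qf_eq_single (v : I8 → F) (i₀ : Fin 4) (h : ∀ i, i ≠ i₀ → v (Sum.inl i) = 0) :
    Qf v = v (Sum.inl i₀) * v (Sum.inr i₀) := by
  unfold Qf
  rw [Finset.sum_eq_single i₀]
  · intro i _ hi
    rw [h i hi, zero_mul]
  · intro h; exact absurd (Finset.mem_univ _) h

theorem xPQ_fix (p q : I8) (h : p ≠ q) (t : F) (a : I8) (h1 : a ≠ q) (h2 : a ≠ bar p) :
    mat (xPQ p q h t) *ᵥ ev a = ev a := by
  rw [xPQ_mulVec, ev_apply a q, if_neg (Ne.symm h1), ev_apply a (bar p), if_neg (Ne.symm h2)]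
  simp

/-! ### Clearing coordinates -/

theorem clear (q : I8) (T : Finset I8) : q ∉ T → bar q ∉ T → ∀ v : I8 → F, v q ≠ 0 →
    ∃ h ∈ rootGrp F, (∀ p ∈ T, (mat h *ᵥ v) p = 0) ∧
      (∀ a, a ∉ T → a ≠ bar q → (mat h *ᵥ v) a = v a) ∧
      (∀ a, a ≠ q → bar a ∉ T → mat h *ᵥ ev a = ev a) := by
  classical
  induction T using Finset.induction_on with
  | empty =>
    intro _ _ v _
    refine ⟨1, Subgroup.one_mem _, by simp, ?_, ?_⟩
    · intro a _ _; rw [mat_one, Matrix.one_mulVec]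
    · intro a _ _; rw [mat_one, Matrix.one_mulVec]
  | insert p T hp ih =>
    intro hq hq' v hv
    have hpq : p ≠ q := fun e => hq (e ▸ Finset.mem_insert_self _ _)
    have hpq' : p ≠ bar q := fun e => hq' (e ▸ Finset.mem_insert_self _ _)
    have hqT : q ∉ T := fun e => hq (Finset.mem_insert_of_mem e)
    have hqT' : bar q ∉ T := fun e => hq' (Finset.mem_insert_of_mem e)
    obtain ⟨x, hx⟩ : ∃ x, x = xPQ p q hpq (-(v p / v q)) := ⟨_, rfl⟩
    obtain ⟨v', hv'⟩ : ∃ v', v' = mat x *ᵥ v := ⟨_, rfl⟩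
    have e_p : v' p = 0 := by
      rw [hv', hx, xPQ_mulVec_apply, if_pos rfl, if_neg hpq']
      field_simp
      ring
    have e_a : ∀ a, a ≠ p → a ≠ bar q → v' a = v a := by
      intro a h1 h2
      rw [hv', hx, xPQ_mulVec_apply, if_neg h1, if_neg h2]
      ring
    have hv'q : v' q ≠ 0 := by
      rw [e_a q (Ne.symm hpq) (bar_ne q).symm]; exact hv
    obtain ⟨h', hh', ha, hb, hc⟩ := ih hqT hqT' v' hv'q
    have hqp : q ≠ bar p := by
      intro e; apply hpq'; rw [e, bar_bar]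
    refine ⟨h' * x, Subgroup.mul_mem _ hh' (by rw [hx]; exact xPQ_mem p q hpq hqp _), ?_, ?_, ?_⟩
    · intro p' hp'
      rw [mat_mul_mulVec, ← hv']
      rcases Finset.mem_insert.mp hp' with e | hp'
      · rw [e, hb p hp hpq', e_p]
      · exact ha p' hp'
    · intro a haT ha'
      rw [mat_mul_mulVec, ← hv']
      have h1 : a ≠ p := fun e => haT (e ▸ Finset.mem_insert_self _ _)
      have h2 : a ∉ T := fun e => haT (Finset.mem_insert_of_mem e)
      rw [hb a h2 ha', e_a a h1 ha']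
    · intro a haq haT
      rw [mat_mul_mulVec]
      have h1 : bar a ≠ p := fun e => haT (e ▸ Finset.mem_insert_self _ _)
      have h2 : bar a ∉ T := fun e => haT (Finset.mem_insert_of_mem e)
      have h3 : a ≠ bar p := by
        intro e; apply h1; rw [e, bar_bar]
      rw [hx, xPQ_fix p q hpq _ a haq h3, hc a haq h2]

/-! ### The torus elements `δᵢ(c)` -/

/-- the diagonal entries of `δᵢ(c)` -/
def delta (i : Fin 4) (c : F) : I8 → F :=
  fun p => if p = Sum.inl i then c else if p = Sum.inr i then c⁻¹ else 1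

theorem delta_mul_bar (i : Fin 4) (c : F) (hc : c ≠ 0) (p : I8) : delta i c p * delta i c (bar p) = 1 := by
  unfold delta
  rcases p with j | j
  · rw [bar_inl]
    by_cases h : j = i
    · subst h
      rw [if_pos rfl, if_neg (by simp), if_pos rfl, mul_inv_cancel₀ hc]
    · rw [if_neg (by simpa using h), if_neg (by simp), if_neg (by simp), if_neg (by simpa using h), mul_one]
  · rw [bar_inr]
    by_cases h : j = i
    · subst h
      rw [if_neg (by simp), if_pos rfl, if_pos rfl, inv_mul_cancel₀ hc]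
    · rw [if_neg (by simp), if_neg (by simpa using h), if_neg (by simpa using h), if_neg (by simp), mul_one]

/-- the torus element `δᵢ(c)` -/
def dlt (i : Fin 4) (c : F) (hc : c ≠ 0) : O8 F := dO (delta i c) (delta_mul_bar i c hc)

/-- the torus elements `δᵢ(c)` and the swaps -/
def torGens (F : Type*) [Field F] : Set (O8 F) :=
  {g | (∃ (i : Fin 4) (c : F) (hc : c ≠ 0), g = dlt i c hc) ∨ ∃ i : Fin 4, g = sO i}

/-- the subgroup generated by the torus elements and the swaps -/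
def torA (F : Type*) [Field F] : Subgroup (O8 F) := Subgroup.closure (torGens F)

/-- the subgroup generated by the root elements, the diagonal elements and the swaps -/
def bigK (F : Type*) [Field F] : Subgroup (O8 F) := rootGrp F ⊔ torA F

theorem rootGrp_le_bigK : rootGrp F ≤ bigK F := le_sup_left

theorem dlt_mem (i : Fin 4) (c : F) (hc : c ≠ 0) : dlt i c hc ∈ bigK F :=
  Subgroup.mem_sup_right (Subgroup.subset_closure (Or.inl ⟨i, c, hc, rfl⟩))

theorem sO_mem (i : Fin 4) : sO i ∈ bigK F :=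
  Subgroup.mem_sup_right (Subgroup.subset_closure (Or.inr ⟨i, rfl⟩))

theorem sw_of_ne (i : Fin 4) (a : I8) (h : idx a ≠ i) : sw i a = a := by
  unfold sw
  rw [if_neg, if_neg]
  · intro e; apply h; rw [e]; rfl
  · intro e; apply h; rw [e]; rfl

theorem sw_inl (i : Fin 4) : sw i (Sum.inl i) = Sum.inr i := by
  unfold sw; rw [if_pos rfl]

theorem idx_sw (i : Fin 4) (a : I8) : idx (sw i a) = idx a := by
  by_cases h : idx a = i
  · rcases eq_of_idx a i h with rfl | rfl
    · rw [sw_inl]; rfl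
    · unfold sw; rw [if_neg (by simp), if_pos rfl]; rfl
  · rw [sw_of_ne i a h]

theorem sO_fix (i : Fin 4) (a : I8) (h : idx a ≠ i) : mat (sO (F := F) i) *ᵥ ev a = ev a := by
  funext c
  rw [sO_mulVec, ev_apply, ev_apply]
  by_cases hc : c = a
  · rw [if_pos hc, hc, sw_of_ne i a h, if_pos rfl]
  · rw [if_neg hc, if_neg]
    intro e
    apply hc
    have := congrArg (sw i) e
    rw [sw_sw, sw_of_ne i a h] at this
    exact this

theorem dlt_fix (i : Fin 4) (c : F) (hc : c ≠ 0) (a : I8) (h : idx a ≠ i) :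
    mat (dlt i c hc) *ᵥ ev a = ev a := by
  funext b
  unfold dlt
  rw [dO_mulVec, ev_apply]
  by_cases hb : b = a
  · rw [if_pos hb, hb, mul_one]
    unfold delta
    rw [if_neg, if_neg]
    · intro e; apply h; rw [e]; rfl
    · intro e; apply h; rw [e]; rfl
  · rw [if_neg hb, mul_zero]

/-! ### One step of the stabiliser chain -/

theorem mat_mulVec_ne_zero (g : O8 F) (v : I8 → F) (hv : v ≠ 0) : mat g *ᵥ v ≠ 0 := by
  intro h
  apply hv
  have := congrArg (fun w => mat g⁻¹ *ᵥ w) h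
  simp only [Matrix.mulVec_mulVec, mat_inv_mul, Matrix.one_mulVec, Matrix.mulVec_zero] at this
  exact this

theorem ev_ne_zero (p : I8) : (ev p : I8 → F) ≠ 0 := by
  intro h
  have := congrFun h p
  rw [ev_apply, if_pos rfl] at this
  exact one_ne_zero this

theorem step (S : Finset (Fin 4)) (i₀ : Fin 4) (hi : i₀ ∉ S) (g : O8 F) (hg : Fixes g S) :
    ∃ k ∈ bigK F, Fixes (k * g) (insert i₀ S) := by
  classical
  obtain ⟨T, hT⟩ : ∃ T : Finset I8, T = Finset.univ.filter (fun p => idx p ∉ S ∧ idx p ≠ i₀) := ⟨_, rfl⟩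
  have memT : ∀ p, p ∈ T ↔ (idx p ∉ S ∧ idx p ≠ i₀) := by
    intro p; rw [hT]; simp
  have e0T : Sum.inl i₀ ∉ T := by rw [memT]; simp [idx_inl]
  have f0T : Sum.inr i₀ ∉ T := by rw [memT]; simp [idx_inr]
  -- Part A: make the `e₀`-coordinate of `g e₀` nonzero
  have partA : ∃ k₁ ∈ bigK F, Fixes k₁ S ∧ (mat (k₁ * g) *ᵥ ev (Sum.inl i₀)) (Sum.inl i₀) ≠ 0 := by
    obtain ⟨v, hv⟩ : ∃ v, v = mat g *ᵥ ev (Sum.inl i₀) := ⟨_, rfl⟩
    have hvS : ∀ p, idx p ∈ S → v p = 0 := by
      intro p hp; rw [hv]; exact vanish_of_fixes hg _ (by rw [idx_inl]; exact hi) p hp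
    have hv0 : v ≠ 0 := by rw [hv]; exact mat_mulVec_ne_zero g _ (ev_ne_zero _)
    by_cases h1 : v (Sum.inl i₀) ≠ 0
    · refine ⟨1, Subgroup.one_mem _, fixes_one S, ?_⟩
      rw [one_mul, ← hv]; exact h1
    push Not at h1
    by_cases h2 : ∃ p, p ≠ Sum.inl i₀ ∧ p ≠ Sum.inr i₀ ∧ v p ≠ 0
    · obtain ⟨p, hp1, hp2, hp3⟩ := h2
      have hpS : idx p ∉ S := fun h => hp3 (hvS p h)
      refine ⟨xPQ (Sum.inl i₀) p (Ne.symm hp1) 1, rootGrp_le_bigK (xPQ_mem _ _ _ ?_ _), ?_, ?_⟩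
      · rw [bar_inl]; exact hp2
      · intro a ha
        apply xPQ_fix
        · intro e; apply hpS; rw [← e]; exact ha
        · rw [bar_inl]; intro e; apply hi; rw [← idx_inr i₀, ← e]; exact ha
      · rw [mat_mul_mulVec, ← hv, xPQ_mulVec_apply, if_pos rfl, if_neg, h1]
        · simpa using hp3
        · intro e
          apply hp2
          have := congrArg bar e
          rw [bar_bar, bar_inl] at this
          exact this.symm
    push Not at h2
    have h3 : v (Sum.inr i₀) ≠ 0 := by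
      intro h
      apply hv0
      funext a
      by_cases ha1 : a = Sum.inl i₀
      · rw [ha1, h1]; rfl
      by_cases ha2 : a = Sum.inr i₀
      · rw [ha2, h]; rfl
      exact h2 a ha1 ha2
    refine ⟨sO i₀, sO_mem i₀, ?_, ?_⟩
    · intro a ha
      apply sO_fix
      intro e; apply hi; rw [← e]; exact ha
    · rw [mat_mul_mulVec, ← hv, sO_mulVec, sw_inl]
      exact h3
  obtain ⟨k₁, hk₁, hk₁S, hne⟩ := partA
  -- Part B: clear the other coordinates
  obtain ⟨g₁, hg₁⟩ : ∃ g₁, g₁ = k₁ * g := ⟨_, rfl⟩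
  have hg₁S : Fixes g₁ S := by rw [hg₁]; exact hk₁S.mul hg
  obtain ⟨v₁, hv₁⟩ : ∃ v₁, v₁ = mat g₁ *ᵥ ev (Sum.inl i₀) := ⟨_, rfl⟩
  rw [← hg₁, ← hv₁] at hne
  have hv₁S : ∀ p, idx p ∈ S → v₁ p = 0 := by
    intro p hp; rw [hv₁]; exact vanish_of_fixes hg₁S _ (by rw [idx_inl]; exact hi) p hp
  have hv₁Q : Qf v₁ = 0 := by rw [hv₁, mat_Qf, Qf_ev]
  obtain ⟨h, hh, ha, hb, hc⟩ := clear (F := F) (Sum.inl i₀) T e0T (by rw [bar_inl]; exact f0T) v₁ hne
  obtain ⟨v₂, hv₂⟩ : ∃ v₂, v₂ = mat h *ᵥ v₁ := ⟨_, rfl⟩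
  rw [← hv₂] at ha hb
  have hhS : Fixes h S := by
    intro a haS
    apply hc
    · intro e; apply hi; rw [← idx_inl i₀, ← e]; exact haS
    · rw [memT, idx_bar]; exact fun hh => hh.1 haS
  have hv₂e : v₂ (Sum.inl i₀) = v₁ (Sum.inl i₀) := hb _ e0T (by rw [bar_inl]; simp)
  have hv₂0 : ∀ a, a ≠ Sum.inl i₀ → a ≠ Sum.inr i₀ → v₂ a = 0 := by
    intro a h1 h2
    by_cases haS : idx a ∈ S
    · rw [hb a (by rw [memT]; exact fun hh => hh.1 haS) (by rw [bar_inl]; exact h2)]
      exact hv₁S a haS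
    · apply ha
      rw [memT]
      refine ⟨haS, ?_⟩
      intro e
      rcases eq_of_idx a i₀ e with h | h
      · exact h1 h
      · exact h2 h
  have hv₂Q : Qf v₂ = 0 := by rw [hv₂, mat_Qf, hv₁Q]
  rw [Qf_eq_single v₂ i₀ (fun i hi' => hv₂0 _ (by simpa using hi') (by simp))] at hv₂Q
  have hv₂f : v₂ (Sum.inr i₀) = 0 := by
    rcases mul_eq_zero.mp hv₂Q with h | h
    · rw [hv₂e] at h; exact absurd h hne
    · exact h
  obtain ⟨c, hc0⟩ : ∃ c, c = v₁ (Sum.inl i₀) := ⟨_, rfl⟩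
  rw [← hc0] at hne hv₂e
  obtain ⟨k₃, hk₃⟩ : ∃ k₃, k₃ = dlt i₀ c⁻¹ (inv_ne_zero hne) := ⟨_, rfl⟩
  have hk₃S : Fixes k₃ S := by
    intro a haS
    rw [hk₃]
    apply dlt_fix
    intro e; apply hi; rw [← e]; exact haS
  have hv₃ : mat k₃ *ᵥ v₂ = ev (Sum.inl i₀) := by
    apply eq_ev_of
    · intro a ha1
      rw [hk₃]; unfold dlt; rw [dO_mulVec]
      by_cases ha2 : a = Sum.inr i₀
      · rw [ha2, hv₂f, mul_zero]
      · rw [hv₂0 a ha1 ha2, mul_zero]
    · rw [hk₃]; unfold dlt; rw [dO_mulVec, hv₂e]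
      unfold delta
      rw [if_pos rfl, inv_mul_cancel₀ hne]
  obtain ⟨g₃, hg₃⟩ : ∃ g₃, g₃ = k₃ * h * g₁ := ⟨_, rfl⟩
  have hg₃S : Fixes g₃ S := by rw [hg₃]; exact (hk₃S.mul hhS).mul hg₁S
  have hg₃e : mat g₃ *ᵥ ev (Sum.inl i₀) = ev (Sum.inl i₀) := by
    rw [hg₃, mat_mul_mulVec, mat_mul_mulVec, ← hv₁, ← hv₂, hv₃]
  -- Part C: the vector `f₀`
  obtain ⟨w, hw⟩ : ∃ w, w = mat g₃ *ᵥ ev (Sum.inr i₀) := ⟨_, rfl⟩
  have hwf : w (Sum.inr i₀) = 1 := by
    have h1 : w (Sum.inr i₀) = Bf w (ev (Sum.inl i₀)) := by rw [Bf_ev, bar_inl]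
    rw [h1, hw, ← hg₃e, Bf_mat, Bf_ev, bar_inl, ev_apply, if_pos rfl]
  have hwS : ∀ p, idx p ∈ S → w p = 0 := by
    intro p hp; rw [hw]; exact vanish_of_fixes hg₃S _ (by rw [idx_inr]; exact hi) p hp
  have hwQ : Qf w = 0 := by rw [hw, mat_Qf, Qf_ev]
  obtain ⟨h', hh', ha', hb', hc'⟩ := clear (F := F) (Sum.inr i₀) T f0T (by rw [bar_inr]; exact e0T) w
    (by rw [hwf]; exact one_ne_zero)
  obtain ⟨w', hw'⟩ : ∃ w', w' = mat h' *ᵥ w := ⟨_, rfl⟩
  rw [← hw'] at ha' hb'
  have hw'f : w' (Sum.inr i₀) = 1 := by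
    rw [hb' _ f0T (by rw [bar_inr]; simp), hwf]
  have hw'0 : ∀ a, a ≠ Sum.inl i₀ → a ≠ Sum.inr i₀ → w' a = 0 := by
    intro a h1 h2
    by_cases haS : idx a ∈ S
    · rw [hb' a (by rw [memT]; exact fun hh => hh.1 haS) (by rw [bar_inr]; exact h1)]
      exact hwS a haS
    · apply ha'
      rw [memT]
      refine ⟨haS, ?_⟩
      intro e
      rcases eq_of_idx a i₀ e with h | h
      · exact h1 h
      · exact h2 h
  have hw'Q : Qf w' = 0 := by rw [hw', mat_Qf, hwQ]
  rw [Qf_eq_single w' i₀ (fun i hi' => hw'0 _ (by simpa using hi') (by simp)), hw'f, mul_one] at hw'Q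
  have hw'ev : w' = ev (Sum.inr i₀) := by
    apply eq_ev_of
    · intro a ha1
      by_cases ha2 : a = Sum.inl i₀
      · rw [ha2, hw'Q]
      · exact hw'0 a ha2 ha1
    · exact hw'f
  have hh'fix : ∀ a, a ≠ Sum.inr i₀ → (idx a ∈ S ∨ a = Sum.inl i₀) → mat h' *ᵥ ev a = ev a := by
    intro a ha1 ha2
    apply hc' a ha1
    rw [memT, idx_bar]
    rcases ha2 with ha2 | ha2
    · exact fun hh => hh.1 ha2
    · rw [ha2, idx_inl]; exact fun hh => hh.2 rfl
  refine ⟨h' * k₃ * h * k₁, ?_, ?_⟩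
  · refine Subgroup.mul_mem _ (Subgroup.mul_mem _ (Subgroup.mul_mem _ (rootGrp_le_bigK hh') ?_)
      (rootGrp_le_bigK hh)) hk₁
    rw [hk₃]; exact dlt_mem _ _ _
  · have e : h' * k₃ * h * k₁ * g = h' * g₃ := by
      rw [hg₃, hg₁]; simp only [mul_assoc]
    rw [e]
    intro p hp
    rw [mat_mul_mulVec]
    rcases Finset.mem_insert.mp hp with hp | hp
    · rcases eq_of_idx p i₀ hp with rfl | rfl
      · rw [hg₃e]
        exact hh'fix _ (by simp) (Or.inr rfl)
      · rw [← hw, ← hw', hw'ev]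
    · rw [hg₃S p hp]
      apply hh'fix _ _ (Or.inl hp)
      intro e; apply hi; rw [← idx_inr i₀, ← e]; exact hp

/-- `O₈⁺(F)` is generated by the root elements, the diagonal elements and the swaps -/
theorem bigK_eq_top : bigK F = ⊤ := by
  classical
  have key : ∀ n : ℕ, ∀ S : Finset (Fin 4), (Finset.univ \ S).card = n → ∀ g : O8 F, Fixes g S → g ∈ bigK F := by
    intro n
    induction n with
    | zero =>
      intro S hS g hg
      have hSu : ∀ i, i ∈ S := by
        intro i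
        by_contra h
        have : i ∈ Finset.univ \ S := Finset.mem_sdiff.mpr ⟨Finset.mem_univ _, h⟩
        rw [Finset.card_eq_zero.mp hS] at this
        exact absurd this (Finset.notMem_empty _)
      have : g = 1 := by
        apply mat_injective
        rw [mat_one]
        ext a b
        have := congrFun (hg b (hSu _)) a
        rw [ev_apply] at this
        rw [Matrix.one_apply, ← this]
        unfold ev
        rw [Matrix.mulVec_single_one]
        rfl
      rw [this]; exact Subgroup.one_mem _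
    | succ n ih =>
      intro S hS g hg
      have hne : (Finset.univ \ S).Nonempty := by
        rw [← Finset.card_pos, hS]; omega
      obtain ⟨i₀, hi₀⟩ := hne
      have hi : i₀ ∉ S := (Finset.mem_sdiff.mp hi₀).2
      obtain ⟨k, hk, hkg⟩ := step S i₀ hi g hg
      have hcard : (Finset.univ \ insert i₀ S).card = n := by
        have : Finset.univ \ insert i₀ S = (Finset.univ \ S).erase i₀ := by
          ext j; simp [Finset.mem_sdiff, Finset.mem_erase, not_or, and_comm]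
        rw [this, Finset.card_erase_of_mem hi₀, hS]; rfl
      have := ih (insert i₀ S) hcard (k * g) hkg
      have e : g = k⁻¹ * (k * g) := by group
      rw [e]
      exact Subgroup.mul_mem _ (Subgroup.inv_mem _ hk) this
  rw [eq_top_iff]
  intro g _
  exact key _ ∅ rfl g (fun p hp => absurd hp (Finset.notMem_empty _))

end Cfsg.Agent.Lib.Helper08.D4O
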