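import Cfsg.Agent.Lib.Helper08.D4Basis

/-!
# Integer matrix facts about the generic Eichler root elements of `O₈⁺`, by kernel computation
-/

set_option autoImplicit false

namespace Cfsg.Agent.Lib.Helper08.D4O

open Matrix Cfsg Cfsg.Lie Cfsg.Agent.Lib.Helper24

/-- three pairwise distinct and pairwise non-opposite indices -/
def good3 (p s q : I8) : Prop := p ≠ s ∧ p ≠ q ∧ s ≠ q ∧ p ≠ bar s ∧ p ≠ bar q ∧ s ≠ bar q

instance (p s q : I8) : Decidable (good3 p s q) := by unfold good3; infer_instance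

/-- the transposition of the `i`-th hyperbolic pair -/
def sw (i : Fin 4) (a : I8) : I8 := if a = Sum.inl i then Sum.inr i else if a = Sum.inr i then Sum.inl i else a

/-- the permutation matrix of `sw i` over `ℤ` -/
def PZ (i : Fin 4) : Matrix I8 I8 ℤ := Matrix.of fun a b => if a = sw i b then 1 else 0

/-- the permutation `(p q)(p̄ q̄)` -/
def swp (p q : I8) (a : I8) : I8 :=
  if a = p then q else if a = q then p else if a = bar p then bar q else if a = bar q then bar p else a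

/-- the Weyl element of the pair `(p, q)` over `ℤ` -/
def WZ (p q : I8) : Matrix I8 I8 ℤ := (1 + GamPQ p q) * (1 - GamPQ q p) * (1 + GamPQ p q)

set_option maxRecDepth 100000 in
theorem int_pq : ∀ p q : I8, p ≠ q → IsAlt ((GamPQ p q)ᵀ * Nm ℤ + Nm ℤ * GamPQ p q) ∧
    IsAlt ((GamPQ p q)ᵀ * Nm ℤ * GamPQ p q) ∧ GamPQ p q * GamPQ p q = 0 := by
  decide +kernel

set_option maxRecDepth 100000 in
theorem int_pq_root : ∀ p q : I8, p ≠ q → q ≠ bar p →
    ∃ r : Fin 24, GamPQ p q = GamZ r ∨ GamPQ p q = - GamZ r := by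
  decide +kernel

set_option maxRecDepth 100000 in
theorem int_root_pq : ∀ r : Fin 24, rootP r ≠ rootQ r ∧ rootQ r ≠ bar (rootP r) ∧
    (rootS r = 1 ∨ rootS r = -1) := by
  decide +kernel

set_option maxRecDepth 100000 in
theorem int_sw : ∀ i : Fin 4, PZ i * PZ i = 1 ∧ IsAlt ((PZ i)ᵀ * Nm ℤ * PZ i - Nm ℤ) ∧
    (∀ j : Fin 4, PZ i * PZ j = PZ j * PZ i) ∧
    ∀ p q : I8, PZ i * GamPQ p q = GamPQ (sw i p) (sw i q) * PZ i := by
  decide +kernel

end Cfsg.Agent.Lib.Helper08.D4O
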