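import Cfsg.Agent.Lib.Helper08.D4Ker

/-!
# `D₄(F) ≃* PΩ₈⁺(F)` over every field
-/

set_option autoImplicit false
set_option linter.unusedSimpArgs false
set_option linter.unnecessarySeqFocus false
set_option linter.unusedTactic false
set_option linter.unreachableTactic false
set_option linter.unusedVariables false

namespace Cfsg.Agent.Lib.Helper08.D4O

open Matrix Cfsg Cfsg.Lie Cfsg.Agent.Lib.Helper24

variable {F : Type*} [Field F]

/-! ### Matrices commuting with all root vectors are scalar -/

theorem mul_single_apply' (M : Matrix I8 I8 F) (i j a b : I8) :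
    (M * Matrix.single i j (1 : F)) a b = if b = j then M a i else 0 := by
  by_cases h : b = j
  · subst h; rw [if_pos rfl, Matrix.mul_single_apply_same, mul_one]
  · rw [if_neg h, Matrix.mul_single_apply_of_ne _ _ _ _ _ h]

theorem single_mul_apply' (M : Matrix I8 I8 F) (i j a b : I8) :
    (Matrix.single i j (1 : F) * M) a b = if a = i then M j b else 0 := by
  by_cases h : a = i
  · subst h; rw [if_pos rfl, Matrix.single_mul_apply_same, one_mul]
  · rw [if_neg h, Matrix.single_mul_apply_of_ne _ _ _ _ _ h]

theorem mul_GamF_apply (M : Matrix I8 I8 F) (p q a b : I8) :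
    (M * GamF F p q) a b = (if b = q then M a p else 0) - (if b = bar p then M a (bar q) else 0) := by
  rw [GamF_eq, Matrix.mul_sub, Matrix.sub_apply, mul_single_apply', mul_single_apply']

theorem GamF_mul_apply (M : Matrix I8 I8 F) (p q a b : I8) :
    (GamF F p q * M) a b = (if a = p then M q b else 0) - (if a = bar q then M (bar p) b else 0) := by
  rw [GamF_eq, Matrix.sub_mul, Matrix.sub_apply, single_mul_apply', single_mul_apply']

theorem exists_aux : ∀ a p : I8, a ≠ p → ∃ q : I8, q ≠ p ∧ q ≠ bar p ∧ bar q ≠ a := by decide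

theorem exists_aux2 : ∀ p : I8, ∃ q : I8, q ≠ p ∧ q ≠ bar p := by decide

theorem scalar_of_commute (M : Matrix I8 I8 F)
    (h : ∀ p q : I8, p ≠ q → q ≠ bar p → M * GamF F p q = GamF F p q * M) :
    ∃ c : F, M = c • (1 : Matrix I8 I8 F) := by
  have off : ∀ a p, a ≠ p → M a p = 0 := by
    intro a p hap
    obtain ⟨q, h1, h2, h3⟩ := exists_aux a p hap
    have := congrFun (congrFun (h p q (Ne.symm h1) h2) a) q
    rw [mul_GamF_apply, GamF_mul_apply, if_pos rfl, if_neg h2, if_neg hap, if_neg (Ne.symm h3)] at this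
    simpa using this
  have diag : ∀ p q, p ≠ q → q ≠ bar p → M p p = M q q := by
    intro p q h1 h2
    have := congrFun (congrFun (h p q h1 h2) p) q
    rw [mul_GamF_apply, GamF_mul_apply, if_pos rfl, if_neg h2, if_pos rfl, if_neg] at this
    · simpa using this
    · intro e; apply h2; rw [e, bar_bar]
  have diag' : ∀ p q, M p p = M q q := by
    intro p q
    by_cases h1 : p = q
    · rw [h1]
    by_cases h2 : q = bar p
    · obtain ⟨r, hr1, hr2⟩ := exists_aux2 p
      have e1 := diag p r (Ne.symm hr1) hr2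
      have e2 := diag q r (by rw [h2]; exact Ne.symm hr2) (by rw [h2, bar_bar]; exact hr1)
      rw [e1, e2]
    · exact diag p q h1 h2
  refine ⟨M (Sum.inl 0) (Sum.inl 0), ?_⟩
  ext a b
  rw [Matrix.smul_apply, Matrix.one_apply, smul_eq_mul]
  by_cases hab : a = b
  · rw [if_pos hab, mul_one, hab]; exact diag' _ _
  · rw [if_neg hab, mul_zero]; exact off a b hab

/-! ### Central elements act trivially -/

theorem GamF_of_root (g : O8 F) (h : ∀ (r : Fin 24), mat g * GamR F r = GamR F r * mat g)
    (p q : I8) (hpq : p ≠ q) (hq : q ≠ bar p) : mat g * GamF F p q = GamF F p q * mat g := by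
  obtain ⟨r, hr⟩ := int_pq_root p q hpq hq
  rcases hr with hr | hr
  · have : GamF F p q = GamR F r := by unfold GamF GamR; rw [hr]
    rw [this]; exact h r
  · have : GamF F p q = - GamR F r := by
      unfold GamF GamR; rw [hr]; ext a b; simp
    rw [this, Matrix.mul_neg, Matrix.neg_mul, h r]

theorem adMat_of_scalar (g : O8 F) (c : F) (hc : mat g = c • (1 : Matrix I8 I8 F)) : adMat g = 1 := by
  have horth := isOrth_mat g
  have hK : Kc (mat g) = (c * c - 1) • Nm F := by
    unfold Kc
    rw [hc, Matrix.transpose_smul, Matrix.transpose_one, Matrix.smul_mul, Matrix.one_mul,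
      Matrix.mul_smul, Matrix.mul_one, smul_smul, sub_smul, one_smul]
  have hcc : c * c = 1 := by
    have := horth.2 (Sum.inr 0) (Sum.inl 0)
    change Kc (mat g) (Sum.inl 0) (Sum.inr 0) = - Kc (mat g) (Sum.inr 0) (Sum.inl 0) at this
    rw [hK] at this
    simp [Nm] at this
    linear_combination this
  have hrho : ∀ w : WW F, rho (mat g) w = w := by
    intro w
    apply Prod.ext
    · rw [rho_fst, hK, hcc, sub_self, zero_smul, pair_zero_left, add_zero]
    · rw [rho_snd, hc, Matrix.transpose_smul, Matrix.transpose_one, Matrix.smul_mul, Matrix.one_mul,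
        Matrix.mul_smul, Matrix.mul_one, smul_smul, hcc, one_smul]
  rw [← adMat_one]
  ext i j
  simp only [adMat, Matrix.of_apply, hrho, mat_one, rho_one]

/-- an element centralising the root group acts trivially on the lattice -/
theorem adMat_of_central (g : O8 F) (h : ∀ y ∈ rootGrp F, y * g = g * y) : adMat g = 1 := by
  have h1 : ∀ r : Fin 24, mat g * GamR F r = GamR F r * mat g := by
    intro r
    have := congrArg mat (h (xO r 1) (xO_mem r 1))
    rw [mat_mul, mat_mul, mat_xO, one_smul, Matrix.add_mul, Matrix.mul_add, Matrix.one_mul,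
      Matrix.mul_one] at this
    exact (add_left_cancel this).symm
  obtain ⟨c, hc⟩ := scalar_of_commute (mat g) (GamF_of_root g h1)
  exact adMat_of_scalar g c hc

/-! ### The isomorphism -/

/-- the restriction of the representation to `Ω₈⁺(F)` -/
noncomputable def adOmega (F : Type*) [Field F] :
    ↥(Cfsg.Omega F (Cfsg.quadFormPlus 4 F)) →* GL chevD4.Idx F :=
  (adHom (F := F)).comp (Subgroup.subtype _)

theorem adOmega_range : (adOmega F).range = chevD4.group F := by
  unfold adOmega
  rw [MonoidHom.range_comp, Subgroup.range_subtype]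
  show Subgroup.map adHom (commutator (O8 F)) = _
  rw [commutator_eq_rootGrp, rootGrp, MonoidHom.map_closure]
  unfold ChevalleyDatum.group
  congr 1
  ext g
  constructor
  · rintro ⟨x, ⟨r, t, rfl⟩, rfl⟩
    exact ⟨r, t, adHom_xO r t⟩
  · rintro ⟨r, t, hg⟩
    refine ⟨xO r t, ⟨r, t, rfl⟩, ?_⟩
    apply Units.ext
    rw [hg]
    exact adHom_xO r t

theorem adOmega_ker : (adOmega F).ker = Subgroup.center ↥(Cfsg.Omega F (Cfsg.quadFormPlus 4 F)) := by
  ext x
  rw [MonoidHom.mem_ker, Subgroup.mem_center_iff]
  have hmem : ∀ y : O8 F, y ∈ Cfsg.Omega F (Cfsg.quadFormPlus 4 F) ↔ y ∈ rootGrp F := by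
    intro y
    show y ∈ commutator (O8 F) ↔ _
    rw [commutator_eq_rootGrp]
  constructor
  · intro h y
    have h1 : adMat x.1 = 1 := by
      have := congrArg (fun u : GL chevD4.Idx F => (u : Matrix chevD4.Idx chevD4.Idx F)) h
      exact this
    apply Subtype.ext
    exact central_of_adMat x.1 h1 y.1 ((hmem _).mp y.2)
  · intro h
    have h1 : adMat x.1 = 1 := by
      apply adMat_of_central
      intro y hy
      have := h ⟨y, (hmem y).mpr hy⟩
      exact congrArg Subtype.val this
    apply Units.ext
    exact h1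

/-- `D₄(F) ≃* PΩ₈⁺(F)` over every field -/
theorem d4_equiv_pomega :
    Nonempty (↥(chevD4.group F) ≃* Cfsg.POmega F (Cfsg.quadFormPlus 4 F)) := by
  have e1 : Cfsg.POmega F (Cfsg.quadFormPlus 4 F) ≃*
      (↥(Cfsg.Omega F (Cfsg.quadFormPlus 4 F)) ⧸ (adOmega F).ker) :=
    QuotientGroup.quotientMulEquivOfEq adOmega_ker.symm
  have e2 := QuotientGroup.quotientKerEquivRange (adOmega F)
  have e3 : ↥(adOmega F).range ≃* ↥(chevD4.group F) := MulEquiv.subgroupCongr adOmega_range
  exact ⟨((e1.trans e2).trans e3).symm⟩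

end Cfsg.Agent.Lib.Helper08.D4O
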