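import Cfsg.Agent.Lib.Helper08.D4Omega

/-!
# The kernel of the representation of `Ω₈⁺(F)` on the Chevalley lattice is the centre
-/

set_option autoImplicit false
set_option linter.unusedSimpArgs false
set_option linter.unnecessarySeqFocus false
set_option linter.unusedTactic false
set_option linter.unreachableTactic false
set_option linter.unusedVariables false

namespace Cfsg.Agent.Lib.Helper08.D4O

open Matrix Cfsg Cfsg.Lie Cfsg.Agent.Lib.Helper24

variable {F : Type*} [Field F]

/-! ### Orthogonality in terms of the Gram matrix -/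

theorem Jm_mul_self : Jm F * Jm F = 1 := by
  ext a b
  simp only [Jm, Matrix.mul_apply, Matrix.of_apply, Matrix.one_apply, mul_ite, mul_one, mul_zero]
  rw [Finset.sum_eq_single (bar b)]
  · rw [if_pos rfl]
    by_cases h : a = b
    · rw [if_pos h, if_pos (by rw [h, bar_bar])]
    · rw [if_neg h, if_neg (by rw [bar_bar]; exact h)]
  · intro c _ hc
    rw [if_neg hc]
  · intro h; exact absurd (Finset.mem_univ _) h

theorem Jm_map : (Jm ℤ).map (Int.castRingHom F) = Jm F := by
  ext a b
  simp only [Jm, Matrix.map_apply, Matrix.of_apply]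
  split_ifs <;> simp

theorem orth_J {g : Matrix I8 I8 F} (hg : IsOrth g) : gᵀ * Jm F * g = Jm F := by
  have h := IsAlt.transpose hg
  rw [Matrix.transpose_sub, Matrix.transpose_mul, Matrix.transpose_mul, Matrix.transpose_transpose,
    ← Matrix.mul_assoc] at h
  rw [← Nm_add_transpose, Matrix.mul_add, Matrix.add_mul]
  have : gᵀ * (Nm F)ᵀ * g = (Nm F)ᵀ - (gᵀ * Nm F * g - Nm F) := by
    have h' := eq_add_of_sub_eq h
    rw [h']; abel
  rw [this]; abel

theorem mat_J (g : O8 F) : mat g * Jm F * (mat g)ᵀ = Jm F := by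
  have h1 := orth_J (isOrth_mat g)
  have h2 : Jm F * (mat g)ᵀ * Jm F * mat g = 1 := by
    calc Jm F * (mat g)ᵀ * Jm F * mat g = Jm F * ((mat g)ᵀ * Jm F * mat g) := by
          simp only [Matrix.mul_assoc]
      _ = 1 := by rw [h1, Jm_mul_self]
  have h3 : Jm F * (mat g)ᵀ * Jm F = mat g⁻¹ := by
    calc Jm F * (mat g)ᵀ * Jm F = Jm F * (mat g)ᵀ * Jm F * (mat g * mat g⁻¹) := by
          rw [mat_mul_inv, Matrix.mul_one]
      _ = (Jm F * (mat g)ᵀ * Jm F * mat g) * mat g⁻¹ := by simp only [Matrix.mul_assoc]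
      _ = mat g⁻¹ := by rw [h2, Matrix.one_mul]
  have h4 : mat g * (Jm F * (mat g)ᵀ * Jm F) = 1 := by rw [h3, mat_mul_inv]
  calc mat g * Jm F * (mat g)ᵀ = mat g * (Jm F * (mat g)ᵀ * Jm F) * Jm F := by
        simp only [Matrix.mul_assoc]; rw [Jm_mul_self, Matrix.mul_one]
    _ = Jm F := by rw [h4, Matrix.one_mul]

theorem J_transpose (g : O8 F) : Jm F * (mat g)ᵀ = mat g⁻¹ * Jm F := by
  have h := mat_J g
  calc Jm F * (mat g)ᵀ = (mat g⁻¹ * mat g) * (Jm F * (mat g)ᵀ) := by rw [mat_inv_mul, Matrix.one_mul]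
    _ = mat g⁻¹ * (mat g * Jm F * (mat g)ᵀ) := by simp only [Matrix.mul_assoc]
    _ = mat g⁻¹ * Jm F := by rw [h]

/-! ### Elements acting trivially -/

theorem bR_root_snd (r : Fin 24) : (bR F (4 + r.val)).2 = GamR F r * Jm F := by
  have h1 : (bZ (4 + r.val)).2 = AZ r := by
    have : ∀ r : Fin 24, (bZ (4 + r.val)).2 = AZ r := by decide +kernel
    exact this r
  unfold bR mapW GamR
  simp only
  rw [h1, (int_root r).2.2.2, Matrix.map_mul, Jm_map]

theorem comm_of_fix (g : O8 F) (r : Fin 24) (h : rho (mat g) (bR F (4 + r.val)) = bR F (4 + r.val)) :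
    mat g * GamR F r = GamR F r * mat g := by
  have h2 := congrArg Prod.snd h
  rw [rho_snd, bR_root_snd] at h2
  have h3 : mat g * GamR F r * mat g⁻¹ * Jm F = GamR F r * Jm F := by
    rw [← h2]
    simp only [Matrix.mul_assoc]
    rw [J_transpose]
  have h4 : mat g * GamR F r * mat g⁻¹ = GamR F r := by
    have := congrArg (fun X => X * Jm F) h3
    simp only [Matrix.mul_assoc, Jm_mul_self, Matrix.mul_one] at this
    simpa only [Matrix.mul_assoc] using this
  calc mat g * GamR F r = mat g * GamR F r * (mat g⁻¹ * mat g) := by rw [mat_inv_mul, Matrix.mul_one]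
    _ = (mat g * GamR F r * mat g⁻¹) * mat g := by simp only [Matrix.mul_assoc]
    _ = GamR F r * mat g := by rw [h4]

theorem sum_enc' {M : Type*} [AddCommMonoid M] (g : ℕ → M) :
    ∑ k : chevD4.Idx, g (enc chevD4 k) = ∑ k ∈ Finset.range 28, g k := by
  rw [Fintype.sum_sum_type]
  show ∑ i : Fin 4, g i.val + ∑ s : Fin 24, g (4 + s.val) = _
  rw [Fin.sum_univ_eq_sum_range, Fin.sum_univ_eq_sum_range (fun s => g (4 + s)),
    show (28 : ℕ) = 4 + 24 from rfl, Finset.sum_range_add]

theorem rho_fix_of_adMat (g : O8 F) (h : adMat g = 1) (j : chevD4.Idx) :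
    rho (mat g) (bR F (enc chevD4 j)) = bR F (enc chevD4 j) := by
  have hY : rho (mat g) (bR F (enc chevD4 j)) =
      ∑ k ∈ Finset.range 28, cN (rho (mat g) (bR F (enc chevD4 j))) k • bR F k :=
    recon _ (rho_isAlt _ (isAlt_bR _)) (by rw [trW_rho (isOrth_mat g) (isAlt_bR _), trW_bR])
  rw [hY, ← sum_enc' (fun k => cN (rho (mat g) (bR F (enc chevD4 j))) k • bR F k)]
  have : ∀ i : chevD4.Idx, cN (rho (mat g) (bR F (enc chevD4 j))) (enc chevD4 i) =
      (1 : Matrix chevD4.Idx chevD4.Idx F) i j := by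
    intro i
    rw [← h]; rfl
  simp only [this, Matrix.one_apply, ite_smul, one_smul, zero_smul]
  rw [Finset.sum_ite_eq' Finset.univ j, if_pos (Finset.mem_univ _)]

theorem commute_rootGrp (g : O8 F) (h : ∀ (r : Fin 24) (t : F), xO r t * g = g * xO r t) :
    ∀ y ∈ rootGrp F, y * g = g * y := by
  intro y hy
  unfold rootGrp at hy
  induction hy using Subgroup.closure_induction with
  | mem x hx =>
    obtain ⟨r, t, rfl⟩ := hx
    exact h r t
  | one => simp
  | mul u v _ _ hu hv => rw [mul_assoc, hv, ← mul_assoc, hu, mul_assoc]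
  | inv u _ hu =>
    have : u⁻¹ * g = u⁻¹ * (g * u) * u⁻¹ := by group
    rw [this, ← hu]; group

/-- an element acting trivially on the lattice centralises the root group -/
theorem central_of_adMat (g : O8 F) (h : adMat g = 1) : ∀ y ∈ rootGrp F, y * g = g * y := by
  apply commute_rootGrp
  intro r t
  have hfix := rho_fix_of_adMat g h (Sum.inr r)
  have hc := comm_of_fix g r hfix
  apply mat_injective
  rw [mat_mul, mat_mul, mat_xO, Matrix.add_mul, Matrix.mul_add, Matrix.one_mul, Matrix.mul_one,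
    Matrix.smul_mul, Matrix.mul_smul, hc]

end Cfsg.Agent.Lib.Helper08.D4O
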