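import Cfsg.Agent.Lib.Helper08.D4Basis

/-!
# Linear algebra of the Chevalley basis of type `D₄` in `R × Alt₈(R)`
-/

set_option autoImplicit false
set_option linter.unusedSimpArgs false
set_option linter.unnecessarySeqFocus false
set_option linter.unusedTactic false
set_option linter.unreachableTactic false

namespace Cfsg.Agent.Lib.Helper08.D4O

open Matrix Cfsg Cfsg.Lie Cfsg.Agent.Lib.Helper24

set_option maxRecDepth 100000 in
theorem int_root : ∀ r : Fin 24, IsAlt ((GamZ r)ᵀ * Nm ℤ + Nm ℤ * GamZ r) ∧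
    IsAlt ((GamZ r)ᵀ * Nm ℤ * GamZ r) ∧ GamZ r * GamZ r = 0 ∧ AZ r = GamZ r * Jm ℤ := by
  decide +kernel

set_option maxRecDepth 100000 in
theorem int_basis : ∀ k : Fin 28, IsAlt (bZ k).2 ∧ trW (bZ k) = 0 := by
  decide +kernel

set_option maxRecDepth 100000 in
theorem cN_bZ : ∀ k l : Fin 28, cN (bZ k) l = if k = l then 1 else 0 := by
  decide +kernel

set_option maxRecDepth 100000 in
theorem shape_pow : ∀ r : Fin 24, ∀ k : Fin 28, ∀ x ∈ fullShape chevD4 r k, x.2.2 = 1 ∨ x.2.2 = 2 := by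
  decide +kernel

set_option maxRecDepth 100000 in
theorem shape_lt : ∀ r : Fin 24, ∀ k : Fin 28, ∀ x ∈ fullShape chevD4 r k, x.1 < 28 := by
  decide +kernel

section

variable {R : Type*} [CommRing R]

/-- the Chevalley basis over `R` -/
def bR (R : Type*) [CommRing R] (k : ℕ) : WW R := mapW (Int.castRingHom R) (bZ k)

/-- the root vectors in `so₈(R)` -/
def GamR (R : Type*) [CommRing R] (r : ℕ) : Matrix I8 I8 R := (GamZ r).map (Int.castRingHom R)

theorem bZ_ge (k : ℕ) (hk : 28 ≤ k) : bZ k = 0 := by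
  obtain ⟨n, rfl⟩ : ∃ n, k = n + 28 := ⟨k - 28, by omega⟩
  rfl

theorem bR_ge (k : ℕ) (hk : 28 ≤ k) : bR R k = 0 := by
  unfold bR
  rw [bZ_ge k hk, mapW_zero]

theorem cN_map {S : Type*} [CommRing S] (f : R →+* S) (w : WW R) (l : ℕ) :
    cN (mapW f w) l = f (cN w l) := by
  rcases l with _ | _ | _ | _ | r <;> simp [cN, mapW]

theorem cN_add (w w' : WW R) (l : ℕ) : cN (w + w') l = cN w l + cN w' l := by
  rcases l with _ | _ | _ | _ | r <;> simp [cN] <;> ring

theorem cN_smul (a : R) (w : WW R) (l : ℕ) : cN (a • w) l = a * cN w l := by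
  rcases l with _ | _ | _ | _ | r <;> simp [cN] <;> ring

theorem cN_zero (l : ℕ) : cN (0 : WW R) l = 0 := by
  have := cN_smul (0 : R) (0 : WW R) l
  rwa [zero_smul, zero_mul] at this

theorem cN_sum {ι : Type*} (s : Finset ι) (X : ι → WW R) (l : ℕ) :
    cN (∑ i ∈ s, X i) l = ∑ i ∈ s, cN (X i) l := by
  classical
  induction s using Finset.induction_on with
  | empty => simp [cN_zero]
  | insert a s ha ih => rw [Finset.sum_insert ha, Finset.sum_insert ha, cN_add, ih]

theorem cN_list_sum (L : List (WW R)) (l : ℕ) : cN L.sum l = (L.map fun X => cN X l).sum := by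
  induction L with
  | nil => simp [cN_zero]
  | cons a L ih => rw [List.sum_cons, List.map_cons, List.sum_cons, cN_add, ih]

theorem cN_bR (k l : ℕ) (hl : l < 28) : cN (bR R k) l = if k = l then 1 else 0 := by
  unfold bR
  rw [cN_map]
  by_cases hk : k < 28
  · have := cN_bZ ⟨k, hk⟩ ⟨l, hl⟩
    simp only [Fin.mk.injEq] at this
    rw [this]
    split_ifs <;> simp
  · rw [bZ_ge k (by omega), cN_zero, map_zero, if_neg (by omega)]

theorem isAlt_bR (k : ℕ) : IsAlt (bR R k).2 := by
  by_cases hk : k < 28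
  · exact isAlt_map _ (int_basis ⟨k, hk⟩).1
  · rw [bR_ge k (by omega)]; exact isAlt_zero

theorem trW_map {S : Type*} [CommRing S] (f : R →+* S) (w : WW R) : trW (mapW f w) = f (trW w) := by
  unfold trW mapW
  simp only [map_add, map_mul, map_ofNat, map_sum, Matrix.map_apply, Matrix.transpose_apply]
  congr 1
  apply Finset.sum_congr rfl; intro p _
  apply Finset.sum_congr rfl; intro q _
  rw [← Nm_map f, Matrix.map_apply]

theorem trW_bR (k : ℕ) : trW (bR R k) = 0 := by
  by_cases hk : k < 28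
  · unfold bR
    rw [trW_map, (int_basis ⟨k, hk⟩).2, map_zero]
  · rw [bR_ge k (by omega)]
    simp [trW]

end

end Cfsg.Agent.Lib.Helper08.D4O
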