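import Cfsg.Agent.Lib.Helper08.D4Comm

/-!
# `Ω₈⁺(F)` is the subgroup generated by the root elements
-/

set_option autoImplicit false
set_option linter.unusedSimpArgs false
set_option linter.unnecessarySeqFocus false
set_option linter.unusedTactic false
set_option linter.unreachableTactic false
set_option linter.unusedVariables false

namespace Cfsg.Agent.Lib.Helper08.D4O

open Matrix Cfsg Cfsg.Lie Cfsg.Agent.Lib.Helper24
open scoped commutatorElement

variable {F : Type*} [Field F]

/-! ### Commutation of the torus generators modulo the root group -/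

set_option maxRecDepth 100000 in
theorem PZ_monomial : ∀ i : Fin 4, ∀ ab : I8 × I8, PZ i ab.1 ab.2 = 0 ∨ ab.2 = sw i ab.1 := by
  decide +kernel

theorem sO_mul_dO (i : Fin 4) (d : I8 → F) (hd : ∀ p, d p * d (bar p) = 1) :
    mat (sO i) * Matrix.diagonal d = Matrix.diagonal (fun a => d (sw i a)) * mat (sO (F := F) i) := by
  rw [mat_sO]
  exact monomial_mul_diagonal (PZ i) (sw i) (PZ_monomial i) d

theorem delta_sw_same (i : Fin 4) (c : F) (a : I8) : delta i c (sw i a) = delta i c⁻¹ a := by
  rcases a with j | j <;> by_cases h : j = i <;> simp [delta, sw, h]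

theorem delta_sw_ne (i j : Fin 4) (hij : i ≠ j) (c : F) (a : I8) : delta j c (sw i a) = delta j c a := by
  have hji : j ≠ i := Ne.symm hij
  rcases a with k | k <;> by_cases h : k = i <;> by_cases h' : k = j <;>
    simp [delta, sw, h, h', hij, hji]

theorem sO_conj_dlt_same (i : Fin 4) (c : F) (hc : c ≠ 0) :
    sO i * dlt i c hc = dlt i c⁻¹ (inv_ne_zero hc) * sO i := by
  apply mat_injective
  rw [mat_mul, mat_mul]
  unfold dlt
  rw [mat_dO, mat_dO, sO_mul_dO i _ (delta_mul_bar i c hc)]
  congr 2
  funext a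
  exact delta_sw_same i c a

theorem sO_conj_dlt_ne (i j : Fin 4) (hij : i ≠ j) (c : F) (hc : c ≠ 0) :
    sO i * dlt j c hc = dlt j c hc * sO i := by
  apply mat_injective
  rw [mat_mul, mat_mul]
  unfold dlt
  rw [mat_dO, sO_mul_dO i _ (delta_mul_bar j c hc)]
  congr 2
  funext a
  exact delta_sw_ne i j hij c a

theorem dlt_comm (i j : Fin 4) (c c' : F) (hc : c ≠ 0) (hc' : c' ≠ 0) :
    dlt i c hc * dlt j c' hc' = dlt j c' hc' * dlt i c hc := by
  apply mat_injective
  unfold dlt
  rw [mat_mul, mat_mul, mat_dO, mat_dO, Matrix.diagonal_mul_diagonal, Matrix.diagonal_mul_diagonal]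
  congr 1
  funext a
  exact mul_comm _ _

instance rootGrp_normal_inst : (rootGrp F).Normal := rootGrp_normal

/-- the quotient map modulo the root group -/
def piR (F : Type*) [Field F] : O8 F →* (O8 F ⧸ rootGrp F) := QuotientGroup.mk' (rootGrp F)

theorem piR_eq_one {g : O8 F} (hg : g ∈ rootGrp F) : piR F g = 1 :=
  (QuotientGroup.eq_one_iff g).mpr hg

theorem mem_of_piR_eq_one {g : O8 F} (hg : piR F g = 1) : g ∈ rootGrp F :=
  (QuotientGroup.eq_one_iff g).mp hg

theorem piR_dlt_inv (i : Fin 4) (c : F) (hc : c ≠ 0) :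
    piR F (dlt i c⁻¹ (inv_ne_zero hc)) = piR F (dlt i c hc) := by
  have h1 : piR F (dlt i c hc) * piR F (dlt i c hc) = 1 := by
    rw [← map_mul]
    exact piR_eq_one (dO_sq_mem _ _)
  rw [← dlt_inv i c hc, map_inv]
  exact inv_eq_of_mul_eq_one_left h1

theorem gens_commute (a b : O8 F) (ha : a ∈ torGens F) (hb : b ∈ torGens F) :
    Commute (piR F a) (piR F b) := by
  have key : ∀ (i j : Fin 4) (c : F) (hc : c ≠ 0), Commute (piR F (sO i)) (piR F (dlt j c hc)) := by
    intro i j c hc
    by_cases hij : i = j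
    · subst hij
      show piR F (sO i) * piR F (dlt i c hc) = piR F (dlt i c hc) * piR F (sO i)
      rw [← map_mul, sO_conj_dlt_same, map_mul, piR_dlt_inv]
    · show piR F (sO i) * piR F (dlt j c hc) = piR F (dlt j c hc) * piR F (sO i)
      rw [← map_mul, sO_conj_dlt_ne i j hij, map_mul]
  rcases ha with ⟨i, c, hc, rfl⟩ | ⟨i, rfl⟩ <;> rcases hb with ⟨j, c', hc', rfl⟩ | ⟨j, rfl⟩
  · show piR F _ * piR F _ = piR F _ * piR F _
    rw [← map_mul, dlt_comm, map_mul]
  · exact (key j i c hc).symm
  · exact key i j c' hc'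
  · show piR F _ * piR F _ = piR F _ * piR F _
    rw [← map_mul, sO_comm, map_mul]

theorem torA_commute (x y : O8 F) (hx : x ∈ torA F) (hy : y ∈ torA F) :
    Commute (piR F x) (piR F y) := by
  have h1 : ∀ a ∈ torGens F, ∀ y ∈ torA F, Commute (piR F a) (piR F y) := by
    intro a ha y hy
    unfold torA at hy
    induction hy using Subgroup.closure_induction with
    | mem b hb => exact gens_commute a b ha hb
    | one => rw [map_one]; exact Commute.one_right _
    | mul u v _ _ hu hv => rw [map_mul]; exact hu.mul_right hv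
    | inv u _ hu => rw [map_inv]; exact hu.inv_right
  unfold torA at hx
  induction hx using Subgroup.closure_induction with
  | mem a ha => exact h1 a ha y hy
  | one => rw [map_one]; exact Commute.one_left _
  | mul u v _ _ hu hv => rw [map_mul]; exact hu.mul_left hv
  | inv u _ hu => rw [map_inv]; exact hu.inv_left

/-- the commutator subgroup of `O₈⁺(F)` lies in the root group -/
theorem commutator_le_rootGrp : commutator (O8 F) ≤ rootGrp F := by
  have hdec : ∀ g : O8 F, ∃ n ∈ rootGrp F, ∃ t ∈ torA F, n * t = g := by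
    intro g
    have hg : g ∈ rootGrp F ⊔ torA F := by
      have := bigK_eq_top (F := F)
      rw [bigK] at this
      rw [this]; trivial
    exact Subgroup.mem_sup_of_normal_left.mp hg
  rw [commutator_def, Subgroup.commutator_le]
  intro g1 _ g2 _
  obtain ⟨n1, hn1, t1, ht1, rfl⟩ := hdec g1
  obtain ⟨n2, hn2, t2, ht2, rfl⟩ := hdec g2
  apply mem_of_piR_eq_one
  rw [commutatorElement_def]
  simp only [map_mul, map_inv, piR_eq_one hn1, piR_eq_one hn2, one_mul]
  have hc := torA_commute t1 t2 ht1 ht2
  rw [hc.eq]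
  group

/-! ### The root group is perfect -/

theorem comm_expand {M : Type*} [Ring M] (A B : M) (hA : A * A = 0) (hB : B * B = 0)
    (h1 : A * B * A = 0) (h2 : B * A * B = 0) :
    (1 + A) * (1 + B) * (1 - A) * (1 - B) = 1 + (A * B - B * A) := by
  have e : (1 + A) * (1 + B) * (1 - A) * (1 - B) =
      1 + (A * B - B * A) - B * B + B * A * B - A * A + (A * A) * B - A * (B * B) - A * B * A
        + (A * B * A) * B := by noncomm_ring
  rw [e, hA, hB, h1, h2]
  simp

set_option maxRecDepth 100000 in
theorem exists_third : ∀ p q : I8, p ≠ q → q ≠ bar p → ∃ s : I8, good3 p s q := by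
  decide +kernel

theorem xPQ_eq_commutator (p s q : I8) (hg : good3 p s q) (t : F) :
    xPQ p q hg.2.1 t = ⁅xPQ p s hg.1 t, xPQ s q hg.2.2.1 1⁆ := by
  obtain ⟨c1, c2, c3⟩ := int_comm p s q hg
  have f1 : GamF F p s * GamF F s q - GamF F s q * GamF F p s = GamF F p q := by
    unfold GamF
    rw [← Matrix.map_mul, ← Matrix.map_mul, ← Matrix.map_sub (hf := map_sub _), c1]
  have f2 : GamF F p s * GamF F s q * GamF F p s = 0 := by
    unfold GamF
    rw [← Matrix.map_mul, ← Matrix.map_mul, c2]
    ext a b; simp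
  have f3 : GamF F s q * GamF F p s * GamF F s q = 0 := by
    unfold GamF
    rw [← Matrix.map_mul, ← Matrix.map_mul, c3]
    ext a b; simp
  apply mat_injective
  rw [commutatorElement_def, mat_mul, mat_mul, mat_mul, xPQ_inv, xPQ_inv, mat_xPQ, mat_xPQ, mat_xPQ,
    mat_xPQ, mat_xPQ, one_smul, neg_smul, neg_smul, one_smul, ← sub_eq_add_neg, ← sub_eq_add_neg]
  rw [comm_expand (t • GamF F p s) (GamF F s q)]
  · rw [Matrix.smul_mul, Matrix.mul_smul, ← smul_sub, f1]
  · rw [Matrix.smul_mul, Matrix.mul_smul, GamF_sq p s hg.1, smul_zero, smul_zero]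
  · exact GamF_sq s q hg.2.2.1
  · rw [Matrix.smul_mul, Matrix.smul_mul, Matrix.mul_smul, f2, smul_zero, smul_zero]
  · rw [Matrix.mul_smul, Matrix.smul_mul, f3, smul_zero]

theorem rootGrp_le_commutator : rootGrp F ≤ commutator (O8 F) := by
  unfold rootGrp
  rw [Subgroup.closure_le]
  rintro x ⟨r, t, rfl⟩
  rw [xO_eq_xPQ]
  obtain ⟨s, hs⟩ := exists_third (rootP r) (rootQ r) (int_root_pq r).1 (int_root_pq r).2.1
  rw [xPQ_eq_commutator _ s _ hs, commutator_def]
  exact Subgroup.commutator_mem_commutator (Subgroup.mem_top _) (Subgroup.mem_top _)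

/-- `Ω₈⁺(F)` is the subgroup generated by the root elements -/
theorem commutator_eq_rootGrp : commutator (O8 F) = rootGrp F :=
  le_antisymm commutator_le_rootGrp rootGrp_le_commutator

end Cfsg.Agent.Lib.Helper08.D4O
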