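import Cfsg.Agent.Lib.Helper08.D4Lin

/-!
# Reconstruction of an element of the Chevalley lattice from its coordinates
-/

set_option autoImplicit false
set_option linter.unusedSimpArgs false
set_option linter.unnecessarySeqFocus false
set_option linter.unusedTactic false
set_option linter.unreachableTactic false

namespace Cfsg.Agent.Lib.Helper08.D4O

open Matrix Cfsg Cfsg.Lie Cfsg.Agent.Lib.Helper24

variable {R : Type*} [CommRing R]

theorem root_cover : ∀ p q : I8, p ≠ q → q ≠ bar p →
    ∃ r : Fin 24, (rootP r = p ∧ bar (rootQ r) = q) ∨ (rootP r = q ∧ bar (rootQ r) = p) := by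
  decide +kernel

theorem rootS_unit : ∀ r : Fin 24, rootS r = 1 ∨ rootS r = -1 := by
  decide +kernel

theorem trW_eq (w : WW R) : trW w = 2 * w.1 + (w.2 (Sum.inl 0) (Sum.inr 0) + w.2 (Sum.inl 1) (Sum.inr 1) +
    w.2 (Sum.inl 2) (Sum.inr 2) + w.2 (Sum.inl 3) (Sum.inr 3)) := by
  unfold trW
  simp [Fintype.sum_sum_type, Fin.sum_univ_four, Nm]

/-- an element of the lattice with vanishing coordinates is zero -/
theorem eq_zero_of_cN (w : WW R) (hA : IsAlt w.2) (ht : trW w = 0) (h : ∀ l < 28, cN w l = 0) : w = 0 := by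
  rw [trW_eq] at ht
  have h0 : w.2 (Sum.inl 0) (Sum.inr 0) = 0 := h 0 (by norm_num)
  have h1 : w.2 (Sum.inl 0) (Sum.inr 0) + w.2 (Sum.inl 1) (Sum.inr 1) = 0 := h 1 (by norm_num)
  have h2 : - w.1 - w.2 (Sum.inl 3) (Sum.inr 3) = 0 := h 2 (by norm_num)
  have h3 : - w.1 = 0 := h 3 (by norm_num)
  have c0 : w.1 = 0 := by linear_combination -h3
  have a1 : w.2 (Sum.inl 1) (Sum.inr 1) = 0 := by linear_combination h1 - h0
  have a3 : w.2 (Sum.inl 3) (Sum.inr 3) = 0 := by linear_combination -h2 + h3
  have a2 : w.2 (Sum.inl 2) (Sum.inr 2) = 0 := by linear_combination ht - 2 * c0 - h0 - a1 - a3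
  have cart : ∀ a : Fin 4, w.2 (Sum.inl a) (Sum.inr a) = 0 := by
    intro a; fin_cases a
    · exact h0
    · exact a1
    · exact a2
    · exact a3
  apply Prod.ext
  · exact c0
  · ext p q
    show w.2 p q = 0
    by_cases hpq : p = q
    · subst hpq; exact hA.1 p
    by_cases hbar : q = bar p
    · subst hbar
      rcases p with a | a
      · exact cart a
      · rw [bar_inr, hA.2, cart, neg_zero]
    obtain ⟨r, hr⟩ := root_cover p q hpq hbar
    have hc : ((rootS r.val : ℤ) : R) * w.2 (rootP r.val) (bar (rootQ r.val)) = 0 :=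
      h (r.val + 4) (by omega)
    have hu : w.2 (rootP r.val) (bar (rootQ r.val)) = 0 := by
      rcases rootS_unit r with hs | hs <;> rw [hs] at hc
      · simpa using hc
      · simpa using hc
    rcases hr with ⟨e1, e2⟩ | ⟨e1, e2⟩
    · rw [← e1, ← e2]; exact hu
    · rw [hA.2, ← e1, ← e2, hu, neg_zero]

theorem isAlt_sum {ι : Type*} (s : Finset ι) (X : ι → Matrix I8 I8 R) (h : ∀ i ∈ s, IsAlt (X i)) :
    IsAlt (∑ i ∈ s, X i) := by
  classical
  induction s using Finset.induction_on with
  | empty => simpa using isAlt_zero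
  | insert a s ha ih =>
    rw [Finset.sum_insert ha]
    exact (h a (Finset.mem_insert_self _ _)).add (ih fun i hi => h i (Finset.mem_insert_of_mem hi))

theorem trW_add (w w' : WW R) : trW (w + w') = trW w + trW w' := by
  rw [trW_eq, trW_eq, trW_eq]
  simp only [Prod.fst_add, Prod.snd_add, Matrix.add_apply]
  ring

theorem trW_smul (a : R) (w : WW R) : trW (a • w) = a * trW w := by
  rw [trW_eq, trW_eq]
  simp only [Prod.smul_fst, Prod.smul_snd, Matrix.smul_apply, smul_eq_mul]
  ring

theorem trW_sum {ι : Type*} (s : Finset ι) (X : ι → WW R) : trW (∑ i ∈ s, X i) = ∑ i ∈ s, trW (X i) := by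
  classical
  induction s using Finset.induction_on with
  | empty => simp [trW_eq]
  | insert a s ha ih => rw [Finset.sum_insert ha, Finset.sum_insert ha, trW_add, ih]

/-- reconstruction from the coordinates -/
theorem recon (w : WW R) (hA : IsAlt w.2) (ht : trW w = 0) :
    w = ∑ k ∈ Finset.range 28, cN w k • bR R k := by
  have key : w - ∑ k ∈ Finset.range 28, cN w k • bR R k = 0 := by
    apply eq_zero_of_cN
    · rw [Prod.snd_sub, Prod.snd_sum]
      apply hA.sub
      apply isAlt_sum
      intro k _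
      exact (isAlt_bR k).smul _
    · have : w - ∑ k ∈ Finset.range 28, cN w k • bR R k =
          w + (-1 : R) • ∑ k ∈ Finset.range 28, cN w k • bR R k := by
        rw [neg_one_smul, sub_eq_add_neg]
      rw [this, trW_add, trW_smul, trW_sum, ht]
      simp only [trW_smul, trW_bR, mul_zero, Finset.sum_const_zero, add_zero]
    · intro l hl
      have : w - ∑ k ∈ Finset.range 28, cN w k • bR R k =
          w + (-1 : R) • ∑ k ∈ Finset.range 28, cN w k • bR R k := by
        rw [neg_one_smul, sub_eq_add_neg]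
      rw [this, cN_add, cN_smul, cN_sum]
      simp only [cN_smul, cN_bR _ _ hl, mul_ite, mul_one, mul_zero]
      rw [Finset.sum_ite_eq' (Finset.range 28) l, if_pos (Finset.mem_range.mpr hl)]
      ring
  exact sub_eq_zero.mp key

end Cfsg.Agent.Lib.Helper08.D4O
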