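import Cfsg.Agent.Lib.Helper08.D4Alt

/-!
# The action of the orthogonal group on `R × Alt₈(R)`
-/

set_option autoImplicit false

namespace Cfsg.Agent.Lib.Helper08.D4O

open Matrix

section ring

variable {R : Type*} [CommRing R]

/-- the module `R × M₈(R)`; the relevant part is `R × Alt₈(R)` -/
abbrev WW (R : Type*) [CommRing R] := R × Matrix I8 I8 R

/-- the cocycle matrix of `g` -/
def Kc (g : Matrix I8 I8 R) : Matrix I8 I8 R := gᵀ * Nm R * g - Nm R

/-- the action of a matrix `g` (an automorphism of the Clifford algebra when `g` is orthogonal) -/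
def rho (g : Matrix I8 I8 R) : WW R →ₗ[R] WW R where
  toFun w := (w.1 + pair (Kc g) w.2, g * w.2 * gᵀ)
  map_add' w w' := by
    apply Prod.ext
    · show (w + w').1 + pair (Kc g) (w + w').2 = (w.1 + pair (Kc g) w.2) + (w'.1 + pair (Kc g) w'.2)
      rw [Prod.snd_add, Prod.fst_add, pair_add_right]; ring
    · show g * (w + w').2 * gᵀ = g * w.2 * gᵀ + g * w'.2 * gᵀ
      rw [Prod.snd_add, Matrix.mul_add, Matrix.add_mul]
  map_smul' a w := by
    apply Prod.ext
    · show (a • w).1 + pair (Kc g) (a • w).2 = a • (w.1 + pair (Kc g) w.2)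
      rw [Prod.smul_snd, Prod.smul_fst, pair_smul_right, smul_eq_mul, smul_eq_mul]; ring
    · show g * (a • w).2 * gᵀ = a • (g * w.2 * gᵀ)
      rw [Prod.smul_snd, Matrix.mul_smul, Matrix.smul_mul]

theorem rho_fst (g : Matrix I8 I8 R) (w : WW R) : (rho g w).1 = w.1 + pair (Kc g) w.2 := rfl

theorem rho_snd (g : Matrix I8 I8 R) (w : WW R) : (rho g w).2 = g * w.2 * gᵀ := rfl

theorem rho_one (w : WW R) : rho (1 : Matrix I8 I8 R) w = w := by
  apply Prod.ext
  · rw [rho_fst]
    have : Kc (1 : Matrix I8 I8 R) = 0 := by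
      unfold Kc; rw [Matrix.transpose_one, Matrix.one_mul, Matrix.mul_one, sub_self]
    rw [this, pair_zero_left, add_zero]
  · rw [rho_snd, Matrix.transpose_one, Matrix.one_mul, Matrix.mul_one]

theorem rho_isAlt (g : Matrix I8 I8 R) {w : WW R} (hw : IsAlt w.2) : IsAlt (rho g w).2 :=
  isAlt_congr' hw g

/-- the action is multiplicative on orthogonal matrices -/
theorem rho_mul {g : Matrix I8 I8 R} (hg : IsOrth g) (h : Matrix I8 I8 R) {w : WW R} (hw : IsAlt w.2) :
    rho (g * h) w = rho g (rho h w) := by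
  apply Prod.ext
  · rw [rho_fst, rho_fst, rho_fst, rho_snd]
    have : Kc (g * h) = hᵀ * Kc g * h + Kc h := cocycle_eq g h
    rw [this, pair_add_left, pair_congr (show IsAlt (Kc g) from hg) hw]
    ring
  · rw [rho_snd, rho_snd, rho_snd, Matrix.transpose_mul]
    simp only [Matrix.mul_assoc]

/-- the invariant linear form (the reduced trace of the Clifford algebra) -/
def trW (w : WW R) : R := 2 * w.1 + ∑ p, ∑ q, (Nm R)ᵀ p q * w.2 p q

theorem trW_rho {g : Matrix I8 I8 R} (hg : IsOrth g) {w : WW R} (hw : IsAlt w.2) :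
    trW (rho g w) = trW w := by
  unfold trW
  rw [rho_fst, rho_snd, sum_mul_eq_trace, sum_mul_eq_trace, Matrix.transpose_transpose]
  have e1 : Matrix.trace (Nm R * (g * w.2 * gᵀ)) = Matrix.trace (Kc g * w.2) + Matrix.trace (Nm R * w.2) := by
    rw [← Matrix.trace_add, ← Matrix.add_mul]
    have : Kc g + Nm R = gᵀ * Nm R * g := by unfold Kc; abel
    rw [this, ← Matrix.mul_assoc, Matrix.trace_mul_comm]
    simp only [Matrix.mul_assoc]
  have e2 : Matrix.trace (Kc g * w.2) = - (2 * pair (Kc g) w.2) := by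
    rw [← sum_eq_two_pair (show IsAlt (Kc g) from hg) hw, sum_mul_eq_trace,
      IsAlt.transpose (show IsAlt (Kc g) from hg), Matrix.neg_mul,
      Matrix.trace_neg, neg_neg]
  rw [e1, e2]
  ring

/-! ### Root elements `1 + t Γ` -/

/-- the linear term of the action of `1 + t Γ` -/
def lin1 (Γ : Matrix I8 I8 R) (w : WW R) : WW R :=
  (pair (Γᵀ * Nm R + Nm R * Γ) w.2, Γ * w.2 + w.2 * Γᵀ)

/-- the quadratic term of the action of `1 + t Γ` -/
def lin2 (Γ : Matrix I8 I8 R) (w : WW R) : WW R :=
  (pair (Γᵀ * Nm R * Γ) w.2, Γ * w.2 * Γᵀ)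

theorem Kc_root (Γ : Matrix I8 I8 R) (t : R) :
    Kc (1 + t • Γ) = t • (Γᵀ * Nm R + Nm R * Γ) + (t * t) • (Γᵀ * Nm R * Γ) := by
  unfold Kc
  simp only [Matrix.transpose_add, Matrix.transpose_one, Matrix.transpose_smul, Matrix.add_mul,
    Matrix.mul_add, Matrix.one_mul, Matrix.mul_one, Matrix.smul_mul, Matrix.mul_smul, smul_add,
    smul_smul]
  abel

theorem rho_root (Γ : Matrix I8 I8 R) (t : R) (w : WW R) :
    rho (1 + t • Γ) w = w + t • lin1 Γ w + (t * t) • lin2 Γ w := by
  apply Prod.ext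
  · rw [rho_fst, Kc_root, pair_add_left, pair_smul_left, pair_smul_left]
    simp only [lin1, lin2, Prod.fst_add, Prod.smul_fst, smul_eq_mul]
    ring
  · rw [rho_snd]
    simp only [lin1, lin2, Prod.snd_add, Prod.smul_snd, Matrix.transpose_add, Matrix.transpose_one,
      Matrix.transpose_smul, Matrix.add_mul, Matrix.mul_add, Matrix.one_mul, Matrix.mul_one,
      Matrix.smul_mul, Matrix.mul_smul, smul_add, smul_smul]
    abel

theorem isOrth_root {Γ : Matrix I8 I8 R} (h1 : IsAlt (Γᵀ * Nm R + Nm R * Γ)) (h2 : IsAlt (Γᵀ * Nm R * Γ))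
    (t : R) : IsOrth (1 + t • Γ) := by
  unfold IsOrth
  have := Kc_root Γ t
  unfold Kc at this
  rw [this]
  exact (h1.smul t).add (h2.smul (t * t))

end ring

/-! ### Base change -/

section map

variable {R S : Type*} [CommRing R] [CommRing S] (f : R →+* S)

/-- base change of `WW` -/
def mapW (w : WW R) : WW S := (f w.1, w.2.map f)

theorem Nm_map : (Nm R).map f = Nm S := by
  ext p q
  rcases p with a | a <;> rcases q with b | b <;> simp [Nm]

theorem pair_map (K A : Matrix I8 I8 R) : pair (K.map f) (A.map f) = f (pair K A) := by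
  unfold pair
  rw [map_sum]
  apply Finset.sum_congr rfl; intro p _
  rw [map_sum]
  apply Finset.sum_congr rfl; intro q _
  split_ifs
  · rw [Matrix.map_apply, Matrix.map_apply, map_mul]
  · rw [map_zero]

theorem lin1_map (Γ : Matrix I8 I8 R) (w : WW R) : lin1 (Γ.map f) (mapW f w) = mapW f (lin1 Γ w) := by
  unfold lin1 mapW
  apply Prod.ext
  · simp only
    rw [← pair_map, Matrix.map_add (hf := map_add f), Matrix.map_mul, Matrix.map_mul,
      Matrix.transpose_map, Nm_map]
  · simp only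
    rw [Matrix.map_add (hf := map_add f), Matrix.map_mul, Matrix.map_mul, Matrix.transpose_map]

theorem lin2_map (Γ : Matrix I8 I8 R) (w : WW R) : lin2 (Γ.map f) (mapW f w) = mapW f (lin2 Γ w) := by
  unfold lin2 mapW
  apply Prod.ext
  · simp only
    rw [← pair_map, Matrix.map_mul, Matrix.map_mul, Matrix.transpose_map, Nm_map]
  · simp only
    rw [Matrix.map_mul, Matrix.map_mul, Matrix.transpose_map]

theorem mapW_add (w w' : WW R) : mapW f (w + w') = mapW f w + mapW f w' := by
  unfold mapW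
  apply Prod.ext
  · simp
  · simp [Matrix.map_add (hf := map_add f)]

theorem mapW_zero : mapW f (0 : WW R) = 0 := by
  unfold mapW
  apply Prod.ext
  · simp
  · simp

theorem isAlt_map {A : Matrix I8 I8 R} (hA : IsAlt A) : IsAlt (A.map f) :=
  ⟨fun p => by rw [Matrix.map_apply, hA.1, map_zero],
   fun p q => by rw [Matrix.map_apply, Matrix.map_apply, hA.2, map_neg]⟩

end map

end Cfsg.Agent.Lib.Helper08.D4O
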