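import Cfsg.Agent.Lib.Helper37.G2InvDefs

/-! K-G2I leaf C1 (S2177, architect helper37): the six one-term conjugation formulas. -/

set_option autoImplicit false
set_option linter.unusedSectionVars false
set_option linter.unusedVariables false

namespace Cfsg.Agent.Lib.Helper08.G2Inv

open Cfsg.Agent.Lib.Helper37.G2Inv

theorem c1_conj_of_rel {G : Type*} [Group G] {A B C : G} (h : A * B = B * A * C)
    (hc : A * C = C * A) : A * B * A⁻¹ = B * C := by
  rw [h, mul_assoc B, hc, ← mul_assoc, mul_inv_cancel_right]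

theorem c1_conj_of_rel' {G : Type*} [Group G] {A B C : G} (h : B * A = A * B * C)
    (hc : A * C = C * A) (hC : C * C = 1) : A * B * A⁻¹ = B * C := by
  have h2 : A * B = B * A * C := by rw [h, mul_assoc, hC, mul_one]
  exact c1_conj_of_rel h2 hc

variable {F : Type*} [Field F] [CharP F 2] {G : Type*} [Group G] (D : UData F G)

theorem c79 (c a : F) : D.x 7 c * D.x 9 a * (D.x 7 c)⁻¹ = D.x 9 a * D.x 10 (c * a) :=
  c1_conj_of_rel' (D.r79 c a) (D.c710 c (c * a)) (D.x_sq 10 (c * a))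

theorem c89 (c a : F) : D.x 8 c * D.x 9 a * (D.x 8 c)⁻¹ = D.x 9 a * D.x 11 (c * a) :=
  c1_conj_of_rel' (D.r89 c a) (D.c811 c (c * a)) (D.x_sq 11 (c * a))

theorem c610 (c b : F) : D.x 6 c * D.x 10 b * (D.x 6 c)⁻¹ = D.x 10 b * D.x 11 (c * b) :=
  c1_conj_of_rel' (D.r610 c b) (D.c611 c (c * b)) (D.x_sq 11 (c * b))

theorem c97 (c t : F) : D.x 9 c * D.x 7 t * (D.x 9 c)⁻¹ = D.x 7 t * D.x 10 (c * t) := by
  rw [mul_comm c t]
  exact c1_conj_of_rel (D.r79 t c) (D.c910 c (t * c))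

theorem c98 (c s : F) : D.x 9 c * D.x 8 s * (D.x 9 c)⁻¹ = D.x 8 s * D.x 11 (c * s) := by
  rw [mul_comm c s]
  exact c1_conj_of_rel (D.r89 s c) (D.c911 c (s * c))

theorem c106 (c s : F) : D.x 10 c * D.x 6 s * (D.x 10 c)⁻¹ = D.x 6 s * D.x 11 (c * s) := by
  rw [mul_comm c s]
  exact c1_conj_of_rel (D.r610 s c) (D.c1011 c (s * c))

end Cfsg.Agent.Lib.Helper08.G2Inv
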