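/-
K-G42 (S2553), helper lemma for leaf 255311 (order8): a solvable transitive group of even
permutations of 7 points whose order is prime to 5 has order 7 or 21.
-/
import Mathlib

set_option autoImplicit false

namespace Cfsg.Agent.Lib.Helper08.G42

open Equiv MulAction
open scoped commutatorElement

/-- A nontrivial solvable group has a nontrivial commutative normal subgroup
(the last nontrivial term of the derived series). -/
theorem exists_normal_comm {T : Type*} [Group T] (hs : Group.IsSolvable T) [Nontrivial T] :
    ∃ A : Subgroup T, A.Normal ∧ A ≠ ⊥ ∧ ∀ a ∈ A, ∀ b ∈ A, a * b = b * a := by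
  classical
  have hex : ∃ n, derivedSeries T n = ⊥ := hs.solvable
  have hm0 : Nat.find hex ≠ 0 := by
    intro h0
    have h1 := Nat.find_spec hex
    rw [h0, derivedSeries_zero] at h1
    exact top_ne_bot h1
  obtain ⟨k, hk⟩ := Nat.exists_eq_succ_of_ne_zero hm0
  refine ⟨derivedSeries T k, inferInstance, ?_, ?_⟩
  · intro h
    exact Nat.find_min hex (by omega : k < Nat.find hex) h
  · intro a ha b hb
    have h1 : ⁅a, b⁆ ∈ derivedSeries T (k + 1) := by
      rw [derivedSeries_succ]
      exact Subgroup.commutator_mem_commutator ha hb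
    have h2 : derivedSeries T (k + 1) = ⊥ := by
      have := Nat.find_spec hex
      rwa [hk] at this
    rw [h2, Subgroup.mem_bot, commutatorElement_eq_one_iff_mul_comm] at h1
    exact h1


variable {α : Type*} [Fintype α] [DecidableEq α]

/-- An involution which is an even permutation of 7 points fixes two distinct points. -/
theorem exists_two_fixed_of_even_involution (hα : Fintype.card α = 7) (t : Perm α)
    (ht : orderOf t = 2) (hs : Perm.sign t = 1) : ∃ x y : α, x ≠ y ∧ t x = x ∧ t y = y := by
  obtain ⟨n, hn⟩ := Perm.cycleType_prime_order (σ := t) (by rw [ht]; exact Nat.prime_two)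
  rw [ht] at hn
  have hsum : t.cycleType.sum = 2 * (n + 1) := by
    rw [hn, Multiset.sum_replicate, smul_eq_mul, mul_comm]
  have hcard : Multiset.card t.cycleType = n + 1 := by rw [hn, Multiset.card_replicate]
  have hsign := Perm.sign_of_cycleType t
  rw [hs, hsum, hcard] at hsign
  have hsupp : t.support.card = 2 * (n + 1) := by rw [← Perm.sum_cycleType, hsum]
  have hle : t.support.card ≤ 7 := by rw [← hα]; exact t.support.card_le_univ
  have hn1 : n = 1 := by
    have h3 : n ≤ 2 := by omega
    interval_cases n
    · norm_num at hsign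
    · rfl
    · norm_num at hsign
  subst hn1
  have hc : 1 < (t.supportᶜ).card := by
    rw [Finset.card_compl, hα, hsupp]
    norm_num
  obtain ⟨x, hx, y, hy, hxy⟩ := Finset.one_lt_card.mp hc
  refine ⟨x, y, hxy, ?_, ?_⟩
  · simpa [Perm.mem_support] using hx
  · simpa [Perm.mem_support] using hy

/-- A solvable transitive group of even permutations of 7 points of order prime to 5 has order 7 or 21. -/
theorem card_of_solvable_transitive_seven (hα : Fintype.card α = 7) (T : Subgroup (Equiv.Perm α))
    [MulAction.IsPretransitive T α] (hs : Group.IsSolvable T) (hA : T ≤ alternatingGroup α)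
    (h5 : ¬ 5 ∣ Nat.card T) : Nat.card T = 7 ∨ Nat.card T = 21 := by
  classical
  have hprim : IsPreprimitive T α :=
    IsPreprimitive.of_prime_card (by rw [Nat.card_eq_fintype_card, hα]; norm_num)
  have hsm : ∀ (t : T) (x : α), t • x = (t : Perm α) x := fun _ _ => rfl
  -- two distinct points
  have hnt : Nontrivial α := by
    rw [← Fintype.one_lt_card_iff_nontrivial, hα]; norm_num
  obtain ⟨x0, y0, hxy0⟩ := exists_pair_ne α
  have hTnt : Nontrivial T := by
    obtain ⟨g, hg⟩ := MulAction.exists_smul_eq T x0 y0
    refine ⟨⟨g, 1, ?_⟩⟩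
    rintro rfl
    exact hxy0 (by simpa using hg)
  obtain ⟨A, hAn, hA1, hAc⟩ := exists_normal_comm hs
  -- A is transitive
  have hAtr : IsPretransitive A α := by
    apply IsQuasiPreprimitive.isPretransitive_of_normal (G := T) (N := A)
    intro hfix
    apply hA1
    rw [Subgroup.eq_bot_iff_forall]
    intro a ha
    apply Subtype.ext
    ext x
    have hx : x ∈ fixedPoints A α := by rw [hfix]; trivial
    exact hx ⟨a, ha⟩
  have hAtr' : ∀ x y : α, ∃ a ∈ A, ((a : T) : Perm α) x = y := by
    intro x y
    obtain ⟨a, ha⟩ := MulAction.exists_smul_eq A x y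
    exact ⟨a.1, a.2, ha⟩
  -- A is regular
  have hAreg : ∀ a ∈ A, ∀ x : α, ((a : T) : Perm α) x = x → a = 1 := by
    intro a ha x hx
    apply Subtype.ext
    ext y
    obtain ⟨b, hb, hby⟩ := hAtr' x y
    have hcomm := hAc a ha b hb
    have hcomm' : ((a : T) : Perm α) * ((b : T) : Perm α) = ((b : T) : Perm α) * ((a : T) : Perm α) := by
      have := congrArg (fun z : T => (z : Perm α)) hcomm
      simpa using this
    have h1 := congrArg (fun f : Perm α => f x) hcomm'
    simp only [Perm.mul_apply] at h1
    rw [hby, hx, hby] at h1
    simpa using h1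
  -- card A = 7
  have hAcard : Nat.card A = 7 := by
    rw [← hα, ← Nat.card_eq_fintype_card]
    apply Nat.card_eq_of_bijective (fun a : A => ((a : T) : Perm α) x0)
    constructor
    · intro a b hab
      have hab' : ((a : T) : Perm α) x0 = ((b : T) : Perm α) x0 := hab
      have h1 : (b⁻¹ * a : A) = 1 := by
        have := hAreg (b⁻¹ * a : A).1 (b⁻¹ * a : A).2 x0 (by
          simp only [Subgroup.coe_mul, Subgroup.coe_inv, Perm.mul_apply]
          rw [hab']; simp)
        exact Subtype.ext this
      have : a = b := by
        have := congrArg (fun z => b * z) h1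
        simpa using this
      exact this
    · intro y
      obtain ⟨a, ha, hay⟩ := hAtr' x0 y
      exact ⟨⟨a, ha⟩, hay⟩
  -- key: an element fixing two points is trivial
  have hK : ∀ t : T, ∀ x y : α, x ≠ y → (t : Perm α) x = x → (t : Perm α) y = y → t = 1 := by
    intro t x y hxy htx hty
    obtain ⟨a, ha, hay⟩ := hAtr' x y
    have ha1 : a ≠ 1 := by
      rintro rfl
      exact hxy (by simpa using hay)
    -- t commutes with a
    have hconj : t * a * t⁻¹ ∈ A := hAn.conj_mem a ha t
    have hta : t * a * t⁻¹ = a := by
      have h1 : ((a⁻¹ * (t * a * t⁻¹) : T) : Perm α) x = x := by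
        have htinv : ((t : Perm α))⁻¹ x = x := by
          rw [Perm.inv_eq_iff_eq]; exact htx.symm
        simp only [Subgroup.coe_mul, Subgroup.coe_inv, Perm.mul_apply]
        rw [htinv, hay, hty, ← hay]
        simp
      have h2 := hAreg _ (A.mul_mem (A.inv_mem ha) hconj) x h1
      have := congrArg (fun z => a * z) h2
      simpa [mul_assoc] using this
    -- a generates A
    have hgen : ∀ b ∈ A, t * b = b * t := by
      have hprime : Fact (Nat.card A).Prime := ⟨by rw [hAcard]; norm_num⟩
      have hz : Subgroup.zpowers (⟨a, ha⟩ : A) = ⊤ := by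
        apply zpowers_eq_top_of_prime_card (p := Nat.card A) rfl
        intro h
        exact ha1 (by simpa using congrArg Subtype.val h)
      intro b hb
      have hbz : (⟨b, hb⟩ : A) ∈ Subgroup.zpowers (⟨a, ha⟩ : A) := by rw [hz]; trivial
      obtain ⟨k, hk⟩ := hbz
      have hbk : b = a ^ k := by
        have := congrArg Subtype.val hk
        simpa using this.symm
      have hcomm : t * a = a * t := by
        have := congrArg (fun z => z * t) hta
        simpa [mul_assoc] using this
      rw [hbk]
      exact ((Commute.zpow_right (show Commute t a from hcomm) k)).eq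
    apply Subtype.ext
    ext z
    obtain ⟨b, hb, hbz⟩ := hAtr' x z
    have h1 := congrArg (fun w : T => (w : Perm α) x) (hgen b hb)
    simp only [Subgroup.coe_mul, Perm.mul_apply] at h1
    rw [hbz, htx, hbz] at h1
    simpa using h1
  -- card T = 7 * card stabilizer
  have hidx : (stabilizer T x0).index = 7 := by
    rw [MulAction.index_stabilizer_of_transitive T x0, Nat.card_eq_fintype_card, hα]
  have hcardT : Nat.card T = 7 * Nat.card (stabilizer T x0) := by
    rw [← hidx, Subgroup.index_mul_card]
  -- stabilizer has at most 6 elements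
  have hst : Nat.card (stabilizer T x0) ≤ 6 := by
    have hinj : Function.Injective (fun t : stabilizer T x0 =>
        (⟨((t : T) : Perm α) y0, by
          intro h
          have h0 : ((t : T) : Perm α) x0 = x0 := t.2
          exact hxy0 ((((t : T) : Perm α).injective (h.trans h0.symm)).symm)⟩ : {y : α // y ≠ x0})) := by
      intro t t' htt
      have h1 : ((t : T) : Perm α) y0 = ((t' : T) : Perm α) y0 := by
        simpa using congrArg Subtype.val htt
      have h0 : ((t : T) : Perm α) x0 = x0 := t.2
      have h0' : ((t' : T) : Perm α) x0 = x0 := t'.2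
      have h2 := hK ((t' : T)⁻¹ * (t : T)) x0 y0 hxy0
        (by simp only [Subgroup.coe_mul, Subgroup.coe_inv, Perm.mul_apply]
            rw [h0, Perm.inv_eq_iff_eq]; exact h0'.symm)
        (by simp only [Subgroup.coe_mul, Subgroup.coe_inv, Perm.mul_apply]
            rw [h1]; simp)
      have h3 : (t : T) = (t' : T) := by
        have := congrArg (fun z => (t' : T) * z) h2
        simpa using this
      exact Subtype.ext h3
    have h6 : Nat.card {y : α // y ≠ x0} = 6 := by
      rw [Nat.card_eq_fintype_card, Fintype.card_subtype_compl, hα]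
      simp
    rw [← h6]
    exact Nat.card_le_card_of_injective _ hinj
  -- card T is odd
  have hodd : ¬ 2 ∣ Nat.card T := by
    intro h2
    have : Fact (Nat.Prime 2) := ⟨Nat.prime_two⟩
    obtain ⟨t, ht⟩ := exists_prime_orderOf_dvd_card' 2 h2
    have ht' : orderOf (t : Perm α) = 2 := by rw [Subgroup.orderOf_coe]; exact ht
    have hsg : Perm.sign (t : Perm α) = 1 := by
      have := hA t.2
      rwa [Perm.mem_alternatingGroup] at this
    obtain ⟨x, y, hxy, hx, hy⟩ := exists_two_fixed_of_even_involution hα _ ht' hsg
    have := hK t x y hxy hx hy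
    rw [this, orderOf_one] at ht
    norm_num at ht
  have hpos : 0 < Nat.card (stabilizer T x0) := Nat.card_pos
  rw [hcardT] at h5 hodd ⊢
  generalize Nat.card (stabilizer T x0) = s at *
  interval_cases s
  · left; rfl
  · exfalso; exact hodd (by norm_num)
  · right; rfl
  · exfalso; exact hodd (by norm_num)
  · exfalso; exact h5 (by norm_num)
  · exfalso; exact hodd (by norm_num)

end Cfsg.Agent.Lib.Helper08.G42
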