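/-
K-G42 (S2553), leaf 255311 L8c `order8`: a transitive `G ≤ A_8` of order divisible by 7 but not by 5
has order 56, 168 or 1344, and in the last case a point stabilizer is simple.
-/
import Mathlib
import Cfsg.Agent.S0678
import Cfsg.Agent.Lib.Helper08.G42Solv7

set_option autoImplicit false

namespace Cfsg.Agent.Lib.Helper08.G42

open Equiv MulAction

/-- The same for a subgroup of `Perm α`, `card α = 7`, with `7 ∣ |T|`. -/
theorem card_of_seven {α : Type*} [Fintype α] [DecidableEq α] (hα : Fintype.card α = 7)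
    (T : Subgroup (Equiv.Perm α)) (hA : T ≤ alternatingGroup α) (h7 : 7 ∣ Nat.card T)
    (h5 : ¬ 5 ∣ Nat.card T) :
    Nat.card T = 7 ∨ Nat.card T = 21 ∨ (Nat.card T = 168 ∧ IsSimpleGroup T) := by
  classical
  -- an element of order 7 is a full cycle, so `T` is transitive
  have : Fact (Nat.Prime 7) := ⟨by norm_num⟩
  obtain ⟨σ, hσ⟩ := exists_prime_orderOf_dvd_card' 7 h7
  have hσ' : orderOf (σ : Perm α) = 7 := by rw [Subgroup.orderOf_coe]; exact hσ
  have hcyc : (σ : Perm α).IsCycle :=
    Perm.isCycle_of_prime_order'' (by rw [hα]; norm_num) (by rw [hσ', hα])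
  have hsupp : (σ : Perm α).support = Finset.univ := by
    apply Finset.eq_univ_of_card
    rw [← hcyc.orderOf, hσ', hα]
  have htr : MulAction.IsPretransitive T α := by
    refine ⟨fun x y => ?_⟩
    have hx : x ∈ (σ : Perm α).support := by rw [hsupp]; exact Finset.mem_univ _
    have hy : y ∈ (σ : Perm α).support := by rw [hsupp]; exact Finset.mem_univ _
    obtain ⟨i, hi⟩ := hcyc.sameCycle (Perm.mem_support.mp hx) (Perm.mem_support.mp hy)
    refine ⟨σ ^ i, ?_⟩
    show ((σ ^ i : T) : Perm α) x = y
    rw [Subgroup.coe_zpow]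
    exact hi
  by_cases hs : Group.IsSolvable T
  · rcases card_of_solvable_transitive_seven hα T hs hA h5 with h | h
    · exact Or.inl h
    · exact Or.inr (Or.inl h)
  · right; right
    have hnt : Nontrivial α := by
      rw [← Fintype.one_lt_card_iff_nontrivial, hα]; norm_num
    refine Cfsg.Agent.S0678.result hα T hs ?_
    intro hle
    apply h5
    have h1 : Nat.card (alternatingGroup α) ∣ Nat.card T := Subgroup.card_dvd_of_le hle
    have h2 : Nat.card (alternatingGroup α) = 2520 := by
      rw [nat_card_alternatingGroup, Nat.card_eq_fintype_card, hα]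
      rfl
    rw [h2] at h1
    exact Dvd.dvd.trans (by norm_num) h1

/-- 255311 L8c. -/
theorem order8 (G : Subgroup (Equiv.Perm (Fin 8))) (hGA : G ≤ alternatingGroup (Fin 8))
    (htr : MulAction.IsPretransitive ↥G (Fin 8)) (h7 : 7 ∣ Nat.card ↥G) (h5 : ¬ 5 ∣ Nat.card ↥G) :
    Nat.card ↥G = 56 ∨ Nat.card ↥G = 168 ∨
      (Nat.card ↥G = 1344 ∧ IsSimpleGroup ↥(MulAction.stabilizer ↥G (0 : Fin 8))) := by
  classical
  set S := MulAction.stabilizer ↥G (0 : Fin 8) with hS
  have hidx : S.index = 8 := by
    rw [hS, MulAction.index_stabilizer_of_transitive ↥G (0 : Fin 8)]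
    simp
  have hcardG : Nat.card ↥G = 8 * Nat.card S := by
    have := Subgroup.index_mul_card S
    rw [hidx] at this
    exact this.symm
  -- the restriction hom to the other 7 points
  have hfix : ∀ s : S, ((s : G) : Perm (Fin 8)) 0 = 0 := fun s => s.2
  have hpres : ∀ s : S, ∀ x : Fin 8, ((s : G) : Perm (Fin 8)) x ≠ 0 ↔ x ≠ 0 := by
    intro s x
    constructor
    · intro h hx
      apply h
      rw [hx]; exact hfix s
    · intro h hx
      apply h
      have := hfix s
      rw [← this] at hx
      exact ((s : G) : Perm (Fin 8)).injective hx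
  let φ : S →* Perm {x : Fin 8 // x ≠ 0} :=
    { toFun := fun s => Perm.subtypePerm ((s : G) : Perm (Fin 8)) (hpres s)
      map_one' := by ext x; simp
      map_mul' := by intro s t; ext x; rfl }
  have hφapp : ∀ (s : S) (x : {x : Fin 8 // x ≠ 0}), ((φ s) x : Fin 8) = ((s : G) : Perm (Fin 8)) x :=
    fun s x => rfl
  have hφinj : Function.Injective φ := by
    rw [injective_iff_map_eq_one]
    intro s hs1
    apply Subtype.ext
    apply Subtype.ext
    ext x
    by_cases hx : x = 0
    · rw [hx]
      have := hfix s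
      simp only [Subgroup.coe_one, Perm.coe_one, id_eq]
      rw [this]
    · have := hφapp s ⟨x, hx⟩
      rw [hs1] at this
      simp only [Subgroup.coe_one, Perm.coe_one, id_eq]
      rw [← this]
      simp
  set T := φ.range with hT
  have e : S ≃* T := MonoidHom.ofInjective hφinj
  have hcardT : Nat.card T = Nat.card S := (Nat.card_congr e.toEquiv).symm
  have hα : Fintype.card {x : Fin 8 // x ≠ 0} = 7 := by
    rw [Fintype.card_subtype_compl]
    simp
  have hTA : T ≤ alternatingGroup {x : Fin 8 // x ≠ 0} := by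
    rintro _ ⟨s, rfl⟩
    rw [Perm.mem_alternatingGroup]
    show Perm.sign (Perm.subtypePerm ((s : G) : Perm (Fin 8)) (hpres s)) = 1
    rw [Perm.sign_subtypePerm]
    · have := hGA (s : G).2
      rwa [Perm.mem_alternatingGroup] at this
    · intro x hx h0
      apply hx
      rw [h0]; exact hfix s
  have h7S : 7 ∣ Nat.card S := by
    rw [hcardG] at h7
    exact (Nat.Coprime.dvd_of_dvd_mul_left (by norm_num) h7)
  have h5S : ¬ 5 ∣ Nat.card S := by
    intro h
    apply h5
    rw [hcardG]
    exact Dvd.dvd.mul_left h 8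
  rcases card_of_seven hα T hTA (by rw [hcardT]; exact h7S) (by rw [hcardT]; exact h5S) with h | h | ⟨h, hsim⟩
  · left; rw [hcardG, ← hcardT, h]
  · right; left; rw [hcardG, ← hcardT, h]
  · right; right
    refine ⟨by rw [hcardG, ← hcardT, h], ?_⟩
    exact e.isSimpleGroup_congr.mpr hsim

end Cfsg.Agent.Lib.Helper08.G42
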