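import Mathlib
import Cfsg.Agent.Lib.Helper83.GSDefs

/-! Pack K-GS (S4840), leaf B1 `normal_pgroup_eq_bot`, helper8. -/

set_option autoImplicit false

namespace Cfsg.Agent.Lib.Helper08.GS

open Cfsg.Agent.Lib.Helper83.GS (Good)

universe u

variable {Γ V : Type u} [Group Γ] [Finite Γ] [CommGroup V] [Finite V]

/-- B1: a normal `p`-subgroup `M` of `Γ` is trivial. -/
theorem normal_pgroup_eq_bot (p : ℕ) [Fact p.Prime] [Nontrivial V] (hV : IsPGroup p V)
    (ρ : Γ →* MulAut V) (hinj : Function.Injective ρ)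
    (htrans : ∀ v w : V, v ≠ 1 → w ≠ 1 → ∃ g : Γ, ρ g v = w)
    (M : Subgroup Γ) [M.Normal] (hM : IsPGroup p M) : M = ⊥ := by
  classical
  letI : MulAction M V := MulAction.compHom V (ρ.comp M.subtype)
  have hsmul : ∀ (m : M) (v : V), m • v = ρ (m : Γ) v := fun m v => rfl
  have hp : p ∣ Nat.card V := by
    obtain ⟨k, hk⟩ := IsPGroup.iff_card.mp hV
    rw [hk]
    have hk0 : k ≠ 0 := by
      rintro rfl
      rw [pow_zero] at hk
      have h1 : 1 < Nat.card V := Finite.one_lt_card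
      omega
    exact dvd_pow_self p hk0
  have h1 : (1 : V) ∈ MulAction.fixedPoints M V := by
    intro m; rw [hsmul]; exact map_one _
  obtain ⟨v₀, hv₀, hne⟩ := hM.exists_fixed_point_of_prime_dvd_card_of_fixed_point V hp h1
  rw [Subgroup.eq_bot_iff_forall]
  intro m hm
  apply hinj
  rw [map_one]
  ext w
  rw [MulAut.one_apply]
  by_cases hw : w = 1
  · rw [hw]; exact map_one _
  · obtain ⟨g, hg⟩ := htrans v₀ w (Ne.symm hne) hw
    have hconj : g⁻¹ * m * g ∈ M := by
      have := (inferInstance : M.Normal).conj_mem m hm g⁻¹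
      simpa using this
    have hfix : ρ (g⁻¹ * m * g) v₀ = v₀ := by
      have := hv₀ ⟨g⁻¹ * m * g, hconj⟩
      rwa [hsmul] at this
    rw [← hg]
    have h2 : ρ m (ρ g v₀) = ρ g (ρ (g⁻¹ * m * g) v₀) := by
      rw [← MulAut.mul_apply, ← MulAut.mul_apply, ← map_mul, ← map_mul]
      congr 2
      group
    rw [h2, hfix]

end Cfsg.Agent.Lib.Helper08.GS
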