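import Mathlib

set_option autoImplicit false

/-! Small general group-theoretic lemmas. -/

namespace Cfsg.Agent.Lib.Helper08

section aux

variable {G H : Type*} [Group G] [Group H]

/-- homomorphisms map the commutator subgroup into the commutator subgroup -/
theorem map_mem_commutator (f : G →* H) {g : G} (hg : g ∈ commutator G) : f g ∈ commutator H := by
  have h : (commutator G).map f ≤ commutator H := by
    rw [commutator_def, commutator_def, Subgroup.map_commutator]
    exact Subgroup.commutator_mono le_top le_top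
  exact h (Subgroup.mem_map_of_mem f hg)

/-- the range of a homomorphism from a perfect group lies in the commutator subgroup -/
theorem range_le_commutator_of_perfect (f : G →* H) (hG : commutator G = ⊤) :
    f.range ≤ commutator H := by
  rintro _ ⟨g, rfl⟩
  exact map_mem_commutator f (by rw [hG]; trivial)

/-- `(G₁ × G₂)/Z ≃ G₁/Z₁ × G₂/Z₂` -/
theorem quotient_center_prod {G₁ G₂ : Type*} [Group G₁] [Group G₂] :
    Nonempty (((G₁ × G₂) ⧸ Subgroup.center (G₁ × G₂)) ≃*
      (G₁ ⧸ Subgroup.center G₁) × (G₂ ⧸ Subgroup.center G₂)) := by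
  let φ : G₁ × G₂ →* (G₁ ⧸ Subgroup.center G₁) × (G₂ ⧸ Subgroup.center G₂) :=
    MonoidHom.prodMap (QuotientGroup.mk' _) (QuotientGroup.mk' _)
  have hsurj : Function.Surjective φ :=
    Function.Surjective.prodMap (QuotientGroup.mk'_surjective _) (QuotientGroup.mk'_surjective _)
  have hker : φ.ker = Subgroup.center (G₁ × G₂) := by
    ext ⟨a, b⟩
    rw [MonoidHom.mem_ker, Subgroup.center_prod, Subgroup.mem_prod]
    show (QuotientGroup.mk' _ a, QuotientGroup.mk' _ b) = 1 ↔ _
    rw [Prod.ext_iff]
    simp only [Prod.fst_one, Prod.snd_one, QuotientGroup.mk'_apply, QuotientGroup.eq_one_iff]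
  exact ⟨(QuotientGroup.quotientMulEquivOfEq hker).symm.trans
    (QuotientGroup.quotientKerEquivOfSurjective φ hsurj)⟩

/-- the commutator subgroup of a product of perfect groups is everything -/
theorem commutator_prod_eq_top {G₁ G₂ : Type*} [Group G₁] [Group G₂] (h₁ : commutator G₁ = ⊤)
    (h₂ : commutator G₂ = ⊤) : commutator (G₁ × G₂) = ⊤ := by
  rw [eq_top_iff]
  rintro ⟨a, b⟩ -
  have ha : (MonoidHom.inl G₁ G₂) a ∈ commutator (G₁ × G₂) :=
    map_mem_commutator _ (by rw [h₁]; trivial)
  have hb : (MonoidHom.inr G₁ G₂) b ∈ commutator (G₁ × G₂) :=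
    map_mem_commutator _ (by rw [h₂]; trivial)
  have : ((a, b) : G₁ × G₂) = (MonoidHom.inl G₁ G₂) a * (MonoidHom.inr G₁ G₂) b := by
    simp
  rw [this]
  exact Subgroup.mul_mem _ ha hb

end aux

end Cfsg.Agent.Lib.Helper08
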