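import Mathlib

set_option autoImplicit false

/-! Normal subgroups of perfect central extensions of simple groups, and projective kernels. -/

namespace Cfsg.Agent.Lib.Helper08

open scoped commutatorElement

section aux2

variable {G H : Type*} [Group G] [Group H]

theorem commutator_mul_central_left (a y z : G) (hz : ∀ x : G, x * z = z * x) :
    ⁅a * z, y⁆ = ⁅a, y⁆ := by
  rw [commutatorElement_def, commutatorElement_def, mul_inv_rev]
  calc a * z * y * (z⁻¹ * a⁻¹) * y⁻¹ = a * (z * y) * z⁻¹ * a⁻¹ * y⁻¹ := by group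
    _ = a * (y * z) * z⁻¹ * a⁻¹ * y⁻¹ := by rw [hz y]
    _ = a * y * a⁻¹ * y⁻¹ := by group

theorem commutator_mul_central_right (x b z : G) (hz : ∀ y : G, y * z = z * y) :
    ⁅x, b * z⁆ = ⁅x, b⁆ := by
  rw [commutatorElement_def, commutatorElement_def, mul_inv_rev]
  calc x * (b * z) * x⁻¹ * (z⁻¹ * b⁻¹) = x * b * (z * x⁻¹) * z⁻¹ * b⁻¹ := by group
    _ = x * b * (x⁻¹ * z) * z⁻¹ * b⁻¹ := by rw [hz x⁻¹]
    _ = x * b * x⁻¹ * b⁻¹ := by group

/-- in a perfect group with simple central quotient, proper normal subgroups are central -/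
theorem normal_le_center_of_simple (hG : commutator G = ⊤)
    (hS : IsSimpleGroup (G ⧸ Subgroup.center G)) (N : Subgroup G) [N.Normal] (hN : N ≠ ⊤) :
    N ≤ Subgroup.center G := by
  have hnorm : (N.map (QuotientGroup.mk' (Subgroup.center G))).Normal :=
    Subgroup.Normal.map inferInstance _ (QuotientGroup.mk'_surjective _)
  rcases hS.eq_bot_or_eq_top_of_normal _ hnorm with h | h
  · intro n hn
    have : QuotientGroup.mk' (Subgroup.center G) n ∈
        N.map (QuotientGroup.mk' (Subgroup.center G)) := Subgroup.mem_map_of_mem _ hn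
    rw [h, Subgroup.mem_bot, QuotientGroup.mk'_apply, QuotientGroup.eq_one_iff] at this
    exact this
  · exfalso
    apply hN
    rw [eq_top_iff, ← hG, commutator_def, Subgroup.commutator_le]
    intro g _ k _
    have hdec : ∀ x : G, ∃ n ∈ N, ∃ z ∈ Subgroup.center G, x = n * z := by
      intro x
      have hx : QuotientGroup.mk' (Subgroup.center G) x ∈
          N.map (QuotientGroup.mk' (Subgroup.center G)) := by rw [h]; trivial
      obtain ⟨n, hn, hnx⟩ := hx
      refine ⟨n, hn, n⁻¹ * x, ?_, by group⟩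
      rw [QuotientGroup.mk'_apply, QuotientGroup.mk'_apply, QuotientGroup.eq] at hnx
      exact hnx
    obtain ⟨n, hn, z, hz, rfl⟩ := hdec g
    obtain ⟨n', hn', z', hz', rfl⟩ := hdec k
    rw [commutator_mul_central_left _ _ _ (Subgroup.mem_center_iff.mp hz),
      commutator_mul_central_right _ _ _ (Subgroup.mem_center_iff.mp hz'), commutatorElement_def]
    exact N.mul_mem (N.mul_mem (N.mul_mem hn hn') (N.inv_mem hn)) (N.inv_mem hn')

/-- the kernel of a nontrivial homomorphism from such a group is central -/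
theorem ker_le_center_of_simple (hG : commutator G = ⊤)
    (hS : IsSimpleGroup (G ⧸ Subgroup.center G)) (ρ : G →* H) (hne : ∃ g, ρ g ≠ 1) :
    ρ.ker ≤ Subgroup.center G := by
  apply normal_le_center_of_simple hG hS
  intro h
  obtain ⟨g, hg⟩ := hne
  apply hg
  have : g ∈ ρ.ker := by rw [h]; trivial
  exact this

/-- for a perfect group and a homomorphism with central kernel, the projective kernel is the
centre -/
theorem hcen_of_perfect (hG : commutator G = ⊤) (ρ : G →* H) (hker : ρ.ker ≤ Subgroup.center G)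
    (g : G) (hg : ∀ h : G, ρ g * ρ h = ρ h * ρ g) : g ∈ Subgroup.center G := by
  have hc : ∀ h : G, h⁻¹ * (g * h * g⁻¹) ∈ Subgroup.center G := by
    intro h
    apply hker
    rw [MonoidHom.mem_ker, map_mul, map_mul, map_mul, map_inv, map_inv, hg h]
    group
  have hcent : Subgroup.centralizer {g} = ⊤ := by
    rw [eq_top_iff, ← hG, commutator_eq_closure, Subgroup.closure_le]
    rintro x ⟨h, k, rfl⟩
    rw [SetLike.mem_coe, Subgroup.mem_centralizer_singleton_iff]
    have h1 : g * h * g⁻¹ = h * (h⁻¹ * (g * h * g⁻¹)) := by group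
    have h2 : g * k * g⁻¹ = k * (k⁻¹ * (g * k * g⁻¹)) := by group
    have h3 : g * ⁅h, k⁆ * g⁻¹ = ⁅g * h * g⁻¹, g * k * g⁻¹⁆ := by
      rw [commutatorElement_def, commutatorElement_def]; group
    have h4 : g * ⁅h, k⁆ * g⁻¹ = ⁅h, k⁆ := by
      rw [h3, h1, h2, commutator_mul_central_left _ _ _ (Subgroup.mem_center_iff.mp (hc h)),
        commutator_mul_central_right _ _ _ (Subgroup.mem_center_iff.mp (hc k))]
    calc ⁅h, k⁆ * g = (g * ⁅h, k⁆ * g⁻¹) * g := by rw [h4]
      _ = g * ⁅h, k⁆ := by group
  rw [Subgroup.mem_center_iff]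
  intro h
  have : h ∈ Subgroup.centralizer {g} := by rw [hcent]; trivial
  rw [Subgroup.mem_centralizer_singleton_iff] at this
  exact this

end aux2

end Cfsg.Agent.Lib.Helper08
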