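import Cfsg.Agent.Lib.Helper08.GOMinus

set_option autoImplicit false

/-! The representation `SL₂(K) → O⁻₄(F)` on Hermitian `2 × 2` matrices (`K / F` quadratic),
`X ↦ A X A^*`, with minus the determinant as quadratic form. -/

namespace Cfsg.Agent.Lib.Helper08

open Matrix

/-- the data of a quadratic extension `K / F` generated by a root `θ` of `X² - a X + b` -/
structure QuadExt (F K : Type*) [Field F] [Field K] (a b : F) where
  ι : F →+* K
  σ : K →+* K
  θ : K
  σι : ∀ x, σ (ι x) = ι x
  σσ : ∀ x, σ (σ x) = x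
  fix : ∀ x, σ x = x → ∃ y, ι y = x
  tr : θ + σ θ = ι a
  nm : θ * σ θ = ι b
  ne : θ ≠ σ θ
  span : ∀ z, ∃ z₁ z₂, z = ι z₁ + θ * ι z₂

section herm

variable {F K : Type*} [Field F] [Field K] {a b : F} (E : QuadExt F K a b)

/-- index type of the 4-dimensional form -/
abbrev I4m : Type := (Fin 1 ⊕ Fin 1) ⊕ Fin 2

/-- conjugate transpose -/
def cjT (M : Matrix (Fin 2) (Fin 2) K) : Matrix (Fin 2) (Fin 2) K := (M.map E.σ)ᵀ

theorem cjT_apply (M : Matrix (Fin 2) (Fin 2) K) (i j : Fin 2) : cjT E M i j = E.σ (M j i) := rfl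

theorem cjT_mul (M N : Matrix (Fin 2) (Fin 2) K) : cjT E (M * N) = cjT E N * cjT E M := by
  unfold cjT
  rw [Matrix.map_mul, Matrix.transpose_mul]

theorem cjT_cjT (M : Matrix (Fin 2) (Fin 2) K) : cjT E (cjT E M) = M := by
  ext i j
  simp [cjT_apply, E.σσ]

theorem cjT_one : cjT E 1 = 1 := by
  unfold cjT
  rw [Matrix.map_one _ (map_zero _) (map_one _), Matrix.transpose_one]

theorem det_cjT (M : Matrix (Fin 2) (Fin 2) K) : (cjT E M).det = E.σ M.det := by
  unfold cjT
  rw [Matrix.det_transpose]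
  exact (RingHom.map_det E.σ M).symm

/-- the Hermitian matrix of a vector -/
def hermOf (v : I4m → F) : Matrix (Fin 2) (Fin 2) K :=
  !![E.ι (v (.inl (.inl 0))), E.ι (v (.inr 0)) + E.θ * E.ι (v (.inr 1));
     E.ι (v (.inr 0)) + E.σ E.θ * E.ι (v (.inr 1)), -E.ι (v (.inl (.inr 0)))]

theorem hermOf_add (u v : I4m → F) : hermOf E (u + v) = hermOf E u + hermOf E v := by
  ext i j
  fin_cases i <;> fin_cases j <;> simp [hermOf] <;> ring

theorem hermOf_smul (c : F) (v : I4m → F) : hermOf E (c • v) = E.ι c • hermOf E v := by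
  ext i j
  fin_cases i <;> fin_cases j <;> simp [hermOf] <;> ring

theorem cjT_hermOf (v : I4m → F) : cjT E (hermOf E v) = hermOf E v := by
  ext i j
  fin_cases i <;> fin_cases j <;> simp [hermOf, cjT_apply, E.σι, E.σσ]

theorem hermOf_injective : Function.Injective (hermOf E) := by
  intro u v h
  have h00 := congrFun (congrFun h 0) 0
  have h01 := congrFun (congrFun h 0) 1
  have h10 := congrFun (congrFun h 1) 0
  have h11 := congrFun (congrFun h 1) 1
  simp [hermOf] at h00 h01 h10 h11
  have hne : E.θ - E.σ E.θ ≠ 0 := sub_ne_zero.mpr E.ne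
  have e1 : E.ι (u (.inr 1)) = E.ι (v (.inr 1)) := by
    have : (E.θ - E.σ E.θ) * (E.ι (u (.inr 1)) - E.ι (v (.inr 1))) = 0 := by
      linear_combination h01 - h10
    rcases mul_eq_zero.mp this with h | h
    · exact absurd h hne
    · exact sub_eq_zero.mp h
  have e0 : E.ι (u (.inr 0)) = E.ι (v (.inr 0)) := by
    rw [e1] at h01
    exact add_right_cancel h01
  funext c
  rcases c with (i | i) | i
  · fin_cases i; exact E.ι.injective h00
  · fin_cases i; exact E.ι.injective h11
  · fin_cases i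
    · exact E.ι.injective e0
    · exact E.ι.injective e1

theorem exists_hermOf (M : Matrix (Fin 2) (Fin 2) K) (hM : cjT E M = M) :
    ∃ v, hermOf E v = M := by
  have h00 := congrFun (congrFun hM 0) 0
  have h10 := congrFun (congrFun hM 1) 0
  have h11 := congrFun (congrFun hM 1) 1
  simp only [cjT_apply] at h00 h10 h11
  obtain ⟨x, hx⟩ := E.fix _ h00
  obtain ⟨y, hy⟩ := E.fix _ h11
  obtain ⟨z₁, z₂, hz⟩ := E.span (M 0 1)
  refine ⟨Sum.elim (Sum.elim (fun _ => x) (fun _ => -y)) ![z₁, z₂], ?_⟩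
  ext i j
  fin_cases i <;> fin_cases j
  · simp [hermOf, hx]
  · simp [hermOf, hz]
  · simp only [hermOf]
    simp
    rw [← h10, hz]
    simp [E.σι]
  · simp [hermOf, hy]

theorem det_hermOf (v : I4m → F) :
    (hermOf E v).det = -E.ι (Cfsg.quadFormMinus 1 F a b v) := by
  rw [Matrix.det_fin_two]
  simp only [hermOf, Cfsg.quadFormMinus, Fin.sum_univ_one]
  simp
  have h1 := E.tr
  have h2 := E.nm
  linear_combination (-(E.ι (v (.inr 0)) * E.ι (v (.inr 1)))) * h1 - (E.ι (v (.inr 1))) ^ 2 * h2

theorem cjT_conj (A : Matrix (Fin 2) (Fin 2) K) (v : I4m → F) :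
    cjT E (A * hermOf E v * cjT E A) = A * hermOf E v * cjT E A := by
  rw [cjT_mul, cjT_mul, cjT_cjT, cjT_hermOf, Matrix.mul_assoc]

/-- the action on vectors -/
noncomputable def hermAct (A : Matrix (Fin 2) (Fin 2) K) (v : I4m → F) : I4m → F :=
  Classical.choose (exists_hermOf E _ (cjT_conj E A v))

theorem hermOf_hermAct (A : Matrix (Fin 2) (Fin 2) K) (v : I4m → F) :
    hermOf E (hermAct E A v) = A * hermOf E v * cjT E A :=
  Classical.choose_spec (exists_hermOf E _ (cjT_conj E A v))

/-- the action as a linear map -/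
noncomputable def hermLin (A : Matrix (Fin 2) (Fin 2) K) : (I4m → F) →ₗ[F] (I4m → F) where
  toFun := hermAct E A
  map_add' u v := by
    apply hermOf_injective E
    rw [hermOf_add, hermOf_hermAct, hermOf_hermAct, hermOf_hermAct, hermOf_add, Matrix.mul_add,
      Matrix.add_mul]
  map_smul' c v := by
    apply hermOf_injective E
    rw [RingHom.id_apply, hermOf_smul, hermOf_hermAct, hermOf_hermAct, hermOf_smul,
      Matrix.mul_smul, Matrix.smul_mul]

theorem hermOf_hermLin (A : Matrix (Fin 2) (Fin 2) K) (v : I4m → F) :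
    hermOf E (hermLin E A v) = A * hermOf E v * cjT E A := hermOf_hermAct E A v

theorem hermLin_mul (A B : Matrix (Fin 2) (Fin 2) K) :
    hermLin E (A * B) = hermLin E A ∘ₗ hermLin E B := by
  apply LinearMap.ext
  intro v
  apply hermOf_injective E
  rw [LinearMap.comp_apply, hermOf_hermLin, hermOf_hermLin, hermOf_hermLin, cjT_mul]
  simp only [Matrix.mul_assoc]

theorem hermLin_one : hermLin E (1 : Matrix (Fin 2) (Fin 2) K) = LinearMap.id := by
  apply LinearMap.ext
  intro v
  apply hermOf_injective E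
  rw [hermOf_hermLin, cjT_one, Matrix.one_mul, Matrix.mul_one]
  rfl

theorem hermLin_isometry (A : Matrix (Fin 2) (Fin 2) K) (hA : A.det = 1) (v : I4m → F) :
    Cfsg.quadFormMinus 1 F a b (hermLin E A v) = Cfsg.quadFormMinus 1 F a b v := by
  apply E.ι.injective
  apply neg_injective
  rw [← det_hermOf, ← det_hermOf, hermOf_hermLin, Matrix.det_mul, Matrix.det_mul, det_cjT, hA,
    map_one, one_mul, mul_one]

/-- the representation as a monoid hom to matrices -/
noncomputable def hermHom : Matrix.SpecialLinearGroup (Fin 2) K →* Matrix I4m I4m F where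
  toFun g := LinearMap.toMatrix' (hermLin E g.1)
  map_one' := by
    show LinearMap.toMatrix' (hermLin E (1 : Matrix (Fin 2) (Fin 2) K)) = 1
    rw [hermLin_one, LinearMap.toMatrix'_id]
  map_mul' g h := by
    show LinearMap.toMatrix' (hermLin E (g.1 * h.1)) = _
    rw [hermLin_mul, LinearMap.toMatrix'_comp]

/-- the representation into `GL₄` -/
noncomputable def hermGL : Matrix.SpecialLinearGroup (Fin 2) K →* Matrix.GeneralLinearGroup I4m F :=
  (hermHom E).toHomUnits

theorem hermGL_val (g : Matrix.SpecialLinearGroup (Fin 2) K) :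
    ((hermGL E g : Matrix.GeneralLinearGroup I4m F) : Matrix I4m I4m F) =
      LinearMap.toMatrix' (hermLin E g.1) := rfl

theorem hermGL_mem (g : Matrix.SpecialLinearGroup (Fin 2) K) :
    hermGL E g ∈ Cfsg.isometryGroup F (Cfsg.quadFormMinus 1 F a b) := by
  rw [mem_isometryGroup_iff']
  intro v
  rw [hermGL_val, LinearMap.toMatrix'_mulVec, hermLin_isometry E _ g.2]

/-- the representation into `O⁻₄` -/
noncomputable def hermO : Matrix.SpecialLinearGroup (Fin 2) K →*
    ↥(Cfsg.isometryGroup F (Cfsg.quadFormMinus 1 F a b)) :=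
  (hermGL E).codRestrict _ (hermGL_mem E)

theorem hermO_val (g : Matrix.SpecialLinearGroup (Fin 2) K) :
    (((hermO E g : ↥(Cfsg.isometryGroup F (Cfsg.quadFormMinus 1 F a b))) :
      Matrix.GeneralLinearGroup I4m F) : Matrix I4m I4m F) =
        LinearMap.toMatrix' (hermLin E g.1) := rfl

theorem hermO_ne_one : ∃ g : Matrix.SpecialLinearGroup (Fin 2) K, hermO E g ≠ 1 := by
  have h01 : (0 : Fin 2) ≠ 1 := by decide
  refine ⟨Matrix.SpecialLinearGroup.transvection h01 (1 : K), ?_⟩
  intro h
  have := congrArg (fun y : ↥(Cfsg.isometryGroup F (Cfsg.quadFormMinus 1 F a b)) =>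
    ((y : Matrix.GeneralLinearGroup I4m F) : Matrix I4m I4m F)) h
  simp only [hermO_val] at this
  have h2 : hermLin E (Matrix.SpecialLinearGroup.transvection h01 (1 : K)).1 = LinearMap.id := by
    apply LinearMap.toMatrix'.injective
    rw [this, LinearMap.toMatrix'_id]
    rfl
  have h3 := congrArg (fun f => hermOf E (f (Pi.single (.inl (.inr 0)) 1))) h2
  simp only [hermOf_hermLin, LinearMap.id_apply] at h3
  have h4 := congrFun (congrFun h3 0) 0
  simp [hermOf, cjT_apply, Matrix.SpecialLinearGroup.transvection_coe, Matrix.mul_apply,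
    Matrix.add_apply, Matrix.one_apply, Matrix.single_apply] at h4

end herm

end Cfsg.Agent.Lib.Helper08
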