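import Cfsg.Agent.Lib.Helper08.Omega6

set_option autoImplicit false

/-! The exterior square of a unitary `4 × 4` matrix of determinant one commutes with the
semilinear "star" on the six-dimensional space: descent of `SU₄(q) → O⁺₆(q²)` to `O⁻₆(q)`. -/

namespace Cfsg.Agent.Lib.Helper08

open Matrix

section mat

variable {K : Type*} [Field K]

theorem minor2_transpose (A : Matrix (Fin 4) (Fin 4) K) (i j k l : Fin 4) :
    minor2 Aᵀ i j k l = minor2 A k l i j := by
  simp only [minor2, Matrix.transpose_apply]
  ring

theorem lamMat_transpose (A : Matrix (Fin 4) (Fin 4) K) : lamMat Aᵀ = (lamMat A)ᵀ := by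
  ext c c'
  simp only [lamMat, Matrix.of_apply, Matrix.transpose_apply, minor2_transpose]
  ring

theorem lamMat_map {K' : Type*} [Field K'] (φ : K →+* K') (A : Matrix (Fin 4) (Fin 4) K) :
    lamMat (A.map φ) = (lamMat A).map φ := by
  ext c c'
  have hsg : ∀ c : I6, φ (sg K c) = sg K' c := by
    intro c
    rcases c with i | i
    · simp [sg]
    · simp only [sg]
      split_ifs <;> simp
  simp only [lamMat, Matrix.of_apply, Matrix.map_apply, minor2, map_mul, map_sub, hsg]

/-- the Gram matrix of the polar form of `quadFormPlus 3` -/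
def swapG (K : Type*) [Field K] : Matrix I6 I6 K := Matrix.fromBlocks 0 1 1 0

theorem swapG_mulVec (w : I6 → K) : swapG K *ᵥ w = fun c => w (Sum.swap c) := by
  funext c
  rcases c with i | i <;>
    simp [swapG, Matrix.fromBlocks_mulVec, Matrix.one_mulVec, Matrix.zero_mulVec]

set_option maxHeartbeats 8000000 in
theorem lamMat_gram (A : Matrix (Fin 4) (Fin 4) K) :
    (lamMat A)ᵀ * swapG K * lamMat A = A.det • swapG K := by
  rw [det4]
  ext c c'
  rcases c with i | i <;> rcases c' with j | j <;> fin_cases i <;> fin_cases j <;>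
    simp [swapG, Matrix.mul_apply, lamMat, Fintype.sum_sum_type, Fin.sum_univ_three, p1, p2, sg,
      minor2, Matrix.fromBlocks, Matrix.one_apply] <;> ring

/-- for a unitary matrix of determinant one, the exterior square commutes with the star -/
theorem lamMat_mul_swapG (φ : K →+* K) (A : Matrix (Fin 4) (Fin 4) K) (hdet : A.det = 1)
    (hU : Aᵀ * A.map φ = 1) : lamMat A * swapG K = swapG K * (lamMat A).map φ := by
  have h1 : lamMat A * swapG K * (lamMat A)ᵀ = swapG K := by
    have := lamMat_gram Aᵀ
    rw [lamMat_transpose, Matrix.transpose_transpose, Matrix.det_transpose, hdet, one_smul] at this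
    exact this
  have h2 : (lamMat A)ᵀ * (lamMat A).map φ = 1 := by
    rw [← lamMat_transpose, ← lamMat_map, ← lamMat_mul, hU, lamMat_one]
  calc lamMat A * swapG K = lamMat A * swapG K * ((lamMat A)ᵀ * (lamMat A).map φ) := by
        rw [h2, Matrix.mul_one]
    _ = (lamMat A * swapG K * (lamMat A)ᵀ) * (lamMat A).map φ := by
        simp only [Matrix.mul_assoc]
    _ = swapG K * (lamMat A).map φ := by rw [h1]

end mat

end Cfsg.Agent.Lib.Helper08
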