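/-
K-3806-I (keystone 380609): an elementary abelian section `H/N` of a group of sectional
`p`-rank at most `k` has order at most `p ^ k`.
-/
import Mathlib
import Cfsg.Prelude.Def_CaseTheorems

set_option autoImplicit false

namespace Cfsg.Agent.Lib.Helper08.MC3806

open Subgroup

/-- LEAF I (an elementary abelian section `H/N` has order at most `p^k`). -/
theorem card_le_of_sectional {S : Type*} [Group S] [Finite S] (p k : ℕ)
    (hsr : Cfsg.SectionalPRankLE p k S) (H N : Subgroup S) [N.Normal] (hNH : N ≤ H)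
    (hcomm : ∀ a ∈ H, ∀ b ∈ H, a * b * a⁻¹ * b⁻¹ ∈ N) (hexp : ∀ a ∈ H, a ^ p ∈ N) :
    Nat.card H ≤ p ^ k * Nat.card N := by
  have hcommQ : ∀ a b : H ⧸ N.subgroupOf H, a * b = b * a := by
    intro a b
    induction a using QuotientGroup.induction_on with
    | H a =>
    induction b using QuotientGroup.induction_on with
    | H b =>
    rw [← QuotientGroup.mk_mul, ← QuotientGroup.mk_mul]
    rw [QuotientGroup.eq]
    rw [Subgroup.mem_subgroupOf]
    have h := hcomm _ (H.inv_mem b.2) _ (H.inv_mem a.2)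
    have : (((a * b)⁻¹ * (b * a) : H) : S) = (b : S)⁻¹ * (a : S)⁻¹ * ((b : S)⁻¹)⁻¹ * ((a : S)⁻¹)⁻¹ := by
      push_cast
      group
    rw [this]
    exact h
  have hexpQ : ∀ a : H ⧸ N.subgroupOf H, a ^ p = 1 := by
    intro a
    induction a using QuotientGroup.induction_on with
    | H a =>
    rw [← QuotientGroup.mk_pow, QuotientGroup.eq_one_iff, Subgroup.mem_subgroupOf]
    push_cast
    exact hexp _ a.2
  have h1 : Nat.card (⊤ : Subgroup (H ⧸ N.subgroupOf H)) ≤ p ^ k := by
    refine hsr H (N.subgroupOf H) ⊤ ⟨⟨fun a b => ?_⟩⟩ (fun a _ => hexpQ a)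
    exact Subtype.ext (hcommQ a b)
  rw [Subgroup.card_top] at h1
  have h2 : Nat.card H = Nat.card (H ⧸ N.subgroupOf H) * Nat.card (N.subgroupOf H) :=
    Subgroup.card_eq_card_quotient_mul_card_subgroup _
  have h3 : Nat.card (N.subgroupOf H) = Nat.card N :=
    Nat.card_congr (Subgroup.subgroupOfEquivOfLe hNH).toEquiv
  rw [h2, h3]
  exact Nat.mul_le_mul_right _ h1

end Cfsg.Agent.Lib.Helper08.MC3806
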