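import Cfsg.Agent.Lib.Helper08.Omega5
import Cfsg.Agent.Lib.Helper08.B2Gen

/-!
# Explicit elements of `O_5(F)` (form `x₀² + x₁y₁ + x₂y₂`) and their action on coordinates

The images of the eight root subgroups of `Sp_4(F)` under `spO` (exterior square), and the diagonal
elements `δ₁(c)`, `δ₂(c)`, `diag(-1,1,1,1,1)`. Everything is valid over an arbitrary field.
-/

set_option autoImplicit false
set_option linter.unusedSimpArgs false
set_option linter.unnecessarySeqFocus false
set_option linter.unusedTactic false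
set_option linter.unreachableTactic false

namespace Cfsg.Agent.Lib.Helper08.O5

open Cfsg Matrix Cfsg.Agent.Lib.Helper08 Cfsg.Agent.Lib.Helper08.B2Sp

/-- the orthogonal group of `x₀² + x₁y₁ + x₂y₂` -/
abbrev O5 (F : Type*) [Field F] : Type _ := ↥(Cfsg.isometryGroup F (Cfsg.quadFormOdd 2 F))

variable {F : Type*} [Field F]

local notation "Sp4" => Matrix.symplecticGroup (Fin 2) F

/-- a vector of `F^5` from its coordinates `(z; x₁, x₂; y₁, y₂)` -/
def vec5 (z x1 x2 y1 y2 : F) : I5 → F := Sum.elim (fun _ => z) (Sum.elim ![x1, x2] ![y1, y2])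

theorem vec5_eta (v : I5 → F) : v = vec5 (v (.inl ())) (v (.inr (.inl 0))) (v (.inr (.inl 1)))
    (v (.inr (.inr 0))) (v (.inr (.inr 1))) := by
  funext c
  rcases c with _ | (i | i)
  · rfl
  · fin_cases i <;> rfl
  · fin_cases i <;> rfl

theorem vec5_congr {a b c d e a' b' c' d' e' : F} (h1 : a = a') (h2 : b = b') (h3 : c = c')
    (h4 : d = d') (h5 : e = e') : vec5 a b c d e = vec5 a' b' c' d' e' := by
  rw [h1, h2, h3, h4, h5]

theorem vec5_inj {a b c d e a' b' c' d' e' : F} (h : vec5 a b c d e = vec5 a' b' c' d' e') :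
    a = a' ∧ b = b' ∧ c = c' ∧ d = d' ∧ e = e' :=
  ⟨congrFun h (.inl ()), congrFun h (.inr (.inl 0)), congrFun h (.inr (.inl 1)),
    congrFun h (.inr (.inr 0)), congrFun h (.inr (.inr 1))⟩

theorem quad_vec5 (z x1 x2 y1 y2 : F) :
    Cfsg.quadFormOdd 2 F (vec5 z x1 x2 y1 y2) = z ^ 2 + x1 * y1 + x2 * y2 := by
  simp [Cfsg.quadFormOdd, vec5, Fin.sum_univ_two]
  ring

theorem vec5_zero : vec5 (0 : F) 0 0 0 0 = 0 := by
  funext c
  rcases c with _ | (i | i)
  · rfl
  · fin_cases i <;> rfl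
  · fin_cases i <;> rfl

theorem act0 (t z x1 x2 y1 y2 : F) : spLin (xSp 0 t).1 (vec5 z x1 x2 y1 y2) =
    vec5 (z) (x1) (x2) (y1 + t * x2) (y2 - t * x1) := by
  rw [spLin_apply]
  funext c
  rcases c with _ | (i | i)
  · simp [proj5, emb5, lamMat, p1, p2, sg, minor2, xSp_val, bN, vec5, Matrix.mulVec, dotProduct,
      Fintype.sum_sum_type, Fin.sum_univ_three, e4, Matrix.one_apply, Matrix.add_apply]
    try ring
  · fin_cases i <;>
    simp [proj5, emb5, lamMat, p1, p2, sg, minor2, xSp_val, bN, vec5, Matrix.mulVec, dotProduct,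
      Fintype.sum_sum_type, Fin.sum_univ_three, e4, Matrix.one_apply, Matrix.add_apply] <;>
    try ring
  · fin_cases i <;>
    simp [proj5, emb5, lamMat, p1, p2, sg, minor2, xSp_val, bN, vec5, Matrix.mulVec, dotProduct,
      Fintype.sum_sum_type, Fin.sum_univ_three, e4, Matrix.one_apply, Matrix.add_apply] <;>
    try ring

theorem act1 (t z x1 x2 y1 y2 : F) : spLin (xSp 1 t).1 (vec5 z x1 x2 y1 y2) =
    vec5 (z + t * x1) (x1) (x2) (y1 - 2 * t * z - t ^ 2 * x1) (y2) := by
  rw [spLin_apply]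
  funext c
  rcases c with _ | (i | i)
  · simp [proj5, emb5, lamMat, p1, p2, sg, minor2, xSp_val, bN, vec5, Matrix.mulVec, dotProduct,
      Fintype.sum_sum_type, Fin.sum_univ_three, e4, Matrix.one_apply, Matrix.add_apply]
    try ring
  · fin_cases i <;>
    simp [proj5, emb5, lamMat, p1, p2, sg, minor2, xSp_val, bN, vec5, Matrix.mulVec, dotProduct,
      Fintype.sum_sum_type, Fin.sum_univ_three, e4, Matrix.one_apply, Matrix.add_apply] <;>
    try ring
  · fin_cases i <;>
    simp [proj5, emb5, lamMat, p1, p2, sg, minor2, xSp_val, bN, vec5, Matrix.mulVec, dotProduct,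
      Fintype.sum_sum_type, Fin.sum_univ_three, e4, Matrix.one_apply, Matrix.add_apply] <;>
    try ring

theorem act2 (t z x1 x2 y1 y2 : F) : spLin (xSp 2 t).1 (vec5 z x1 x2 y1 y2) =
    vec5 (z - t * x2) (x1) (x2) (y1) (y2 + 2 * t * z - t ^ 2 * x2) := by
  rw [spLin_apply]
  funext c
  rcases c with _ | (i | i)
  · simp [proj5, emb5, lamMat, p1, p2, sg, minor2, xSp_val, bN, vec5, Matrix.mulVec, dotProduct,
      Fintype.sum_sum_type, Fin.sum_univ_three, e4, Matrix.one_apply, Matrix.add_apply]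
    try ring
  · fin_cases i <;>
    simp [proj5, emb5, lamMat, p1, p2, sg, minor2, xSp_val, bN, vec5, Matrix.mulVec, dotProduct,
      Fintype.sum_sum_type, Fin.sum_univ_three, e4, Matrix.one_apply, Matrix.add_apply] <;>
    try ring
  · fin_cases i <;>
    simp [proj5, emb5, lamMat, p1, p2, sg, minor2, xSp_val, bN, vec5, Matrix.mulVec, dotProduct,
      Fintype.sum_sum_type, Fin.sum_univ_three, e4, Matrix.one_apply, Matrix.add_apply] <;>
    try ring

theorem act3 (t z x1 x2 y1 y2 : F) : spLin (xSp 3 t).1 (vec5 z x1 x2 y1 y2) =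
    vec5 (z) (x1) (x2 - t * x1) (y1 + t * y2) (y2) := by
  rw [spLin_apply]
  funext c
  rcases c with _ | (i | i)
  · simp [proj5, emb5, lamMat, p1, p2, sg, minor2, xSp_val, bN, vec5, Matrix.mulVec, dotProduct,
      Fintype.sum_sum_type, Fin.sum_univ_three, e4, Matrix.one_apply, Matrix.add_apply]
    try ring
  · fin_cases i <;>
    simp [proj5, emb5, lamMat, p1, p2, sg, minor2, xSp_val, bN, vec5, Matrix.mulVec, dotProduct,
      Fintype.sum_sum_type, Fin.sum_univ_three, e4, Matrix.one_apply, Matrix.add_apply] <;>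
    try ring
  · fin_cases i <;>
    simp [proj5, emb5, lamMat, p1, p2, sg, minor2, xSp_val, bN, vec5, Matrix.mulVec, dotProduct,
      Fintype.sum_sum_type, Fin.sum_univ_three, e4, Matrix.one_apply, Matrix.add_apply] <;>
    try ring

theorem act4 (t z x1 x2 y1 y2 : F) : spLin (xSp 4 t).1 (vec5 z x1 x2 y1 y2) =
    vec5 (z) (x1 - t * x2) (x2) (y1) (y2 + t * y1) := by
  rw [spLin_apply]
  funext c
  rcases c with _ | (i | i)
  · simp [proj5, emb5, lamMat, p1, p2, sg, minor2, xSp_val, bN, vec5, Matrix.mulVec, dotProduct,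
      Fintype.sum_sum_type, Fin.sum_univ_three, e4, Matrix.one_apply, Matrix.add_apply]
    try ring
  · fin_cases i <;>
    simp [proj5, emb5, lamMat, p1, p2, sg, minor2, xSp_val, bN, vec5, Matrix.mulVec, dotProduct,
      Fintype.sum_sum_type, Fin.sum_univ_three, e4, Matrix.one_apply, Matrix.add_apply] <;>
    try ring
  · fin_cases i <;>
    simp [proj5, emb5, lamMat, p1, p2, sg, minor2, xSp_val, bN, vec5, Matrix.mulVec, dotProduct,
      Fintype.sum_sum_type, Fin.sum_univ_three, e4, Matrix.one_apply, Matrix.add_apply] <;>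
    try ring

theorem act5 (t z x1 x2 y1 y2 : F) : spLin (xSp 5 t).1 (vec5 z x1 x2 y1 y2) =
    vec5 (z + t * y2) (x1) (x2 - 2 * t * z - t ^ 2 * y2) (y1) (y2) := by
  rw [spLin_apply]
  funext c
  rcases c with _ | (i | i)
  · simp [proj5, emb5, lamMat, p1, p2, sg, minor2, xSp_val, bN, vec5, Matrix.mulVec, dotProduct,
      Fintype.sum_sum_type, Fin.sum_univ_three, e4, Matrix.one_apply, Matrix.add_apply]
    try ring
  · fin_cases i <;>
    simp [proj5, emb5, lamMat, p1, p2, sg, minor2, xSp_val, bN, vec5, Matrix.mulVec, dotProduct,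
      Fintype.sum_sum_type, Fin.sum_univ_three, e4, Matrix.one_apply, Matrix.add_apply] <;>
    try ring
  · fin_cases i <;>
    simp [proj5, emb5, lamMat, p1, p2, sg, minor2, xSp_val, bN, vec5, Matrix.mulVec, dotProduct,
      Fintype.sum_sum_type, Fin.sum_univ_three, e4, Matrix.one_apply, Matrix.add_apply] <;>
    try ring

theorem act6 (t z x1 x2 y1 y2 : F) : spLin (xSp 6 t).1 (vec5 z x1 x2 y1 y2) =
    vec5 (z - t * y1) (x1 + 2 * t * z - t ^ 2 * y1) (x2) (y1) (y2) := by
  rw [spLin_apply]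
  funext c
  rcases c with _ | (i | i)
  · simp [proj5, emb5, lamMat, p1, p2, sg, minor2, xSp_val, bN, vec5, Matrix.mulVec, dotProduct,
      Fintype.sum_sum_type, Fin.sum_univ_three, e4, Matrix.one_apply, Matrix.add_apply]
    try ring
  · fin_cases i <;>
    simp [proj5, emb5, lamMat, p1, p2, sg, minor2, xSp_val, bN, vec5, Matrix.mulVec, dotProduct,
      Fintype.sum_sum_type, Fin.sum_univ_three, e4, Matrix.one_apply, Matrix.add_apply] <;>
    try ring
  · fin_cases i <;>
    simp [proj5, emb5, lamMat, p1, p2, sg, minor2, xSp_val, bN, vec5, Matrix.mulVec, dotProduct,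
      Fintype.sum_sum_type, Fin.sum_univ_three, e4, Matrix.one_apply, Matrix.add_apply] <;>
    try ring

theorem act7 (t z x1 x2 y1 y2 : F) : spLin (xSp 7 t).1 (vec5 z x1 x2 y1 y2) =
    vec5 (z) (x1 - t * y2) (x2 + t * y1) (y1) (y2) := by
  rw [spLin_apply]
  funext c
  rcases c with _ | (i | i)
  · simp [proj5, emb5, lamMat, p1, p2, sg, minor2, xSp_val, bN, vec5, Matrix.mulVec, dotProduct,
      Fintype.sum_sum_type, Fin.sum_univ_three, e4, Matrix.one_apply, Matrix.add_apply]
    try ring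
  · fin_cases i <;>
    simp [proj5, emb5, lamMat, p1, p2, sg, minor2, xSp_val, bN, vec5, Matrix.mulVec, dotProduct,
      Fintype.sum_sum_type, Fin.sum_univ_three, e4, Matrix.one_apply, Matrix.add_apply] <;>
    try ring
  · fin_cases i <;>
    simp [proj5, emb5, lamMat, p1, p2, sg, minor2, xSp_val, bN, vec5, Matrix.mulVec, dotProduct,
      Fintype.sum_sum_type, Fin.sum_univ_three, e4, Matrix.one_apply, Matrix.add_apply] <;>
    try ring

/-- the matrix of an element of `O_5(F)` -/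
def mat (h : O5 F) : Matrix I5 I5 F := ((h : Matrix.GeneralLinearGroup I5 F) : Matrix I5 I5 F)

theorem mat_mul (g h : O5 F) : mat (g * h) = mat g * mat h := rfl

theorem mat_one : mat (1 : O5 F) = 1 := rfl

theorem mat_mul_mulVec (g h : O5 F) (v : I5 → F) : mat (g * h) *ᵥ v = mat g *ᵥ (mat h *ᵥ v) := by
  rw [mat_mul, Matrix.mulVec_mulVec]

theorem mat_ext (g h : O5 F) (H : ∀ v, mat g *ᵥ v = mat h *ᵥ v) : g = h := by
  apply Subtype.ext
  apply Units.ext
  exact Matrix.mulVec_injective (funext H)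

theorem mat_iso (h : O5 F) (v : I5 → F) :
    Cfsg.quadFormOdd 2 F (mat h *ᵥ v) = Cfsg.quadFormOdd 2 F v := h.2 v v

theorem mat_inv_mulVec (h : O5 F) (v : I5 → F) : mat h⁻¹ *ᵥ (mat h *ᵥ v) = v := by
  rw [← mat_mul_mulVec, inv_mul_cancel, mat_one, Matrix.one_mulVec]

theorem mat_spO (A : Sp4) (v : I5 → F) : mat (spO A) *ᵥ v = spLin A.1 v := by
  show LinearMap.toMatrix' (spLin A.1) *ᵥ v = _
  rw [LinearMap.toMatrix'_mulVec]

/-- diagonal isometries -/
noncomputable def diagO (d : I5 → F) (hd : ∀ i, d i ≠ 0)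
    (hQ : ∀ v : I5 → F, Cfsg.quadFormOdd 2 F (fun i => d i * v i) = Cfsg.quadFormOdd 2 F v) : O5 F :=
  ⟨⟨Matrix.diagonal d, Matrix.diagonal (fun i => (d i)⁻¹), by
      rw [Matrix.diagonal_mul_diagonal]
      have : (fun i => d i * (d i)⁻¹) = fun _ => (1 : F) := by
        funext i; exact mul_inv_cancel₀ (hd i)
      rw [this, Matrix.diagonal_one], by
      rw [Matrix.diagonal_mul_diagonal]
      have : (fun i => (d i)⁻¹ * d i) = fun _ => (1 : F) := by
        funext i; exact inv_mul_cancel₀ (hd i)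
      rw [this, Matrix.diagonal_one]⟩, by
    rw [mem_isometryGroup_iff']
    intro v
    show Cfsg.quadFormOdd 2 F (Matrix.diagonal d *ᵥ v) = _
    have : Matrix.diagonal d *ᵥ v = fun i => d i * v i := by
      funext i; rw [Matrix.mulVec_diagonal]
    rw [this, hQ]⟩

theorem mat_diagO (d : I5 → F) (hd hQ) (v : I5 → F) :
    mat (diagO d hd hQ) *ᵥ v = fun i => d i * v i := by
  funext i
  show (Matrix.diagonal d *ᵥ v) i = _
  rw [Matrix.mulVec_diagonal]

theorem vec5_ne_zero {a b c d e : F} (ha : a ≠ 0) (hb : b ≠ 0) (hc : c ≠ 0) (hd : d ≠ 0)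
    (he : e ≠ 0) : ∀ i, vec5 a b c d e i ≠ 0 := by
  intro i
  rcases i with _ | (i | i)
  · exact ha
  · fin_cases i
    · exact hb
    · exact hc
  · fin_cases i
    · exact hd
    · exact he

theorem vec5_mul (a b c d e a' b' c' d' e' : F) :
    (fun i => vec5 a b c d e i * vec5 a' b' c' d' e' i) =
      vec5 (a * a') (b * b') (c * c') (d * d') (e * e') := by
  funext i
  rcases i with _ | (i | i)
  · rfl
  · fin_cases i <;> rfl
  · fin_cases i <;> rfl

/-- `δ₁(c)`: scales the hyperbolic pair `(x₁, y₁)` by `(c⁻¹, c)` -/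
noncomputable def del1 (c : F) (hc : c ≠ 0) : O5 F :=
  diagO (vec5 1 c⁻¹ 1 c 1) (vec5_ne_zero one_ne_zero (inv_ne_zero hc) one_ne_zero hc one_ne_zero)
    (by
      intro v
      rw [vec5_eta v, vec5_mul, quad_vec5, quad_vec5]
      field_simp)

/-- `δ₂(c)`: scales the hyperbolic pair `(x₂, y₂)` by `(c⁻¹, c)` -/
noncomputable def del2 (c : F) (hc : c ≠ 0) : O5 F :=
  diagO (vec5 1 1 c⁻¹ 1 c) (vec5_ne_zero one_ne_zero one_ne_zero (inv_ne_zero hc) one_ne_zero hc)
    (by
      intro v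
      rw [vec5_eta v, vec5_mul, quad_vec5, quad_vec5]
      field_simp)

/-- `diag(-1, 1, 1, 1, 1)` -/
noncomputable def negz : O5 F :=
  diagO (vec5 (-1 : F) 1 1 1 1)
    (vec5_ne_zero (neg_ne_zero.mpr one_ne_zero) one_ne_zero one_ne_zero one_ne_zero one_ne_zero)
    (by
      intro v
      rw [vec5_eta v, vec5_mul, quad_vec5, quad_vec5]
      ring)

theorem del1_act (c : F) (hc : c ≠ 0) (z x1 x2 y1 y2 : F) :
    mat (del1 c hc) *ᵥ vec5 z x1 x2 y1 y2 = vec5 z (c⁻¹ * x1) x2 (c * y1) y2 := by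
  unfold del1
  rw [mat_diagO, vec5_mul, one_mul, one_mul, one_mul]

theorem del2_act (c : F) (hc : c ≠ 0) (z x1 x2 y1 y2 : F) :
    mat (del2 c hc) *ᵥ vec5 z x1 x2 y1 y2 = vec5 z x1 (c⁻¹ * x2) y1 (c * y2) := by
  unfold del2
  rw [mat_diagO, vec5_mul, one_mul, one_mul, one_mul]

theorem negz_act (z x1 x2 y1 y2 : F) :
    mat (negz (F := F)) *ᵥ vec5 z x1 x2 y1 y2 = vec5 (-z) x1 x2 y1 y2 := by
  unfold negz
  rw [mat_diagO, vec5_mul, one_mul, one_mul, one_mul, one_mul, neg_one_mul]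

/-- the action of the image of a root element -/
theorem spO_act (r : ℕ) (t : F) (v : I5 → F) : mat (spO (xSp r t)) *ᵥ v = spLin (xSp r t).1 v :=
  mat_spO _ v

end Cfsg.Agent.Lib.Helper08.O5
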