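import Cfsg.Agent.S0270

/-!
# `PSp_4(F)` is simple and non-abelian over every field with more than two elements

The finite-field proof of `S0270` (Iwasawa on projective points) is field-general except for its use of
the frozen perfectness and primitivity statements; we redo those two inputs for arbitrary fields.
-/

set_option autoImplicit false

namespace Cfsg.Agent.Lib.Helper08.PSp4

open scoped LinearAlgebra.Projectivization
open Matrix Cfsg.Agent.Lib.Helper18 Cfsg.Agent.Lib.Helper11.SpPerfect Cfsg.Agent.S0270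

variable {F : Type*} [Field F]

/-- `Sp_4(F)` is perfect when `F` has an element other than `0, 1` -/
theorem sp4_perfect (hF : ∃ a : F, a ≠ 0 ∧ a ≠ 1) :
    commutator (Matrix.symplecticGroup (Fin 2) F) = ⊤ := by
  apply Cfsg.Agent.S0269.commutator_eq_top_of 2
  intro w hw c
  by_cases h2 : (2 : F) = 0
  · obtain ⟨a, ha0, ha1⟩ := hF
    have haa : a * a ≠ 1 := by
      intro h
      have h3 : (a - 1) * (a - 1) = 0 := by
        have : (a - 1) * (a - 1) = a * a - 2 * a + 1 := by ring
        rw [this, h, h2]; ring_nf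
        linear_combination h2
      have h4 : a - 1 = 0 := by
        rcases mul_eq_zero.mp h3 with h | h <;> exact h
      exact ha1 (sub_eq_zero.mp h4)
    exact ab_tv_of_scalar 2 a ha0 haa w hw c
  · exact ab_tv_of_two_ne 2 h2 0 1 (by decide) w hw c

theorem sp4_preprim :
    letI := act (F := F) 2
    MulAction.IsPreprimitive (Matrix.symplecticGroup (Fin 2) F) (ℙ F (Fin 2 ⊕ Fin 2 → F)) := by
  letI := act (F := F) 2
  have h : MulAction.IsPreprimitive ↥(Cfsg.spGL 2 F) (ℙ F (Fin 2 ⊕ Fin 2 → F)) := by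
    have := Cfsg.Agent.S0768.pretrans (F := F) 2
    exact ⟨fun {B} hB => Cfsg.Agent.S0768.block_trivial 2 B hB⟩
  let fmap : (ℙ F (Fin 2 ⊕ Fin 2 → F)) →ₑ[phi 2 (F := F)] (ℙ F (Fin 2 ⊕ Fin 2 → F)) :=
    ⟨id, fun g x => rfl⟩
  exact (MulAction.isPreprimitive_congr (f := fmap) (phi_surjective 2) Function.bijective_id).mpr h

theorem center_ne_top (hF : ∃ a : F, a ≠ 0 ∧ a ≠ 1) :
    Subgroup.center (Matrix.symplecticGroup (Fin 2) F) ≠ ⊤ := by
  intro hZ
  have h1 := (commutator_eq_bot_iff_center_eq_top _).mpr hZ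
  rw [sp4_perfect hF] at h1
  have h2 : tv 2 (Pi.single (Sum.inl 0) 1 : Fin 2 ⊕ Fin 2 → F) 1 ∈
      (⊤ : Subgroup (Matrix.symplecticGroup (Fin 2) F)) := trivial
  rw [h1, Subgroup.mem_bot] at h2
  exact tv_ne_one 2 _ h2

theorem psp4_nontrivial (hF : ∃ a : F, a ≠ 0 ∧ a ≠ 1) : Nontrivial (Cfsg.PSp 2 F) := by
  obtain ⟨g, hg⟩ : ∃ g : Matrix.symplecticGroup (Fin 2) F,
      g ∉ Subgroup.center (Matrix.symplecticGroup (Fin 2) F) := by
    by_contra hcon
    push Not at hcon
    exact center_ne_top hF (eq_top_iff.mpr fun g _ => hcon g)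
  refine ⟨⟨(g : Cfsg.PSp 2 F), 1, ?_⟩⟩
  intro h1
  exact hg ((QuotientGroup.eq_one_iff g).mp h1)

/-- `PSp_4(F)` is simple for every field with more than two elements -/
theorem psp4_simple (hF : ∃ a : F, a ≠ 0 ∧ a ≠ 1) : IsSimpleGroup (Cfsg.PSp 2 F) := by
  have hperf := sp4_perfect hF
  letI := act (F := F) 2
  have : MulAction.IsPreprimitive (Matrix.symplecticGroup (Fin 2) F)
      (Projectivization F (Fin 2 ⊕ Fin 2 → F)) := sp4_preprim
  have : Nontrivial (Cfsg.PSp 2 F) := psp4_nontrivial hF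
  refine ⟨fun K hK => ?_⟩
  set N : Subgroup (Matrix.symplecticGroup (Fin 2) F) :=
    K.comap (QuotientGroup.mk' (Subgroup.center (Matrix.symplecticGroup (Fin 2) F))) with hN
  have : N.Normal := hK.comap _
  by_cases hfp : MulAction.fixedPoints N (Projectivization F (Fin 2 ⊕ Fin 2 → F)) = Set.univ
  · left
    rw [eq_bot_iff]
    intro x hx
    obtain ⟨g, rfl⟩ := QuotientGroup.mk_surjective x
    have hgN : g ∈ N := hx
    have hgZ : g ∈ Subgroup.center (Matrix.symplecticGroup (Fin 2) F) := by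
      apply mem_center_of_fixes 2 g
      intro p
      have hp : p ∈ MulAction.fixedPoints N (Projectivization F (Fin 2 ⊕ Fin 2 → F)) := by
        rw [hfp]; trivial
      exact hp ⟨g, hgN⟩
    rw [Subgroup.mem_bot]
    exact (QuotientGroup.eq_one_iff g).mpr hgZ
  · right
    have hle := (iwa (F := F) 2).commutator_le N hfp
    rw [hperf, top_le_iff] at hle
    rw [eq_top_iff]
    intro x _
    obtain ⟨g, rfl⟩ := QuotientGroup.mk_surjective x
    have hgN : g ∈ N := by rw [hle]; trivial
    exact hgN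

/-- `PSp_4(F)` is not abelian for every field with more than two elements -/
theorem psp4_not_comm (hF : ∃ a : F, a ≠ 0 ∧ a ≠ 1) : ¬ IsMulCommutative (Cfsg.PSp 2 F) := by
  intro hc
  have : Nontrivial (Cfsg.PSp 2 F) := psp4_nontrivial hF
  have h1 : commutator (Cfsg.PSp 2 F) = ⊤ := by
    have h2 := sp4_perfect hF
    have h3 : Subgroup.map (QuotientGroup.mk' (Subgroup.center (Matrix.symplecticGroup (Fin 2) F)))
        (commutator (Matrix.symplecticGroup (Fin 2) F)) = commutator (Cfsg.PSp 2 F) := by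
      rw [commutator_def, Subgroup.map_commutator, commutator_def,
        Subgroup.map_top_of_surjective _ (QuotientGroup.mk'_surjective _)]
    rw [← h3, h2, Subgroup.map_top_of_surjective _ (QuotientGroup.mk'_surjective _)]
  have h4 : commutator (Cfsg.PSp 2 F) = ⊥ := by
    rw [commutator_eq_bot_iff_center_eq_top, eq_top_iff]
    intro x _
    rw [Subgroup.mem_center_iff]
    intro y
    exact hc.is_comm.comm y x
  rw [h1] at h4
  exact top_ne_bot h4

end Cfsg.Agent.Lib.Helper08.PSp4
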