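import Cfsg.Agent.Lib.Helper08.O5Conj
import Cfsg.Agent.Lib.Helper08.PSp4Simple
import Cfsg.Agent.Lib.Helper08.POmegaIso
import Cfsg.Agent.Lib.Helper08.GroupAux
import Cfsg.Agent.Lib.Helper08.GroupAux2

/-!
# `Ω_5(F) = spO(Sp_4(F))` and `PΩ_5(F) ≃* PSp_4(F)` over every field with more than two elements
-/

set_option autoImplicit false
set_option linter.unusedSimpArgs false
set_option linter.unusedVariables false

namespace Cfsg.Agent.Lib.Helper08.O5

open Cfsg Matrix Cfsg.Agent.Lib.Helper08 Cfsg.Agent.Lib.Helper08.B2Sp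

variable {F : Type*} [Field F]

local notation "Sp4" => Matrix.symplecticGroup (Fin 2) F

/-- the images of the root elements -/
def rootImages (F : Type*) [Field F] : Set (O5 F) :=
  {g | ∃ (r : Fin Cfsg.Lie.chevB2.nroots) (t : F), g = spO (xSp r.val t)}

theorem range_eq_closure : (spO (F := F)).range = Subgroup.closure (rootImages F) := by
  rw [MonoidHom.range_eq_map, ← rootGroup_eq_top, rootGroup, MonoidHom.map_closure]
  congr 1
  ext g
  constructor
  · rintro ⟨A, ⟨r, t, rfl⟩, rfl⟩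
    exact ⟨r, t, rfl⟩
  · rintro ⟨r, t, rfl⟩
    exact ⟨_, ⟨r, t, rfl⟩, rfl⟩

theorem conj_closure_mem {G : Type*} [Group G] (S : Set G) (a : G)
    (ha : ∀ x ∈ S, a * x * a⁻¹ ∈ Subgroup.closure S) :
    ∀ n ∈ Subgroup.closure S, a * n * a⁻¹ ∈ Subgroup.closure S := by
  intro n hn
  induction hn using Subgroup.closure_induction with
  | mem x hx => exact ha x hx
  | one => simp
  | mul x y _ _ hx hy =>
    have : a * (x * y) * a⁻¹ = (a * x * a⁻¹) * (a * y * a⁻¹) := by group
    rw [this]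
    exact Subgroup.mul_mem _ hx hy
  | inv x _ hx =>
    have : a * x⁻¹ * a⁻¹ = (a * x * a⁻¹)⁻¹ := by group
    rw [this]
    exact Subgroup.inv_mem _ hx

theorem mem_normalizer_of_conj {G : Type*} [Group G] (S : Set G) (a : G)
    (h1 : ∀ x ∈ S, a * x * a⁻¹ ∈ Subgroup.closure S)
    (h2 : ∀ x ∈ S, a⁻¹ * x * a ∈ Subgroup.closure S) :
    a ∈ Subgroup.normalizer (Subgroup.closure S : Set G) := by
  rw [Subgroup.mem_normalizer_iff]
  intro n
  constructor
  · exact conj_closure_mem S a h1 n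
  · intro hn
    have h3 : ∀ x ∈ S, a⁻¹ * x * a⁻¹⁻¹ ∈ Subgroup.closure S := by
      intro x hx
      rw [inv_inv]
      exact h2 x hx
    have := conj_closure_mem S a⁻¹ h3 _ hn
    have e : a⁻¹ * (a * n * a⁻¹) * a⁻¹⁻¹ = n := by group
    rwa [e] at this

theorem del1_inv (c : F) (hc : c ≠ 0) : (del1 c hc)⁻¹ = del1 c⁻¹ (inv_ne_zero hc) := by
  apply inv_eq_of_mul_eq_one_right
  apply mat_ext
  intro v
  rw [vec5_eta v, mat_mul_mulVec, del1_act, del1_act, mat_one, Matrix.one_mulVec]
  apply vec5_congr <;> field_simp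

theorem del2_inv (c : F) (hc : c ≠ 0) : (del2 c hc)⁻¹ = del2 c⁻¹ (inv_ne_zero hc) := by
  apply inv_eq_of_mul_eq_one_right
  apply mat_ext
  intro v
  rw [vec5_eta v, mat_mul_mulVec, del2_act, del2_act, mat_one, Matrix.one_mulVec]
  apply vec5_congr <;> field_simp

theorem negz_inv : (negz (F := F))⁻¹ = negz := by
  apply inv_eq_of_mul_eq_one_right
  apply mat_ext
  intro v
  rw [vec5_eta v, mat_mul_mulVec, negz_act, negz_act, mat_one, Matrix.one_mulVec, neg_neg]

theorem torusGens_inv (g : O5 F) (hg : g ∈ torusGens F) : g⁻¹ ∈ torusGens F := by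
  rcases hg with ⟨c, hc, rfl⟩ | ⟨c, hc, rfl⟩ | rfl
  · exact Or.inl ⟨c⁻¹, inv_ne_zero hc, del1_inv c hc⟩
  · exact Or.inr (Or.inl ⟨c⁻¹, inv_ne_zero hc, del2_inv c hc⟩)
  · exact Or.inr (Or.inr negz_inv)

theorem torusGens_conj (g : O5 F) (hg : g ∈ torusGens F) (x : O5 F) (hx : x ∈ rootImages F) :
    g * x * g⁻¹ ∈ Subgroup.closure (rootImages F) := by
  obtain ⟨r, t, rfl⟩ := hx
  have hr : r.val < 8 := r.isLt
  have key : ∃ t' : F, g * spO (xSp r.val t) = spO (xSp r.val t') * g := by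
    rcases hg with ⟨c, hc, rfl⟩ | ⟨c, hc, rfl⟩ | rfl
    · exact del1_conj c hc r.val hr t
    · exact del2_conj c hc r.val hr t
    · exact negz_conj r.val hr t
  obtain ⟨t', ht'⟩ := key
  rw [ht', mul_assoc, mul_inv_cancel, mul_one]
  exact Subgroup.subset_closure ⟨r, t', rfl⟩

theorem torusT_le_normalizer :
    torusT F ≤ Subgroup.normalizer ((spO (F := F)).range : Set (O5 F)) := by
  rw [range_eq_closure, torusT, Subgroup.closure_le]
  intro g hg
  apply mem_normalizer_of_conj
  · exact fun x hx => torusGens_conj g hg x hx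
  · intro x hx
    have := torusGens_conj g⁻¹ (torusGens_inv g hg) x hx
    rwa [inv_inv] at this

theorem range_normal : ((spO (F := F)).range).Normal := by
  rw [← Subgroup.normalizer_eq_top_iff, eq_top_iff, ← bigK_eq_top, bigK]
  exact sup_le Subgroup.le_normalizer torusT_le_normalizer

theorem torusGens_diag (g : O5 F) (hg : g ∈ torusGens F) : ∃ d : I5 → F, mat g = Matrix.diagonal d := by
  rcases hg with ⟨c, hc, rfl⟩ | ⟨c, hc, rfl⟩ | rfl
  · exact ⟨_, rfl⟩
  · exact ⟨_, rfl⟩
  · exact ⟨_, rfl⟩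

/-- the subgroup of diagonal isometries -/
def diagSub (F : Type*) [Field F] : Subgroup (O5 F) where
  carrier := {g | ∃ d : I5 → F, mat g = Matrix.diagonal d}
  one_mem' := ⟨fun _ => 1, by rw [mat_one, Matrix.diagonal_one]⟩
  mul_mem' := by
    rintro a b ⟨d, hd⟩ ⟨d', hd'⟩
    exact ⟨fun i => d i * d' i, by rw [mat_mul, hd, hd', Matrix.diagonal_mul_diagonal]⟩
  inv_mem' := by
    rintro a ⟨d, hd⟩
    refine ⟨fun i => (d i)⁻¹, ?_⟩
    have h1 : mat a * mat a⁻¹ = 1 := by rw [← mat_mul, mul_inv_cancel, mat_one]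
    have hd0 : ∀ i, d i ≠ 0 := by
      intro i hi
      have := congrFun (congrFun h1 i) i
      rw [hd, Matrix.diagonal_mul, hi, zero_mul, Matrix.one_apply_eq] at this
      exact zero_ne_one this
    have h2 : Matrix.diagonal d * Matrix.diagonal (fun i => (d i)⁻¹) = 1 := by
      rw [Matrix.diagonal_mul_diagonal]
      have : (fun i => d i * (d i)⁻¹) = fun _ => (1 : F) := by
        funext i; exact mul_inv_cancel₀ (hd0 i)
      rw [this, Matrix.diagonal_one]
    have h3 : mat a⁻¹ * mat a = 1 := by rw [← mat_mul, inv_mul_cancel, mat_one]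
    calc mat a⁻¹ = mat a⁻¹ * (Matrix.diagonal d * Matrix.diagonal (fun i => (d i)⁻¹)) := by
          rw [h2, Matrix.mul_one]
      _ = (mat a⁻¹ * mat a) * Matrix.diagonal (fun i => (d i)⁻¹) := by
          rw [hd, Matrix.mul_assoc]
      _ = Matrix.diagonal (fun i => (d i)⁻¹) := by rw [h3, Matrix.one_mul]

theorem torusT_comm (a b : O5 F) (ha : a ∈ torusT F) (hb : b ∈ torusT F) : a * b = b * a := by
  have hle : torusT F ≤ diagSub F := by
    rw [torusT, Subgroup.closure_le]
    exact fun g hg => torusGens_diag g hg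
  obtain ⟨d, hd⟩ := hle ha
  obtain ⟨d', hd'⟩ := hle hb
  apply Subtype.ext
  apply Units.ext
  show mat (a * b) = mat (b * a)
  rw [mat_mul, mat_mul, hd, hd', Matrix.diagonal_mul_diagonal, Matrix.diagonal_mul_diagonal]
  congr 1
  funext i
  exact mul_comm _ _

/-- the commutator subgroup of `O_5(F)` lies in the image of `Sp_4(F)` -/
theorem commutator_le_range : commutator (O5 F) ≤ (spO (F := F)).range := by
  haveI := range_normal (F := F)
  have hdec : ∀ g : O5 F, ∃ n ∈ (spO (F := F)).range, ∃ t ∈ torusT F, n * t = g := by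
    intro g
    have hg : g ∈ (spO (F := F)).range ⊔ torusT F := by
      have := bigK_eq_top (F := F)
      rw [bigK] at this
      rw [this]; trivial
    exact Subgroup.mem_sup_of_normal_left.mp hg
  rw [commutator_def, Subgroup.commutator_le]
  intro g1 _ g2 _
  obtain ⟨n1, hn1, t1, ht1, rfl⟩ := hdec g1
  obtain ⟨n2, hn2, t2, ht2, rfl⟩ := hdec g2
  have e1 : (QuotientGroup.mk' (spO (F := F)).range) n1 = 1 :=
    (QuotientGroup.eq_one_iff n1).mpr hn1
  have e2 : (QuotientGroup.mk' (spO (F := F)).range) n2 = 1 :=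
    (QuotientGroup.eq_one_iff n2).mpr hn2
  rw [commutatorElement_def]
  have hc : (QuotientGroup.mk' (spO (F := F)).range) t1 * (QuotientGroup.mk' (spO (F := F)).range) t2 =
      (QuotientGroup.mk' (spO (F := F)).range) t2 * (QuotientGroup.mk' (spO (F := F)).range) t1 := by
    rw [← map_mul, ← map_mul, torusT_comm t1 t2 ht1 ht2]
  have key : (QuotientGroup.mk' (spO (F := F)).range)
      (n1 * t1 * (n2 * t2) * (n1 * t1)⁻¹ * (n2 * t2)⁻¹) = 1 := by
    simp only [map_mul, map_inv, e1, e2, one_mul]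
    rw [hc]
    group
  exact (QuotientGroup.eq_one_iff _).mp key

/-- `Ω_5(F) = spO(Sp_4(F))` when `F` has more than two elements -/
theorem range_eq_commutator (hF : ∃ a : F, a ≠ 0 ∧ a ≠ 1) :
    (spO (F := F)).range = commutator (O5 F) :=
  le_antisymm (range_le_commutator_of_perfect spO (PSp4.sp4_perfect hF)) commutator_le_range

/-- `PΩ_5(F) ≃* PSp_4(F)` over every field with more than two elements -/
theorem pomega5_equiv_psp4 (hF : ∃ a : F, a ≠ 0 ∧ a ≠ 1) :
    Nonempty (Cfsg.POmega F (Cfsg.quadFormOdd 2 F) ≃* Cfsg.PSp 2 F) := by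
  have hker : (spO (F := F)).ker ≤ Subgroup.center Sp4 :=
    ker_le_center_of_simple (PSp4.sp4_perfect hF) (PSp4.psp4_simple hF) spO spO_ne_one
  exact pomega_equiv_of_hom spO (range_eq_commutator hF)
    (hcen_of_perfect (PSp4.sp4_perfect hF) spO hker)

end Cfsg.Agent.Lib.Helper08.O5
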