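import Cfsg.Agent.Lib.Helper08.O5Gen

/-!
# The diagonal generators of `O_5(F)` normalise the images of the root subgroups
-/

set_option autoImplicit false
set_option linter.unusedSimpArgs false
set_option linter.unnecessarySeqFocus false
set_option linter.unusedTactic false
set_option linter.unreachableTactic false
set_option linter.unusedVariables false

namespace Cfsg.Agent.Lib.Helper08.O5

open Cfsg Matrix Cfsg.Agent.Lib.Helper08 Cfsg.Agent.Lib.Helper08.B2Sp

variable {F : Type*} [Field F]

theorem del1_conj0 (c : F) (hc : c ≠ 0) (t : F) :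
    del1 c hc * spO (xSp 0 t) = spO (xSp 0 (c * t)) * del1 c hc := by
  apply mat_ext
  intro v
  rw [vec5_eta v]
  simp only [mat_mul_mulVec, spO_act, act0, act1, act2, act3, act4, act5, act6, act7, del1_act, del2_act, negz_act]
  try (apply vec5_congr <;> field_simp <;> ring)

theorem del2_conj0 (c : F) (hc : c ≠ 0) (t : F) :
    del2 c hc * spO (xSp 0 t) = spO (xSp 0 (c * t)) * del2 c hc := by
  apply mat_ext
  intro v
  rw [vec5_eta v]
  simp only [mat_mul_mulVec, spO_act, act0, act1, act2, act3, act4, act5, act6, act7, del1_act, del2_act, negz_act]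
  try (apply vec5_congr <;> field_simp <;> ring)

theorem negz_conj0 (t : F) :
    negz * spO (xSp 0 t) = spO (xSp 0 (t)) * negz := by
  apply mat_ext
  intro v
  rw [vec5_eta v]
  simp only [mat_mul_mulVec, spO_act, act0, act1, act2, act3, act4, act5, act6, act7, del1_act, del2_act, negz_act]
  try (apply vec5_congr <;> ring)

theorem del1_conj1 (c : F) (hc : c ≠ 0) (t : F) :
    del1 c hc * spO (xSp 1 t) = spO (xSp 1 (c * t)) * del1 c hc := by
  apply mat_ext
  intro v
  rw [vec5_eta v]
  simp only [mat_mul_mulVec, spO_act, act0, act1, act2, act3, act4, act5, act6, act7, del1_act, del2_act, negz_act]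
  try (apply vec5_congr <;> field_simp <;> ring)

theorem del2_conj1 (c : F) (hc : c ≠ 0) (t : F) :
    del2 c hc * spO (xSp 1 t) = spO (xSp 1 (t)) * del2 c hc := by
  apply mat_ext
  intro v
  rw [vec5_eta v]
  simp only [mat_mul_mulVec, spO_act, act0, act1, act2, act3, act4, act5, act6, act7, del1_act, del2_act, negz_act]
  try (apply vec5_congr <;> field_simp <;> ring)

theorem negz_conj1 (t : F) :
    negz * spO (xSp 1 t) = spO (xSp 1 (-t)) * negz := by
  apply mat_ext
  intro v
  rw [vec5_eta v]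
  simp only [mat_mul_mulVec, spO_act, act0, act1, act2, act3, act4, act5, act6, act7, del1_act, del2_act, negz_act]
  try (apply vec5_congr <;> ring)

theorem del1_conj2 (c : F) (hc : c ≠ 0) (t : F) :
    del1 c hc * spO (xSp 2 t) = spO (xSp 2 (t)) * del1 c hc := by
  apply mat_ext
  intro v
  rw [vec5_eta v]
  simp only [mat_mul_mulVec, spO_act, act0, act1, act2, act3, act4, act5, act6, act7, del1_act, del2_act, negz_act]
  try (apply vec5_congr <;> field_simp <;> ring)

theorem del2_conj2 (c : F) (hc : c ≠ 0) (t : F) :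
    del2 c hc * spO (xSp 2 t) = spO (xSp 2 (c * t)) * del2 c hc := by
  apply mat_ext
  intro v
  rw [vec5_eta v]
  simp only [mat_mul_mulVec, spO_act, act0, act1, act2, act3, act4, act5, act6, act7, del1_act, del2_act, negz_act]
  try (apply vec5_congr <;> field_simp <;> ring)

theorem negz_conj2 (t : F) :
    negz * spO (xSp 2 t) = spO (xSp 2 (-t)) * negz := by
  apply mat_ext
  intro v
  rw [vec5_eta v]
  simp only [mat_mul_mulVec, spO_act, act0, act1, act2, act3, act4, act5, act6, act7, del1_act, del2_act, negz_act]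
  try (apply vec5_congr <;> ring)

theorem del1_conj3 (c : F) (hc : c ≠ 0) (t : F) :
    del1 c hc * spO (xSp 3 t) = spO (xSp 3 (c * t)) * del1 c hc := by
  apply mat_ext
  intro v
  rw [vec5_eta v]
  simp only [mat_mul_mulVec, spO_act, act0, act1, act2, act3, act4, act5, act6, act7, del1_act, del2_act, negz_act]
  try (apply vec5_congr <;> field_simp <;> ring)

theorem del2_conj3 (c : F) (hc : c ≠ 0) (t : F) :
    del2 c hc * spO (xSp 3 t) = spO (xSp 3 (c⁻¹ * t)) * del2 c hc := by
  apply mat_ext
  intro v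
  rw [vec5_eta v]
  simp only [mat_mul_mulVec, spO_act, act0, act1, act2, act3, act4, act5, act6, act7, del1_act, del2_act, negz_act]
  try (apply vec5_congr <;> field_simp <;> ring)

theorem negz_conj3 (t : F) :
    negz * spO (xSp 3 t) = spO (xSp 3 (t)) * negz := by
  apply mat_ext
  intro v
  rw [vec5_eta v]
  simp only [mat_mul_mulVec, spO_act, act0, act1, act2, act3, act4, act5, act6, act7, del1_act, del2_act, negz_act]
  try (apply vec5_congr <;> ring)

theorem del1_conj4 (c : F) (hc : c ≠ 0) (t : F) :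
    del1 c hc * spO (xSp 4 t) = spO (xSp 4 (c⁻¹ * t)) * del1 c hc := by
  apply mat_ext
  intro v
  rw [vec5_eta v]
  simp only [mat_mul_mulVec, spO_act, act0, act1, act2, act3, act4, act5, act6, act7, del1_act, del2_act, negz_act]
  try (apply vec5_congr <;> field_simp <;> ring)

theorem del2_conj4 (c : F) (hc : c ≠ 0) (t : F) :
    del2 c hc * spO (xSp 4 t) = spO (xSp 4 (c * t)) * del2 c hc := by
  apply mat_ext
  intro v
  rw [vec5_eta v]
  simp only [mat_mul_mulVec, spO_act, act0, act1, act2, act3, act4, act5, act6, act7, del1_act, del2_act, negz_act]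
  try (apply vec5_congr <;> field_simp <;> ring)

theorem negz_conj4 (t : F) :
    negz * spO (xSp 4 t) = spO (xSp 4 (t)) * negz := by
  apply mat_ext
  intro v
  rw [vec5_eta v]
  simp only [mat_mul_mulVec, spO_act, act0, act1, act2, act3, act4, act5, act6, act7, del1_act, del2_act, negz_act]
  try (apply vec5_congr <;> ring)

theorem del1_conj5 (c : F) (hc : c ≠ 0) (t : F) :
    del1 c hc * spO (xSp 5 t) = spO (xSp 5 (t)) * del1 c hc := by
  apply mat_ext
  intro v
  rw [vec5_eta v]
  simp only [mat_mul_mulVec, spO_act, act0, act1, act2, act3, act4, act5, act6, act7, del1_act, del2_act, negz_act]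
  try (apply vec5_congr <;> field_simp <;> ring)

theorem del2_conj5 (c : F) (hc : c ≠ 0) (t : F) :
    del2 c hc * spO (xSp 5 t) = spO (xSp 5 (c⁻¹ * t)) * del2 c hc := by
  apply mat_ext
  intro v
  rw [vec5_eta v]
  simp only [mat_mul_mulVec, spO_act, act0, act1, act2, act3, act4, act5, act6, act7, del1_act, del2_act, negz_act]
  try (apply vec5_congr <;> field_simp <;> ring)

theorem negz_conj5 (t : F) :
    negz * spO (xSp 5 t) = spO (xSp 5 (-t)) * negz := by
  apply mat_ext
  intro v
  rw [vec5_eta v]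
  simp only [mat_mul_mulVec, spO_act, act0, act1, act2, act3, act4, act5, act6, act7, del1_act, del2_act, negz_act]
  try (apply vec5_congr <;> ring)

theorem del1_conj6 (c : F) (hc : c ≠ 0) (t : F) :
    del1 c hc * spO (xSp 6 t) = spO (xSp 6 (c⁻¹ * t)) * del1 c hc := by
  apply mat_ext
  intro v
  rw [vec5_eta v]
  simp only [mat_mul_mulVec, spO_act, act0, act1, act2, act3, act4, act5, act6, act7, del1_act, del2_act, negz_act]
  try (apply vec5_congr <;> field_simp <;> ring)

theorem del2_conj6 (c : F) (hc : c ≠ 0) (t : F) :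
    del2 c hc * spO (xSp 6 t) = spO (xSp 6 (t)) * del2 c hc := by
  apply mat_ext
  intro v
  rw [vec5_eta v]
  simp only [mat_mul_mulVec, spO_act, act0, act1, act2, act3, act4, act5, act6, act7, del1_act, del2_act, negz_act]
  try (apply vec5_congr <;> field_simp <;> ring)

theorem negz_conj6 (t : F) :
    negz * spO (xSp 6 t) = spO (xSp 6 (-t)) * negz := by
  apply mat_ext
  intro v
  rw [vec5_eta v]
  simp only [mat_mul_mulVec, spO_act, act0, act1, act2, act3, act4, act5, act6, act7, del1_act, del2_act, negz_act]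
  try (apply vec5_congr <;> ring)

theorem del1_conj7 (c : F) (hc : c ≠ 0) (t : F) :
    del1 c hc * spO (xSp 7 t) = spO (xSp 7 (c⁻¹ * t)) * del1 c hc := by
  apply mat_ext
  intro v
  rw [vec5_eta v]
  simp only [mat_mul_mulVec, spO_act, act0, act1, act2, act3, act4, act5, act6, act7, del1_act, del2_act, negz_act]
  try (apply vec5_congr <;> field_simp <;> ring)

theorem del2_conj7 (c : F) (hc : c ≠ 0) (t : F) :
    del2 c hc * spO (xSp 7 t) = spO (xSp 7 (c⁻¹ * t)) * del2 c hc := by
  apply mat_ext
  intro v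
  rw [vec5_eta v]
  simp only [mat_mul_mulVec, spO_act, act0, act1, act2, act3, act4, act5, act6, act7, del1_act, del2_act, negz_act]
  try (apply vec5_congr <;> field_simp <;> ring)

theorem negz_conj7 (t : F) :
    negz * spO (xSp 7 t) = spO (xSp 7 (t)) * negz := by
  apply mat_ext
  intro v
  rw [vec5_eta v]
  simp only [mat_mul_mulVec, spO_act, act0, act1, act2, act3, act4, act5, act6, act7, del1_act, del2_act, negz_act]
  try (apply vec5_congr <;> ring)

theorem del1_conj (c : F) (hc : c ≠ 0) (r : ℕ) (hr : r < 8) (t : F) :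
    ∃ t' : F, del1 c hc * spO (xSp r t) = spO (xSp r t') * del1 c hc := by
  interval_cases r
  · exact ⟨_, del1_conj0 c hc t⟩
  · exact ⟨_, del1_conj1 c hc t⟩
  · exact ⟨_, del1_conj2 c hc t⟩
  · exact ⟨_, del1_conj3 c hc t⟩
  · exact ⟨_, del1_conj4 c hc t⟩
  · exact ⟨_, del1_conj5 c hc t⟩
  · exact ⟨_, del1_conj6 c hc t⟩
  · exact ⟨_, del1_conj7 c hc t⟩

theorem del2_conj (c : F) (hc : c ≠ 0) (r : ℕ) (hr : r < 8) (t : F) :
    ∃ t' : F, del2 c hc * spO (xSp r t) = spO (xSp r t') * del2 c hc := by
  interval_cases r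
  · exact ⟨_, del2_conj0 c hc t⟩
  · exact ⟨_, del2_conj1 c hc t⟩
  · exact ⟨_, del2_conj2 c hc t⟩
  · exact ⟨_, del2_conj3 c hc t⟩
  · exact ⟨_, del2_conj4 c hc t⟩
  · exact ⟨_, del2_conj5 c hc t⟩
  · exact ⟨_, del2_conj6 c hc t⟩
  · exact ⟨_, del2_conj7 c hc t⟩

theorem negz_conj (r : ℕ) (hr : r < 8) (t : F) :
    ∃ t' : F, negz * spO (xSp r t) = spO (xSp r t') * negz := by
  interval_cases r
  · exact ⟨_, negz_conj0 t⟩
  · exact ⟨_, negz_conj1 t⟩
  · exact ⟨_, negz_conj2 t⟩
  · exact ⟨_, negz_conj3 t⟩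
  · exact ⟨_, negz_conj4 t⟩
  · exact ⟨_, negz_conj5 t⟩
  · exact ⟨_, negz_conj6 t⟩
  · exact ⟨_, negz_conj7 t⟩

end Cfsg.Agent.Lib.Helper08.O5
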