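import Cfsg.Agent.Lib.Helper08.O5Act

/-!
# `O_5(F) = spO(Sp_4(F)) · ⟨δ₁(c), δ₂(c), diag(-1,1,1,1,1)⟩` over every field

Stabiliser-chain argument on singular vectors, uniform in the characteristic.
-/

set_option autoImplicit false
set_option linter.unusedSimpArgs false
set_option linter.unnecessarySeqFocus false
set_option linter.unusedTactic false
set_option linter.unreachableTactic false
set_option linter.unusedVariables false

namespace Cfsg.Agent.Lib.Helper08.O5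

open Cfsg Matrix Cfsg.Agent.Lib.Helper08 Cfsg.Agent.Lib.Helper08.B2Sp

variable {F : Type*} [Field F]

local notation "Sp4" => Matrix.symplecticGroup (Fin 2) F

/-- the diagonal generators -/
def torusGens (F : Type*) [Field F] : Set (O5 F) :=
  {g | (∃ (c : F) (hc : c ≠ 0), g = del1 c hc) ∨ (∃ (c : F) (hc : c ≠ 0), g = del2 c hc) ∨ g = negz}

/-- the subgroup generated by the diagonal generators -/
def torusT (F : Type*) [Field F] : Subgroup (O5 F) := Subgroup.closure (torusGens F)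

/-- the subgroup generated by the image of `Sp_4(F)` and the diagonal generators -/
noncomputable def bigK (F : Type*) [Field F] : Subgroup (O5 F) := (spO (F := F)).range ⊔ torusT F

theorem root_mem (r : ℕ) (t : F) : spO (xSp r t) ∈ bigK F :=
  Subgroup.mem_sup_left ⟨_, rfl⟩

theorem del1_mem (c : F) (hc : c ≠ 0) : del1 c hc ∈ bigK F :=
  Subgroup.mem_sup_right (Subgroup.subset_closure (Or.inl ⟨c, hc, rfl⟩))

theorem del2_mem (c : F) (hc : c ≠ 0) : del2 c hc ∈ bigK F :=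
  Subgroup.mem_sup_right (Subgroup.subset_closure (Or.inr (Or.inl ⟨c, hc, rfl⟩)))

theorem negz_mem : negz ∈ bigK F :=
  Subgroup.mem_sup_right (Subgroup.subset_closure (Or.inr (Or.inr rfl)))

theorem vec5_add (a b c d e a' b' c' d' e' : F) :
    vec5 a b c d e + vec5 a' b' c' d' e' = vec5 (a + a') (b + b') (c + c') (d + d') (e + e') := by
  funext i
  rcases i with _ | (i | i)
  · rfl
  · fin_cases i <;> rfl
  · fin_cases i <;> rfl

theorem vec5_smul (s a b c d e : F) : s • vec5 a b c d e = vec5 (s * a) (s * b) (s * c) (s * d) (s * e) := by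
  funext i
  rcases i with _ | (i | i)
  · rfl
  · fin_cases i <;> rfl
  · fin_cases i <;> rfl

theorem polar_vec5 (a b c d e a' b' c' d' e' : F) :
    QuadraticMap.polar (Cfsg.quadFormOdd 2 F) (vec5 a b c d e) (vec5 a' b' c' d' e') =
      2 * a * a' + b * d' + d * b' + c * e' + e * c' := by
  unfold QuadraticMap.polar
  rw [vec5_add, quad_vec5, quad_vec5, quad_vec5]
  ring

theorem isIso_mat (h : O5 F) : IsIso (Cfsg.quadFormOdd 2 F) (mat h) := fun v => mat_iso h v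

theorem polar_mat (h : O5 F) (u v : I5 → F) :
    QuadraticMap.polar (Cfsg.quadFormOdd 2 F) (mat h *ᵥ u) (mat h *ᵥ v) =
      QuadraticMap.polar (Cfsg.quadFormOdd 2 F) u v := (isIso_mat h).polar u v

/-! ### Step 1: moving a singular vector to `e_{x₁}` -/

theorem move_x1 (z x1 x2 y1 y2 : F) (hx1 : x1 ≠ 0) (hQ : z ^ 2 + x1 * y1 + x2 * y2 = 0) :
    ∃ k ∈ bigK F, mat k *ᵥ vec5 z x1 x2 y1 y2 = vec5 0 1 0 0 0 := by
  obtain ⟨t1, rfl⟩ : ∃ t1, x2 = t1 * x1 := ⟨x2 / x1, by field_simp⟩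
  obtain ⟨t2, rfl⟩ : ∃ t2, y2 = t2 * x1 := ⟨y2 / x1, by field_simp⟩
  obtain ⟨t3, rfl⟩ : ∃ t3, z = -(t3 * x1) := ⟨-z / x1, by field_simp⟩
  refine ⟨del1 x1 hx1 * spO (xSp 1 t3) * spO (xSp 0 t2) * spO (xSp 3 t1),
    Subgroup.mul_mem _ (Subgroup.mul_mem _ (Subgroup.mul_mem _ (del1_mem _ _) (root_mem _ _))
      (root_mem _ _)) (root_mem _ _), ?_⟩
  simp only [mat_mul_mulVec, spO_act, act0, act1, act2, act3, act4, act5, act6, act7, del1_act, del2_act]
  apply vec5_congr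
  · ring
  · field_simp
  · ring
  · linear_combination hQ
  · ring

theorem move_x1' (v : I5 → F) (hx1 : v (.inr (.inl 0)) ≠ 0) (hQ : Cfsg.quadFormOdd 2 F v = 0) :
    ∃ k ∈ bigK F, mat k *ᵥ v = vec5 0 1 0 0 0 := by
  rw [vec5_eta v, quad_vec5] at hQ
  rw [vec5_eta v]
  exact move_x1 _ _ _ _ _ hx1 hQ

theorem move_sing (v : I5 → F) (hv : v ≠ 0) (hQ : Cfsg.quadFormOdd 2 F v = 0) :
    ∃ k ∈ bigK F, mat k *ᵥ v = vec5 0 1 0 0 0 := by
  by_cases hx1 : v (.inr (.inl 0)) ≠ 0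
  · exact move_x1' v hx1 hQ
  push Not at hx1
  -- first make the `x₁`-coordinate nonzero
  have key : ∃ k0 ∈ bigK F, (mat k0 *ᵥ v) (.inr (.inl 0)) ≠ 0 := by
    obtain ⟨z, hz⟩ : ∃ z, z = v (.inl ()) := ⟨_, rfl⟩
    obtain ⟨x2, hx2⟩ : ∃ x2, x2 = v (.inr (.inl 1)) := ⟨_, rfl⟩
    obtain ⟨y1, hy1⟩ : ∃ y1, y1 = v (.inr (.inr 0)) := ⟨_, rfl⟩
    obtain ⟨y2, hy2⟩ : ∃ y2, y2 = v (.inr (.inr 1)) := ⟨_, rfl⟩
    have hv' : v = vec5 z 0 x2 y1 y2 := by
      rw [vec5_eta v, hx1, ← hz, ← hx2, ← hy1, ← hy2]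
    by_cases h1 : y2 ≠ 0
    · refine ⟨spO (xSp 7 (-1)), root_mem _ _, ?_⟩
      rw [hv', spO_act, act7]
      show (0 : F) - -1 * y2 ≠ 0
      rw [zero_sub, neg_mul, neg_neg, one_mul]
      exact h1
    push Not at h1
    by_cases h2 : x2 ≠ 0
    · refine ⟨spO (xSp 4 (-1)), root_mem _ _, ?_⟩
      rw [hv', spO_act, act4]
      show (0 : F) - -1 * x2 ≠ 0
      rw [zero_sub, neg_mul, neg_neg, one_mul]
      exact h2
    push Not at h2
    have hz0 : z = 0 := by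
      rw [hv', quad_vec5, h1, h2] at hQ
      have : z ^ 2 = 0 := by linear_combination hQ
      exact pow_eq_zero_iff (by norm_num) |>.mp this
    have hy10 : y1 ≠ 0 := by
      intro h
      apply hv
      rw [hv', hz0, h2, h, h1, vec5_zero]
    refine ⟨spO (xSp 6 1), root_mem _ _, ?_⟩
    rw [hv', spO_act, act6]
    show (0 : F) + 2 * 1 * z - 1 ^ 2 * y1 ≠ 0
    rw [hz0]
    intro h
    apply hy10
    linear_combination -h
  obtain ⟨k0, hk0, hne⟩ := key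
  have hQ0 : Cfsg.quadFormOdd 2 F (mat k0 *ᵥ v) = 0 := by rw [mat_iso, hQ]
  obtain ⟨k1, hk1, hk1v⟩ := move_x1' _ hne hQ0
  refine ⟨k1 * k0, Subgroup.mul_mem _ hk1 hk0, ?_⟩
  rw [mat_mul_mulVec, hk1v]

/-! ### Step 2 -/

theorem move_y1 (z x1 x2 y2 : F) (hQ : z ^ 2 + x1 * 1 + x2 * y2 = 0) :
    ∃ k ∈ bigK F, mat k *ᵥ vec5 0 1 0 0 0 = vec5 0 1 0 0 0 ∧
      mat k *ᵥ vec5 z x1 x2 1 y2 = vec5 0 0 0 1 0 := by
  refine ⟨spO (xSp 6 z) * spO (xSp 4 (-y2)) * spO (xSp 7 (-x2)),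
    Subgroup.mul_mem _ (Subgroup.mul_mem _ (root_mem _ _) (root_mem _ _)) (root_mem _ _), ?_, ?_⟩
  · simp only [mat_mul_mulVec, spO_act, act0, act1, act2, act3, act4, act5, act6, act7, del1_act, del2_act]
    apply vec5_congr <;> ring
  · simp only [mat_mul_mulVec, spO_act, act0, act1, act2, act3, act4, act5, act6, act7, del1_act, del2_act]
    apply vec5_congr
    · ring
    · linear_combination hQ
    · ring
    · ring
    · ring

/-! ### Step 3 -/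

theorem move_x2 (z x2 y2 : F) (hx2 : x2 ≠ 0) (hQ : z ^ 2 + 0 * 0 + x2 * y2 = 0) :
    ∃ k ∈ bigK F, mat k *ᵥ vec5 0 1 0 0 0 = vec5 0 1 0 0 0 ∧
      mat k *ᵥ vec5 0 0 0 1 0 = vec5 0 0 0 1 0 ∧
      mat k *ᵥ vec5 z 0 x2 0 y2 = vec5 0 0 1 0 0 := by
  obtain ⟨t, rfl⟩ : ∃ t, z = t * x2 := ⟨z / x2, by field_simp⟩
  refine ⟨del2 x2 hx2 * spO (xSp 2 t), Subgroup.mul_mem _ (del2_mem _ _) (root_mem _ _), ?_, ?_, ?_⟩
  · simp only [mat_mul_mulVec, spO_act, act0, act1, act2, act3, act4, act5, act6, act7, del1_act, del2_act]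
    apply vec5_congr <;> ring
  · simp only [mat_mul_mulVec, spO_act, act0, act1, act2, act3, act4, act5, act6, act7, del1_act, del2_act]
    apply vec5_congr <;> ring
  · simp only [mat_mul_mulVec, spO_act, act0, act1, act2, act3, act4, act5, act6, act7, del1_act, del2_act]
    apply vec5_congr
    · ring
    · ring
    · field_simp
    · ring
    · linear_combination hQ

theorem move_x2' (z x2 y2 : F) (hv : vec5 z 0 x2 0 y2 ≠ 0) (hQ : z ^ 2 + 0 * 0 + x2 * y2 = 0) :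
    ∃ k ∈ bigK F, mat k *ᵥ vec5 0 1 0 0 0 = vec5 0 1 0 0 0 ∧
      mat k *ᵥ vec5 0 0 0 1 0 = vec5 0 0 0 1 0 ∧
      mat k *ᵥ vec5 z 0 x2 0 y2 = vec5 0 0 1 0 0 := by
  by_cases hx2 : x2 ≠ 0
  · exact move_x2 z x2 y2 hx2 hQ
  push Not at hx2
  have hz0 : z = 0 := by
    rw [hx2] at hQ
    have : z ^ 2 = 0 := by linear_combination hQ
    exact pow_eq_zero_iff (by norm_num) |>.mp this
  have hy2 : y2 ≠ 0 := by
    intro h
    apply hv
    rw [hz0, hx2, h, vec5_zero]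
  have hny2 : -y2 ≠ 0 := neg_ne_zero.mpr hy2
  have hQ' : y2 ^ 2 + 0 * 0 + (-y2) * y2 = 0 := by ring
  obtain ⟨k1, hk1, h1, h2, h3⟩ := move_x2 y2 (-y2) y2 hny2 hQ'
  refine ⟨k1 * spO (xSp 5 1), Subgroup.mul_mem _ hk1 (root_mem _ _), ?_, ?_, ?_⟩
  · simp only [mat_mul_mulVec, spO_act, act0, act1, act2, act3, act4, act5, act6, act7, del1_act, del2_act]
    convert h1 using 2
    apply vec5_congr <;> ring
  · simp only [mat_mul_mulVec, spO_act, act0, act1, act2, act3, act4, act5, act6, act7, del1_act, del2_act]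
    convert h2 using 2
    apply vec5_congr <;> ring
  · simp only [mat_mul_mulVec, spO_act, act0, act1, act2, act3, act4, act5, act6, act7, del1_act, del2_act]
    rw [hz0, hx2]
    convert h3 using 2
    apply vec5_congr <;> ring

/-! ### Step 4 -/

theorem move_y2 (z x2 : F) (hQ : z ^ 2 + 0 * 0 + x2 * 1 = 0) :
    ∃ k ∈ bigK F, mat k *ᵥ vec5 0 1 0 0 0 = vec5 0 1 0 0 0 ∧
      mat k *ᵥ vec5 0 0 0 1 0 = vec5 0 0 0 1 0 ∧
      mat k *ᵥ vec5 0 0 1 0 0 = vec5 0 0 1 0 0 ∧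
      mat k *ᵥ vec5 z 0 x2 0 1 = vec5 0 0 0 0 1 := by
  refine ⟨spO (xSp 5 (-z)), root_mem _ _, ?_, ?_, ?_, ?_⟩
  · rw [spO_act, act5]
    apply vec5_congr <;> ring
  · rw [spO_act, act5]
    apply vec5_congr <;> ring
  · rw [spO_act, act5]
    apply vec5_congr <;> ring
  · rw [spO_act, act5]
    apply vec5_congr
    · ring
    · ring
    · linear_combination hQ
    · ring
    · ring

/-! ### Step 5 -/

theorem vec5_decomp (z x1 x2 y1 y2 : F) :
    vec5 z x1 x2 y1 y2 = z • vec5 1 0 0 0 0 + (x1 • vec5 0 1 0 0 0 + (x2 • vec5 0 0 1 0 0 +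
      (y1 • vec5 0 0 0 1 0 + y2 • vec5 0 0 0 0 1))) := by
  simp only [vec5_smul, vec5_add]
  apply vec5_congr <;> ring

theorem fix_four (h : O5 F) (h1 : mat h *ᵥ vec5 0 1 0 0 0 = vec5 0 1 0 0 0)
    (h2 : mat h *ᵥ vec5 0 0 0 1 0 = vec5 0 0 0 1 0)
    (h3 : mat h *ᵥ vec5 0 0 1 0 0 = vec5 0 0 1 0 0)
    (h4 : mat h *ᵥ vec5 0 0 0 0 1 = vec5 0 0 0 0 1) : h ∈ bigK F := by
  obtain ⟨a, b, c, d, e, hw⟩ : ∃ a b c d e, mat h *ᵥ vec5 1 0 0 0 0 = vec5 a b c d e :=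
    ⟨_, _, _, _, _, vec5_eta _⟩
  have p1 := polar_mat h (vec5 1 0 0 0 0) (vec5 0 1 0 0 0)
  have p2 := polar_mat h (vec5 1 0 0 0 0) (vec5 0 0 0 1 0)
  have p3 := polar_mat h (vec5 1 0 0 0 0) (vec5 0 0 1 0 0)
  have p4 := polar_mat h (vec5 1 0 0 0 0) (vec5 0 0 0 0 1)
  rw [hw, h1, polar_vec5, polar_vec5] at p1
  rw [hw, h2, polar_vec5, polar_vec5] at p2
  rw [hw, h3, polar_vec5, polar_vec5] at p3
  rw [hw, h4, polar_vec5, polar_vec5] at p4
  have hd : d = 0 := by linear_combination p1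
  have hb : b = 0 := by linear_combination p2
  have he : e = 0 := by linear_combination p3
  have hc : c = 0 := by linear_combination p4
  have hq := mat_iso h (vec5 1 0 0 0 0)
  rw [hw, quad_vec5, quad_vec5, hb, hc, hd, he] at hq
  have ha : (a - 1) * (a + 1) = 0 := by linear_combination hq
  have hact : ∀ z x1 x2 y1 y2 : F, mat h *ᵥ vec5 z x1 x2 y1 y2 = vec5 (a * z) x1 x2 y1 y2 := by
    intro z x1 x2 y1 y2
    rw [vec5_decomp z x1 x2 y1 y2, Matrix.mulVec_add, Matrix.mulVec_add, Matrix.mulVec_add,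
      Matrix.mulVec_add, Matrix.mulVec_smul, Matrix.mulVec_smul, Matrix.mulVec_smul,
      Matrix.mulVec_smul, Matrix.mulVec_smul, hw, h1, h2, h3, h4, hb, hc, hd, he]
    simp only [vec5_smul, vec5_add]
    apply vec5_congr <;> ring
  rcases mul_eq_zero.mp ha with ha | ha
  · have ha1 : a = 1 := by linear_combination ha
    have : h = 1 := by
      apply mat_ext
      intro v
      rw [vec5_eta v, hact, ha1, one_mul, mat_one, Matrix.one_mulVec]
    rw [this]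
    exact Subgroup.one_mem _
  · have ha1 : a = -1 := by linear_combination ha
    have : h = negz := by
      apply mat_ext
      intro v
      rw [vec5_eta v, hact, ha1, negz_act, neg_one_mul]
    rw [this]
    exact negz_mem

theorem vec5_x1_ne_zero : vec5 (0 : F) 1 0 0 0 ≠ 0 := by
  intro h
  have := congrFun h (.inr (.inl 0))
  exact one_ne_zero this

theorem vec5_x2_ne_zero : vec5 (0 : F) 0 1 0 0 ≠ 0 := by
  intro h
  have := congrFun h (.inr (.inl 1))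
  exact one_ne_zero this

theorem mulVec_ne_zero (h : O5 F) (v : I5 → F) (hv : v ≠ 0) : mat h *ᵥ v ≠ 0 := by
  intro h0
  apply hv
  rw [← mat_inv_mulVec h v, h0, Matrix.mulVec_zero]

/-- `O_5(F)` is generated by the image of `Sp_4(F)` and the diagonal generators -/
theorem bigK_eq_top : bigK F = ⊤ := by
  rw [eq_top_iff]
  intro h _
  -- step 1
  have hq1 : Cfsg.quadFormOdd 2 F (mat h *ᵥ vec5 0 1 0 0 0) = 0 := by
    rw [mat_iso, quad_vec5]; ring
  obtain ⟨k1, hk1, e1⟩ := move_sing _ (mulVec_ne_zero h _ vec5_x1_ne_zero) hq1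
  rw [← mat_mul_mulVec] at e1
  -- step 2
  obtain ⟨z, x1, x2, y1, y2, hw⟩ : ∃ a b c d e, mat (k1 * h) *ᵥ vec5 0 0 0 1 0 = vec5 a b c d e :=
    ⟨_, _, _, _, _, vec5_eta _⟩
  have p := polar_mat (k1 * h) (vec5 0 0 0 1 0) (vec5 0 1 0 0 0)
  rw [hw, e1, polar_vec5, polar_vec5] at p
  have hy1 : y1 = 1 := by linear_combination p
  have hq2 := mat_iso (k1 * h) (vec5 0 0 0 1 0)
  rw [hw, quad_vec5, quad_vec5, hy1] at hq2
  have hq2' : z ^ 2 + x1 * 1 + x2 * y2 = 0 := by linear_combination hq2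
  obtain ⟨k2, hk2, f1, f2⟩ := move_y1 z x1 x2 y2 hq2'
  rw [hy1] at hw
  rw [← hw, ← mat_mul_mulVec] at f2
  rw [← e1, ← mat_mul_mulVec, e1] at f1
  -- step 3
  obtain ⟨z', x1', x2', y1', y2', hw3⟩ : ∃ a b c d e,
      mat (k2 * (k1 * h)) *ᵥ vec5 0 0 1 0 0 = vec5 a b c d e := ⟨_, _, _, _, _, vec5_eta _⟩
  have p31 := polar_mat (k2 * (k1 * h)) (vec5 0 0 1 0 0) (vec5 0 1 0 0 0)
  have p32 := polar_mat (k2 * (k1 * h)) (vec5 0 0 1 0 0) (vec5 0 0 0 1 0)
  rw [hw3, f1, polar_vec5, polar_vec5] at p31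
  rw [hw3, f2, polar_vec5, polar_vec5] at p32
  have hy1' : y1' = 0 := by linear_combination p31
  have hx1' : x1' = 0 := by linear_combination p32
  rw [hy1', hx1'] at hw3
  have hq3 := mat_iso (k2 * (k1 * h)) (vec5 0 0 1 0 0)
  rw [hw3, quad_vec5, quad_vec5] at hq3
  have hq3' : z' ^ 2 + 0 * 0 + x2' * y2' = 0 := by linear_combination hq3
  have hne3 : vec5 z' 0 x2' 0 y2' ≠ 0 := by
    rw [← hw3]; exact mulVec_ne_zero _ _ vec5_x2_ne_zero
  obtain ⟨k3, hk3, g1, g2, g3⟩ := move_x2' z' x2' y2' hne3 hq3'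
  rw [← hw3, ← mat_mul_mulVec] at g3
  rw [← f1, ← mat_mul_mulVec, f1] at g1
  rw [← f2, ← mat_mul_mulVec, f2] at g2
  -- step 4
  obtain ⟨z'', x1'', x2'', y1'', y2'', hw4⟩ : ∃ a b c d e,
      mat (k3 * (k2 * (k1 * h))) *ᵥ vec5 0 0 0 0 1 = vec5 a b c d e := ⟨_, _, _, _, _, vec5_eta _⟩
  have p41 := polar_mat (k3 * (k2 * (k1 * h))) (vec5 0 0 0 0 1) (vec5 0 1 0 0 0)
  have p42 := polar_mat (k3 * (k2 * (k1 * h))) (vec5 0 0 0 0 1) (vec5 0 0 0 1 0)
  have p43 := polar_mat (k3 * (k2 * (k1 * h))) (vec5 0 0 0 0 1) (vec5 0 0 1 0 0)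
  rw [hw4, g1, polar_vec5, polar_vec5] at p41
  rw [hw4, g2, polar_vec5, polar_vec5] at p42
  rw [hw4, g3, polar_vec5, polar_vec5] at p43
  have hy1'' : y1'' = 0 := by linear_combination p41
  have hx1'' : x1'' = 0 := by linear_combination p42
  have hy2'' : y2'' = 1 := by linear_combination p43
  rw [hy1'', hx1'', hy2''] at hw4
  have hq4 := mat_iso (k3 * (k2 * (k1 * h))) (vec5 0 0 0 0 1)
  rw [hw4, quad_vec5, quad_vec5] at hq4
  have hq4' : z'' ^ 2 + 0 * 0 + x2'' * 1 = 0 := by linear_combination hq4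
  obtain ⟨k4, hk4, l1, l2, l3, l4⟩ := move_y2 z'' x2'' hq4'
  rw [← hw4, ← mat_mul_mulVec] at l4
  rw [← g1, ← mat_mul_mulVec, g1] at l1
  rw [← g2, ← mat_mul_mulVec, g2] at l2
  rw [← g3, ← mat_mul_mulVec, g3] at l3
  -- step 5
  have hfin := fix_four (k4 * (k3 * (k2 * (k1 * h)))) l1 l2 l3 l4
  have h3 := ((bigK F).mul_mem_cancel_left hk4).mp hfin
  have h2 := ((bigK F).mul_mem_cancel_left hk3).mp h3
  have h1 := ((bigK F).mul_mem_cancel_left hk2).mp h2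
  exact ((bigK F).mul_mem_cancel_left hk1).mp h1

end Cfsg.Agent.Lib.Helper08.O5
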