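import Cfsg.Agent.Lib.Helper08.OOddMaxRows
import Cfsg.Agent.Lib.Helper01.OOddMaxN2a
import Cfsg.Agent.Lib.Helper27.OOddMaxX1
import Cfsg.Agent.Lib.Helper47.OOddMaxN5
import Cfsg.Agent.Lib.Helper51.OOddMaxN1
import Cfsg.Agent.Lib.Helper51.OOddMaxN3
import Cfsg.Agent.Lib.Helper67.OOddMaxN2b
import Cfsg.Agent.Lib.Helper85.OOddMaxN7
import Cfsg.Agent.Lib.Helper22.OOddMaxXB

/-!
# The keystones of the `Ω_{2m+1}` maximal-subgroup rows, assembled (helper8)

Leaves by helper51 (N1, N3), helper1 (N2a), helper67 (N2b), helper47 (N5), helper85 (N7), helper27 (X1), helper22 (XB).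
-/

set_option autoImplicit false
set_option linter.unusedSectionVars false
set_option linter.unusedVariables false

namespace Cfsg.Agent.Lib.Helper08.OOddMax

open Cfsg Cfsg.Geo
open scoped Matrix Kronecker MatrixGroups

variable {m : ℕ} {F : Type*} [Field F] [Fintype F]

theorem hypN1 (hodd : Odd (Fintype.card F)) (hm : 3 ≤ m) : HypN1 m F :=
  fun W h0 h1 => Cfsg.Agent.Lib.Helper51.OOddMax.omega_not_le_subspaceStabilizer hodd hm W h0 h1

theorem hypN2a (hodd : Odd (Fintype.card F)) (hm : 3 ≤ m) : HypN2a m F :=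
  fun D hD => Cfsg.Agent.Lib.Helper01.OOddMax.omega_not_le_decompositionStabilizer_one hodd hm D hD

theorem hypN2b (hodd : Odd (Fintype.card F)) (hm : 3 ≤ m) : HypN2b m F :=
  fun hk D hD =>
    Cfsg.Agent.Lib.Helper67.OOddMax.omega_not_le_decompositionStabilizer_of_three_le hodd hm hk D hD

theorem hypN3 (hodd : Odd (Fintype.card F)) (hm : 3 ≤ m) : HypN3 m F :=
  fun hr K hK => Cfsg.Agent.Lib.Helper51.OOddMax.omega_not_le_subalgebraNormalizer hodd hm hr K hK

theorem hypN5 (hodd : Odd (Fintype.card F)) (hm : 3 ≤ m) : HypN5 m F :=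
  fun F₀ r hr hF P hP =>
    Cfsg.Agent.Lib.Helper47.OOddMax.omega_not_le_subfieldSubgroup hodd hm F₀ r hr hF P hP

theorem hypN7 (hodd : Odd (Fintype.card F)) : HypN7 F :=
  fun e P f₁ h₁ hT => Cfsg.Agent.Lib.Helper85.OOddMax.omega_not_le_tensorWreathSubgroup hodd e P f₁ h₁ hT

theorem hypX1 (hodd : Odd (Fintype.card F)) : HypX1 m F :=
  fun W hW => Cfsg.Agent.Lib.Helper27.OOddMax.exists_perp_of_isNondegenerateOn hodd W hW

theorem hypXB (hq : Fintype.card F = 3) : HypXB m F :=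
  fun D hD => Cfsg.Agent.Lib.Helper22.OOddMax.three_spaces_le_lines_of_card_three hq D hD

end Cfsg.Agent.Lib.Helper08.OOddMax
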