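import Mathlib
import Cfsg.Prelude.Def_GeometricClasses
import Cfsg.Agent.Lib.Helper36.SLMaxD2
import Cfsg.Agent.Lib.Helper63.SLMaxD3

/-!
# Glue for the `Ω_{2m+1}` maximal-subgroup rows S5814, S5835, S5859 (helper8)

Form-independent steps: `scalars ⊓ Ω = ⊥` in odd dimension, the maximality step, dimension arithmetic on
`Unit ⊕ (Fin m ⊕ Fin m) → F`.
-/

set_option autoImplicit false
set_option linter.unusedSectionVars false
set_option linter.style.haveILetI false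

namespace Cfsg.Agent.Lib.Helper08.OOddMax

open Cfsg Cfsg.Geo
open scoped Matrix Kronecker MatrixGroups

variable {F : Type*} [Field F] [Fintype F] {m : ℕ}

theorem card_idx : Fintype.card (Unit ⊕ (Fin m ⊕ Fin m)) = 2 * m + 1 := by
  rw [Fintype.card_sum, Fintype.card_sum, Fintype.card_fin, Fintype.card_unit]; omega

theorem finrank_fun : Module.finrank F (Unit ⊕ (Fin m ⊕ Fin m) → F) = 2 * m + 1 := by
  rw [Module.finrank_fintype_fun_eq_card, card_idx]

/-- K-OOddMax-D2. -/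
theorem mul_eq_of_isMDecomposition {t k : ℕ} (D : Fin t → Submodule F (Unit ⊕ (Fin m ⊕ Fin m) → F))
    (hD : IsMDecomposition k D) : t * k = 2 * m + 1 := by
  have h := Cfsg.Agent.Lib.Helper36.SLMax.finrank_eq_sum_of_indep D hD.indep hD.iSup_eq_top
  rw [finrank_fun] at h
  rw [h]
  simp [hD.finrank_eq]

/-- K-OOddMax-D3. -/
theorem dvd_of_isFieldSubalgebra {r : ℕ}
    (K : Subalgebra F (Matrix (Unit ⊕ (Fin m ⊕ Fin m)) (Unit ⊕ (Fin m ⊕ Fin m)) F))
    (hK : IsFieldSubalgebra r K) : r ∣ 2 * m + 1 := by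
  have hnt : Nontrivial K := ⟨⟨0, 1, fun h => zero_ne_one (congrArg Subtype.val h)⟩⟩
  have hfield : IsField K :=
    { exists_pair_ne := ⟨0, 1, zero_ne_one⟩
      mul_comm := fun x y => Subtype.ext (hK.comm x x.2 y y.2)
      mul_inv_cancel := fun {a} ha => by
        obtain ⟨y, hy, hxy⟩ := hK.inv a a.2 (fun h => ha (Subtype.ext h))
        exact ⟨⟨y, hy⟩, Subtype.ext hxy⟩ }
  letI : Field K := hfield.toField
  have h1 := Cfsg.Agent.Lib.Helper63.SLMax.finrank_dvd_of_algHom (F := F) (L := K)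
    (V := Unit ⊕ (Fin m ⊕ Fin m) → F)
    ((Matrix.toLinAlgEquiv' : Matrix (Unit ⊕ (Fin m ⊕ Fin m)) (Unit ⊕ (Fin m ⊕ Fin m)) F ≃ₐ[F]
      Module.End F (Unit ⊕ (Fin m ⊕ Fin m) → F)).toAlgHom.comp K.val)
  rw [hK.finrank_eq, finrank_fun] at h1
  exact h1

/-- elements of `Ω` have determinant one -/
theorem det_eq_one_of_mem_omegaGL {ι : Type} [Fintype ι] [DecidableEq ι] (Q : (ι → F) → F)
    (g : GL ι F) (hg : g ∈ omegaGL Q) : (g : Matrix ι ι F).det = 1 := by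
  unfold omegaGL at hg
  obtain ⟨x, hx, rfl⟩ := hg
  set φ : ↥(isometryGroup F Q) →* Fˣ :=
    (Matrix.GeneralLinearGroup.det).comp (isometryGroup F Q).subtype with hφ
  have hker : x ∈ φ.ker := Abelianization.commutator_subset_ker φ hx
  have h1 : φ x = 1 := hker
  have h2 : ((φ x : Fˣ) : F) = 1 := by rw [h1]; rfl
  simpa [hφ] using h2

theorem omegaGL_le_isometryGroup {ι : Type} [Fintype ι] [DecidableEq ι] (Q : (ι → F) → F) :
    omegaGL Q ≤ isometryGroup F Q := by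
  intro g hg
  unfold omegaGL at hg
  obtain ⟨x, -, rfl⟩ := hg
  exact x.2

/-- K-OOddMax-G1: in odd dimension `Ω` contains no scalar but the identity. -/
theorem scalars_inf_omegaGL_eq_bot :
    scalars (Unit ⊕ (Fin m ⊕ Fin m)) F ⊓ omegaGL (quadFormOdd m F) = ⊥ := by
  rw [eq_bot_iff]
  intro g hg
  obtain ⟨hs, hΩ⟩ := hg
  have hs' : g ∈ scalars (Unit ⊕ (Fin m ⊕ Fin m)) F := hs
  have hΩ' : g ∈ omegaGL (quadFormOdd m F) := hΩ
  clear hs hΩ
  rw [mem_scalars_iff] at hs'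
  obtain ⟨c, hc⟩ := hs'
  have hI := omegaGL_le_isometryGroup _ hΩ'
  have hdet := det_eq_one_of_mem_omegaGL _ g hΩ'
  -- `c ^ 2 = 1`
  have hQ : quadFormOdd m F
      ((g : Matrix (Unit ⊕ (Fin m ⊕ Fin m)) (Unit ⊕ (Fin m ⊕ Fin m)) F) *ᵥ (Pi.single (Sum.inl ()) 1)) =
      quadFormOdd m F (Pi.single (Sum.inl ()) 1) := hI (Pi.single (Sum.inl ()) 1) 0
  rw [hc, Matrix.smul_mulVec, Matrix.one_mulVec] at hQ
  have hsq : (c : F) ^ 2 = 1 := by
    unfold quadFormOdd at hQ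
    simpa using hQ
  -- `det = c ^ (2 m + 1) = c`
  rw [hc, Matrix.det_smul, Matrix.det_one, mul_one, card_idx, pow_succ, pow_mul, hsq, one_pow,
    one_mul] at hdet
  rw [Subgroup.mem_bot]
  apply Units.ext
  rw [hc, hdet, one_smul]
  rfl

/-- the maximality step -/
theorem eq_inf_of_le {G : Type*} [Group G] {Ω H X : Subgroup G} (hH : IsMaximalIn Ω H) (hHX : H ≤ X)
    (hX : ¬ Ω ≤ X) : H = X ⊓ Ω := by
  rcases hH.2 (X ⊓ Ω) (le_inf hHX hH.1.le) inf_le_right with h | h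
  · exact h.symm
  · exact absurd (h ▸ inf_le_left : Ω ≤ X) hX

/-- a maximal subgroup that lies in a non-maximal proper subgroup: contradiction -/
theorem false_of_le_nonmax {G : Type*} [Group G] {Ω H Y : Subgroup G} (hH : IsMaximalIn Ω H)
    (hHY : H ≤ Y) (hY : ∃ K : Subgroup G, Y < K ∧ K < Ω) : False := by
  obtain ⟨K, hYK, hKΩ⟩ := hY
  rcases hH.2 K (hHY.trans hYK.le) hKΩ.le with h | h
  · exact absurd (h ▸ hYK : Y < H) (not_lt_of_ge hHY)
  · exact absurd h hKΩ.ne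

/-- the hypothesis `hproper` of the Aschbacher-type theorem holds for maximal subgroups of `Ω_{2m+1}` -/
theorem sup_scalars_ne_of_isMaximalIn (H : Subgroup (GL (Unit ⊕ (Fin m ⊕ Fin m)) F))
    (hH : IsMaximalIn (omegaGL (quadFormOdd m F)) H) :
    H ⊔ (scalars (Unit ⊕ (Fin m ⊕ Fin m)) F ⊓ omegaGL (quadFormOdd m F)) ≠ omegaGL (quadFormOdd m F) := by
  rw [scalars_inf_omegaGL_eq_bot, sup_bot_eq]
  exact hH.1.ne

end Cfsg.Agent.Lib.Helper08.OOddMax
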