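import Mathlib
import Cfsg.Prelude.Def_GeometricClasses
import Cfsg.Agent.Lib.Helper08.OOddMaxGlue
import Cfsg.Agent.Lib.Helper50.NonMaxPlane

/-!
# The `Ω_{2m+1}` maximal-subgroup rows S5814, S5835, S5859 from their keystones (helper8)

Everything here is proved from explicit hypotheses (`HypA` = the statement of S5673, `HypN1`, ... = the keystones of
`notes/OOddMax_keystones.lean.txt`); the row files instantiate them.
-/

set_option autoImplicit false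
set_option linter.unusedSectionVars false
set_option linter.unusedVariables false

namespace Cfsg.Agent.Lib.Helper08.OOddMax

open Cfsg Cfsg.Geo
open scoped Matrix Kronecker MatrixGroups

variable (m : ℕ) (F : Type*) [Field F] [Fintype F]

/-- the statement of S5673 -/
def HypA : Prop :=
  ∀ (H : Subgroup (GL (Unit ⊕ (Fin m ⊕ Fin m)) F)), H ≤ omegaGL (quadFormOdd m F) →
    H ⊔ (scalars (Unit ⊕ (Fin m ⊕ Fin m)) F ⊓ omegaGL (quadFormOdd m F)) ≠ omegaGL (quadFormOdd m F) →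
    (∃ M : Subgroup (GL (Unit ⊕ (Fin m ⊕ Fin m)) F), InOrthogonalOddClass m F M ∧ H ≤ M) ∨
      InOrthogonalResidualClass H

def HypN1 : Prop :=
  ∀ W : Submodule F (Unit ⊕ (Fin m ⊕ Fin m) → F), W ≠ ⊥ → W ≠ ⊤ →
    ¬ omegaGL (quadFormOdd m F) ≤ subspaceStabilizer W

def HypN2a : Prop :=
  ∀ {t : ℕ} (D : Fin t → Submodule F (Unit ⊕ (Fin m ⊕ Fin m) → F)),
    IsOrthogonalMDecomposition (quadFormOdd m F) 1 D →
    ¬ omegaGL (quadFormOdd m F) ≤ decompositionStabilizer D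

def HypN2b : Prop :=
  ∀ {t k : ℕ}, 3 ≤ k → ∀ (D : Fin t → Submodule F (Unit ⊕ (Fin m ⊕ Fin m) → F)),
    IsOrthogonalMDecomposition (quadFormOdd m F) k D →
    ¬ omegaGL (quadFormOdd m F) ≤ decompositionStabilizer D

def HypN3 : Prop :=
  ∀ {r : ℕ}, 2 ≤ r →
    ∀ (K : Subalgebra F (Matrix (Unit ⊕ (Fin m ⊕ Fin m)) (Unit ⊕ (Fin m ⊕ Fin m)) F)),
    IsFieldSubalgebra r K → ¬ omegaGL (quadFormOdd m F) ≤ subalgebraNormalizer K

def HypN5 : Prop :=
  ∀ (F₀ : Subfield F) (r : ℕ), r.Prime → Fintype.card F = Nat.card F₀ ^ r →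
    ∀ (P : GL (Unit ⊕ (Fin m ⊕ Fin m)) F), IsQuadFormRationalStructure (quadFormOdd m F) F₀ P →
    ¬ omegaGL (quadFormOdd m F) ≤ subfieldSubgroup F₀ P

def HypX1 : Prop :=
  ∀ W : Submodule F (Unit ⊕ (Fin m ⊕ Fin m) → F),
    IsNondegenerateOn (QuadraticMap.polar (quadFormOdd m F)) W →
    ∃ W' : Submodule F (Unit ⊕ (Fin m ⊕ Fin m) → F),
      IsNondegenerateOn (QuadraticMap.polar (quadFormOdd m F)) W' ∧
      Module.finrank F W + Module.finrank F W' = 2 * m + 1 ∧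
      subspaceStabilizer W ⊓ isometryGroup F (quadFormOdd m F) =
        subspaceStabilizer W' ⊓ isometryGroup F (quadFormOdd m F)

def HypXB : Prop :=
  ∀ {t : ℕ} (D : Fin t → Submodule F (Unit ⊕ (Fin m ⊕ Fin m) → F)),
    IsOrthogonalMDecomposition (quadFormOdd m F) 3 D →
    ∃ D' : Fin (t * 3) → Submodule F (Unit ⊕ (Fin m ⊕ Fin m) → F),
      IsOrthogonalMDecomposition (quadFormOdd m F) 1 D' ∧
      decompositionStabilizer D ⊓ isometryGroup F (quadFormOdd m F) ≤ decompositionStabilizer D'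

/-- the keystone N7 (only for `Ω₉`) -/
def HypN7 (F : Type*) [Field F] [Fintype F] : Prop :=
  ∀ (e : (Unit ⊕ (Fin 4 ⊕ Fin 4)) ≃ (Fin 2 → Fin 3)) (P : GL (Unit ⊕ (Fin 4 ⊕ Fin 4)) F)
    (f₁ : (Fin 3 → F) → (Fin 3 → F) → F), IsSymmetricForm f₁ →
    IsTensorPowerFormStructure id (QuadraticMap.polar (quadFormOdd 4 F)) f₁ e P →
    ¬ omegaGL (quadFormOdd 4 F) ≤ tensorWreathSubgroup 3 2 e P

variable {m F}

/-- K-OOddMax-XA: over the field with three elements the stabiliser of a plus-type plane is not maximal -/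
theorem nonmax_plus_plane_odd (hq : Fintype.card F = 3) (hm : 2 ≤ m)
    (W : Submodule F (Unit ⊕ (Fin m ⊕ Fin m) → F)) (hdim : Module.finrank F W = 2)
    (hW : IsNondegenerateOn (QuadraticMap.polar (quadFormOdd m F)) W)
    (hplus : IsPlusTypeOn (quadFormOdd m F) W) :
    ∃ K : Subgroup (GL (Unit ⊕ (Fin m ⊕ Fin m)) F),
      subspaceStabilizer W ⊓ omegaGL (quadFormOdd m F) < K ∧ K < omegaGL (quadFormOdd m F) := by
  classical
  have hodd : Odd (Fintype.card F) := by rw [hq]; decide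
  have h2 : (2 : F) ≠ 0 := Cfsg.Agent.Lib.Helper50.two_ne_zero_of_odd_card rfl hodd
  have hdet : (Matrix.fromBlocks ((2 * (1 : F)) • (1 : Matrix Unit Unit F))
        (0 : Matrix Unit (Fin m ⊕ Fin m) F) (0 : Matrix (Fin m ⊕ Fin m) Unit F)
        (Matrix.fromBlocks (0 : Matrix (Fin m) (Fin m) F) (1 : Matrix (Fin m) (Fin m) F)
        (1 : Matrix (Fin m) (Fin m) F) (0 : Matrix (Fin m) (Fin m) F))).det ≠ 0 := by
    rw [Cfsg.Agent.Lib.Helper50.det_odd_gram]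
    exact mul_ne_zero (mul_ne_zero h2 one_ne_zero) (pow_ne_zero _ (neg_ne_zero.mpr one_ne_zero))
  set Q : QuadraticForm F (Unit ⊕ (Fin m ⊕ Fin m) → F) := Cfsg.Agent.Lib.Helper50.QOdd m F with hQdef
  have hQcoe : (⇑Q : (Unit ⊕ (Fin m ⊕ Fin m) → F) → F) = Cfsg.quadFormOdd m F := rfl
  have hQ : (QuadraticMap.polarBilin Q).Nondegenerate :=
    Cfsg.Agent.Lib.Helper50.qfOfPolar_nondegenerate _ _ _ _ hdet
  have h := Cfsg.Agent.Lib.Helper50.nonmax_plus_plane Q hQ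
    (by rw [card_idx]; omega) (by rw [hq]) W hdim hW hplus
  exact h

/-- the four classes common to all rows are settled; the other four are returned with `H ≤ X` -/
theorem common (hodd : Odd (Fintype.card F)) (hm : 3 ≤ m) (hA : HypA m F) (hN1 : HypN1 m F)
    (hN2a : HypN2a m F) (hN5 : HypN5 m F) (hX1 : HypX1 m F)
    (H : Subgroup (GL (Unit ⊕ (Fin m ⊕ Fin m)) F)) (hH : IsMaximalIn (omegaGL (quadFormOdd m F)) H) :
    (∃ W : Submodule F (Unit ⊕ (Fin m ⊕ Fin m) → F), W ≠ ⊥ ∧ IsTotallySingularQuad (quadFormOdd m F) W ∧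
      H = subspaceStabilizer W ⊓ omegaGL (quadFormOdd m F)) ∨
    (∃ W : Submodule F (Unit ⊕ (Fin m ⊕ Fin m) → F), W ≠ ⊥ ∧ Even (Module.finrank F W) ∧
      IsNondegenerateOn (QuadraticMap.polar (quadFormOdd m F)) W ∧
      ¬ (Fintype.card F = 3 ∧ Module.finrank F W = 2 ∧ IsPlusTypeOn (quadFormOdd m F) W) ∧
      H = subspaceStabilizer W ⊓ omegaGL (quadFormOdd m F)) ∨
    ((Fintype.card F).Prime ∧ ∃ D : Fin (2 * m + 1) → Submodule F (Unit ⊕ (Fin m ⊕ Fin m) → F),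
      IsOrthogonalMDecomposition (quadFormOdd m F) 1 D ∧
      H = decompositionStabilizer D ⊓ omegaGL (quadFormOdd m F)) ∨
    (∃ (F₀ : Subfield F) (r : ℕ) (P : GL (Unit ⊕ (Fin m ⊕ Fin m)) F), r.Prime ∧
      Fintype.card F = Nat.card F₀ ^ r ∧ IsQuadFormRationalStructure (quadFormOdd m F) F₀ P ∧
      H = subfieldSubgroup F₀ P ⊓ omegaGL (quadFormOdd m F)) ∨
    InOrthogonalResidualClass H ∨
    (∃ (t k : ℕ) (D : Fin t → Submodule F (Unit ⊕ (Fin m ⊕ Fin m) → F)), 1 < k ∧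
      IsOrthogonalMDecomposition (quadFormOdd m F) k D ∧ H ≤ decompositionStabilizer D) ∨
    (∃ (r : ℕ) (K : Subalgebra F (Matrix (Unit ⊕ (Fin m ⊕ Fin m)) (Unit ⊕ (Fin m ⊕ Fin m)) F)), r.Prime ∧
      2 * m + 1 ≠ r ∧ IsFieldSubalgebra r K ∧
      IsSelfAdjointFor (QuadraticMap.polar (quadFormOdd m F)) K ∧ H ≤ subalgebraNormalizer K) ∨
    (∃ (n₁ n₂ : ℕ), 3 ≤ n₁ ∧ n₁ < n₂ ∧ Nonempty ((Unit ⊕ (Fin m ⊕ Fin m)) ≃ Fin n₁ × Fin n₂)) ∨
    (∃ (k t : ℕ) (e : (Unit ⊕ (Fin m ⊕ Fin m)) ≃ (Fin t → Fin k)) (P : GL (Unit ⊕ (Fin m ⊕ Fin m)) F)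
      (f₁ : (Fin k → F) → (Fin k → F) → F), 3 ≤ k ∧ 2 ≤ t ∧ ¬ (Fintype.card F = 3 ∧ k = 3) ∧
      IsSymmetricForm f₁ ∧ IsTensorPowerFormStructure id (QuadraticMap.polar (quadFormOdd m F)) f₁ e P ∧
      H ≤ tensorWreathSubgroup k t e P) := by
  classical
  have hΩI := omegaGL_le_isometryGroup (F := F) (quadFormOdd m F)
  rcases hA H hH.1.le (sup_scalars_ne_of_isMaximalIn H hH) with ⟨M, hM, hHM⟩ | hres
  swap
  · exact Or.inr (Or.inr (Or.inr (Or.inr (Or.inl hres))))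
  -- the nondegenerate-subspace case, once the dimension is even
  have nondeg : ∀ W : Submodule F (Unit ⊕ (Fin m ⊕ Fin m) → F), W ≠ ⊥ → W ≠ ⊤ →
      Even (Module.finrank F W) → IsNondegenerateOn (QuadraticMap.polar (quadFormOdd m F)) W →
      H ≤ subspaceStabilizer W →
      ∃ W : Submodule F (Unit ⊕ (Fin m ⊕ Fin m) → F), W ≠ ⊥ ∧ Even (Module.finrank F W) ∧
        IsNondegenerateOn (QuadraticMap.polar (quadFormOdd m F)) W ∧
        ¬ (Fintype.card F = 3 ∧ Module.finrank F W = 2 ∧ IsPlusTypeOn (quadFormOdd m F) W) ∧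
        H = subspaceStabilizer W ⊓ omegaGL (quadFormOdd m F) := by
    intro W h0 h1 hev hnd hHW
    have hEq := eq_inf_of_le hH hHW (hN1 W h0 h1)
    refine ⟨W, h0, hev, hnd, ?_, hEq⟩
    rintro ⟨hq, hdim, hplus⟩
    exact false_of_le_nonmax hH hEq.le (nonmax_plus_plane_odd hq (by omega) W hdim hnd hplus)
  rcases hM with ⟨W, h0, hts, rfl⟩ | ⟨W, h0, h1, hnd, rfl⟩ | ⟨t, k, D, hk, hD, rfl⟩ |
    ⟨t, D, hp, hD, rfl⟩ | ⟨r, K, hr, hrn, hK, hsa, rfl⟩ | ⟨n₁, n₂, e, P, f₁, f₂, h3, hlt, -, -, -, rfl⟩ |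
    ⟨F₀, r, P, hr, hcard, hP, rfl⟩ | ⟨k, t, e, P, f₁, hk, ht, hex, hf₁, hT, rfl⟩
  · -- totally singular subspace
    left
    have h1 : W ≠ ⊤ := by
      rintro rfl
      have := hts (Pi.single (Sum.inl ()) 1) Submodule.mem_top
      unfold quadFormOdd at this
      simp at this
    exact ⟨W, h0, hts, eq_inf_of_le hH (hHM.trans inf_le_left) (hN1 W h0 h1)⟩
  · -- nondegenerate subspace
    right; left
    have hlt : Module.finrank F W < 2 * m + 1 := by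
      have := Submodule.finrank_lt h1
      rwa [finrank_fun] at this
    have hpos : 0 < Module.finrank F W := by
      rw [Module.finrank_pos_iff]
      exact Submodule.nontrivial_iff_ne_bot.mpr h0
    rcases Nat.even_or_odd (Module.finrank F W) with hev | hoddW
    · exact nondeg W h0 h1 hev hnd (hHM.trans inf_le_left)
    · obtain ⟨W', hnd', hsum, hstab⟩ := hX1 W hnd
      have hW'pos : 0 < Module.finrank F W' := by omega
      have h0' : W' ≠ ⊥ := by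
        rintro rfl
        rw [finrank_bot] at hW'pos
        exact lt_irrefl _ hW'pos
      have h1' : W' ≠ ⊤ := by
        rintro rfl
        rw [finrank_top, finrank_fun] at hsum
        omega
      have hev' : Even (Module.finrank F W') := by
        obtain ⟨a, ha⟩ := hoddW
        exact ⟨m - a, by omega⟩
      refine nondeg W' h0' h1' hev' hnd' ?_
      have : H ≤ subspaceStabilizer W' ⊓ isometryGroup F (quadFormOdd m F) := hstab ▸ hHM
      exact this.trans inf_le_left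
  · -- decomposition, blocks of dimension > 1
    right; right; right; right; right; left
    exact ⟨t, k, D, hk, hD, hHM.trans inf_le_left⟩
  · -- decomposition into lines
    right; right; left
    refine ⟨hp, ?_⟩
    have htk := mul_eq_of_isMDecomposition D hD.decomp.decomp
    rw [mul_one] at htk
    subst htk
    exact ⟨D, hD, eq_inf_of_le hH (hHM.trans inf_le_left) (hN2a D hD)⟩
  · -- field subalgebra
    right; right; right; right; right; right; left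
    exact ⟨r, K, hr, hrn, hK, hsa, hHM.trans inf_le_left⟩
  · -- tensor product
    right; right; right; right; right; right; right; left
    exact ⟨n₁, n₂, h3, hlt, ⟨e⟩⟩
  · -- subfield
    right; right; right; left
    exact ⟨F₀, r, P, hr, hcard, hP, eq_inf_of_le hH (hHM.trans inf_le_left) (hN5 F₀ r hr hcard P hP)⟩
  · -- tensor wreath
    right; right; right; right; right; right; right; right
    exact ⟨k, t, e, P, f₁, hk, ht, hex, hf₁, hT, hHM.trans inf_le_left⟩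


theorem five_le_card (hodd : Odd (Fintype.card F)) (h3 : Fintype.card F ≠ 3) : 5 ≤ Fintype.card F := by
  have h1 : 1 < Fintype.card F := Fintype.one_lt_card
  obtain ⟨a, ha⟩ := hodd
  omega

theorem card_pi_fin (t k : ℕ) : Fintype.card (Fin t → Fin k) = k ^ t := by
  rw [Fintype.card_fun, Fintype.card_fin, Fintype.card_fin]

/-- no tensor-product class member in dimension `2 m + 1 ≤ 11` -/
theorem no_tensor (hm : 2 * m + 1 ≤ 11) {n₁ n₂ : ℕ} (h3 : 3 ≤ n₁) (hlt : n₁ < n₂)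
    (e : (Unit ⊕ (Fin m ⊕ Fin m)) ≃ Fin n₁ × Fin n₂) : False := by
  have h := Fintype.card_congr e
  rw [card_idx, Fintype.card_prod, Fintype.card_fin, Fintype.card_fin] at h
  nlinarith

/-- **S5814**: maximal subgroups of `Ω₇(q)`. -/
theorem row7 (hodd : Odd (Fintype.card F)) (hA : HypA 3 F) (hN1 : HypN1 3 F)
    (hN2a : HypN2a 3 F) (hN5 : HypN5 3 F) (hX1 : HypX1 3 F)
    (H : Subgroup (GL (Unit ⊕ (Fin 3 ⊕ Fin 3)) F)) (hH : IsMaximalIn (omegaGL (quadFormOdd 3 F)) H) :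
    (∃ W : Submodule F (Unit ⊕ (Fin 3 ⊕ Fin 3) → F), W ≠ ⊥ ∧ IsTotallySingularQuad (quadFormOdd 3 F) W ∧ H = subspaceStabilizer W ⊓ omegaGL (quadFormOdd 3 F)) ∨
    (∃ W : Submodule F (Unit ⊕ (Fin 3 ⊕ Fin 3) → F), W ≠ ⊥ ∧ Even (Module.finrank F W) ∧ IsNondegenerateOn (QuadraticMap.polar (quadFormOdd 3 F)) W ∧ ¬ (Fintype.card F = 3 ∧ Module.finrank F W = 2 ∧ IsPlusTypeOn (quadFormOdd 3 F) W) ∧ H = subspaceStabilizer W ⊓ omegaGL (quadFormOdd 3 F)) ∨
    ((Fintype.card F).Prime ∧ ∃ D : Fin 7 → Submodule F (Unit ⊕ (Fin 3 ⊕ Fin 3) → F), IsOrthogonalMDecomposition (quadFormOdd 3 F) 1 D ∧ H = decompositionStabilizer D ⊓ omegaGL (quadFormOdd 3 F)) ∨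
    (∃ (F₀ : Subfield F) (r : ℕ) (P : GL (Unit ⊕ (Fin 3 ⊕ Fin 3)) F), r.Prime ∧ Fintype.card F = Nat.card F₀ ^ r ∧ IsQuadFormRationalStructure (quadFormOdd 3 F) F₀ P ∧ H = subfieldSubgroup F₀ P ⊓ omegaGL (quadFormOdd 3 F)) ∨
    InOrthogonalResidualClass H := by
  rcases common hodd le_rfl hA hN1 hN2a hN5 hX1 H hH with h | h | h | h | h |
    ⟨t, k, D, hk, hD, -⟩ | ⟨r, K, hr, hrn, hK, -, -⟩ | ⟨n₁, n₂, h3, hlt, ⟨e⟩⟩ |
    ⟨k, t, e, P, f₁, hk, ht, -, -, -, -⟩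
  · exact Or.inl h
  · exact Or.inr (Or.inl h)
  · exact Or.inr (Or.inr (Or.inl h))
  · exact Or.inr (Or.inr (Or.inr (Or.inl h)))
  · exact Or.inr (Or.inr (Or.inr (Or.inr h)))
  · exfalso
    have h1 := mul_eq_of_isMDecomposition D hD.decomp.decomp
    have h2 := hD.decomp.decomp.two_le
    have h3 : t ≤ 3 := by nlinarith
    interval_cases t <;> omega
  · exfalso
    have h1 := dvd_of_isFieldSubalgebra K hK
    have h2 := (Nat.prime_dvd_prime_iff_eq hr (by norm_num : Nat.Prime (2 * 3 + 1))).mp h1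
    exact hrn h2.symm
  · exact (no_tensor (by norm_num) h3 hlt e).elim
  · exfalso
    have h := Fintype.card_congr e
    rw [card_idx, card_pi_fin] at h
    have h1 : k ^ 2 ≤ k ^ t := Nat.pow_le_pow_right (by omega) ht
    nlinarith

/-- **S5859**: maximal subgroups of `Ω₁₁(q)`. -/
theorem row11 (hodd : Odd (Fintype.card F)) (hA : HypA 5 F) (hN1 : HypN1 5 F)
    (hN2a : HypN2a 5 F) (hN5 : HypN5 5 F) (hX1 : HypX1 5 F)
    (H : Subgroup (GL (Unit ⊕ (Fin 5 ⊕ Fin 5)) F)) (hH : IsMaximalIn (omegaGL (quadFormOdd 5 F)) H) :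
    (∃ W : Submodule F (Unit ⊕ (Fin 5 ⊕ Fin 5) → F), W ≠ ⊥ ∧ IsTotallySingularQuad (quadFormOdd 5 F) W ∧ H = subspaceStabilizer W ⊓ omegaGL (quadFormOdd 5 F)) ∨
    (∃ W : Submodule F (Unit ⊕ (Fin 5 ⊕ Fin 5) → F), W ≠ ⊥ ∧ Even (Module.finrank F W) ∧ IsNondegenerateOn (QuadraticMap.polar (quadFormOdd 5 F)) W ∧ ¬ (Fintype.card F = 3 ∧ Module.finrank F W = 2 ∧ IsPlusTypeOn (quadFormOdd 5 F) W) ∧ H = subspaceStabilizer W ⊓ omegaGL (quadFormOdd 5 F)) ∨
    ((Fintype.card F).Prime ∧ ∃ D : Fin 11 → Submodule F (Unit ⊕ (Fin 5 ⊕ Fin 5) → F), IsOrthogonalMDecomposition (quadFormOdd 5 F) 1 D ∧ H = decompositionStabilizer D ⊓ omegaGL (quadFormOdd 5 F)) ∨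
    (∃ (F₀ : Subfield F) (r : ℕ) (P : GL (Unit ⊕ (Fin 5 ⊕ Fin 5)) F), r.Prime ∧ Fintype.card F = Nat.card F₀ ^ r ∧ IsQuadFormRationalStructure (quadFormOdd 5 F) F₀ P ∧ H = subfieldSubgroup F₀ P ⊓ omegaGL (quadFormOdd 5 F)) ∨
    InOrthogonalResidualClass H := by
  rcases common hodd (by norm_num) hA hN1 hN2a hN5 hX1 H hH with h | h | h | h | h |
    ⟨t, k, D, hk, hD, -⟩ | ⟨r, K, hr, hrn, hK, -, -⟩ | ⟨n₁, n₂, h3, hlt, ⟨e⟩⟩ |
    ⟨k, t, e, P, f₁, hk, ht, -, -, -, -⟩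
  · exact Or.inl h
  · exact Or.inr (Or.inl h)
  · exact Or.inr (Or.inr (Or.inl h))
  · exact Or.inr (Or.inr (Or.inr (Or.inl h)))
  · exact Or.inr (Or.inr (Or.inr (Or.inr h)))
  · exfalso
    have h1 := mul_eq_of_isMDecomposition D hD.decomp.decomp
    have h2 := hD.decomp.decomp.two_le
    have h3 : t ≤ 5 := by nlinarith
    interval_cases t <;> omega
  · exfalso
    have h1 := dvd_of_isFieldSubalgebra K hK
    have h2 := (Nat.prime_dvd_prime_iff_eq hr (by norm_num : Nat.Prime (2 * 5 + 1))).mp h1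
    exact hrn h2.symm
  · exact (no_tensor (by norm_num) h3 hlt e).elim
  · exfalso
    have h := Fintype.card_congr e
    rw [card_idx, card_pi_fin] at h
    have h1 : k ^ 2 ≤ k ^ t := Nat.pow_le_pow_right (by omega) ht
    have h2 : k ≤ 3 := by nlinarith
    have h3 : k = 3 := by omega
    subst h3
    have h4 : t ≤ 2 := by
      by_contra hcon
      have : 3 ^ 3 ≤ 3 ^ t := Nat.pow_le_pow_right (by norm_num) (by omega)
      omega
    have h5 : t = 2 := by omega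
    subst h5
    norm_num at h

/-- **S5835**: maximal subgroups of `Ω₉(q)`. -/
theorem row9 (hodd : Odd (Fintype.card F)) (hA : HypA 4 F) (hN1 : HypN1 4 F)
    (hN2a : HypN2a 4 F) (hN2b : HypN2b 4 F) (hN3 : HypN3 4 F) (hN5 : HypN5 4 F) (hN7 : HypN7 F)
    (hX1 : HypX1 4 F) (hXB : Fintype.card F = 3 → HypXB 4 F)
    (H : Subgroup (GL (Unit ⊕ (Fin 4 ⊕ Fin 4)) F)) (hH : IsMaximalIn (omegaGL (quadFormOdd 4 F)) H) :
    (∃ W : Submodule F (Unit ⊕ (Fin 4 ⊕ Fin 4) → F), W ≠ ⊥ ∧ IsTotallySingularQuad (quadFormOdd 4 F) W ∧ H = subspaceStabilizer W ⊓ omegaGL (quadFormOdd 4 F)) ∨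
    (∃ W : Submodule F (Unit ⊕ (Fin 4 ⊕ Fin 4) → F), W ≠ ⊥ ∧ Even (Module.finrank F W) ∧ IsNondegenerateOn (QuadraticMap.polar (quadFormOdd 4 F)) W ∧ ¬ (Fintype.card F = 3 ∧ Module.finrank F W = 2 ∧ IsPlusTypeOn (quadFormOdd 4 F) W) ∧ H = subspaceStabilizer W ⊓ omegaGL (quadFormOdd 4 F)) ∨
    ((Fintype.card F).Prime ∧ ∃ D : Fin 9 → Submodule F (Unit ⊕ (Fin 4 ⊕ Fin 4) → F), IsOrthogonalMDecomposition (quadFormOdd 4 F) 1 D ∧ H = decompositionStabilizer D ⊓ omegaGL (quadFormOdd 4 F)) ∨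
    (5 ≤ Fintype.card F ∧ ∃ D : Fin 3 → Submodule F (Unit ⊕ (Fin 4 ⊕ Fin 4) → F), IsOrthogonalMDecomposition (quadFormOdd 4 F) 3 D ∧ H = decompositionStabilizer D ⊓ omegaGL (quadFormOdd 4 F)) ∨
    (∃ K : Subalgebra F (Matrix (Unit ⊕ (Fin 4 ⊕ Fin 4)) (Unit ⊕ (Fin 4 ⊕ Fin 4)) F), IsFieldSubalgebra 3 K ∧ IsSelfAdjointFor (QuadraticMap.polar (quadFormOdd 4 F)) K ∧ H = subalgebraNormalizer K ⊓ omegaGL (quadFormOdd 4 F)) ∨
    (∃ (F₀ : Subfield F) (r : ℕ) (P : GL (Unit ⊕ (Fin 4 ⊕ Fin 4)) F), r.Prime ∧ Fintype.card F = Nat.card F₀ ^ r ∧ IsQuadFormRationalStructure (quadFormOdd 4 F) F₀ P ∧ H = subfieldSubgroup F₀ P ⊓ omegaGL (quadFormOdd 4 F)) ∨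
    (5 ≤ Fintype.card F ∧ ∃ (e : (Unit ⊕ (Fin 4 ⊕ Fin 4)) ≃ (Fin 2 → Fin 3)) (P : GL (Unit ⊕ (Fin 4 ⊕ Fin 4)) F) (f₁ : (Fin 3 → F) → (Fin 3 → F) → F), IsSymmetricForm f₁ ∧ IsTensorPowerFormStructure id (QuadraticMap.polar (quadFormOdd 4 F)) f₁ e P ∧ H = tensorWreathSubgroup 3 2 e P ⊓ omegaGL (quadFormOdd 4 F)) ∨
    InOrthogonalResidualClass H := by
  have hΩI := omegaGL_le_isometryGroup (F := F) (quadFormOdd 4 F)
  rcases common hodd (by norm_num) hA hN1 hN2a hN5 hX1 H hH with h | h | h | h | h |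
    ⟨t, k, D, hk, hD, hHD⟩ | ⟨r, K, hr, hrn, hK, hsa, hHK⟩ | ⟨n₁, n₂, h3, hlt, ⟨e⟩⟩ |
    ⟨k, t, e, P, f₁, hk, ht, hex, hf₁, hT, hHT⟩
  · exact Or.inl h
  · exact Or.inr (Or.inl h)
  · exact Or.inr (Or.inr (Or.inl h))
  · exact Or.inr (Or.inr (Or.inr (Or.inr (Or.inr (Or.inl h)))))
  · exact Or.inr (Or.inr (Or.inr (Or.inr (Or.inr (Or.inr (Or.inr h))))))
  · -- three 3-spaces
    have h1 := mul_eq_of_isMDecomposition D hD.decomp.decomp
    have h2 := hD.decomp.decomp.two_le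
    have h3 : t ≤ 4 := by nlinarith
    have ht3 : t = 3 := by interval_cases t <;> omega
    subst ht3
    have hk3 : k = 3 := by omega
    subst hk3
    by_cases hq : Fintype.card F = 3
    · obtain ⟨D', hD', hle⟩ := hXB hq D hD
      have hHD' : H ≤ decompositionStabilizer D' :=
        (le_inf hHD (hH.1.le.trans hΩI)).trans hle
      right; right; left
      refine ⟨by rw [hq]; norm_num, D', hD', eq_inf_of_le hH hHD' (hN2a D' hD')⟩
    · right; right; right; left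
      exact ⟨five_le_card hodd hq, D, hD, eq_inf_of_le hH hHD (hN2b le_rfl D hD)⟩
  · -- a cubic field
    have h1 := dvd_of_isFieldSubalgebra K hK
    have h9 : (2 * 4 + 1 : ℕ) = 3 ^ 2 := by norm_num
    rw [h9] at h1
    have h3 : r = 3 := (Nat.prime_dvd_prime_iff_eq hr Nat.prime_three).mp (hr.dvd_of_dvd_pow h1)
    subst h3
    right; right; right; right; left
    exact ⟨K, hK, hsa, eq_inf_of_le hH hHK (hN3 (by norm_num) K hK)⟩
  · exact (no_tensor (by norm_num) h3 hlt e).elim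
  · -- tensor square
    have h := Fintype.card_congr e
    rw [card_idx, card_pi_fin] at h
    have h1 : k ^ 2 ≤ k ^ t := Nat.pow_le_pow_right (by omega) ht
    have h2 : k ≤ 3 := by nlinarith
    have h3 : k = 3 := by omega
    subst h3
    have h4 : t ≤ 2 := by
      by_contra hcon
      have : 3 ^ 3 ≤ 3 ^ t := Nat.pow_le_pow_right (by norm_num) (by omega)
      omega
    have h5 : t = 2 := by omega
    subst h5
    have hq : Fintype.card F ≠ 3 := fun hq => hex ⟨hq, rfl⟩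
    right; right; right; right; right; right; left
    exact ⟨five_le_card hodd hq, e, P, f₁, hf₁, hT, eq_inf_of_le hH hHT (hN7 e P f₁ hf₁ hT)⟩

end Cfsg.Agent.Lib.Helper08.OOddMax
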