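import Mathlib
import Cfsg.Prelude.Def_GeometricClasses
import Cfsg.Agent.Lib.Helper50.GeoBridge
import Cfsg.Agent.Lib.Helper50.WittMain
import Cfsg.Agent.Lib.Helper08.QuadCount
import Cfsg.Agent.Lib.Helper46.SpecCount

/-!
# K-OPlus10-X11, part a: zeros of `k ↦ Q (k x)` on a self-adjoint field subalgebra of odd degree

`E` a field subalgebra of `M_n(F)` of degree `2m+1`, self-adjoint for the polar form of the non-degenerate quadratic form `Q`.
For a vector `x` with `Q (k x) ≠ 0` for some `k ∈ E`, the map `k ↦ Q (k x)` has exactly `q^(2m)` zeros on `E`.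
-/

set_option autoImplicit false

namespace Cfsg.Agent.Lib.Helper08.OPlus10

open Cfsg Cfsg.Geo
open scoped Matrix

variable {F : Type*} [Field F] {n : ℕ}

/-- evaluation `k ↦ k x` on a subalgebra of the matrix algebra -/
def evE (E : Subalgebra F (Matrix (Fin n) (Fin n) F)) (x : Fin n → F) : E →ₗ[F] (Fin n → F) where
  toFun k := (k : Matrix (Fin n) (Fin n) F) *ᵥ x
  map_add' k k' := by rw [Subalgebra.coe_add, Matrix.add_mulVec]
  map_smul' c k := by rw [Subalgebra.coe_smul, Matrix.smul_mulVec, RingHom.id_apply]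

theorem evE_apply (E : Subalgebra F (Matrix (Fin n) (Fin n) F)) (x : Fin n → F) (k : E) :
    evE E x k = (k : Matrix (Fin n) (Fin n) F) *ᵥ x := rfl

section field

variable {E : Subalgebra F (Matrix (Fin n) (Fin n) F)} {r : ℕ} (hE : IsFieldSubalgebra r E)

include hE

theorem fs_comm (x y : E) : x * y = y * x := Subtype.ext (hE.comm x x.2 y y.2)

theorem fs_inv (hn : 0 < n) (x : E) (hx : x ≠ 0) : ∃ y : E, x * y = 1 ∧ y * x = 1 := by
  have hx' : (x : Matrix (Fin n) (Fin n) F) ≠ 0 := fun h => hx (Subtype.ext h)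
  obtain ⟨y, hyE, hxy⟩ := hE.inv x x.2 hx'
  refine ⟨⟨y, hyE⟩, Subtype.ext hxy, ?_⟩
  rw [fs_comm hE]; exact Subtype.ext hxy

theorem fs_isField (hn : 0 < n) : IsField E := by
  haveI : Nonempty (Fin n) := ⟨⟨0, hn⟩⟩
  exact
    { exists_pair_ne := ⟨0, 1, zero_ne_one⟩
      mul_comm := fun x y => fs_comm hE x y
      mul_inv_cancel := fun {a} ha => (fs_inv hE hn a ha).imp fun _ h => h.1 }

theorem fs_eq_zero_of_mul_eq_zero (hn : 0 < n) (x y : E) (h : x * y = 0) : x = 0 ∨ y = 0 := by
  by_cases hx : x = 0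
  · exact Or.inl hx
  · right
    obtain ⟨z, -, hz⟩ := fs_inv hE hn x hx
    calc y = (z * x) * y := by rw [hz, one_mul]
      _ = z * (x * y) := by rw [mul_assoc]
      _ = 0 := by rw [h, mul_zero]

theorem evE_injective (hn : 0 < n) (x : Fin n → F) (hx : x ≠ 0) : Function.Injective (evE E x) := by
  rw [← LinearMap.ker_eq_bot, LinearMap.ker_eq_bot']
  intro k hk
  by_contra hk0
  obtain ⟨y, -, hy⟩ := fs_inv hE hn k hk0
  apply hx
  have h1 : ((y * k : E) : Matrix (Fin n) (Fin n) F) *ᵥ x = x := by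
    rw [hy, Subalgebra.coe_one, Matrix.one_mulVec]
  rw [← h1, Subalgebra.coe_mul, ← Matrix.mulVec_mulVec]
  rw [evE_apply] at hk
  rw [hk, Matrix.mulVec_zero]

theorem fs_natCard [Fintype F] : Nat.card E = Fintype.card F ^ r := by
  rw [Module.natCard_eq_pow_finrank (K := F), hE.finrank_eq, Nat.card_eq_fintype_card]

end field

section form

variable (Q : (Fin n → F) → F) (hQ : IsNondegenerateQuadraticForm Q)

include hQ

theorem q_zero : Q 0 = 0 := by
  have := hQ.smul 0 0
  simpa using this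

theorem polar_self (v : Fin n → F) : QuadraticMap.polar Q v v = 2 * Q v := by
  have h := hQ.smul 2 v
  unfold QuadraticMap.polar
  rw [← two_smul F v, h]; ring

theorem q_add (u v : Fin n → F) : Q (u + v) = Q u + Q v + QuadraticMap.polar Q u v := by
  unfold QuadraticMap.polar; ring

variable {E : Subalgebra F (Matrix (Fin n) (Fin n) F)}
  (hsa : IsSelfAdjointFor (QuadraticMap.polar Q) E)

include hsa

omit hQ in
theorem polar_ev (x : Fin n → F) (k k' : E) :
    QuadraticMap.polar Q ((k : Matrix (Fin n) (Fin n) F) *ᵥ x) ((k' : Matrix (Fin n) (Fin n) F) *ᵥ x) =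
      QuadraticMap.polar Q x (((k * k' : E) : Matrix (Fin n) (Fin n) F) *ᵥ x) := by
  rw [hsa k k.2, Subalgebra.coe_mul, Matrix.mulVec_mulVec]

end form

section KL

variable [Fintype F] (Q : (Fin n → F) → F) (hQ : IsNondegenerateQuadraticForm Q)
  {E : Subalgebra F (Matrix (Fin n) (Fin n) F)} {m : ℕ} (hE : IsFieldSubalgebra (2 * m + 1) E)
  (hsa : IsSelfAdjointFor (QuadraticMap.polar Q) E)

include hQ hE hsa

/-- odd characteristic: `k ↦ Q (k x)` is a non-degenerate quadratic form on `E` unless it vanishes -/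
theorem card_zeros_line_odd (h2 : (2 : F) ≠ 0) (hn : 0 < n) (x : Fin n → F)
    (hx : ∃ k : E, Q ((k : Matrix (Fin n) (Fin n) F) *ᵥ x) ≠ 0) :
    Nat.card {k : E // Q ((k : Matrix (Fin n) (Fin n) F) *ᵥ x) = 0} = Fintype.card F ^ (2 * m) := by
  classical
  let fQ : QuadraticForm F E := (Cfsg.Agent.Lib.Helper50.geoForm Q hQ).comp (evE E x)
  have hfQ : ∀ k : E, fQ k = Q ((k : Matrix (Fin n) (Fin n) F) *ᵥ x) := fun k => rfl
  have hpol : ∀ k k' : E, QuadraticMap.polar fQ k k' =
      QuadraticMap.polar Q ((k : Matrix (Fin n) (Fin n) F) *ᵥ x)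
        ((k' : Matrix (Fin n) (Fin n) F) *ᵥ x) := by
    intro k k'
    unfold QuadraticMap.polar
    rw [hfQ, hfQ, hfQ, Subalgebra.coe_add, Matrix.add_mulVec]
  have hQND : Cfsg.Agent.Lib.Helper50.QND fQ := by
    intro k hk
    by_contra hk0
    obtain ⟨y, hky, -⟩ := fs_inv hE hn k hk0
    have hB : ∀ ν : E, QuadraticMap.polar Q x ((ν : Matrix (Fin n) (Fin n) F) *ᵥ x) = 0 := by
      intro ν
      have := hk (y * ν)
      rw [hpol, polar_ev Q hsa, ← mul_assoc, hky, one_mul] at this
      exact this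
    obtain ⟨k0, hk0'⟩ := hx
    apply hk0'
    have h3 : 2 * Q ((k0 : Matrix (Fin n) (Fin n) F) *ᵥ x) = 0 := by
      rw [← polar_self Q hQ, polar_ev Q hsa]; exact hB _
    exact (mul_eq_zero.mp h3).resolve_left h2
  haveI : Module.Finite F E := Module.Finite.of_finite
  obtain h | h | h := Cfsg.Agent.Lib.Helper50.witt_type (2 * m + 1) fQ hE.finrank_eq hQND
  · obtain ⟨m', hm', -⟩ := h; omega
  · obtain ⟨m', ζ, hm', -⟩ := h; omega
  · obtain ⟨m', c, hm', hc, φ, hφ⟩ := h
    obtain rfl : m' = m := by omega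
    have h1 : Nat.card {k : E // Q ((k : Matrix (Fin n) (Fin n) F) *ᵥ x) = 0} =
        Nat.card {v : Unit ⊕ (Fin m' ⊕ Fin m') → F // Cfsg.Agent.Lib.Helper50.oddForm m' c v = 0} :=
      Nat.card_congr (Equiv.subtypeEquiv φ.toEquiv (fun k => by
        rw [← hfQ, ← hφ]; rfl))
    rw [h1]
    have h2' := natCard_zeros_of_equiv (F := F) (ι := Fin m') (A := F)
      (Q := fun v : Unit ⊕ (Fin m' ⊕ Fin m') → F => Cfsg.Agent.Lib.Helper50.oddForm m' c v)
      (c := fun a : F => c * a ^ 2) (Cfsg.Agent.Lib.Helper46.Spec.oddEquiv m')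
      (by
        intro v
        show Cfsg.Agent.Lib.Helper50.oddForm m' c v =
          ∑ i, v (Sum.inr (Sum.inl i)) * v (Sum.inr (Sum.inr i)) + c * v (Sum.inl ()) ^ 2
        unfold Cfsg.Agent.Lib.Helper50.oddForm
        ring)
    rw [h2', Fintype.card_fin]
    have h3 : Nat.card {a : F // c * a ^ 2 = 0} = 1 := by
      have : Nat.card {a : F // c * a ^ 2 = 0} = Nat.card {a : F // a = 0} :=
        Nat.card_congr (Equiv.subtypeEquivRight (fun a => by
          constructor
          · intro h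
            rcases mul_eq_zero.mp h with h | h
            · exact absurd h hc
            · exact pow_eq_zero_iff (two_ne_zero) |>.mp h
          · intro h; rw [h]; ring))
      rw [this]
      simp
    rw [h3, mul_one]
    set q := Fintype.card F
    have hq : 1 ≤ q ^ m' := Nat.one_le_pow _ _ Fintype.card_pos
    obtain ⟨t, ht⟩ : ∃ t, q ^ m' = t + 1 := ⟨_, (Nat.sub_add_cancel hq).symm⟩
    rcases Nat.eq_zero_or_pos m' with hm0 | hmpos
    · subst hm0
      simp
    · have e1 : q ^ (m' - 1) * q = t + 1 := by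
        rw [← pow_succ, Nat.sub_add_cancel hmpos, ht]
      have e2 : q ^ (2 * m') = (t + 1) * (t + 1) := by
        rw [two_mul, pow_add, ht]
      rw [e1, e2, ht, Nat.add_sub_cancel]
      ring

/-- characteristic two: `k ↦ Q (k x)` is additive, so its zeros form a subgroup of index `q` unless it vanishes -/
theorem card_zeros_line_even (h2 : (2 : F) = 0) (hn : 0 < n) (x : Fin n → F)
    (hx : ∃ k : E, Q ((k : Matrix (Fin n) (Fin n) F) *ᵥ x) ≠ 0) :
    Nat.card {k : E // Q ((k : Matrix (Fin n) (Fin n) F) *ᵥ x) = 0} = Fintype.card F ^ (2 * m) := by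
  classical
  have h2E : (2 : E) = 0 := by
    have : (2 : E) = algebraMap F E 2 := (map_ofNat (algebraMap F E) 2).symm
    rw [this, h2, map_zero]
  -- squaring is injective, hence surjective, on `E` and on `F`
  have hsqE : Function.Injective (fun k : E => k * k) := by
    intro a b hab
    have hab' : a * a = b * b := hab
    have h0 : (a - b) * (a - b) = 0 := by
      have : (a - b) * (a - b) = a * a + b * b - 2 * (a * b) := by
        rw [sub_mul, mul_sub, mul_sub, fs_comm hE b a, two_mul]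
        abel
      rw [this, h2E, zero_mul, sub_zero, hab']
      have : b * b + b * b = 2 * (b * b) := (two_mul _).symm
      rw [this, h2E, zero_mul]
    rcases fs_eq_zero_of_mul_eq_zero hE hn _ _ h0 with h | h <;> exact sub_eq_zero.mp h
  have hsqEs : Function.Surjective (fun k : E => k * k) := Finite.injective_iff_surjective.mp hsqE
  have hsqF : Function.Injective (fun a : F => a * a) := by
    intro a b hab
    have hab' : a * a = b * b := hab
    have h0 : (a - b) * (a - b) = 0 := by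
      have : (a - b) * (a - b) = a * a + b * b - 2 * (a * b) := by ring
      rw [this, h2, zero_mul, sub_zero, hab']
      have : b * b + b * b = 2 * (b * b) := by ring
      rw [this, h2, zero_mul]
    rcases mul_self_eq_zero.mp h0 with h
    exact sub_eq_zero.mp h
  have hsqFs : Function.Surjective (fun a : F => a * a) := Finite.injective_iff_surjective.mp hsqF
  -- the polar form vanishes on `E x`
  have hB : ∀ ν : E, QuadraticMap.polar Q x ((ν : Matrix (Fin n) (Fin n) F) *ᵥ x) = 0 := by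
    intro ν
    obtain ⟨μ, hμ⟩ := hsqEs ν
    have hμ' : μ * μ = ν := hμ
    rw [← hμ', ← polar_ev Q hsa, polar_self Q hQ, h2, zero_mul]
  -- the additive map
  let f : E →+ F := AddMonoidHom.mk' (fun k : E => Q ((k : Matrix (Fin n) (Fin n) F) *ᵥ x)) (by
    intro k k'
    show Q (((k + k' : E) : Matrix (Fin n) (Fin n) F) *ᵥ x) = _
    rw [Subalgebra.coe_add, Matrix.add_mulVec, q_add Q hQ, polar_ev Q hsa, hB, add_zero])
  have hf : ∀ k : E, f k = Q ((k : Matrix (Fin n) (Fin n) F) *ᵥ x) := fun k => rfl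
  have hfs : Function.Surjective f := by
    obtain ⟨k0, hk0⟩ := hx
    intro b
    obtain ⟨c, hc⟩ := hsqFs (b / Q ((k0 : Matrix (Fin n) (Fin n) F) *ᵥ x))
    have hc' : c * c = b / Q ((k0 : Matrix (Fin n) (Fin n) F) *ᵥ x) := hc
    refine ⟨c • k0, ?_⟩
    rw [hf, Subalgebra.coe_smul, Matrix.smul_mulVec, hQ.smul, pow_two, hc', div_mul_cancel₀ _ hk0]
  have h1 : Nat.card {k : E // Q ((k : Matrix (Fin n) (Fin n) F) *ᵥ x) = 0} = Nat.card f.ker :=
    Nat.card_congr (Equiv.subtypeEquivRight (fun k => by rw [AddMonoidHom.mem_ker, hf]))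
  rw [h1]
  have h3 := AddSubgroup.card_mul_index f.ker
  rw [AddSubgroup.index_ker, fs_natCard hE] at h3
  have h4 : Nat.card f.range = Fintype.card F := by
    rw [AddMonoidHom.range_eq_top.mpr hfs, AddSubgroup.card_top, Nat.card_eq_fintype_card]
  rw [h4, pow_succ] at h3
  exact Nat.eq_of_mul_eq_mul_right Fintype.card_pos h3

/-- both characteristics -/
theorem card_zeros_line (hn : 0 < n) (x : Fin n → F)
    (hx : ∃ k : E, Q ((k : Matrix (Fin n) (Fin n) F) *ᵥ x) ≠ 0) :
    Nat.card {k : E // Q ((k : Matrix (Fin n) (Fin n) F) *ᵥ x) = 0} = Fintype.card F ^ (2 * m) := by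
  by_cases h2 : (2 : F) = 0
  · exact card_zeros_line_even Q hQ hE hsa h2 hn x hx
  · exact card_zeros_line_odd Q hQ hE hsa h2 hn x hx

end KL

end Cfsg.Agent.Lib.Helper08.OPlus10
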