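import Mathlib
import Cfsg.Prelude.Def_GeometricClasses
import Cfsg.Agent.Lib.Helper50.DecompAux
import Cfsg.Agent.Lib.Helper50.ElusiveCount
import Cfsg.Agent.Lib.Helper50.GeoBridge

/-!
# K-OPlus10-X12 (keystone 584710): a quadratic field of similarities forces non-plus type when `n / 2` is odd

Counting proof: the non-zero singular vectors are permuted freely by the `q² - 1` units of the field `E`,
but a plus-type form on `F^(2M)` has `(q^M - 1)(q^(M-1) + 1) ≡ 2 (q - 1) mod (q² - 1)` of them when `M` is odd.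
-/

set_option autoImplicit false

namespace Cfsg.Agent.Lib.Helper08.OPlus10

open Cfsg Cfsg.Geo
open scoped Matrix

variable {F : Type*} [Field F] [Fintype F] {n : ℕ}

/-- the number of zeros of a plus-type non-degenerate quadratic form on `F^(2M)` -/
theorem card_zeros_of_plus {M : ℕ} (hn : n = 2 * M) (Q : (Fin n → F) → F)
    (hQ : IsNondegenerateQuadraticForm Q) (hplus : IsPlusTypeOn Q ⊤) :
    Nat.card {v : Fin n → F // Q v = 0} =
      Fintype.card F ^ M + (Fintype.card F ^ M - 1) * Fintype.card F ^ (M - 1) := by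
  classical
  have hfr : Module.finrank F (⊤ : Submodule F (Fin n → F)) = 2 * M := by
    rw [finrank_top, Module.finrank_fin_fun, hn]
  have hnd : IsNondegenerateOn (QuadraticMap.polar ⇑(Cfsg.Agent.Lib.Helper50.geoForm Q hQ)) ⊤ := by
    intro w _ hw0
    obtain ⟨⟨x, hx⟩, ⟨y, hy⟩⟩ := hQ.nondegenerate w hw0
    exact ⟨⟨x, Submodule.mem_top, hx⟩, ⟨y, Submodule.mem_top, hy⟩⟩
  obtain ⟨φ, hφ⟩ := Cfsg.Agent.Lib.Helper50.exists_plus_coords
    (Cfsg.Agent.Lib.Helper50.geoForm Q hQ) ⊤ M hfr hnd hplus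
  rw [← Cfsg.Agent.Lib.Helper50.card_zeros_plus M]
  let ψ : (Fin n → F) ≃ (Fin M ⊕ Fin M → F) :=
    (Submodule.topEquiv (R := F) (M := Fin n → F)).symm.toEquiv.trans φ.toEquiv
  have hψ : ∀ v, Cfsg.quadFormPlus M F (ψ v) = Q v := by
    intro v
    exact hφ ((Submodule.topEquiv (R := F) (M := Fin n → F)).symm v)
  refine Nat.card_congr (Equiv.subtypeEquiv ψ ?_)
  intro v
  rw [hψ v]

/-- **K-OPlus10-X12.** -/
theorem not_plus_of_unitary_type {M : ℕ} (hn : n = 2 * M) (hM : Odd M) (Q : (Fin n → F) → F)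
    (hQ : IsNondegenerateQuadraticForm Q) (E : Subalgebra F (Matrix (Fin n) (Fin n) F))
    (hE : IsFieldSubalgebra 2 E)
    (hac : IsAdjointClosedFor (QuadraticMap.polar Q) E)
    (hnsa : ¬ IsSelfAdjointFor (QuadraticMap.polar Q) E)
    (hsim : ∀ k ∈ E, ∃ c : F, ∀ v : Fin n → F, Q (k *ᵥ v) = c * Q v) : ¬ IsPlusTypeOn Q ⊤ := by
  classical
  intro hplus
  obtain ⟨s, hs⟩ := hM
  have hcard := card_zeros_of_plus hn Q hQ hplus
  set q : ℕ := Fintype.card F with hq
  have hq2 : 2 ≤ q := Fintype.one_lt_card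
  -- the nontriviality of the matrix ring
  have : Nonempty (Fin n) := ⟨⟨0, by omega⟩⟩
  -- inverses in `E`
  have hinv : ∀ x : E, x ≠ 0 → ∃ y : E, x * y = 1 ∧ y * x = 1 := by
    intro x hx
    have hx' : (x : Matrix (Fin n) (Fin n) F) ≠ 0 := fun h => hx (Subtype.ext h)
    obtain ⟨y, hyE, hxy⟩ := hE.inv x x.2 hx'
    refine ⟨⟨y, hyE⟩, Subtype.ext hxy, Subtype.ext ?_⟩
    change y * (x : Matrix (Fin n) (Fin n) F) = 1
    rw [← hE.comm x x.2 y hyE]; exact hxy
  -- `E` is a field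
  have hfield : IsField E :=
    { exists_pair_ne := ⟨0, 1, zero_ne_one⟩
      mul_comm := fun x y => Subtype.ext (hE.comm x x.2 y y.2)
      mul_inv_cancel := fun {a} ha => (hinv a ha).imp fun _ h => h.1 }
  -- the number of units of `E`
  have hcardE : Nat.card E = q ^ 2 := by
    rw [Module.natCard_eq_pow_finrank (K := F), hE.finrank_eq, Nat.card_eq_fintype_card]
  have hunits : Nat.card Eˣ = q ^ 2 - 1 := by
    letI := hfield.toField
    rw [← hcardE]
    exact Nat.card_units E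
  -- the set of non-zero singular vectors
  let S : Type _ := {v : Fin n → F // v ≠ 0 ∧ Q v = 0}
  have hQ0 : Q 0 = 0 := by
    have := hQ.smul 0 0
    simpa using this
  have hS : Nat.card S + 1 = Nat.card {v : Fin n → F // Q v = 0} := by
    have h1 : Nat.card S = ({v : Fin n → F | Q v = 0} \ {0}).ncard := by
      rw [← Nat.card_coe_set_eq]
      refine Nat.card_congr (Equiv.subtypeEquivRight ?_)
      intro v
      simp only [Set.mem_sdiff, Set.mem_ofPred_eq, Set.mem_singleton_iff]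
      tauto
    have h2 : Nat.card {v : Fin n → F // Q v = 0} = ({v : Fin n → F | Q v = 0}).ncard := by
      rw [← Nat.card_coe_set_eq]; rfl
    rw [h1, h2]
    exact Set.ncard_sdiff_singleton_add_one (by simpa using hQ0) (Set.toFinite _)
  -- the action of the units of `E`
  have hsmulmem : ∀ (u : Eˣ) (v : S),
      ((u : E) : Matrix (Fin n) (Fin n) F) *ᵥ v.1 ≠ 0 ∧
        Q (((u : E) : Matrix (Fin n) (Fin n) F) *ᵥ v.1) = 0 := by
    intro u v
    constructor
    · intro h0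
      apply v.2.1
      have h1 : (((u⁻¹ : Eˣ) : E) : Matrix (Fin n) (Fin n) F) *ᵥ
          (((u : E) : Matrix (Fin n) (Fin n) F) *ᵥ v.1) = v.1 := by
        rw [Matrix.mulVec_mulVec, ← Subalgebra.coe_mul, ← Units.val_mul, inv_mul_cancel,
          Units.val_one, Subalgebra.coe_one, Matrix.one_mulVec]
      rw [← h1, h0, Matrix.mulVec_zero]
    · obtain ⟨c, hc⟩ := hsim (u : E) (u : E).2
      rw [hc, v.2.2, mul_zero]
  letI : MulAction Eˣ S :=
    { smul := fun u v => ⟨((u : E) : Matrix (Fin n) (Fin n) F) *ᵥ v.1, hsmulmem u v⟩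
      one_smul := fun v => Subtype.ext (by
        change ((1 : Eˣ) : E).1 *ᵥ v.1 = v.1
        rw [Units.val_one, Subalgebra.coe_one, Matrix.one_mulVec])
      mul_smul := fun a b v => Subtype.ext (by
        change ((a * b : Eˣ) : E).1 *ᵥ v.1 = (a : E).1 *ᵥ ((b : E).1 *ᵥ v.1)
        rw [Units.val_mul, Subalgebra.coe_mul, Matrix.mulVec_mulVec]) }
  have hfree : ∀ v : S, MulAction.stabilizer Eˣ v = ⊥ := by
    intro v
    rw [Subgroup.eq_bot_iff_forall]
    intro u hu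
    by_contra hne
    have huv : ((u : E) : Matrix (Fin n) (Fin n) F) *ᵥ v.1 = v.1 := by
      have := congrArg Subtype.val (MulAction.mem_stabilizer_iff.mp hu)
      exact this
    have hne' : (u : E) - 1 ≠ 0 := by
      intro h
      apply hne
      apply Units.ext
      rw [Units.val_one]
      exact sub_eq_zero.mp h
    obtain ⟨y, -, hy⟩ := hinv ((u : E) - 1) hne'
    apply v.2.1
    have h0 : (((u : E) - 1 : E) : Matrix (Fin n) (Fin n) F) *ᵥ v.1 = 0 := by
      rw [Subalgebra.coe_sub, Subalgebra.coe_one, Matrix.sub_mulVec, huv, Matrix.one_mulVec, sub_self]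
    have h1 : ((y * ((u : E) - 1) : E) : Matrix (Fin n) (Fin n) F) *ᵥ v.1 = v.1 := by
      rw [hy, Subalgebra.coe_one, Matrix.one_mulVec]
    rw [← h1, Subalgebra.coe_mul, ← Matrix.mulVec_mulVec, h0, Matrix.mulVec_zero]
  have hdvd : (q ^ 2 - 1) ∣ Nat.card S := by
    have e := MulAction.selfEquivOrbitsQuotientProd (G := Eˣ) (X := S) hfree
    rw [Nat.card_congr e, Nat.card_prod, hunits]
    exact Dvd.intro_left _ rfl
  -- arithmetic
  have hMs : M - 1 = 2 * s := by omega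
  rw [hMs, hs] at hcard
  have hcardZ : ((Nat.card S : ℕ) : ℤ) = ((q : ℤ) * ((q : ℤ) ^ 2) ^ s - 1) * (((q : ℤ) ^ 2) ^ s + 1) := by
    have h1 : ((Nat.card S + 1 : ℕ) : ℤ) =
        ((q ^ (2 * s + 1) + (q ^ (2 * s + 1) - 1) * q ^ (2 * s) : ℕ) : ℤ) := by
      rw [hS, hcard]
    have hpos : 1 ≤ q ^ (2 * s + 1) := Nat.one_le_pow _ _ (by omega)
    push_cast [Nat.cast_sub hpos] at h1
    have : ((Nat.card S : ℕ) : ℤ) = (q : ℤ) ^ (2 * s + 1) + ((q : ℤ) ^ (2 * s + 1) - 1) * (q : ℤ) ^ (2 * s) - 1 := by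
      linarith
    rw [this]
    ring
  have hdvdZ : ((q : ℤ) ^ 2 - 1) ∣ ((Nat.card S : ℕ) : ℤ) := by
    have := Int.natCast_dvd_natCast.mpr hdvd
    have hpos : 1 ≤ q ^ 2 := Nat.one_le_pow _ _ (by omega)
    push_cast [Nat.cast_sub hpos] at this
    exact this
  have hx : ((q : ℤ) ^ 2 - 1) ∣ ((q : ℤ) ^ 2) ^ s - 1 := by
    simpa using sub_dvd_pow_sub_pow ((q : ℤ) ^ 2) 1 s
  have h2 : ((q : ℤ) ^ 2 - 1) ∣ 2 * ((q : ℤ) - 1) := by
    have h3 : 2 * ((q : ℤ) - 1) = ((q : ℤ) * ((q : ℤ) ^ 2) ^ s - 1) * (((q : ℤ) ^ 2) ^ s + 1) -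
        (((q : ℤ) ^ 2) ^ s - 1) * ((q : ℤ) * ((q : ℤ) ^ 2) ^ s + 2 * q - 1) := by ring
    rw [h3]
    exact dvd_sub (hcardZ ▸ hdvdZ) (hx.mul_right _)
  have hqZ : (2 : ℤ) ≤ q := by exact_mod_cast hq2
  have h4 := Int.le_of_dvd (by linarith) h2
  nlinarith

end Cfsg.Agent.Lib.Helper08.OPlus10
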