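import Mathlib
import Cfsg.Prelude.Def_GeometricClasses
import Cfsg.Agent.Lib.Helper08.OPlus10X11a
import Cfsg.Agent.Lib.Helper08.OPlus10X12

/-!
# K-OPlus10-X11 (keystone 584709): a self-adjoint field of odd degree `r = n/2` on a plus-type space

`S = {x | ∀ k ∈ E, Q (k x) = 0}` has exactly `2 q^r - 1` elements (double counting of `{(k, x) | Q (k x) = 0}`), so it is the union of
two `E`-lines, which are complementary totally singular `r`-spaces permuted by `N(E) ∩ I`.
-/

set_option autoImplicit false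

namespace Cfsg.Agent.Lib.Helper08.OPlus10

open Cfsg Cfsg.Geo
open scoped Matrix

variable {F : Type*} [Field F] [Fintype F] {n : ℕ}

section count

variable (Q : (Fin n → F) → F) (hQ : IsNondegenerateQuadraticForm Q)
  {E : Subalgebra F (Matrix (Fin n) (Fin n) F)} {m : ℕ} (hE : IsFieldSubalgebra (2 * m + 1) E)
  (hsa : IsSelfAdjointFor (QuadraticMap.polar Q) E)

/-- the singular set of the field `E` -/
def singSet (Q : (Fin n → F) → F) (E : Subalgebra F (Matrix (Fin n) (Fin n) F)) : Set (Fin n → F) :=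
  {x | ∀ k : E, Q ((k : Matrix (Fin n) (Fin n) F) *ᵥ x) = 0}

include hQ hE hsa

theorem ncard_singSet (hn : n = 2 * (2 * m + 1)) (hplus : IsPlusTypeOn Q ⊤) :
    (singSet Q E).ncard = 2 * Fintype.card F ^ (2 * m + 1) - 1 := by
  classical
  have hn0 : 0 < n := by omega
  haveI : Fintype E := Fintype.ofFinite E
  have hq2 : 2 ≤ Fintype.card F := Fintype.one_lt_card
  obtain ⟨A, hA⟩ : ∃ A, A = Fintype.card F ^ (2 * m + 1) := ⟨_, rfl⟩
  obtain ⟨a, ha⟩ : ∃ a, a = Fintype.card F ^ (2 * m) := ⟨_, rfl⟩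
  have hAa : A = a * Fintype.card F := by rw [hA, ha]; exact pow_succ _ (2 * m)
  have hVcard : Fintype.card (Fin n → F) = A * A := by
    rw [Fintype.card_fun, Fintype.card_fin, hn, two_mul, pow_add, hA]
  have hEcard : Nat.card E = A := by rw [fs_natCard hE, hA]
  rw [← hA]
  have hZ : Nat.card {v : Fin n → F // Q v = 0} = A + (A - 1) * a := by
    have := card_zeros_of_plus hn Q hQ hplus
    rw [this, hA, ha]
    congr 2
  -- double counting
  have hdc := Finset.sum_card_bipartiteAbove_eq_sum_card_bipartiteBelow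
    (s := (Finset.univ : Finset (Fin n → F))) (t := (Finset.univ : Finset E))
    (fun (x : Fin n → F) (k : E) => Q ((k : Matrix (Fin n) (Fin n) F) *ᵥ x) = 0)
  -- left-hand side
  have hL : ∀ x : Fin n → F,
      ((Finset.univ : Finset E).bipartiteAbove
        (fun (x : Fin n → F) (k : E) => Q ((k : Matrix (Fin n) (Fin n) F) *ᵥ x) = 0) x).card =
        if x ∈ singSet Q E then A else a := by
    intro x
    have h0 : ((Finset.univ : Finset E).bipartiteAbove
        (fun (x : Fin n → F) (k : E) => Q ((k : Matrix (Fin n) (Fin n) F) *ᵥ x) = 0) x).card =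
        Nat.card {k : E // Q ((k : Matrix (Fin n) (Fin n) F) *ᵥ x) = 0} := by
      rw [Nat.card_eq_fintype_card, Fintype.card_subtype]
      rfl
    rw [h0]
    split_ifs with hx
    · have : Nat.card {k : E // Q ((k : Matrix (Fin n) (Fin n) F) *ᵥ x) = 0} = Nat.card E :=
        Nat.card_congr (Equiv.subtypeUnivEquiv (fun k => hx k))
      rw [this, hEcard]
    · have hx' : ∃ k : E, Q ((k : Matrix (Fin n) (Fin n) F) *ᵥ x) ≠ 0 := by
        by_contra hcon
        push Not at hcon
        exact hx hcon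
      rw [card_zeros_line Q hQ hE hsa hn0 x hx', ha]
  -- right-hand side
  have hR : ∀ k : E,
      ((Finset.univ : Finset (Fin n → F)).bipartiteBelow
        (fun (x : Fin n → F) (k : E) => Q ((k : Matrix (Fin n) (Fin n) F) *ᵥ x) = 0) k).card =
        if k = 0 then A * A else A + (A - 1) * a := by
    intro k
    have h0 : ((Finset.univ : Finset (Fin n → F)).bipartiteBelow
        (fun (x : Fin n → F) (k : E) => Q ((k : Matrix (Fin n) (Fin n) F) *ᵥ x) = 0) k).card =
        Nat.card {x : Fin n → F // Q ((k : Matrix (Fin n) (Fin n) F) *ᵥ x) = 0} := by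
      rw [Nat.card_eq_fintype_card, Fintype.card_subtype]
      rfl
    rw [h0]
    split_ifs with hk
    · subst hk
      have : Nat.card {x : Fin n → F // Q (((0 : E) : Matrix (Fin n) (Fin n) F) *ᵥ x) = 0} =
          Nat.card (Fin n → F) :=
        Nat.card_congr (Equiv.subtypeUnivEquiv (fun x => by
          rw [Subalgebra.coe_zero, Matrix.zero_mulVec]; exact q_zero Q hQ))
      rw [this, Nat.card_eq_fintype_card, hVcard]
    · rw [← hZ]
      obtain ⟨y, hky, hyk⟩ := fs_inv hE hn0 k hk
      refine Nat.card_congr ?_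
      refine Equiv.subtypeEquiv
        { toFun := fun x => (k : Matrix (Fin n) (Fin n) F) *ᵥ x
          invFun := fun x => (y : Matrix (Fin n) (Fin n) F) *ᵥ x
          left_inv := fun x => by
            show (y : Matrix (Fin n) (Fin n) F) *ᵥ ((k : Matrix (Fin n) (Fin n) F) *ᵥ x) = x
            rw [Matrix.mulVec_mulVec, ← Subalgebra.coe_mul, hyk, Subalgebra.coe_one, Matrix.one_mulVec]
          right_inv := fun x => by
            show (k : Matrix (Fin n) (Fin n) F) *ᵥ ((y : Matrix (Fin n) (Fin n) F) *ᵥ x) = x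
            rw [Matrix.mulVec_mulVec, ← Subalgebra.coe_mul, hky, Subalgebra.coe_one, Matrix.one_mulVec] }
        (fun x => Iff.rfl)
  rw [Finset.sum_congr rfl (fun x _ => hL x), Finset.sum_congr rfl (fun k _ => hR k),
    Finset.sum_ite, Finset.sum_ite, Finset.sum_const, Finset.sum_const, Finset.sum_const,
    Finset.sum_const, smul_eq_mul, smul_eq_mul, smul_eq_mul, smul_eq_mul] at hdc
  -- cardinalities of the filters
  have hs : (Finset.univ.filter (fun x : Fin n → F => x ∈ singSet Q E)).card = (singSet Q E).ncard := by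
    rw [Set.ncard_eq_toFinset_card']
    congr 1
    ext x
    simp
  have hsc : (Finset.univ.filter (fun x : Fin n → F => x ∉ singSet Q E)).card =
      A * A - (singSet Q E).ncard := by
    have h1 := Finset.card_filter_add_card_filter_not (s := (Finset.univ : Finset (Fin n → F)))
      (fun x : Fin n → F => x ∈ singSet Q E)
    rw [Finset.card_univ, hVcard, hs] at h1
    omega
  have hk0 : (Finset.univ.filter (fun k : E => k = 0)).card = 1 := by
    rw [Finset.filter_eq' Finset.univ (0 : E), if_pos (Finset.mem_univ _), Finset.card_singleton]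
  have hk1 : (Finset.univ.filter (fun k : E => ¬ k = 0)).card = A - 1 := by
    have h1 := Finset.card_filter_add_card_filter_not (s := (Finset.univ : Finset E))
      (fun k : E => k = 0)
    rw [hk0, Finset.card_univ, ← Nat.card_eq_fintype_card, hEcard] at h1
    omega
  rw [hs, hsc, hk0, hk1] at hdc
  -- arithmetic
  set s := (singSet Q E).ncard with hsdef
  have hsle : s ≤ A * A := by
    have h1 := Finset.card_filter_le (Finset.univ : Finset (Fin n → F))
      (fun x : Fin n → F => x ∈ singSet Q E)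
    rw [Finset.card_univ, hVcard, hs] at h1
    exact h1
  have hA1 : 1 ≤ A := by rw [hA]; exact Nat.one_le_pow _ _ (by omega)
  have ha1 : 1 ≤ a := by rw [ha]; exact Nat.one_le_pow _ _ (by omega)
  have hlt : a < A := by rw [hAa]; nlinarith
  zify [hsle, hA1] at hdc
  have hkey : ((s : ℤ) - (2 * A - 1)) * ((A : ℤ) - a) = 0 := by linear_combination hdc
  have hne : ((A : ℤ) - a) ≠ 0 := by
    have : (a : ℤ) < A := by exact_mod_cast hlt
    omega
  have := (mul_eq_zero.mp hkey).resolve_right hne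
  omega

end count

section geom

variable {E : Subalgebra F (Matrix (Fin n) (Fin n) F)}

/-- the `E`-line through `x` -/
def lineE (E : Subalgebra F (Matrix (Fin n) (Fin n) F)) (x : Fin n → F) : Submodule F (Fin n → F) :=
  LinearMap.range (evE E x)

omit [Fintype F] in
theorem mem_lineE {x y : Fin n → F} :
    y ∈ lineE E x ↔ ∃ k : E, (k : Matrix (Fin n) (Fin n) F) *ᵥ x = y := by
  unfold lineE
  rw [LinearMap.mem_range]
  rfl

omit [Fintype F] in
theorem self_mem_lineE (x : Fin n → F) : x ∈ lineE E x :=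
  mem_lineE.mpr ⟨1, by rw [Subalgebra.coe_one, Matrix.one_mulVec]⟩

omit [Fintype F] in
theorem lineE_subset_singSet (Q : (Fin n → F) → F) {x : Fin n → F} (hx : x ∈ singSet Q E) :
    (lineE E x : Set (Fin n → F)) ⊆ singSet Q E := by
  intro y hy k'
  obtain ⟨k, rfl⟩ := mem_lineE.mp hy
  rw [Matrix.mulVec_mulVec, ← Subalgebra.coe_mul]
  exact hx _

variable {r : ℕ} (hE : IsFieldSubalgebra r E)

include hE

omit [Fintype F] in
theorem finrank_lineE (hn : 0 < n) {x : Fin n → F} (hx : x ≠ 0) :
    Module.finrank F (lineE E x) = r := by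
  unfold lineE
  rw [LinearMap.finrank_range_of_inj (evE_injective hE hn x hx), hE.finrank_eq]

omit [Fintype F] in
theorem lineE_eq_of_mem (hn : 0 < n) {x y : Fin n → F} (hy : y ∈ lineE E x) (hy0 : y ≠ 0) :
    lineE E y = lineE E x := by
  obtain ⟨k, rfl⟩ := mem_lineE.mp hy
  have hk0 : k ≠ 0 := by
    rintro rfl
    apply hy0
    rw [Subalgebra.coe_zero, Matrix.zero_mulVec]
  obtain ⟨k', hkk', hk'k⟩ := fs_inv hE hn k hk0
  apply le_antisymm
  · intro w hw
    obtain ⟨c, rfl⟩ := mem_lineE.mp hw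
    exact mem_lineE.mpr ⟨c * k, by rw [Subalgebra.coe_mul, Matrix.mulVec_mulVec]⟩
  · intro w hw
    obtain ⟨c, rfl⟩ := mem_lineE.mp hw
    refine mem_lineE.mpr ⟨c * k', ?_⟩
    rw [Matrix.mulVec_mulVec, ← Subalgebra.coe_mul, mul_assoc, hk'k, mul_one]

theorem ncard_lineE (hn : 0 < n) {x : Fin n → F} (hx : x ≠ 0) :
    (lineE E x : Set (Fin n → F)).ncard = Fintype.card F ^ r := by
  rw [← fs_natCard hE, ← Nat.card_coe_set_eq]
  exact (Nat.card_congr (Equiv.ofInjective _ (evE_injective hE hn x hx))).symm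

end geom

section pair

omit [Fintype F] in
/-- two disjoint subspaces of half the dimension form a decomposition -/
theorem isMDecomposition_pair {r : ℕ} (hr : 0 < r) (hn : n = 2 * r) (L₁ L₂ : Submodule F (Fin n → F))
    (h₁ : Module.finrank F L₁ = r) (h₂ : Module.finrank F L₂ = r) (hd : L₁ ⊓ L₂ = ⊥) :
    IsMDecomposition r ![L₁, L₂] := by
  refine ⟨le_refl 2, hr, ?_, ?_, ?_⟩
  · intro i
    fin_cases i
    · exact h₁
    · exact h₂
  · rw [iSupIndep_pair (i := (0 : Fin 2)) (j := 1) (by decide) (by intro k; fin_cases k <;> simp)]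
    exact disjoint_iff.mpr hd
  · have hsup : (⨆ i, (![L₁, L₂] : Fin 2 → Submodule F (Fin n → F)) i) = L₁ ⊔ L₂ := by
      apply le_antisymm
      · apply iSup_le
        intro i
        fin_cases i
        · exact le_sup_left
        · exact le_sup_right
      · apply sup_le
        · exact le_iSup (![L₁, L₂] : Fin 2 → Submodule F (Fin n → F)) 0
        · exact le_iSup (![L₁, L₂] : Fin 2 → Submodule F (Fin n → F)) 1
    rw [hsup]
    apply Submodule.eq_top_of_finrank_eq
    have h := Submodule.finrank_sup_add_finrank_inf_eq L₁ L₂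
    rw [hd, finrank_bot, h₁, h₂, add_zero] at h
    rw [h, Module.finrank_fin_fun, hn, two_mul]

end pair

section main

variable (Q : (Fin n → F) → F) (hQ : IsNondegenerateQuadraticForm Q)
  {E : Subalgebra F (Matrix (Fin n) (Fin n) F)} {m : ℕ} (hE : IsFieldSubalgebra (2 * m + 1) E)
  (hsa : IsSelfAdjointFor (QuadraticMap.polar Q) E)

include hQ hE hsa

/-- general form of K-OPlus10-X11 -/
theorem field_odd_le_tsPair (hn : n = 2 * (2 * m + 1)) (hplus : IsPlusTypeOn Q ⊤) :
    ∃ D : Fin 2 → Submodule F (Fin n → F), IsMDecomposition (2 * m + 1) D ∧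
      (∀ i, IsTotallySingularQuad Q (D i)) ∧
      subalgebraNormalizer E ⊓ isometryGroup F Q ≤ decompositionStabilizer D := by
  classical
  have hn0 : 0 < n := by omega
  have hS := ncard_singSet Q hQ hE hsa hn hplus
  have hq2 : 2 ≤ Fintype.card F := Fintype.one_lt_card
  obtain ⟨A, hA⟩ : ∃ A, A = Fintype.card F ^ (2 * m + 1) := ⟨_, rfl⟩
  rw [← hA] at hS
  have hA2 : 2 ≤ A := by
    rw [hA]
    calc 2 ≤ Fintype.card F := hq2
      _ = Fintype.card F ^ 1 := (pow_one _).symm
      _ ≤ Fintype.card F ^ (2 * m + 1) := Nat.pow_le_pow_right (by omega) (by omega)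
  have h0S : (0 : Fin n → F) ∈ singSet Q E := by
    intro k
    rw [Matrix.mulVec_zero]
    exact q_zero Q hQ
  -- first line
  obtain ⟨x₁, hx₁S, hx₁0⟩ := Set.exists_ne_of_one_lt_ncard (by omega : 1 < (singSet Q E).ncard) 0
  have hL₁ := ncard_lineE hE hn0 hx₁0
  rw [← hA] at hL₁
  -- second line
  obtain ⟨z, hzS, hzL⟩ := Set.exists_mem_notMem_of_ncard_lt_ncard
    (by omega : (lineE E x₁ : Set (Fin n → F)).ncard < (singSet Q E).ncard) (Set.toFinite _)
  have hz0 : z ≠ 0 := by
    rintro rfl
    exact hzL (lineE E x₁).zero_mem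
  have hL₂ := ncard_lineE hE hn0 hz0
  rw [← hA] at hL₂
  -- the lines are disjoint
  have hd : lineE E x₁ ⊓ lineE E z = ⊥ := by
    rw [Submodule.eq_bot_iff]
    rintro y ⟨hy1, hy2⟩
    by_contra hy0
    have e1 := lineE_eq_of_mem hE hn0 hy1 hy0
    have e2 := lineE_eq_of_mem hE hn0 hy2 hy0
    apply hzL
    rw [SetLike.mem_coe, ← e1, e2]
    exact self_mem_lineE z
  -- the singular set is the union of the two lines
  have hunion : (lineE E x₁ : Set (Fin n → F)) ∪ (lineE E z : Set (Fin n → F)) = singSet Q E := by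
    apply Set.eq_of_subset_of_ncard_le
    · exact Set.union_subset (lineE_subset_singSet Q hx₁S) (lineE_subset_singSet Q hzS)
    · have h1 := Set.ncard_union_add_ncard_inter (lineE E x₁ : Set (Fin n → F))
        (lineE E z : Set (Fin n → F))
      have h2 : (lineE E x₁ : Set (Fin n → F)) ∩ (lineE E z : Set (Fin n → F)) = {0} := by
        rw [← Submodule.coe_inf, hd]
        rfl
      rw [h2, Set.ncard_singleton, hL₁, hL₂] at h1
      omega
    · exact Set.toFinite _
  -- every non-zero singular vector spans one of the two lines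
  have hcases : ∀ y : Fin n → F, y ∈ singSet Q E → y ≠ 0 →
      lineE E y = lineE E x₁ ∨ lineE E y = lineE E z := by
    intro y hy hy0
    rw [← hunion] at hy
    rcases hy with hy | hy
    · exact Or.inl (lineE_eq_of_mem hE hn0 hy hy0)
    · exact Or.inr (lineE_eq_of_mem hE hn0 hy hy0)
  have hne : lineE E x₁ ≠ lineE E z := by
    intro h
    apply hzL
    rw [SetLike.mem_coe, h]
    exact self_mem_lineE z
  refine ⟨![lineE E x₁, lineE E z], ?_, ?_, ?_⟩
  · exact isMDecomposition_pair (by omega) hn _ _ (finrank_lineE hE hn0 hx₁0)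
      (finrank_lineE hE hn0 hz0) hd
  · intro i w hw
    fin_cases i
    · have := lineE_subset_singSet Q hx₁S hw 1
      rwa [Subalgebra.coe_one, Matrix.one_mulVec] at this
    · have := lineE_subset_singSet Q hzS hw 1
      rwa [Subalgebra.coe_one, Matrix.one_mulVec] at this
  · rintro g ⟨hgN, hgI⟩
    have hiso : ∀ v, Q ((g : Matrix (Fin n) (Fin n) F) *ᵥ v) = Q v := by
      intro v
      exact hgI v v
    have hgg : (g : Matrix (Fin n) (Fin n) F) * ((g⁻¹ : GL (Fin n) F) : Matrix (Fin n) (Fin n) F) = 1 := by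
      rw [← Units.val_mul, mul_inv_cancel, Units.val_one]
    have hg'g : ((g⁻¹ : GL (Fin n) F) : Matrix (Fin n) (Fin n) F) * (g : Matrix (Fin n) (Fin n) F) = 1 := by
      rw [← Units.val_mul, inv_mul_cancel, Units.val_one]
    -- conjugation by `g` and `g⁻¹` preserves `E`
    have hconj : ∀ k : E, (g : Matrix (Fin n) (Fin n) F) * (k : Matrix (Fin n) (Fin n) F) *
        ((g⁻¹ : GL (Fin n) F) : Matrix (Fin n) (Fin n) F) ∈ E := fun k => (hgN k).mp k.2
    have hconj' : ∀ k : E, ((g⁻¹ : GL (Fin n) F) : Matrix (Fin n) (Fin n) F) *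
        (k : Matrix (Fin n) (Fin n) F) * (g : Matrix (Fin n) (Fin n) F) ∈ E := by
      intro k
      rw [hgN]
      have : (g : Matrix (Fin n) (Fin n) F) * (((g⁻¹ : GL (Fin n) F) : Matrix (Fin n) (Fin n) F) *
          (k : Matrix (Fin n) (Fin n) F) * (g : Matrix (Fin n) (Fin n) F)) *
          ((g⁻¹ : GL (Fin n) F) : Matrix (Fin n) (Fin n) F) = (k : Matrix (Fin n) (Fin n) F) := by
        rw [mul_assoc, mul_assoc, hgg, mul_one, ← mul_assoc, hgg, one_mul]
      rw [this]
      exact k.2
    -- the image of a line is the line of the image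
    have hmap : ∀ x : Fin n → F, (lineE E x).map (Matrix.toLin' (g : Matrix (Fin n) (Fin n) F)) =
        lineE E ((g : Matrix (Fin n) (Fin n) F) *ᵥ x) := by
      intro x
      apply le_antisymm
      · rintro _ ⟨w, hw, rfl⟩
        obtain ⟨k, rfl⟩ := mem_lineE.mp hw
        refine mem_lineE.mpr ⟨⟨_, hconj k⟩, ?_⟩
        rw [Matrix.toLin'_apply]
        show ((g : Matrix (Fin n) (Fin n) F) * (k : Matrix (Fin n) (Fin n) F) *
          ((g⁻¹ : GL (Fin n) F) : Matrix (Fin n) (Fin n) F)) *ᵥ ((g : Matrix (Fin n) (Fin n) F) *ᵥ x) = _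
        rw [Matrix.mulVec_mulVec, mul_assoc, hg'g, mul_one, ← Matrix.mulVec_mulVec]
      · intro w hw
        obtain ⟨k, rfl⟩ := mem_lineE.mp hw
        refine ⟨((⟨_, hconj' k⟩ : E) : Matrix (Fin n) (Fin n) F) *ᵥ x, mem_lineE.mpr ⟨_, rfl⟩, ?_⟩
        rw [Matrix.toLin'_apply]
        show (g : Matrix (Fin n) (Fin n) F) *ᵥ ((((g⁻¹ : GL (Fin n) F) : Matrix (Fin n) (Fin n) F) *
          (k : Matrix (Fin n) (Fin n) F) * (g : Matrix (Fin n) (Fin n) F)) *ᵥ x) = _
        rw [Matrix.mulVec_mulVec, ← mul_assoc, ← mul_assoc, hgg, one_mul, ← Matrix.mulVec_mulVec]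
    -- the image of a singular vector is singular
    have hsing : ∀ x : Fin n → F, x ∈ singSet Q E →
        (g : Matrix (Fin n) (Fin n) F) *ᵥ x ∈ singSet Q E := by
      intro x hx k
      have h1 : (k : Matrix (Fin n) (Fin n) F) *ᵥ ((g : Matrix (Fin n) (Fin n) F) *ᵥ x) =
          (g : Matrix (Fin n) (Fin n) F) *ᵥ ((((g⁻¹ : GL (Fin n) F) : Matrix (Fin n) (Fin n) F) *
          (k : Matrix (Fin n) (Fin n) F) * (g : Matrix (Fin n) (Fin n) F)) *ᵥ x) := by
        rw [Matrix.mulVec_mulVec, Matrix.mulVec_mulVec, ← mul_assoc, ← mul_assoc, hgg, one_mul]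
      rw [h1, hiso]
      exact hx ⟨_, hconj' k⟩
    have hinjg : Function.Injective (Matrix.toLin' (g : Matrix (Fin n) (Fin n) F)) := by
      intro u v huv
      rw [Matrix.toLin'_apply, Matrix.toLin'_apply] at huv
      have := congrArg (fun w => ((g⁻¹ : GL (Fin n) F) : Matrix (Fin n) (Fin n) F) *ᵥ w) huv
      simpa [Matrix.mulVec_mulVec, hg'g] using this
    have hgne : ∀ x : Fin n → F, x ≠ 0 → (g : Matrix (Fin n) (Fin n) F) *ᵥ x ≠ 0 := by
      intro x hx h0
      apply hx
      apply hinjg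
      rw [Matrix.toLin'_apply, Matrix.toLin'_apply, h0, Matrix.mulVec_zero]
    have c1 := hcases _ (hsing x₁ hx₁S) (hgne x₁ hx₁0)
    have c2 := hcases _ (hsing z hzS) (hgne z hz0)
    rw [← hmap] at c1 c2
    have hmapne : (lineE E x₁).map (Matrix.toLin' (g : Matrix (Fin n) (Fin n) F)) ≠
        (lineE E z).map (Matrix.toLin' (g : Matrix (Fin n) (Fin n) F)) := by
      intro h
      exact hne (Submodule.map_injective_of_injective hinjg h)
    rcases c1 with c1 | c1 <;> rcases c2 with c2 | c2
    · exact absurd (c1.trans c2.symm) hmapne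
    · refine ⟨1, fun i => ?_⟩
      fin_cases i
      · exact c1
      · exact c2
    · refine ⟨Equiv.swap 0 1, fun i => ?_⟩
      fin_cases i
      · exact c1
      · exact c2
    · exact absurd (c1.trans c2.symm) hmapne

end main

/-- **K-OPlus10-X11.** -/
theorem field_five_le_tsPair (Q : (Fin 10 → F) → F) (hQ : IsNondegenerateQuadraticForm Q)
    (hplus : IsPlusTypeOn Q ⊤) (E : Subalgebra F (Matrix (Fin 10) (Fin 10) F))
    (hE : IsFieldSubalgebra 5 E) (hsa : IsSelfAdjointFor (QuadraticMap.polar Q) E) :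
    ∃ D : Fin 2 → Submodule F (Fin 10 → F), IsMDecomposition 5 D ∧
      (∀ i, IsTotallySingularQuad Q (D i)) ∧
      subalgebraNormalizer E ⊓ isometryGroup F Q ≤ decompositionStabilizer D :=
  field_odd_le_tsPair (m := 2) Q hQ hE hsa rfl hplus

end Cfsg.Agent.Lib.Helper08.OPlus10
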