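import Cfsg.Agent.Lib.Helper38.OhP.Defs
import Cfsg.Agent.Lib.Helper98.Os3

/-!
# K-OhP (S5974 pack, architect helper38), LEAF E3a (597430): characteristic two, an involution `g` of type `a_d`
(`Q ((g - 1) v) = 0` for all `v`, `2 rank (g - 1) = dim V`) has only invariant nondegenerate subspaces of dimension
divisible by `4`.
-/

set_option autoImplicit false
set_option linter.unusedSectionVars false
set_option linter.unusedVariables false

namespace Cfsg.Agent.Lib.Helper08.OhP

open Module Cfsg.Agent.Lib.Helper98.Elus Cfsg.Agent.Lib.Helper98.Sy Cfsg.Agent.Lib.Helper38.OhP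

universe u
variable {F : Type u} [Field F] {V : Type u} [AddCommGroup V] [Module F V]

/-- rank-nullity on a subspace -/
theorem finrank_map_add_finrank_inf_ker [FiniteDimensional F V] (N : V →ₗ[F] V)
    (U : Submodule F V) :
    finrank F ↥(U.map N) + finrank F ↥(U ⊓ LinearMap.ker N) = finrank F U := by
  have h := LinearMap.finrank_range_add_finrank_ker (N.domRestrict U)
  rw [LinearMap.range_domRestrict, LinearMap.ker_domRestrict] at h
  rw [← h, ← Submodule.map_comap_subtype U (LinearMap.ker N), Submodule.finrank_map_subtype_eq]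

theorem four_dvd_finrank_of_inv [CharP F 2] [FiniteDimensional F V] (Q : QuadraticForm F V)
    (hV : NonDeg (pB Q) ⊤) (g : V →ₗ[F] V) (hg : g * g = 1) (hiso : QIso Q g)
    (hsing : ∀ v, Q ((g - 1) v) = 0)
    (hrk : 2 * finrank F (LinearMap.range (g - 1)) = finrank F V)
    (W : Submodule F V) (hW : Inv g W) (hWnd : NonDeg (pB Q) W) : 4 ∣ finrank F W := by
  have hR := Cfsg.Agent.Lib.Helper98.Os.isRefl_of_symm (pB_symm Q)
  set N : V →ₗ[F] V := g - 1 with hN
  have hNa : ∀ v, N v = g v - v := fun v => by
    rw [hN, LinearMap.sub_apply, Module.End.one_apply]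
  have hgg : ∀ v, g (g v) = v := fun v => by
    have := congrArg (fun f : V →ₗ[F] V => f v) hg
    simpa using this
  have hNN : ∀ v, N (N v) = 0 := by
    intro v
    rw [hNa, hNa, map_sub, hgg]
    have : v - g v - (g v - v) = (2 : F) • (v - g v) := by rw [two_smul]; abel
    rw [this, CharTwo.two_eq_zero, zero_smul]
  -- `N U ≤ U ⊓ ker N` for invariant `U`
  have hmapN : ∀ U : Submodule F V, Inv g U → U.map N ≤ U ⊓ LinearMap.ker N := by
    intro U hU w hw
    obtain ⟨u, hu, rfl⟩ := Submodule.mem_map.mp hw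
    refine Submodule.mem_inf.mpr ⟨?_, LinearMap.mem_ker.mpr (hNN u)⟩
    rw [hNa]
    exact U.sub_mem (hU u hu) hu
  have hhalf : ∀ U : Submodule F V, Inv g U → 2 * finrank F ↥(U.map N) ≤ finrank F U := by
    intro U hU
    have h1 := finrank_map_add_finrank_inf_ker N U
    have h2 := Submodule.finrank_mono (hmapN U hU)
    omega
  -- the complement
  have hc := Cfsg.Agent.Lib.Helper98.Os.isCompl_orth hR W hWnd
  have hW'inv : Inv g ((pB Q).orthogonal W) :=
    inv_orth 2 (by norm_num) g (by rw [pow_two]; exact hg) hiso.iso W hW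
  have hdim : finrank F W + finrank F ↥((pB Q).orthogonal W) = finrank F V := by
    have h := Submodule.finrank_sup_add_finrank_inf_eq W ((pB Q).orthogonal W)
    rw [hc.sup_eq_top, hc.inf_eq_bot, finrank_top, finrank_bot] at h
    omega
  have hrange : LinearMap.range N = W.map N ⊔ ((pB Q).orthogonal W).map N := by
    rw [← Submodule.map_sup, hc.sup_eq_top, Submodule.map_top]
  have hrle : finrank F ↥(LinearMap.range N) ≤
      finrank F ↥(W.map N) + finrank F ↥(((pB Q).orthogonal W).map N) := by
    rw [hrange]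
    have h := Submodule.finrank_sup_add_finrank_inf_eq (W.map N) (((pB Q).orthogonal W).map N)
    omega
  have h2W : 2 * finrank F ↥(W.map N) = finrank F W := by
    have h1 := hhalf W hW
    have h2 := hhalf _ hW'inv
    omega
  -- the alternating form `β u v = pB u (N v)`
  set β : LinearMap.BilinForm F V := (pB Q).compl₂ N with hβ
  have hβa : ∀ u v, β u v = pB Q u (N v) := fun u v => by rw [hβ, LinearMap.compl₂_apply]
  have hA : β.IsAlt := by
    intro u
    rw [hβa, pB_apply, hsing u]
    have : u + N u = g u := by rw [hNa]; abel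
    rw [this, hiso u]
    ring
  have hβneg : ∀ u v, β u v = - β v u := by
    intro u v
    have h : β (u + v) (u + v) = 0 := hA (u + v)
    have hu : β u u = 0 := hA u
    have hv : β v v = 0 := hA v
    simp only [map_add, LinearMap.add_apply] at h
    linear_combination h - hu - hv
  -- a complement of `W ⊓ ker N` in `W`
  obtain ⟨C', hC'⟩ := Submodule.exists_isCompl (W ⊓ LinearMap.ker N)
  set C : Submodule F V := C' ⊓ W with hC
  have hsup : (W ⊓ LinearMap.ker N) ⊔ C = W := by
    rw [hC, ← sup_inf_assoc_of_le C' (inf_le_left : W ⊓ LinearMap.ker N ≤ W), hC'.sup_eq_top,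
      top_inf_eq]
  have hinf : (W ⊓ LinearMap.ker N) ⊓ C = ⊥ := by
    rw [eq_bot_iff, ← hC'.inf_eq_bot]
    exact inf_le_inf le_rfl inf_le_left
  have hCd : finrank F ↥(W ⊓ LinearMap.ker N) + finrank F C = finrank F W := by
    have h := Submodule.finrank_sup_add_finrank_inf_eq (W ⊓ LinearMap.ker N) C
    rw [hsup, hinf, finrank_bot] at h
    omega
  have hCnd : NonDeg β C := by
    intro c hc' hc0
    have hcW : c ∈ W := (Submodule.mem_inf.mp hc').2
    have hNc : N c = 0 := by
      have hNcW : N c ∈ W := by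
        rw [hNa]
        exact W.sub_mem (hW c hcW) hcW
      apply hWnd (N c) hNcW
      intro w hw
      rw [pB_symm, ← hβa]
      rw [← hsup] at hw
      obtain ⟨k, hk, c', hc'', rfl⟩ := Submodule.mem_sup.mp hw
      rw [map_add, LinearMap.add_apply, hβneg c' c, hc0 c' hc'', neg_zero, add_zero, hβneg k c, hβa,
        LinearMap.mem_ker.mp (Submodule.mem_inf.mp hk).2, map_zero, neg_zero]
    have : c ∈ (W ⊓ LinearMap.ker N) ⊓ C :=
      Submodule.mem_inf.mpr ⟨Submodule.mem_inf.mpr ⟨hcW, LinearMap.mem_ker.mpr hNc⟩, hc'⟩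
    rw [hinf] at this
    exact (Submodule.mem_bot F).mp this
  obtain ⟨t, ht⟩ := even_finrank hA _ C hCnd rfl
  have h3 := finrank_map_add_finrank_inf_ker N W
  exact ⟨t, by omega⟩

end Cfsg.Agent.Lib.Helper08.OhP
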