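import Cfsg.Agent.Lib.Helper38.OhP.Defs
import Cfsg.Agent.Lib.Helper98.Os3

/-!
# K-OhP (S5974 pack, architect helper38), LEAF I3 (597426): `x * x = -1`, `2 ≠ 0`: invariant nondegenerate
subspaces of every even dimension

For `u` with `Q u ≠ 0` the plane `⟨u, x u⟩` is invariant and nondegenerate; split it off and induct.
-/

set_option autoImplicit false
set_option linter.unusedSectionVars false
set_option linter.unusedVariables false

namespace Cfsg.Agent.Lib.Helper08.OhP

open Module Cfsg.Agent.Lib.Helper98.Elus Cfsg.Agent.Lib.Helper98.Sy Cfsg.Agent.Lib.Helper38.OhP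

universe u
variable {F : Type u} [Field F] {V : Type u} [AddCommGroup V] [Module F V]

theorem sq_neg_one_apply (x : V →ₗ[F] V) (hx : x * x = -1) (v : V) : x (x v) = -v := by
  have := congrArg (fun g : V →ₗ[F] V => g v) hx
  simpa using this

theorem sq_neg_one_pow_four (x : V →ₗ[F] V) (hx : x * x = -1) : x ^ 4 = 1 := by
  calc x ^ 4 = (x * x) ^ 2 := by rw [← pow_two, ← pow_mul]
    _ = 1 := by rw [hx]; simp

/-- `u ⊥ x u` -/
theorem pB_self_map_of_sq_neg_one (h2 : (2 : F) ≠ 0) (Q : QuadraticForm F V) (x : V →ₗ[F] V)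
    (hx : x * x = -1) (hiso : QIso Q x) (u : V) : pB Q u (x u) = 0 := by
  have h1 : pB Q (x u) (x (x u)) = pB Q u (x u) := hiso.iso u (x u)
  rw [sq_neg_one_apply x hx, map_neg, pB_symm Q (x u) u] at h1
  have h3 : (2 : F) * pB Q u (x u) = 0 := by
    rw [two_mul]
    nth_rewrite 1 [← h1]
    exact neg_add_cancel _
  rcases mul_eq_zero.mp h3 with h | h
  · exact absurd h h2
  · exact h

/-- the plane `⟨u, x u⟩`, `Q u ≠ 0` -/
theorem plane_of_sq_neg_one [FiniteDimensional F V] (h2 : (2 : F) ≠ 0) (Q : QuadraticForm F V)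
    (x : V →ₗ[F] V) (hx : x * x = -1) (hiso : QIso Q x) (u : V) (hu : Q u ≠ 0) :
    Inv x (Submodule.span F {u, x u}) ∧ NonDeg (pB Q) (Submodule.span F {u, x u}) ∧
      finrank F ↥(Submodule.span F {u, x u}) = 2 := by
  have h0 : pB Q u (x u) = 0 := pB_self_map_of_sq_neg_one h2 Q x hx hiso u
  have h0' : pB Q (x u) u = 0 := by rw [pB_symm]; exact h0
  have huu : pB Q u u ≠ 0 := by
    rw [pB_self]
    exact mul_ne_zero h2 hu
  have hxx : pB Q (x u) (x u) ≠ 0 := by
    rw [pB_self, hiso u]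
    exact mul_ne_zero h2 hu
  have key : ∀ a b : F, (∀ v ∈ Submodule.span F {u, x u}, pB Q (a • u + b • x u) v = 0) →
      a = 0 ∧ b = 0 := by
    intro a b hab
    have e1 := hab u (Submodule.subset_span (by simp))
    have e2 := hab (x u) (Submodule.subset_span (by simp))
    rw [map_add, LinearMap.add_apply, map_smul, map_smul, LinearMap.smul_apply,
      LinearMap.smul_apply, smul_eq_mul, smul_eq_mul] at e1 e2
    rw [h0', mul_zero, add_zero] at e1
    rw [h0, mul_zero, zero_add] at e2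
    exact ⟨(mul_eq_zero.mp e1).resolve_right huu, (mul_eq_zero.mp e2).resolve_right hxx⟩
  refine ⟨?_, ?_, ?_⟩
  · intro v hv
    obtain ⟨a, b, rfl⟩ := Submodule.mem_span_pair.mp hv
    rw [map_add, map_smul, map_smul, sq_neg_one_apply x hx]
    apply Submodule.mem_span_pair.mpr
    exact ⟨-b, a, by rw [smul_neg, neg_smul, add_comm]⟩
  · intro v hv hv'
    obtain ⟨a, b, rfl⟩ := Submodule.mem_span_pair.mp hv
    obtain ⟨ha, hb⟩ := key a b hv'
    rw [ha, hb, zero_smul, zero_smul, add_zero]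
  · have hli : LinearIndependent F ![u, x u] := by
      apply LinearIndependent.pair_iff.mpr
      intro s t hst
      apply key s t
      intro v _
      rw [hst, map_zero, LinearMap.zero_apply]
    have hcard := finrank_span_eq_card hli
    have hrange : Set.range ![u, x u] = {u, x u} := by
      ext w
      simp only [Matrix.range_cons, Matrix.range_empty, Set.union_empty, Set.mem_union,
        Set.mem_singleton_iff, Set.mem_insert_iff]
    rw [hrange, Fintype.card_fin] at hcard
    exact hcard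

/-- a nonzero nondegenerate subspace contains a nonsingular vector -/
theorem exists_nonsingular (h2 : (2 : F) ≠ 0) (Q : QuadraticForm F V) (U : Submodule F V)
    (hU : NonDeg (pB Q) U) (hne : U ≠ ⊥) : ∃ u ∈ U, Q u ≠ 0 := by
  by_contra hcon
  push Not at hcon
  apply hne
  rw [eq_bot_iff]
  intro u hu
  rw [Submodule.mem_bot]
  apply hU u hu
  intro v hv
  rw [pB_apply, hcon u hu, hcon v hv, hcon (u + v) (U.add_mem hu hv)]
  ring

theorem exists_nonDeg_inv_sq_neg_one_aux [FiniteDimensional F V] (h2 : (2 : F) ≠ 0)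
    (Q : QuadraticForm F V) (x : V →ₗ[F] V) (hx : x * x = -1) (hiso : QIso Q x)
    (U : Submodule F V) (hU : Inv x U) (hUnd : NonDeg (pB Q) U) :
    ∀ k : ℕ, 2 * k ≤ finrank F U →
      ∃ W : Submodule F V, W ≤ U ∧ Inv x W ∧ NonDeg (pB Q) W ∧ finrank F W = 2 * k := by
  have hR := Cfsg.Agent.Lib.Helper98.Os.isRefl_of_symm (pB_symm Q)
  intro k
  induction k with
  | zero =>
    intro _
    exact ⟨⊥, bot_le, inv_bot x, Cfsg.Agent.Lib.Helper98.Os.nonDeg_bot, by simp⟩
  | succ k ih =>
    intro hk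
    obtain ⟨W, hWU, hW, hWnd, hWd⟩ := ih (by omega)
    obtain ⟨h1, h2', h3, h4⟩ := Cfsg.Agent.Lib.Helper98.Os.compl_props hR W U hWnd hWU hUnd
    have hU'inv : Inv x ((pB Q).orthogonal W ⊓ U) :=
      (inv_orth 4 (by norm_num) x (sq_neg_one_pow_four x hx) hiso.iso W hW).inf hU
    have hU'ne : (pB Q).orthogonal W ⊓ U ≠ ⊥ := by
      intro h
      rw [h, finrank_bot] at h4
      omega
    obtain ⟨u, huU', hu⟩ := exists_nonsingular h2 Q _ h3 hU'ne
    obtain ⟨hPinv, hPnd, hPd⟩ := plane_of_sq_neg_one h2 Q x hx hiso u hu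
    have hPle : Submodule.span F {u, x u} ≤ (pB Q).orthogonal W ⊓ U := by
      rw [Submodule.span_le]
      intro w hw
      rcases hw with rfl | hw
      · exact huU'
      · rw [Set.mem_singleton_iff] at hw
        rw [hw]
        exact hU'inv u huU'
    have hort : Ort (pB Q) W (Submodule.span F {u, x u}) := by
      intro a ha z hz
      exact LinearMap.BilinForm.mem_orthogonal_iff.mp (Submodule.mem_inf.mp (hPle hz)).1 a ha
    refine ⟨W ⊔ Submodule.span F {u, x u}, sup_le hWU (le_trans hPle inf_le_right), hW.sup hPinv,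
      (Cfsg.Agent.Lib.Helper98.Os.nonDeg_sup hR W _ hWnd hPnd hort).1, ?_⟩
    rw [Cfsg.Agent.Lib.Helper98.Os.finrank_sup_of_ort hR W _ hWnd hPnd hort, hWd, hPd]
    ring

theorem exists_nonDeg_inv_sq_neg_one [Fintype F] (h2 : (2 : F) ≠ 0) [FiniteDimensional F V]
    (Q : QuadraticForm F V) (hV : NonDeg (pB Q) ⊤) (x : V →ₗ[F] V) (hx : x * x = -1)
    (hiso : QIso Q x) (m : ℕ) (hme : Even m) (hm : m ≤ finrank F V) :
    ∃ W : Submodule F V, Inv x W ∧ NonDeg (pB Q) W ∧ finrank F W = m := by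
  obtain ⟨k, hk⟩ := hme
  obtain ⟨W, -, hW, hWnd, hWd⟩ := exists_nonDeg_inv_sq_neg_one_aux h2 Q x hx hiso ⊤
    (fun _ _ => Submodule.mem_top) hV k (by rw [finrank_top]; omega)
  exact ⟨W, hW, hWnd, by rw [hWd, hk]; ring⟩

end Cfsg.Agent.Lib.Helper08.OhP
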