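import Cfsg.Agent.Lib.Helper38.OhP.Defs
import Cfsg.Agent.Lib.Helper98.Sy4
import Cfsg.Agent.Lib.Helper98.Oh1

/-!
# K-OhP (S5974 pack, architect helper38), LEAF S2 (597406): `exists_nonDeg_inv_q`

Invariant nondegenerate subspaces of `V1` of every dimension `c * b`, for the polar form of a quadratic form in any
characteristic: `2 ≠ 0` is `Helper98.Oh.exists_nonDeg_inv_symm`, `2 = 0` (polar form alternating) is
`Helper98.Sy.exists_nonDeg_inv`.
-/

set_option autoImplicit false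
set_option linter.unusedSectionVars false
set_option linter.unusedVariables false

namespace Cfsg.Agent.Lib.Helper08.OhP

open Module Cfsg.Agent.Lib.Helper98.Elus Cfsg.Agent.Lib.Helper98.Sy Cfsg.Agent.Lib.Helper38.OhP

universe u
variable {F : Type u} [Field F] {V : Type u} [AddCommGroup V] [Module F V]

theorem exists_nonDeg_inv_q [Fintype F] [FiniteDimensional F V] (Q : QuadraticForm F V)
    (hV : NonDeg (pB Q) ⊤) (p f : ℕ) [Fact p.Prime] (hF : Fintype.card F = p ^ f)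
    (r : ℕ) [Fact r.Prime] (hpr : p ≠ r) (hr2 : r ≠ 2) (hrF : (r : F) ≠ 0) (y : V →ₗ[F] V)
    (hy : y ^ r = 1) (hiso : QIso Q y)
    (U : Submodule F V) (hUV1 : U ≤ V1 r y) (hU : Inv y U) (hUnd : NonDeg (pB Q) U)
    (b : ℕ) (hb : cOf (orderOf ((Fintype.card F : ℕ) : ZMod r)) * b ≤ finrank F U) :
    ∃ W : Submodule F V, W ≤ U ∧ Inv y W ∧ NonDeg (pB Q) W ∧
      finrank F W = cOf (orderOf ((Fintype.card F : ℕ) : ZMod r)) * b := by
  by_cases h2 : (2 : F) = 0
  · have hA : (pB Q).IsAlt := fun a => by rw [pB_self, h2, zero_mul]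
    exact Cfsg.Agent.Lib.Helper98.Sy.exists_nonDeg_inv hA hV p f hF r hpr hr2 hrF y hy hiso.iso U
      hUV1 hU hUnd b hb
  · exact Cfsg.Agent.Lib.Helper98.Oh.exists_nonDeg_inv_symm h2 (pB Q) (pB_symm Q) hV p f hF r hpr hr2
      hrF y hy hiso.iso U hUV1 hU hUnd b hb

end Cfsg.Agent.Lib.Helper08.OhP
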