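import Cfsg.Agent.Lib.Helper38.OhP.Defs
import Cfsg.Agent.Lib.Helper50.SumForm
import Cfsg.Agent.Lib.Helper50.GeoBridge
import Cfsg.Agent.Lib.Helper50.PlusForm

/-!
# K-OhP (S5974 pack, architect helper38), LEAF T2 (597420): isometries of odd order lie in `Ω`

`x = (x ^ ((r + 1) / 2)) ^ 2` and squares of isometries are in `Ω` (`Helper50.mul_self_mem_Omega`).
-/

set_option autoImplicit false
set_option linter.unusedSectionVars false
set_option linter.unusedVariables false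

namespace Cfsg.Agent.Lib.Helper08.OhP

open Module Cfsg.Agent.Lib.Helper98.Elus Cfsg.Agent.Lib.Helper98.Sy Cfsg.Agent.Lib.Helper38.OhP

universe u
variable {F : Type u} [Field F] {V : Type u} [AddCommGroup V] [Module F V]

theorem mem_omegaGL_of_pow_odd [Fintype F] (d : ℕ) (hd : 3 ≤ d) (x : GL (Fin d ⊕ Fin d) F)
    (hx : x ∈ Cfsg.isometryGroup F (Cfsg.quadFormPlus d F)) (r : ℕ) (hr : Odd r) (hxr : x ^ r = 1) :
    x ∈ Cfsg.Geo.omegaGL (Cfsg.quadFormPlus d F) := by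
  obtain ⟨k, hk⟩ := hr
  have hx' : x ∈ Cfsg.isometryGroup F (⇑(Cfsg.Agent.Lib.Helper50.QPlus d F)) := hx
  set a : ↥(Cfsg.isometryGroup F (⇑(Cfsg.Agent.Lib.Helper50.QPlus d F))) := ⟨x, hx'⟩ with ha
  have har : a ^ r = 1 := by
    apply Subtype.ext
    rw [SubgroupClass.coe_pow]
    exact hxr
  have hsq : a = a ^ (k + 1) * a ^ (k + 1) := by
    rw [← pow_add]
    have : k + 1 + (k + 1) = r + 1 := by omega
    rw [this, pow_succ, har, one_mul]
  have h24 : Fintype.card F ≠ 2 ∨ Fintype.card (Fin d ⊕ Fin d) ≠ 4 := by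
    right
    rw [Fintype.card_sum, Fintype.card_fin]
    omega
  have hmem := Cfsg.Agent.Lib.Helper50.mul_self_mem_Omega (Cfsg.Agent.Lib.Helper50.QPlus d F)
    Cfsg.Agent.Lib.Helper50.QPlus_nondegenerate h24 (a ^ (k + 1))
  rw [← hsq] at hmem
  exact Cfsg.Agent.Lib.Helper50.coe_mem_omegaGL (⇑(Cfsg.Agent.Lib.Helper50.QPlus d F)) a hmem

end Cfsg.Agent.Lib.Helper08.OhP
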