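import Cfsg.Agent.Lib.Helper08.POmegaIso
import Cfsg.Agent.Lib.Helper08.GOOdd
import Cfsg.Agent.Lib.Helper07.SLGen
import Cfsg.Agent.Lib.Helper07.SLCard
import Cfsg.Agent.Lib.Helper07.SL2Sylow

set_option autoImplicit false

/-! The adjoint representation `SL₂(F) → O₃(F)` on trace-zero matrices
`[[x₀, x₁], [y₁, -x₀]]`, with quadratic form `-det = x₀² + x₁ y₁`. -/

namespace Cfsg.Agent.Lib.Helper08

open Matrix

section adj

variable {F : Type*} [Field F]

/-- index type of the 3-dimensional form -/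
abbrev I3 : Type := Unit ⊕ (Fin 1 ⊕ Fin 1)

/-- matrix of `M ↦ A M adj(A)` on trace zero matrices -/
def adjMat (A : Matrix (Fin 2) (Fin 2) F) : Matrix I3 I3 F :=
  Matrix.of fun i j =>
    match i, j with
    | .inl _, .inl _ => A 0 0 * A 1 1 + A 0 1 * A 1 0
    | .inl _, .inr (.inl _) => -(A 0 0 * A 1 0)
    | .inl _, .inr (.inr _) => A 0 1 * A 1 1
    | .inr (.inl _), .inl _ => -(2 * A 0 0 * A 0 1)
    | .inr (.inl _), .inr (.inl _) => A 0 0 ^ 2
    | .inr (.inl _), .inr (.inr _) => -(A 0 1 ^ 2)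
    | .inr (.inr _), .inl _ => 2 * A 1 0 * A 1 1
    | .inr (.inr _), .inr (.inl _) => -(A 1 0 ^ 2)
    | .inr (.inr _), .inr (.inr _) => A 1 1 ^ 2

theorem adjMat_one : adjMat (1 : Matrix (Fin 2) (Fin 2) F) = 1 := by
  ext i j
  rcases i with (_ | (i | i)) <;> rcases j with (_ | (j | j)) <;>
    simp [adjMat, Matrix.one_apply] <;> exact Subsingleton.elim _ _

theorem adjMat_mul (A B : Matrix (Fin 2) (Fin 2) F) :
    adjMat (A * B) = adjMat A * adjMat B := by
  ext i j
  rcases i with (_ | (i | i)) <;> rcases j with (_ | (j | j)) <;>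
    simp [adjMat, Matrix.mul_apply, Fintype.sum_sum_type, Fin.sum_univ_two] <;> ring

theorem adjMat_isometry (A : Matrix (Fin 2) (Fin 2) F) (v : I3 → F) :
    Cfsg.quadFormOdd 1 F (adjMat A *ᵥ v) = A.det ^ 2 * Cfsg.quadFormOdd 1 F v := by
  rw [Matrix.det_fin_two]
  simp [Cfsg.quadFormOdd, adjMat, Matrix.mulVec, dotProduct, Fintype.sum_sum_type]
  ring

/-- the adjoint representation as a monoid hom to matrices -/
def adjHom : Matrix.SpecialLinearGroup (Fin 2) F →* Matrix I3 I3 F where
  toFun g := adjMat g.1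
  map_one' := adjMat_one
  map_mul' g h := by
    rw [Matrix.SpecialLinearGroup.coe_mul]; exact adjMat_mul _ _

/-- the adjoint representation into `GL₃` -/
def adjGL : Matrix.SpecialLinearGroup (Fin 2) F →* Matrix.GeneralLinearGroup I3 F :=
  adjHom.toHomUnits

theorem adjGL_val (g : Matrix.SpecialLinearGroup (Fin 2) F) :
    ((adjGL g : Matrix.GeneralLinearGroup I3 F) : Matrix I3 I3 F) = adjMat g.1 := rfl

theorem adjGL_mem (g : Matrix.SpecialLinearGroup (Fin 2) F) :
    adjGL g ∈ Cfsg.isometryGroup F (Cfsg.quadFormOdd 1 F) := by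
  rw [mem_isometryGroup_iff']
  intro v
  rw [adjGL_val, adjMat_isometry, g.2, one_pow, one_mul]

/-- the adjoint representation into `O₃` -/
def adjO : Matrix.SpecialLinearGroup (Fin 2) F →* ↥(Cfsg.isometryGroup F (Cfsg.quadFormOdd 1 F)) :=
  adjGL.codRestrict _ adjGL_mem

theorem adjO_val (g : Matrix.SpecialLinearGroup (Fin 2) F) :
    (((adjO g : ↥(Cfsg.isometryGroup F (Cfsg.quadFormOdd 1 F))) :
      Matrix.GeneralLinearGroup I3 F) : Matrix I3 I3 F) = adjMat g.1 := rfl

/-- an element whose adjoint matrix commutes with those of the two elementary transvections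
is central -/
theorem mem_center_of_adj_commute (h2 : (2 : F) ≠ 0) (g : Matrix.SpecialLinearGroup (Fin 2) F)
    (h : ∀ x : Matrix.SpecialLinearGroup (Fin 2) F, adjO g * adjO x = adjO x * adjO g) :
    g ∈ Subgroup.center (Matrix.SpecialLinearGroup (Fin 2) F) := by
  have h01 : (0 : Fin 2) ≠ 1 := by decide
  have hu := congrArg (fun y : ↥(Cfsg.isometryGroup F (Cfsg.quadFormOdd 1 F)) =>
    ((y : Matrix.GeneralLinearGroup I3 F) : Matrix I3 I3 F))
    (h (Matrix.SpecialLinearGroup.transvection h01 (1 : F)))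
  have hl := congrArg (fun y : ↥(Cfsg.isometryGroup F (Cfsg.quadFormOdd 1 F)) =>
    ((y : Matrix.GeneralLinearGroup I3 F) : Matrix I3 I3 F))
    (h (Matrix.SpecialLinearGroup.transvection h01.symm (1 : F)))
  simp only [Subgroup.coe_mul, Units.val_mul, adjO_val] at hu hl
  have hdet : g.1 0 0 * g.1 1 1 - g.1 0 1 * g.1 1 0 = 1 := by
    have := g.2
    rwa [Matrix.det_fin_two] at this
  -- lower-left entry vanishes
  have hc : g.1 1 0 = 0 := by
    have := congrFun (congrFun hu (.inr (.inr 0))) (.inl ())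
    simp [adjMat, Matrix.mul_apply, Fintype.sum_sum_type,
      Matrix.SpecialLinearGroup.transvection_coe, Matrix.add_apply, Matrix.one_apply,
      Matrix.single_apply] at this
    rcases this with h4 | h4
    · exact h4
    · exact absurd h4 h2
  have hb : g.1 0 1 = 0 := by
    have := congrFun (congrFun hl (.inr (.inl 0))) (.inl ())
    simp [adjMat, Matrix.mul_apply, Fintype.sum_sum_type,
      Matrix.SpecialLinearGroup.transvection_coe, Matrix.add_apply, Matrix.one_apply,
      Matrix.single_apply] at this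
    rcases this with h4 | h4
    · exact h4
    · exact absurd h4 h2
  have had : g.1 0 0 * g.1 1 1 = 1 := by rw [hc, mul_zero, sub_zero] at hdet; exact hdet
  have hd2 : g.1 1 1 ^ 2 = 1 := by
    have := congrFun (congrFun hu (.inl ())) (.inr (.inr 0))
    simp [adjMat, Matrix.mul_apply, Fintype.sum_sum_type,
      Matrix.SpecialLinearGroup.transvection_coe, Matrix.add_apply, Matrix.one_apply,
      Matrix.single_apply, hb, hc] at this
    linear_combination -this + had
  have hda : g.1 1 1 = g.1 0 0 := by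
    have h3 : g.1 1 1 * (g.1 1 1 - g.1 0 0) = 0 := by linear_combination hd2 - had
    rcases mul_eq_zero.mp h3 with h4 | h4
    · rw [h4, mul_zero] at had; exact absurd had zero_ne_one
    · exact sub_eq_zero.mp h4
  rw [Matrix.SpecialLinearGroup.mem_center_iff]
  refine ⟨g.1 0 0, ?_, ?_⟩
  · rw [Fintype.card_fin, ← hda]; exact hd2
  · ext i j
    fin_cases i <;> fin_cases j <;> simp [hb, hc, hda]

end adj

end Cfsg.Agent.Lib.Helper08
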