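import Cfsg.Agent.Lib.Helper08.POmegaIso
import Cfsg.Agent.Lib.Helper08.GOPlus
import Cfsg.Agent.Lib.Helper07.SLGen
import Cfsg.Agent.Lib.Helper07.SLCard
import Cfsg.Agent.Lib.Helper07.SL2Sylow

set_option autoImplicit false

/-! The representation `SL₂(F) × SL₂(F) → O⁺₄(F)` on `2 × 2` matrices
`[[x₀, x₁], [-y₁, y₀]]`, `M ↦ A M adj(B)`, with quadratic form `det = x₀ y₀ + x₁ y₁`. -/

namespace Cfsg.Agent.Lib.Helper08

open Matrix

section ten

variable {F : Type*} [Field F]

/-- index type of the 4-dimensional form -/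
abbrev I4 : Type := Fin 2 ⊕ Fin 2

/-- matrix of `M ↦ A M adj(B)` in the coordinates `x₀, x₁, y₀, y₁` -/
def tenMat (A B : Matrix (Fin 2) (Fin 2) F) : Matrix I4 I4 F :=
  Matrix.fromBlocks
    (A 0 0 • !![B 1 1, -B 1 0; -B 0 1, B 0 0])
    (A 0 1 • !![-B 1 0, -B 1 1; B 0 0, B 0 1])
    (A 1 0 • !![-B 0 1, B 0 0; -B 1 1, B 1 0])
    (A 1 1 • !![B 0 0, B 0 1; B 1 0, B 1 1])

theorem tenMat_one : tenMat (1 : Matrix (Fin 2) (Fin 2) F) 1 = 1 := by
  ext i j
  rcases i with i | i <;> rcases j with j | j <;> fin_cases i <;> fin_cases j <;>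
    simp [tenMat, Matrix.one_apply]

theorem tenMat_mul (A B A' B' : Matrix (Fin 2) (Fin 2) F) :
    tenMat (A * A') (B * B') = tenMat A B * tenMat A' B' := by
  ext i j
  rcases i with i | i <;> rcases j with j | j <;> fin_cases i <;> fin_cases j <;>
    simp [tenMat, Matrix.mul_apply, Fintype.sum_sum_type, Fin.sum_univ_two] <;> ring

theorem tenMat_isometry (A B : Matrix (Fin 2) (Fin 2) F) (v : I4 → F) :
    Cfsg.quadFormPlus 2 F (tenMat A B *ᵥ v) = A.det * B.det * Cfsg.quadFormPlus 2 F v := by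
  rw [Matrix.det_fin_two, Matrix.det_fin_two]
  simp [Cfsg.quadFormPlus, tenMat, Matrix.mulVec, dotProduct, Fintype.sum_sum_type,
    Fin.sum_univ_two]
  ring

/-- the representation as a monoid hom to matrices -/
def tenHom : Matrix.SpecialLinearGroup (Fin 2) F × Matrix.SpecialLinearGroup (Fin 2) F →*
    Matrix I4 I4 F where
  toFun g := tenMat g.1.1 g.2.1
  map_one' := tenMat_one
  map_mul' g h := by
    rw [Prod.fst_mul, Prod.snd_mul, Matrix.SpecialLinearGroup.coe_mul,
      Matrix.SpecialLinearGroup.coe_mul]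
    exact tenMat_mul _ _ _ _

/-- the representation into `GL₄` -/
def tenGL : Matrix.SpecialLinearGroup (Fin 2) F × Matrix.SpecialLinearGroup (Fin 2) F →*
    Matrix.GeneralLinearGroup I4 F :=
  tenHom.toHomUnits

theorem tenGL_val (g : Matrix.SpecialLinearGroup (Fin 2) F × Matrix.SpecialLinearGroup (Fin 2) F) :
    ((tenGL g : Matrix.GeneralLinearGroup I4 F) : Matrix I4 I4 F) = tenMat g.1.1 g.2.1 := rfl

theorem tenGL_mem (g : Matrix.SpecialLinearGroup (Fin 2) F × Matrix.SpecialLinearGroup (Fin 2) F) :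
    tenGL g ∈ Cfsg.isometryGroup F (Cfsg.quadFormPlus 2 F) := by
  rw [mem_isometryGroup_iff']
  intro v
  rw [tenGL_val, tenMat_isometry, g.1.2, g.2.2, one_mul, one_mul]

/-- the representation into `O⁺₄` -/
def tenO : Matrix.SpecialLinearGroup (Fin 2) F × Matrix.SpecialLinearGroup (Fin 2) F →*
    ↥(Cfsg.isometryGroup F (Cfsg.quadFormPlus 2 F)) :=
  tenGL.codRestrict _ tenGL_mem

theorem tenO_val (g : Matrix.SpecialLinearGroup (Fin 2) F × Matrix.SpecialLinearGroup (Fin 2) F) :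
    (((tenO g : ↥(Cfsg.isometryGroup F (Cfsg.quadFormPlus 2 F))) :
      Matrix.GeneralLinearGroup I4 F) : Matrix I4 I4 F) = tenMat g.1.1 g.2.1 := rfl

/-- the kernel: `(g, h) ↦ 1` forces `g = h` scalar -/
theorem tenO_ker (g h : Matrix.SpecialLinearGroup (Fin 2) F) (hk : tenO (g, h) = 1) :
    g ∈ Subgroup.center (Matrix.SpecialLinearGroup (Fin 2) F) ∧ h = g := by
  have hm : tenMat g.1 h.1 = 1 := by
    have := congrArg (fun y : ↥(Cfsg.isometryGroup F (Cfsg.quadFormPlus 2 F)) =>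
      ((y : Matrix.GeneralLinearGroup I4 F) : Matrix I4 I4 F)) hk
    simpa [tenO_val] using this
  have e := fun i j => congrFun (congrFun hm i) j
  have e1 := e (.inl 0) (.inl 0)
  have e2 := e (.inl 0) (.inl 1)
  have e3 := e (.inl 1) (.inl 0)
  have e4 := e (.inl 1) (.inl 1)
  have e5 := e (.inl 0) (.inr 1)
  have e6 := e (.inr 1) (.inl 0)
  have e7 := e (.inr 0) (.inr 0)
  have e8 := e (.inr 1) (.inr 1)
  simp [tenMat, Matrix.one_apply] at e1 e2 e3 e4 e5 e6 e7 e8
  -- e1 : a s = 1, e2 : a r = 0, e3 : a q = 0, e4 : a p = 1, e5 : b s = 0, e6 : c s = 0,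
  -- e7 : d p = 1, e8 : d s = 1
  have ha : g.1 0 0 ≠ 0 := by
    intro h0; rw [h0, zero_mul] at e1; exact zero_ne_one e1
  have hs : h.1 1 1 ≠ 0 := by
    intro h0; rw [h0, mul_zero] at e1; exact zero_ne_one e1
  have hr : h.1 1 0 = 0 := by
    rcases e2 with h0 | h0
    · exact absurd h0 ha
    · exact h0
  have hq : h.1 0 1 = 0 := by
    rcases e3 with h0 | h0
    · exact absurd h0 ha
    · exact h0
  have hb : g.1 0 1 = 0 := by
    rcases e5 with h0 | h0
    · exact h0
    · exact absurd h0 hs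
  have hc : g.1 1 0 = 0 := by
    rcases e6 with h0 | h0
    · exact h0
    · exact absurd h0 hs
  have hdetg : g.1 0 0 * g.1 1 1 = 1 := by
    have := g.2
    rw [Matrix.det_fin_two, hb, zero_mul, sub_zero] at this
    exact this
  have hps : h.1 0 0 = h.1 1 1 := by
    have : g.1 0 0 * (h.1 0 0 - h.1 1 1) = 0 := by linear_combination e4 - e1
    rcases mul_eq_zero.mp this with h0 | h0
    · exact absurd h0 ha
    · exact sub_eq_zero.mp h0
  have hda : g.1 1 1 = g.1 0 0 := by
    have : h.1 1 1 * (g.1 1 1 - g.1 0 0) = 0 := by linear_combination e8 - e1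
    rcases mul_eq_zero.mp this with h0 | h0
    · exact absurd h0 hs
    · exact sub_eq_zero.mp h0
  have hsa : h.1 1 1 = g.1 0 0 := by
    have h1 : g.1 0 0 * g.1 0 0 = 1 := by rw [hda] at hdetg; exact hdetg
    have : g.1 0 0 * (h.1 1 1 - g.1 0 0) = 0 := by linear_combination e1 - h1
    rcases mul_eq_zero.mp this with h0 | h0
    · exact absurd h0 ha
    · exact sub_eq_zero.mp h0
  constructor
  · rw [Matrix.SpecialLinearGroup.mem_center_iff]
    refine ⟨g.1 0 0, ?_, ?_⟩
    · rw [Fintype.card_fin, pow_two]; rw [hda] at hdetg; exact hdetg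
    · ext i j
      fin_cases i <;> fin_cases j <;> simp [hb, hc, hda]
  · apply Subtype.ext
    ext i j
    fin_cases i <;> fin_cases j <;> simp [hb, hc, hda, hr, hq, hps, hsa]

end ten

end Cfsg.Agent.Lib.Helper08
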