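import Cfsg.Agent.Lib.Helper08.Omega6
import Cfsg.Agent.Lib.Helper08.GOOdd

set_option autoImplicit false

/-! The representation `Sp₄(F) → O₅(F)`: the exterior square of the natural module restricted to
the orthogonal complement of the invariant alternating matrix `J`. -/

namespace Cfsg.Agent.Lib.Helper08

open Matrix

section sp4

variable {F : Type*} [Field F]

/-- index type of the 5-dimensional form -/
abbrev I5 : Type := Unit ⊕ (Fin 2 ⊕ Fin 2)

/-- identification of `Fin 4` with `Fin 2 ⊕ Fin 2` -/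
def e4 : Fin 4 ≃ Fin 2 ⊕ Fin 2 where
  toFun := ![Sum.inl 0, Sum.inl 1, Sum.inr 0, Sum.inr 1]
  invFun := Sum.elim ![0, 1] ![2, 3]
  left_inv := by intro i; fin_cases i <;> rfl
  right_inv := by
    intro i
    rcases i with i | i <;> fin_cases i <;> rfl

/-- minus the symplectic Gram matrix, in `Fin 4` coordinates -/
def jj (F : Type*) [Field F] (k l : Fin 4) : F := -(Matrix.J (Fin 2) F) (e4 k) (e4 l)

/-- the symplectic condition in terms of `2 × 2` minors (columns) -/
theorem sp_colcond {A : Matrix (Fin 2 ⊕ Fin 2) (Fin 2 ⊕ Fin 2) F}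
    (hA : A ∈ Matrix.symplecticGroup (Fin 2) F) (k l : Fin 4) :
    minor2 (A.submatrix e4 e4) 0 2 k l + minor2 (A.submatrix e4 e4) 1 3 k l = jj F k l := by
  have h := SymplecticGroup.mem_iff'.mp hA
  have h2 := congrFun (congrFun h (e4 k)) (e4 l)
  simp only [Matrix.mul_apply, Matrix.transpose_apply, Fintype.sum_sum_type, Fin.sum_univ_two,
    Matrix.J, Matrix.fromBlocks_apply₁₁, Matrix.fromBlocks_apply₁₂, Matrix.fromBlocks_apply₂₁,
    Matrix.fromBlocks_apply₂₂, Matrix.neg_apply, Matrix.one_apply, Matrix.zero_apply] at h2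
  simp only [minor2, Matrix.submatrix_apply, jj, Matrix.J]
  have e0 : e4 0 = Sum.inl 0 := rfl
  have e1 : e4 1 = Sum.inl 1 := rfl
  have e2 : e4 2 = Sum.inr 0 := rfl
  have e3 : e4 3 = Sum.inr 1 := rfl
  rw [e0, e1, e2, e3, ← h2]
  simp
  ring

/-- vectors orthogonal to `J` -/
def Perp (w : I6 → F) : Prop := w (Sum.inl 1) = w (Sum.inr 1)

theorem lam_perp {A : Matrix (Fin 2 ⊕ Fin 2) (Fin 2 ⊕ Fin 2) F}
    (hA : A ∈ Matrix.symplecticGroup (Fin 2) F) (w : I6 → F) (hw : Perp w) :
    Perp (lamMat (A.submatrix e4 e4) *ᵥ w) := by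
  have c01 := sp_colcond hA 0 1
  have c02 := sp_colcond hA 0 2
  have c03 := sp_colcond hA 0 3
  have c12 := sp_colcond hA 1 2
  have c13 := sp_colcond hA 1 3
  have c23 := sp_colcond hA 2 3
  have j01 : jj F 0 1 = 0 := by simp [jj, Matrix.J, e4]
  have j02 : jj F 0 2 = 1 := by simp [jj, Matrix.J, e4]
  have j03 : jj F 0 3 = 0 := by simp [jj, Matrix.J, e4]
  have j12 : jj F 1 2 = 0 := by simp [jj, Matrix.J, e4]
  have j13 : jj F 1 3 = 1 := by simp [jj, Matrix.J, e4]
  have j23 : jj F 2 3 = 0 := by simp [jj, Matrix.J, e4]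
  rw [j01] at c01
  rw [j02] at c02
  rw [j03] at c03
  rw [j12] at c12
  rw [j13] at c13
  rw [j23] at c23
  unfold Perp at hw ⊢
  simp only [lamMat, Matrix.mulVec, dotProduct, Matrix.of_apply, Fintype.sum_sum_type,
    Fin.sum_univ_three]
  simp [p1, p2, sg]
  linear_combination (w (Sum.inl 0)) * c01 + (w (Sum.inl 1)) * c02 + (w (Sum.inl 2)) * c03
    + (w (Sum.inr 2)) * c12 - (w (Sum.inr 1)) * c13 + (w (Sum.inr 0)) * c23 + hw

/-- embedding of the 5-space as the orthogonal complement of `J` -/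
def emb5 : (I5 → F) →ₗ[F] (I6 → F) where
  toFun v := Sum.elim ![v (.inr (.inl 0)), v (.inl ()), v (.inr (.inl 1))]
    ![v (.inr (.inr 0)), v (.inl ()), v (.inr (.inr 1))]
  map_add' u v := by
    funext c
    rcases c with i | i <;> fin_cases i <;> simp
  map_smul' a v := by
    funext c
    rcases c with i | i <;> fin_cases i <;> simp

/-- projection back -/
def proj5 : (I6 → F) →ₗ[F] (I5 → F) where
  toFun w := Sum.elim (fun _ => w (.inl 1))
    (Sum.elim ![w (.inl 0), w (.inl 2)] ![w (.inr 0), w (.inr 2)])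
  map_add' u v := by
    funext c
    rcases c with _ | (i | i)
    · simp
    · fin_cases i <;> simp
    · fin_cases i <;> simp
  map_smul' a v := by
    funext c
    rcases c with _ | (i | i)
    · simp
    · fin_cases i <;> simp
    · fin_cases i <;> simp

theorem emb5_perp (v : I5 → F) : Perp (emb5 v) := by
  simp [Perp, emb5]

theorem proj5_emb5 (v : I5 → F) : proj5 (emb5 v) = v := by
  funext c
  rcases c with _ | (i | i)
  · simp [proj5, emb5]
  · fin_cases i <;> simp [proj5, emb5]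
  · fin_cases i <;> simp [proj5, emb5]

theorem emb5_proj5 (w : I6 → F) (hw : Perp w) : emb5 (proj5 w) = w := by
  unfold Perp at hw
  funext c
  rcases c with i | i <;> fin_cases i <;> simp [proj5, emb5, hw]

theorem quad_emb5 (v : I5 → F) : Cfsg.quadFormPlus 3 F (emb5 v) = Cfsg.quadFormOdd 2 F v := by
  simp [Cfsg.quadFormPlus, Cfsg.quadFormOdd, emb5, Fin.sum_univ_three, Fin.sum_univ_two]
  ring

/-- the linear map of the 5-dimensional representation -/
def spLin (A : Matrix (Fin 2 ⊕ Fin 2) (Fin 2 ⊕ Fin 2) F) : (I5 → F) →ₗ[F] (I5 → F) :=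
  proj5 ∘ₗ Matrix.toLin' (lamMat (A.submatrix e4 e4)) ∘ₗ emb5

theorem spLin_apply (A : Matrix (Fin 2 ⊕ Fin 2) (Fin 2 ⊕ Fin 2) F) (v : I5 → F) :
    spLin A v = proj5 (lamMat (A.submatrix e4 e4) *ᵥ emb5 v) := by
  simp [spLin, Matrix.toLin'_apply]

theorem emb5_spLin {A : Matrix (Fin 2 ⊕ Fin 2) (Fin 2 ⊕ Fin 2) F}
    (hA : A ∈ Matrix.symplecticGroup (Fin 2) F) (v : I5 → F) :
    emb5 (spLin A v) = lamMat (A.submatrix e4 e4) *ᵥ emb5 v := by
  rw [spLin_apply, emb5_proj5 _ (lam_perp hA _ (emb5_perp v))]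

theorem spLin_mul {A B : Matrix (Fin 2 ⊕ Fin 2) (Fin 2 ⊕ Fin 2) F}
    (hB : B ∈ Matrix.symplecticGroup (Fin 2) F) :
    spLin (A * B) = spLin A ∘ₗ spLin B := by
  apply LinearMap.ext
  intro v
  rw [LinearMap.comp_apply, spLin_apply A, emb5_spLin hB, spLin_apply, Matrix.mulVec_mulVec,
    ← lamMat_mul]
  congr 3

theorem spLin_one : spLin (1 : Matrix (Fin 2 ⊕ Fin 2) (Fin 2 ⊕ Fin 2) F) = LinearMap.id := by
  apply LinearMap.ext
  intro v
  rw [spLin_apply, Matrix.submatrix_one_equiv, lamMat_one, Matrix.one_mulVec, proj5_emb5]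
  rfl

theorem spLin_isometry {A : Matrix (Fin 2 ⊕ Fin 2) (Fin 2 ⊕ Fin 2) F}
    (hA : A ∈ Matrix.symplecticGroup (Fin 2) F) (v : I5 → F) :
    Cfsg.quadFormOdd 2 F (spLin A v) = Cfsg.quadFormOdd 2 F v := by
  rw [← quad_emb5, emb5_spLin hA, lamMat_isometry, Matrix.det_submatrix_equiv_self,
    SymplecticGroup.det_eq_one hA, one_mul, quad_emb5]

/-- the representation as a monoid hom to matrices -/
noncomputable def spHom : Matrix.symplecticGroup (Fin 2) F →* Matrix I5 I5 F where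
  toFun g := LinearMap.toMatrix' (spLin g.1)
  map_one' := by
    show LinearMap.toMatrix' (spLin (1 : Matrix (Fin 2 ⊕ Fin 2) (Fin 2 ⊕ Fin 2) F)) = 1
    rw [spLin_one, LinearMap.toMatrix'_id]
  map_mul' g h := by
    show LinearMap.toMatrix' (spLin (g.1 * h.1)) = _
    rw [spLin_mul h.2, LinearMap.toMatrix'_comp]

/-- the representation into `GL₅` -/
noncomputable def spGL : Matrix.symplecticGroup (Fin 2) F →* Matrix.GeneralLinearGroup I5 F :=
  spHom.toHomUnits

theorem spGL_val (g : Matrix.symplecticGroup (Fin 2) F) :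
    ((spGL g : Matrix.GeneralLinearGroup I5 F) : Matrix I5 I5 F) =
      LinearMap.toMatrix' (spLin g.1) := rfl

theorem spGL_mem (g : Matrix.symplecticGroup (Fin 2) F) :
    spGL g ∈ Cfsg.isometryGroup F (Cfsg.quadFormOdd 2 F) := by
  rw [mem_isometryGroup_iff']
  intro v
  rw [spGL_val, LinearMap.toMatrix'_mulVec, spLin_isometry g.2]

/-- the representation into `O₅` -/
noncomputable def spO : Matrix.symplecticGroup (Fin 2) F →*
    ↥(Cfsg.isometryGroup F (Cfsg.quadFormOdd 2 F)) :=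
  spGL.codRestrict _ spGL_mem

theorem spO_val (g : Matrix.symplecticGroup (Fin 2) F) :
    (((spO g : ↥(Cfsg.isometryGroup F (Cfsg.quadFormOdd 2 F))) :
      Matrix.GeneralLinearGroup I5 F) : Matrix I5 I5 F) = LinearMap.toMatrix' (spLin g.1) := rfl

/-- a symplectic transvection-like element -/
def upperOne (F : Type*) [Field F] : Matrix.symplecticGroup (Fin 2) F :=
  ⟨Matrix.fromBlocks 1 1 0 1, by
    rw [SymplecticGroup.mem_iff]
    simp [Matrix.J, Matrix.fromBlocks_multiply, Matrix.fromBlocks_transpose]⟩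

theorem spO_ne_one : ∃ g : Matrix.symplecticGroup (Fin 2) F, spO g ≠ 1 := by
  refine ⟨upperOne F, ?_⟩
  intro h
  have := congrArg (fun y : ↥(Cfsg.isometryGroup F (Cfsg.quadFormOdd 2 F)) =>
    ((y : Matrix.GeneralLinearGroup I5 F) : Matrix I5 I5 F)) h
  simp only [spO_val] at this
  have h2 := congrFun (congrFun this (.inr (.inl 0))) (.inr (.inr 0))
  rw [LinearMap.toMatrix'_apply, spLin_apply] at h2
  simp [proj5, emb5, lamMat, p1, p2, sg, minor2, upperOne, Matrix.mulVec, dotProduct,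
    Fintype.sum_sum_type, Fin.sum_univ_three, e4, Matrix.one_apply] at h2

end sp4

end Cfsg.Agent.Lib.Helper08
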