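import Cfsg.Agent.Lib.Helper08.GOPlus

set_option autoImplicit false

/-! The exterior square representation `GL₄(F) → GO⁺₆(F)`, on alternating `4 × 4` matrices
`M ↦ A M Aᵀ` with the Pfaffian as quadratic form (Klein correspondence). -/

namespace Cfsg.Agent.Lib.Helper08

open Matrix

section lam

variable {F : Type*} [Field F]

/-- index type of the 6-dimensional form -/
abbrev I6 : Type := Fin 3 ⊕ Fin 3

/-- first index of the pair attached to a coordinate -/
def p1 : I6 → Fin 4
  | .inl _ => 0
  | .inr i => if i = 0 then 2 else 1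

/-- second index of the pair attached to a coordinate -/
def p2 : I6 → Fin 4
  | .inl i => if i = 0 then 1 else if i = 1 then 2 else 3
  | .inr i => if i = 2 then 2 else 3

/-- sign attached to a coordinate -/
def sg (F : Type*) [Field F] : I6 → F
  | .inl _ => 1
  | .inr i => if i = 1 then -1 else 1

/-- `2 × 2` minors -/
def minor2 (A : Matrix (Fin 4) (Fin 4) F) (i j k l : Fin 4) : F :=
  A i k * A j l - A i l * A j k

/-- Cauchy-Binet for `2 × 2` minors of `4 × 4` matrices -/
theorem minor2_mul (A B : Matrix (Fin 4) (Fin 4) F) (i j k l : Fin 4) :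
    minor2 (A * B) i j k l =
      minor2 A i j 0 1 * minor2 B 0 1 k l + minor2 A i j 0 2 * minor2 B 0 2 k l +
      minor2 A i j 0 3 * minor2 B 0 3 k l + minor2 A i j 1 2 * minor2 B 1 2 k l +
      minor2 A i j 1 3 * minor2 B 1 3 k l + minor2 A i j 2 3 * minor2 B 2 3 k l := by
  simp only [minor2, Matrix.mul_apply, Fin.sum_univ_four]
  ring

/-- the matrix of the exterior square -/
def lamMat (A : Matrix (Fin 4) (Fin 4) F) : Matrix I6 I6 F :=
  Matrix.of fun c c' => sg F c * sg F c' * minor2 A (p1 c) (p2 c) (p1 c') (p2 c')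

theorem lamMat_mul (A B : Matrix (Fin 4) (Fin 4) F) : lamMat (A * B) = lamMat A * lamMat B := by
  ext c c'
  simp only [lamMat, Matrix.mul_apply, Matrix.of_apply, Fintype.sum_sum_type, Fin.sum_univ_three,
    minor2_mul]
  simp [p1, p2, sg]
  ring

theorem lamMat_one : lamMat (1 : Matrix (Fin 4) (Fin 4) F) = 1 := by
  ext c c'
  rcases c with i | i <;> rcases c' with j | j <;> fin_cases i <;> fin_cases j <;>
    simp [lamMat, p1, p2, sg, minor2, Matrix.one_apply]

/-- the determinant of a `4 × 4` matrix by Laplace expansion along the first two rows -/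
theorem det4 (A : Matrix (Fin 4) (Fin 4) F) :
    A.det = minor2 A 0 1 0 1 * minor2 A 2 3 2 3 - minor2 A 0 1 0 2 * minor2 A 2 3 1 3
      + minor2 A 0 1 0 3 * minor2 A 2 3 1 2 + minor2 A 0 1 1 2 * minor2 A 2 3 0 3
      - minor2 A 0 1 1 3 * minor2 A 2 3 0 2 + minor2 A 0 1 2 3 * minor2 A 2 3 0 1 := by
  rw [Matrix.det_succ_row_zero]
  simp [Fin.sum_univ_four, Matrix.det_fin_three, minor2, Fin.succAbove]
  ring

/-- the Pfaffian is multiplied by the determinant -/
theorem lamMat_isometry (A : Matrix (Fin 4) (Fin 4) F) (v : I6 → F) :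
    Cfsg.quadFormPlus 3 F (lamMat A *ᵥ v) = A.det * Cfsg.quadFormPlus 3 F v := by
  rw [det4]
  simp [Cfsg.quadFormPlus, lamMat, Matrix.mulVec, dotProduct, Fintype.sum_sum_type,
    Fin.sum_univ_three, p1, p2, sg, minor2]
  ring

/-- the exterior square as a monoid hom to matrices -/
def lamHom : Matrix.SpecialLinearGroup (Fin 4) F →* Matrix I6 I6 F where
  toFun g := lamMat g.1
  map_one' := lamMat_one
  map_mul' g h := by
    rw [Matrix.SpecialLinearGroup.coe_mul]; exact lamMat_mul _ _

/-- the exterior square into `GL₆` -/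
def lamGL : Matrix.SpecialLinearGroup (Fin 4) F →* Matrix.GeneralLinearGroup I6 F :=
  lamHom.toHomUnits

theorem lamGL_val (g : Matrix.SpecialLinearGroup (Fin 4) F) :
    ((lamGL g : Matrix.GeneralLinearGroup I6 F) : Matrix I6 I6 F) = lamMat g.1 := rfl

theorem lamGL_mem (g : Matrix.SpecialLinearGroup (Fin 4) F) :
    lamGL g ∈ Cfsg.isometryGroup F (Cfsg.quadFormPlus 3 F) := by
  rw [mem_isometryGroup_iff']
  intro v
  rw [lamGL_val, lamMat_isometry, g.2, one_mul]

/-- the exterior square into `O⁺₆` -/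
def lamO : Matrix.SpecialLinearGroup (Fin 4) F →*
    ↥(Cfsg.isometryGroup F (Cfsg.quadFormPlus 3 F)) :=
  lamGL.codRestrict _ lamGL_mem

theorem lamO_val (g : Matrix.SpecialLinearGroup (Fin 4) F) :
    (((lamO g : ↥(Cfsg.isometryGroup F (Cfsg.quadFormPlus 3 F))) :
      Matrix.GeneralLinearGroup I6 F) : Matrix I6 I6 F) = lamMat g.1 := rfl

/-- the exterior square is not trivial -/
theorem lamO_ne_one : ∃ g : Matrix.SpecialLinearGroup (Fin 4) F, lamO g ≠ 1 := by
  have h01 : (0 : Fin 4) ≠ 1 := by decide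
  refine ⟨Matrix.SpecialLinearGroup.transvection h01 (1 : F), ?_⟩
  intro h
  have := congrArg (fun y : ↥(Cfsg.isometryGroup F (Cfsg.quadFormPlus 3 F)) =>
    ((y : Matrix.GeneralLinearGroup I6 F) : Matrix I6 I6 F)) h
  simp only [lamO_val] at this
  have h2 := congrFun (congrFun this (.inl 1)) (.inr 2)
  simp [lamMat, p1, p2, sg, minor2, Matrix.SpecialLinearGroup.transvection_coe,
    Matrix.add_apply, Matrix.one_apply, Matrix.single_apply] at h2

/-- a scalar in the kernel is `±1` -/
theorem lamO_scalar (g : Matrix.SpecialLinearGroup (Fin 4) F) (a : F)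
    (hg : Matrix.scalar (Fin 4) a = g.1) (hk : lamO g = 1) : a * a = 1 := by
  have := congrArg (fun y : ↥(Cfsg.isometryGroup F (Cfsg.quadFormPlus 3 F)) =>
    ((y : Matrix.GeneralLinearGroup I6 F) : Matrix I6 I6 F)) hk
  simp only [lamO_val] at this
  have h2 := congrFun (congrFun this (.inl 0)) (.inl 0)
  rw [← hg] at h2
  simpa [lamMat, p1, p2, sg, minor2, Matrix.one_apply] using h2

end lam

end Cfsg.Agent.Lib.Helper08
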