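import Cfsg.Agent.Lib.Helper43.Dickson
import Cfsg.Agent.Lib.Helper50.SpinorIndex

set_option autoImplicit false

/-! The centre of `Ω(Q)` (commutator subgroup of the isometry group of a quadratic form with
non-degenerate polar form) consists of `±1`, as soon as the space contains three mutually
orthogonal hyperbolic pairs and products of two reflections of equal norm lie in `Ω`. -/

namespace Cfsg.Agent.Lib.Helper08

open Cfsg.Agent.Lib.Helper19 Cfsg.Agent.Lib.Helper43

section center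

variable {F : Type*} [Field F] {ι : Type} [Fintype ι] [DecidableEq ι]
variable (Q : QuadraticForm F (ι → F))

/-- three mutually orthogonal hyperbolic pairs -/
structure HypTriple (e f : Fin 3 → ι → F) : Prop where
  qe : ∀ i, Q (e i) = 0
  qf : ∀ i, Q (f i) = 0
  ee : ∀ i j, QuadraticMap.polar (⇑Q) (e i) (e j) = 0
  ff : ∀ i j, QuadraticMap.polar (⇑Q) (f i) (f j) = 0
  ef : ∀ i j, QuadraticMap.polar (⇑Q) (e i) (f j) = if i = j then 1 else 0

/-- products of two reflections in vectors of the same norm lie in `Ω` -/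
def ReflPairs : Prop :=
  ∀ u v : ι → F, Q u ≠ 0 → Q v = Q u →
    ∃ g : ↥(Cfsg.isometryGroup F ⇑Q), g ∈ Cfsg.Omega F ⇑Q ∧
      linOf Q g = reflLin Q u ∘ₗ reflLin Q v

/-- centralising `Ω` -/
def CentOmega (z : ↥(Cfsg.isometryGroup F ⇑Q)) : Prop :=
  ∀ g : ↥(Cfsg.isometryGroup F ⇑Q), g ∈ Cfsg.Omega F ⇑Q → g * z = z * g

variable {Q}

theorem HypTriple.fe {e f : Fin 3 → ι → F} (h : HypTriple Q e f) (i j : Fin 3) :
    QuadraticMap.polar (⇑Q) (f i) (e j) = if i = j then 1 else 0 := by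
  rw [QuadraticMap.polar_comm, h.ef]
  simp only [eq_comm]

theorem CentOmega.conj {z : ↥(Cfsg.isometryGroup F ⇑Q)} (hz : CentOmega Q z)
    (h : ↥(Cfsg.isometryGroup F ⇑Q)) : CentOmega Q (h⁻¹ * z * h) := by
  intro g hg
  have hn : h * g * h⁻¹ ∈ Cfsg.Omega F ⇑Q :=
    (inferInstance : (Cfsg.Omega F ⇑Q).Normal).conj_mem g hg h
  have h1 := hz _ hn
  calc g * (h⁻¹ * z * h) = h⁻¹ * ((h * g * h⁻¹) * z) * h := by group
    _ = h⁻¹ * (z * (h * g * h⁻¹)) * h := by rw [h1]
    _ = h⁻¹ * z * h * g := by group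

variable (Q)

/-- `r_u r_{u+w}` is an Eichler transformation -/
theorem eichler_apply (u w x : ι → F) (hu : Q u = 1) (hw : Q w = 0)
    (huw : QuadraticMap.polar (⇑Q) u w = 0) :
    reflLin Q u (reflLin Q (u + w) x) =
      x + (QuadraticMap.polar (⇑Q) w x) • u
        - (QuadraticMap.polar (⇑Q) u x + QuadraticMap.polar (⇑Q) w x) • w := by
  have hQ : Q (u + w) = 1 := by
    rw [QuadraticMap.map_add (⇑Q), hu, hw, huw]; ring
  rw [reflLin_apply, reflLin_apply, hQ, hu]
  simp only [inv_one, one_mul, QuadraticMap.polar_sub_right, QuadraticMap.polar_add_left,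
    QuadraticMap.polar_smul_right, QuadraticMap.polar_add_right, QuadraticMap.polar_self, huw, hu,
    smul_eq_mul, nsmul_eq_mul, Nat.cast_ofNat]
  module

theorem plane_of_commute (Z : Module.End F (ι → F)) (u w x0 : ι → F) (hu : Q u = 1) (hw : Q w = 0)
    (huw : QuadraticMap.polar (⇑Q) u w = 0) (h1 : QuadraticMap.polar (⇑Q) w x0 = 0)
    (h2 : QuadraticMap.polar (⇑Q) u x0 = -1)
    (hZ : ∀ x, Z (reflLin Q u (reflLin Q (u + w) x)) = reflLin Q u (reflLin Q (u + w) (Z x))) :
    Z w = (QuadraticMap.polar (⇑Q) w (Z x0)) • u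
      - (QuadraticMap.polar (⇑Q) u (Z x0) + QuadraticMap.polar (⇑Q) w (Z x0)) • w := by
  have h := hZ x0
  rw [eichler_apply Q u w x0 hu hw huw, eichler_apply Q u w (Z x0) hu hw huw, h1, h2] at h
  simp only [zero_smul, add_zero, neg_smul, one_smul, sub_neg_eq_add, map_add] at h
  calc Z w = (Z x0 + Z w) - Z x0 := by abel
    _ = _ := by rw [h]; abel

variable {Q}

theorem core (e f : Fin 3 → ι → F) (HT : HypTriple Q e f) (RP : ReflPairs Q)
    (z : ↥(Cfsg.isometryGroup F ⇑Q)) (hz : CentOmega Q z) :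
    ∃ β : F, linOf Q z (e 0) = β • e 0 := by
  have key : ∀ i : Fin 3, i ≠ 0 →
      ∃ α β : F, linOf Q z (e 0) = α • (e i + f i) + β • e 0 := by
    intro i hi
    have hi' : ¬ (0 : Fin 3) = i := fun h => hi h.symm
    have hu : Q (e i + f i) = 1 := by
      rw [QuadraticMap.map_add (⇑Q), HT.qe, HT.qf, HT.ef]; simp
    have hw : Q (e 0) = 0 := HT.qe 0
    have huw : QuadraticMap.polar (⇑Q) (e i + f i) (e 0) = 0 := by
      rw [QuadraticMap.polar_add_left, HT.ee, HT.fe, if_neg hi, add_zero]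
    have hQ2 : Q (e i + f i + e 0) = Q (e i + f i) := by
      rw [QuadraticMap.map_add (⇑Q) (e i + f i), hw, huw]; ring
    obtain ⟨g, hg, hgl⟩ := RP (e i + f i) (e i + f i + e 0) (by rw [hu]; exact one_ne_zero) hQ2
    have hcomm := hz g hg
    have hZ : ∀ x, linOf Q z (reflLin Q (e i + f i) (reflLin Q (e i + f i + e 0) x)) =
        reflLin Q (e i + f i) (reflLin Q (e i + f i + e 0) (linOf Q z x)) := by
      intro x
      have h1 : linOf Q (z * g) x = linOf Q (g * z) x := by rw [hcomm]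
      rw [linOf_mul, linOf_mul, hgl] at h1
      exact h1
    have hx1 : QuadraticMap.polar (⇑Q) (e 0) (-(e i)) = 0 := by
      rw [QuadraticMap.polar_neg_right, HT.ee, neg_zero]
    have hx2 : QuadraticMap.polar (⇑Q) (e i + f i) (-(e i)) = -1 := by
      rw [QuadraticMap.polar_neg_right, QuadraticMap.polar_add_left, HT.ee, HT.fe, if_pos rfl,
        zero_add]
    have := plane_of_commute Q (linOf Q z) (e i + f i) (e 0) (-(e i)) hu hw huw hx1 hx2 hZ
    rw [this, sub_eq_add_neg, ← neg_smul]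
    exact ⟨_, _, rfl⟩
  obtain ⟨α, β, h1⟩ := key 1 (by decide)
  obtain ⟨α', β', h2⟩ := key 2 (by decide)
  have hα : α = 0 := by
    have h3 := congrArg (fun v => QuadraticMap.polar (⇑Q) (e 1) v) (h1.symm.trans h2)
    simp only [QuadraticMap.polar_add_right, QuadraticMap.polar_smul_right, HT.ee, HT.ef,
      smul_eq_mul] at h3
    simpa using h3
  exact ⟨β, by rw [h1, hα, zero_smul, zero_add]⟩

theorem line_of_singular (hQ : (QuadraticMap.polarBilin Q).Nondegenerate)
    (e f : Fin 3 → ι → F) (HT : HypTriple Q e f) (RP : ReflPairs Q)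
    (z : ↥(Cfsg.isometryGroup F ⇑Q)) (hz : CentOmega Q z) (w : ι → F) (hw : Q w = 0)
    (hw0 : w ≠ 0) : ∃ β : F, linOf Q z w = β • w := by
  have he0 : e 0 ≠ 0 := by
    intro h
    have h1 := HT.ef 0 0
    rw [h, QuadraticMap.polar_zero_left] at h1
    simp at h1
  obtain ⟨σ, hσ, -, hσe⟩ := exists_isometry_fix_hyperplane Q hQ ⊥ (e 0) w
    (by simpa using he0) (by simpa using hw0) (by rw [hw, HT.qe]) (by
      intro h hh
      rw [(Submodule.mem_bot F).1 hh]
      simp)
  obtain ⟨s, hs⟩ := exists_ofLin Q hQ σ hσ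
  obtain ⟨β, hβ⟩ := core e f HT RP (s⁻¹ * z * s) (hz.conj s)
  refine ⟨β, ?_⟩
  have h1 : linOf Q (s * (s⁻¹ * z * s)) (e 0) = linOf Q (z * s) (e 0) := by
    congr 2; group
  rw [linOf_mul Q s (s⁻¹ * z * s), linOf_mul Q z s, LinearMap.comp_apply, LinearMap.comp_apply,
    hβ, hs, map_smul, hσe] at h1
  exact h1.symm

/-- comparing two singular vectors whose sum is singular -/
theorem same_scalar (Z : Module.End F (ι → F))
    (hline : ∀ w, Q w = 0 → w ≠ 0 → ∃ β : F, Z w = β • w) (c : F) (a b t t' : ι → F)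
    (ha : Q a = 0) (hb : Q b = 0) (hab : QuadraticMap.polar (⇑Q) a b = 0)
    (hta : QuadraticMap.polar (⇑Q) t a = 1) (htb : QuadraticMap.polar (⇑Q) t b = 0)
    (hta' : QuadraticMap.polar (⇑Q) t' a = 0) (htb' : QuadraticMap.polar (⇑Q) t' b = 1)
    (hZa : Z a = c • a) : Z b = c • b := by
  have hb0 : b ≠ 0 := by
    intro h; rw [h, QuadraticMap.polar_zero_right] at htb'; exact zero_ne_one htb'
  have hab0 : a + b ≠ 0 := by
    intro h
    have h1 : QuadraticMap.polar (⇑Q) t (a + b) = 1 := by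
      rw [QuadraticMap.polar_add_right, hta, htb, add_zero]
    rw [h, QuadraticMap.polar_zero_right] at h1; exact zero_ne_one h1
  have hQab : Q (a + b) = 0 := by
    rw [QuadraticMap.map_add (⇑Q), ha, hb, hab]; ring
  obtain ⟨β, hβ⟩ := hline b hb hb0
  obtain ⟨μ, hμ⟩ := hline (a + b) hQab hab0
  rw [map_add, hZa, hβ] at hμ
  have h1 := congrArg (fun v => QuadraticMap.polar (⇑Q) t v) hμ
  have h2 := congrArg (fun v => QuadraticMap.polar (⇑Q) t' v) hμ
  simp only [QuadraticMap.polar_add_right, QuadraticMap.polar_smul_right, hta, htb, hta', htb',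
    smul_eq_mul, mul_one, mul_zero, add_zero, zero_add] at h1 h2
  rw [hβ, h2, ← h1]

theorem scalar_of_lines (e f : Fin 3 → ι → F) (HT : HypTriple Q e f) (Z : Module.End F (ι → F))
    (hline : ∀ w, Q w = 0 → w ≠ 0 → ∃ β : F, Z w = β • w) : ∃ c : F, ∀ v, Z v = c • v := by
  have he0 : e 0 ≠ 0 := by
    intro h
    have h1 := HT.ef 0 0
    rw [h, QuadraticMap.polar_zero_left] at h1
    simp at h1
  obtain ⟨c, hc⟩ := hline (e 0) (HT.qe 0) he0
  refine ⟨c, ?_⟩
  have hE1 : Z (e 1) = c • e 1 :=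
    same_scalar Z hline c (e 0) (e 1) (f 0) (f 1) (HT.qe 0) (HT.qe 1) (HT.ee 0 1)
      (by rw [HT.fe]; simp) (by rw [HT.fe]; simp) (by rw [HT.fe]; simp) (by rw [HT.fe]; simp) hc
  have hF0 : Z (f 0) = c • f 0 :=
    same_scalar Z hline c (e 1) (f 0) (f 1) (e 0) (HT.qe 1) (HT.qf 0) (by rw [HT.ef]; simp)
      (by rw [HT.fe]; simp) (by rw [HT.ff]) (by rw [HT.ee]) (by rw [HT.ef]; simp) hE1
  have hF1 : Z (f 1) = c • f 1 :=
    same_scalar Z hline c (e 0) (f 1) (f 0) (e 1) (HT.qe 0) (HT.qf 1) (by rw [HT.ef]; simp)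
      (by rw [HT.fe]; simp) (by rw [HT.ff]) (by rw [HT.ee]) (by rw [HT.ef]; simp) hc
  -- vectors orthogonal to the first two planes
  have hperp : ∀ y : ι → F, QuadraticMap.polar (⇑Q) (e 0) y = 0 →
      QuadraticMap.polar (⇑Q) (f 0) y = 0 → QuadraticMap.polar (⇑Q) (e 1) y = 0 →
      QuadraticMap.polar (⇑Q) (f 1) y = 0 → Z y = c • y := by
    intro y h1 h2 h3 h4
    -- the singular vectors `e i - Q y • f i + y`
    have hs : ∀ i : Fin 3, QuadraticMap.polar (⇑Q) (e i) y = 0 →
        QuadraticMap.polar (⇑Q) (f i) y = 0 → Z (e i) = c • e i → Z (f i) = c • f i →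
        ∃ γ : F, Z y = γ • y + (γ - c) • e i - (Q y * (γ - c)) • f i := by
      intro i hey hfy hZe hZf
      have hQs : Q (e i - Q y • f i + y) = 0 := by
        rw [QuadraticMap.map_add (⇑Q), sub_eq_add_neg, QuadraticMap.map_add (⇑Q), HT.qe,
          QuadraticMap.map_neg, QuadraticMap.map_smul, HT.qf, QuadraticMap.polar_add_left,
          QuadraticMap.polar_neg_left, QuadraticMap.polar_neg_right, QuadraticMap.polar_smul_left,
          QuadraticMap.polar_smul_right, hey, hfy, HT.ef, if_pos rfl]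
        simp
      have hs0 : e i - Q y • f i + y ≠ 0 := by
        intro h
        have h5 : QuadraticMap.polar (⇑Q) (f i) (e i - Q y • f i + y) = 1 := by
          rw [QuadraticMap.polar_add_right, QuadraticMap.polar_sub_right,
            QuadraticMap.polar_smul_right, HT.fe, HT.ff, hfy, if_pos rfl]
          simp
        rw [h, QuadraticMap.polar_zero_right] at h5
        exact zero_ne_one h5
      obtain ⟨γ, hγ⟩ := hline _ hQs hs0
      refine ⟨γ, ?_⟩
      rw [map_add, map_sub, map_smul, hZe, hZf] at hγ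
      have : Z y = γ • (e i - Q y • f i + y) - (c • e i - Q y • c • f i) := by
        rw [← hγ]; abel
      rw [this]
      module
    obtain ⟨γ, hγ⟩ := hs 0 h1 h2 hc hF0
    obtain ⟨γ', hγ'⟩ := hs 1 h3 h4 hE1 hF1
    have h5 := congrArg (fun v => QuadraticMap.polar (⇑Q) (f 0) v) (hγ.symm.trans hγ')
    simp only [QuadraticMap.polar_add_right, QuadraticMap.polar_sub_right,
      QuadraticMap.polar_smul_right, HT.fe, HT.ff, h2, smul_eq_mul] at h5
    have h6 : γ = c := by
      have : γ - c = 0 := by simpa using h5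
      exact sub_eq_zero.mp this
    rw [hγ, h6]
    simp
  intro v
  set y := v - QuadraticMap.polar (⇑Q) (f 0) v • e 0 - QuadraticMap.polar (⇑Q) (e 0) v • f 0
    - QuadraticMap.polar (⇑Q) (f 1) v • e 1 - QuadraticMap.polar (⇑Q) (e 1) v • f 1 with hy
  have hy1 : QuadraticMap.polar (⇑Q) (e 0) y = 0 := by
    rw [hy]
    simp only [QuadraticMap.polar_sub_right, QuadraticMap.polar_smul_right, HT.ee, HT.ef,
      smul_eq_mul]
    simp
  have hy2 : QuadraticMap.polar (⇑Q) (f 0) y = 0 := by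
    rw [hy]
    simp only [QuadraticMap.polar_sub_right, QuadraticMap.polar_smul_right, HT.ff, HT.fe,
      smul_eq_mul]
    simp
  have hy3 : QuadraticMap.polar (⇑Q) (e 1) y = 0 := by
    rw [hy]
    simp only [QuadraticMap.polar_sub_right, QuadraticMap.polar_smul_right, HT.ee, HT.ef,
      smul_eq_mul]
    simp
  have hy4 : QuadraticMap.polar (⇑Q) (f 1) y = 0 := by
    rw [hy]
    simp only [QuadraticMap.polar_sub_right, QuadraticMap.polar_smul_right, HT.ff, HT.fe,
      smul_eq_mul]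
    simp
  have hZy := hperp y hy1 hy2 hy3 hy4
  have hv : v = y + QuadraticMap.polar (⇑Q) (f 0) v • e 0 + QuadraticMap.polar (⇑Q) (e 0) v • f 0
    + QuadraticMap.polar (⇑Q) (f 1) v • e 1 + QuadraticMap.polar (⇑Q) (e 1) v • f 1 := by
    rw [hy]; abel
  rw [hv]
  simp only [map_add, map_smul, hZy, hc, hE1, hF0, hF1]
  module

/-- an isometry centralising `Ω` is a scalar -/
theorem cent_scalar (hQ : (QuadraticMap.polarBilin Q).Nondegenerate)
    (e f : Fin 3 → ι → F) (HT : HypTriple Q e f) (RP : ReflPairs Q)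
    (z : ↥(Cfsg.isometryGroup F ⇑Q)) (hz : CentOmega Q z) :
    ∃ c : F, ∀ v, linOf Q z v = c • v :=
  scalar_of_lines e f HT (linOf Q z) (fun w hw hw0 => line_of_singular hQ e f HT RP z hz w hw hw0)

/-- an isometry centralising `Ω` is `1` or `-1` -/
theorem cent_val (hQ : (QuadraticMap.polarBilin Q).Nondegenerate)
    (e f : Fin 3 → ι → F) (HT : HypTriple Q e f) (RP : ReflPairs Q)
    (z : ↥(Cfsg.isometryGroup F ⇑Q)) (hz : CentOmega Q z) :
    ((z : Matrix.GeneralLinearGroup ι F) : Matrix ι ι F) = 1 ∨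
      ((z : Matrix.GeneralLinearGroup ι F) : Matrix ι ι F) = -1 := by
  obtain ⟨c, hc⟩ := cent_scalar hQ e f HT RP z hz
  have hu : Q (e 0 + f 0) = 1 := by
    rw [QuadraticMap.map_add (⇑Q), HT.qe, HT.qf, HT.ef]; simp
  have h1 := linOf_isometry Q z (e 0 + f 0)
  rw [hc, QuadraticMap.map_smul, hu, smul_eq_mul, mul_one] at h1
  have hmat : ((z : Matrix.GeneralLinearGroup ι F) : Matrix ι ι F) = c • 1 := by
    apply Matrix.toLin'.injective
    apply LinearMap.ext
    intro v
    have := hc v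
    rw [linOf_apply] at this
    rw [Matrix.toLin'_apply, this, Matrix.toLin'_apply, Matrix.smul_mulVec, Matrix.one_mulVec]
  rcases mul_self_eq_one_iff.mp h1 with h | h
  · left; rw [hmat, h, one_smul]
  · right; rw [hmat, h, neg_smul, one_smul]

end center

end Cfsg.Agent.Lib.Helper08
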