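import Cfsg.Agent.Lib.Helper98.Ti6
import Cfsg.Agent.Lib.Helper05.OsElB
import Cfsg.Agent.Lib.Helper20.OsElK

/-!
# S5972 pack (K-OsEl), leaf L1: extending a totally singular frame
-/

set_option autoImplicit false
set_option linter.unusedSectionVars false
set_option linter.unusedVariables false
set_option maxHeartbeats 800000

namespace Cfsg.Agent.Lib.Helper08.OsEl

open Module Cfsg.Agent.Lib.Helper98.Elus Cfsg.Agent.Lib.Helper98.Sy

universe u
variable {F : Type u} [Field F] {V : Type u} [AddCommGroup V] [Module F V]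

theorem card_fiber_symm [Fintype F] [FiniteDimensional F V] {B : LinearMap.BilinForm F V}
    (hS : ∀ x y, B x y = B y x) (h2 : (2 : F) ≠ 0) (hV : NonDeg B ⊤) (d : ℕ)
    (hd : finrank F V = 2 * d + 1) {k : ℕ} (hk : k ≤ d) (s : Fin k → V)
    (hs : Cfsg.Agent.Lib.Helper98.Ti.IsTIFrame B s) :
    Nat.card {x : V // (∀ a, B (s a) x = 0) ∧ B x x = 0 ∧ x ∉ Submodule.span F (Set.range s)} =
      Fintype.card F ^ (2 * d - k) - Fintype.card F ^ k := by
  classical
  haveI : Finite V := Module.finite_of_finite F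
  have hR : B.IsRefl := Cfsg.Agent.Lib.Helper98.Os.isRefl_of_symm hS
  set S := Submodule.span F (Set.range s) with hSdef
  set O := B.orthogonal S with hO
  have hSd : finrank F S = k := by
    rw [hSdef, finrank_span_eq_card hs.1, Fintype.card_fin]
  have hOd : finrank F O = 2 * d + 1 - k := by
    have := Cfsg.Agent.Lib.Helper05.OsEl.finrank_add_orth_refl hR hV S
    rw [← hO] at this
    omega
  have hSS : Ort B S S := Cfsg.Agent.Lib.Helper98.Ti.ort_span s hs.2
  have hSO : S ≤ O := by
    intro x hx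
    rw [hO, LinearMap.BilinForm.mem_orthogonal_iff]
    intro n hn
    exact hSS n hn x hx
  -- the double orthogonal
  have hOO : B.orthogonal O = S := by
    symm
    apply Submodule.eq_of_le_of_finrank_eq
    · intro x hx
      rw [LinearMap.BilinForm.mem_orthogonal_iff]
      intro n hn
      have h1 : B x n = 0 := LinearMap.BilinForm.mem_orthogonal_iff.mp hn x hx
      show B n x = 0
      rw [hS]
      exact h1
    · have := Cfsg.Agent.Lib.Helper05.OsEl.finrank_add_orth_refl hR hV O
      omega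
  -- a complement
  obtain ⟨C, hC⟩ := Submodule.exists_isCompl S
  set U : Submodule F V := C ⊓ O with hU
  have hsup : S ⊔ U = O := by
    rw [hU, ← sup_inf_assoc_of_le C hSO, hC.sup_eq_top, top_inf_eq]
  have hinf : S ⊓ U = ⊥ := by
    rw [eq_bot_iff, ← hC.inf_eq_bot]
    exact inf_le_inf le_rfl inf_le_left
  have hUO : U ≤ O := inf_le_right
  have hUd : finrank F U = 2 * (d - k) + 1 := by
    have h := Submodule.finrank_sup_add_finrank_inf_eq S U
    rw [hsup, hinf, finrank_bot, hOd, hSd] at h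
    omega
  have hSU : ∀ a ∈ S, ∀ b ∈ O, B a b = 0 := fun a ha b hb =>
    LinearMap.BilinForm.mem_orthogonal_iff.mp hb a ha
  have hUnd : NonDeg B U := by
    intro u hu hall
    have huO : u ∈ B.orthogonal O := by
      rw [LinearMap.BilinForm.mem_orthogonal_iff]
      intro n hn
      show B n u = 0
      rw [← hsup] at hn
      obtain ⟨a, ha, b, hb, rfl⟩ := Submodule.mem_sup.mp hn
      rw [map_add, LinearMap.add_apply, hSU a ha u (hUO hu), zero_add, hS]
      exact hall b hb
    rw [hOO] at huO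
    have : u ∈ S ⊓ U := Submodule.mem_inf.mpr ⟨huO, hu⟩
    rw [hinf] at this
    exact (Submodule.mem_bot F).mp this
  have hcardU := Cfsg.Agent.Lib.Helper20.OsEl.card_singular_odd hS h2 U hUnd (d - k) hUd
  -- singular vectors of `O`
  set A : Set V := {x : V | x ∈ O ∧ B x x = 0} with hA
  have hform : ∀ a ∈ S, ∀ b ∈ O, B (a + b) (a + b) = B b b := by
    intro a ha b hb
    simp only [map_add, LinearMap.add_apply]
    rw [hSS a ha a ha, hSU a ha b hb, hS b a, hSU a ha b hb]
    ring
  let Φ : S × {x : V // x ∈ U ∧ B x x = 0} → A := fun z =>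
    ⟨(z.1 : V) + (z.2 : V), ⟨O.add_mem (hSO z.1.2) (hUO z.2.2.1), by
      rw [hform _ z.1.2 _ (hUO z.2.2.1)]
      exact z.2.2.2⟩⟩
  have hΦinj : Function.Injective Φ := by
    rintro ⟨a, b⟩ ⟨a', b'⟩ h
    have h1 : (a : V) + (b : V) = (a' : V) + (b' : V) := congrArg Subtype.val h
    have h2' : (a : V) - (a' : V) = (b' : V) - (b : V) := by
      have : (a : V) - (a' : V) - ((b' : V) - (b : V)) = 0 := by
        rw [sub_sub_sub_comm, sub_eq_zero]
        rw [sub_eq_iff_eq_add] 
        rw [show (a' : V) - (b : V) + (b' : V) = (a' : V) + (b' : V) - (b : V) by abel, ← h1]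
        abel
      exact sub_eq_zero.mp this
    have h3 : (a : V) - (a' : V) ∈ S ⊓ U := by
      refine Submodule.mem_inf.mpr ⟨S.sub_mem a.2 a'.2, ?_⟩
      rw [h2']
      exact U.sub_mem b'.2.1 b.2.1
    rw [hinf, Submodule.mem_bot, sub_eq_zero] at h3
    have h4 : (b : V) = (b' : V) := by
      rw [h3] at h1
      exact add_left_cancel h1
    exact Prod.ext (Subtype.ext h3) (Subtype.ext h4)
  have hΦsurj : Function.Surjective Φ := by
    rintro ⟨x, hxO, hxx⟩
    rw [← hsup] at hxO
    obtain ⟨a, ha, b, hb, rfl⟩ := Submodule.mem_sup.mp hxO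
    refine ⟨(⟨a, ha⟩, ⟨b, hb, ?_⟩), rfl⟩
    rw [← hform a ha b (hUO hb)]
    exact hxx
  have hcardA : Nat.card A = Fintype.card F ^ (2 * d - k) := by
    rw [← Nat.card_congr (Equiv.ofBijective Φ ⟨hΦinj, hΦsurj⟩), Nat.card_prod, hcardU,
      Cfsg.Agent.Lib.Helper98.Ti.natCard_submodule, hSd, ← pow_add]
    congr 1
    omega
  have hSA : (S : Set V) ⊆ A := by
    intro x hx
    exact ⟨hSO hx, hSS x hx x hx⟩
  have h1 : Nat.card {x : V // (∀ a, B (s a) x = 0) ∧ B x x = 0 ∧ x ∉ S} =
      Nat.card ↥(A \ (S : Set V)) := by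
    apply Nat.card_congr
    apply Equiv.subtypeEquivRight
    intro x
    rw [Set.mem_sdiff, SetLike.mem_coe, hA, Set.mem_ofPred_eq, hO,
      Cfsg.Agent.Lib.Helper98.Ti.mem_orth_span_iff, and_assoc]
  rw [h1, Nat.card_coe_set_eq, Set.ncard_sdiff hSA (Set.toFinite _), ← Nat.card_coe_set_eq,
    ← Nat.card_coe_set_eq, hcardA]
  have e2 : Nat.card ↥(S : Set V) = Nat.card S := rfl
  rw [e2, Cfsg.Agent.Lib.Helper98.Ti.natCard_submodule, hSd]

end Cfsg.Agent.Lib.Helper08.OsEl
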