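import Cfsg.Agent.Lib.Helper08.OsElL1
import Cfsg.Agent.Lib.Helper98.Ti7

/-!
# S5972 pack (K-OsEl), leaf L2: the number of totally singular `m`-spaces (port of Helper98/Ti6, Ti7)
-/

set_option autoImplicit false
set_option linter.unusedSimpArgs false
set_option linter.unusedSectionVars false
set_option linter.unusedVariables false
set_option linter.style.haveILetI false
set_option maxHeartbeats 800000

namespace Cfsg.Agent.Lib.Helper08.OsEl

open Module Cfsg.Agent.Lib.Helper98.Elus Cfsg.Agent.Lib.Helper98.Sy Cfsg.Agent.Lib.Helper98.Ti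

universe u
variable {F : Type u} [Field F] {V : Type u} [AddCommGroup V] [Module F V]
variable {B : LinearMap.BilinForm F V}

theorem isTSFrame_cons_iff (hS : ∀ x y, B x y = B y x) {k : ℕ} (s : Fin k → V) (x : V) :
    IsTIFrame B (Fin.cons x s : Fin (k + 1) → V) ↔
      IsTIFrame B s ∧ (∀ a, B (s a) x = 0) ∧ B x x = 0 ∧
        x ∉ Submodule.span F (Set.range s) := by
  constructor
  · rintro ⟨h1, h2⟩
    obtain ⟨h3, h4⟩ := linearIndependent_finCons.mp h1
    refine ⟨⟨h3, fun a b => ?_⟩, fun a => ?_, ?_, h4⟩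
    · have := h2 a.succ b.succ
      simpa using this
    · have := h2 a.succ 0
      simpa using this
    · have := h2 0 0
      simpa using this
  · rintro ⟨⟨h1, h2⟩, h3, h5, h4⟩
    refine ⟨linearIndependent_finCons.mpr ⟨h1, h4⟩, fun a b => ?_⟩
    cases a using Fin.cases with
    | zero =>
      cases b using Fin.cases with
      | zero => simpa using h5
      | succ b =>
        have := h3 b
        rw [hS] at this
        simpa using this
    | succ a =>
      cases b using Fin.cases with
      | zero => simpa using h3 a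
      | succ b => simpa using h2 a b

section Count

variable [Fintype F] [FiniteDimensional F V]

theorem card_tsFrames (hS : ∀ x y, B x y = B y x) (h2 : (2 : F) ≠ 0) (hV : NonDeg B ⊤) (d : ℕ)
    (hd : finrank F V = 2 * d + 1) : ∀ k : ℕ, k ≤ d →
    Nat.card {s : Fin k → V // IsTIFrame B s} =
      ∏ j ∈ Finset.range k, (Fintype.card F ^ (2 * d - j) - Fintype.card F ^ j) := by
  classical
  haveI : Finite V := Module.finite_of_finite F
  intro k
  induction k with
  | zero =>
    intro _
    rw [Finset.prod_range_zero]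
    haveI : Unique {s : Fin 0 → V // IsTIFrame B s} :=
      { default := ⟨fun a => a.elim0, linearIndependent_empty_type, fun a => a.elim0⟩
        uniq := fun s => Subtype.ext (funext fun a => a.elim0) }
    exact Nat.card_unique
  | succ k ih =>
    intro hk
    let e : {s : Fin (k + 1) → V // IsTIFrame B s} ≃
        Σ s : {s : Fin k → V // IsTIFrame B s},
          {x : V // (∀ a, B (s.1 a) x = 0) ∧ B x x = 0 ∧
            x ∉ Submodule.span F (Set.range s.1)} :=
      { toFun := fun s => ⟨⟨Fin.tail s.1,
            ((isTSFrame_cons_iff hS (Fin.tail s.1) (s.1 0)).mp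
              (by rw [Fin.cons_self_tail]; exact s.2)).1⟩,
          ⟨s.1 0, ((isTSFrame_cons_iff hS (Fin.tail s.1) (s.1 0)).mp
              (by rw [Fin.cons_self_tail]; exact s.2)).2⟩⟩
        invFun := fun s => ⟨Fin.cons s.2.1 s.1.1,
          (isTSFrame_cons_iff hS s.1.1 s.2.1).mpr ⟨s.1.2, s.2.2⟩⟩
        left_inv := fun s => by simp only [Fin.cons_self_tail, Subtype.coe_eta]
        right_inv := fun ⟨⟨s, hs⟩, ⟨x, hx⟩⟩ =>
          sigma_subtype_ext (Q := fun (s : Fin k → V) (x : V) =>
            (∀ a, B (s a) x = 0) ∧ B x x = 0 ∧ x ∉ Submodule.span F (Set.range s)) _ _ _ _ _ _ _ _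
            (show Fin.tail (Fin.cons x s : Fin (k + 1) → V) = s from Fin.tail_cons _ _)
            (show (Fin.cons x s : Fin (k + 1) → V) 0 = x from Fin.cons_zero _ _) }
    rw [Nat.card_congr e]
    haveI : Fintype {s : Fin k → V // IsTIFrame B s} := Fintype.ofFinite _
    rw [Nat.card_sigma]
    rw [Finset.sum_congr rfl (fun s _ => card_fiber_symm hS h2 hV d hd (by omega) s.1 s.2),
      Finset.sum_const, Finset.card_univ, ← Nat.card_eq_fintype_card, ih (by omega),
      Finset.prod_range_succ, smul_eq_mul]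

theorem card_tsFrames_eq_mul (m : ℕ) :
    Nat.card {s : Fin m → V // IsTIFrame B s} =
      Nat.card {W : Submodule F V // finrank F W = m ∧ Ort B W W} *
        ∏ j ∈ Finset.range m, (Fintype.card F ^ m - Fintype.card F ^ j) := by
  classical
  haveI : Finite V := Module.finite_of_finite F
  let fmap : {s : Fin m → V // IsTIFrame B s} → {W : Submodule F V // finrank F W = m ∧ Ort B W W} :=
    fun s => ⟨Submodule.span F (Set.range s.1),
      by rw [finrank_span_eq_card s.2.1, Fintype.card_fin], ort_span s.1 s.2.2⟩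
  rw [← Nat.card_congr (Equiv.sigmaFiberEquiv fmap)]
  haveI : Fintype {W : Submodule F V // finrank F W = m ∧ Ort B W W} := Fintype.ofFinite _
  rw [Nat.card_sigma]
  have hfib : ∀ W : {W : Submodule F V // finrank F W = m ∧ Ort B W W},
      Nat.card {s : {s : Fin m → V // IsTIFrame B s} // fmap s = W} =
        ∏ j ∈ Finset.range m, (Fintype.card F ^ m - Fintype.card F ^ j) := by
    intro W
    let e : {s : {s : Fin m → V // IsTIFrame B s} // fmap s = W} ≃
        {t : Fin m → W.1 // LinearIndependent F t} :=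
      { toFun := fun s => ⟨fun a => ⟨s.1.1 a, by
            have h1 : Submodule.span F (Set.range s.1.1) = W.1 := congrArg Subtype.val s.2
            rw [← h1]
            exact Submodule.subset_span ⟨a, rfl⟩⟩, by
            apply LinearIndependent.of_comp W.1.subtype
            exact s.1.2.1⟩
        invFun := fun t => ⟨⟨fun a => (t.1 a : V),
            t.2.map' W.1.subtype (Submodule.ker_subtype W.1),
            fun a b => W.2.2 _ (t.1 a).2 _ (t.1 b).2⟩, by
            apply Subtype.ext
            show Submodule.span F (Set.range fun a => (t.1 a : V)) = W.1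
            have h1 : (Set.range fun a => (t.1 a : V)) = W.1.subtype '' Set.range t.1 := by
              rw [← Set.range_comp]
              rfl
            rw [h1, Submodule.span_image,
              LinearIndependent.span_eq_top_of_card_eq_finrank' t.2
                (by rw [Fintype.card_fin, W.2.1]),
              Submodule.map_subtype_top]⟩
        left_inv := fun s => by
          apply Subtype.ext
          apply Subtype.ext
          rfl
        right_inv := fun t => by
          apply Subtype.ext
          funext a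
          rfl }
    rw [Nat.card_congr e, card_linearIndependent (by rw [W.2.1]), W.2.1,
      Fin.prod_univ_eq_prod_range (fun j => Fintype.card F ^ m - Fintype.card F ^ j) m]
  rw [Finset.sum_congr rfl (fun W _ => hfib W), Finset.sum_const, Finset.card_univ,
    ← Nat.card_eq_fintype_card, smul_eq_mul]

theorem card_ts_mul (hS : ∀ x y, B x y = B y x) (h2 : (2 : F) ≠ 0) (hV : NonDeg B ⊤) (d m : ℕ)
    (hd : finrank F V = 2 * d + 1) (hmd : m ≤ d) :
    Nat.card {W : Submodule F V // finrank F W = m ∧ Ort B W W} *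
        ∏ j ∈ Finset.range m, (Fintype.card F ^ (m - j) - 1) =
      ∏ j ∈ Finset.range m, (Fintype.card F ^ (2 * (d - j)) - 1) := by
  have hq : 1 ≤ Fintype.card F := Fintype.card_pos
  have h := card_tsFrames_eq_mul (B := B) m
  rw [card_tsFrames hS h2 hV d hd m hmd, prod_split1 _ d m hq hmd, prod_split2 _ m hq] at h
  have hpos : 0 < ∏ j ∈ Finset.range m, Fintype.card F ^ j :=
    Finset.prod_pos fun j _ => pow_pos hq j
  apply Nat.eq_of_mul_eq_mul_left hpos
  rw [h]
  ring

theorem not_char_dvd_card_ts (hS : ∀ x y, B x y = B y x) (h2 : (2 : F) ≠ 0) (hV : NonDeg B ⊤)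
    (p f : ℕ) [Fact p.Prime] (hF : Fintype.card F = p ^ f) (hf : 1 ≤ f) (d m : ℕ)
    (hd : finrank F V = 2 * d + 1) (hmd : m ≤ d) :
    ¬ p ∣ Nat.card {W : Submodule F V // finrank F W = m ∧ Ort B W W} := by
  have hp : p.Prime := Fact.out
  intro h
  have h1 := card_ts_mul hS h2 hV d m hd hmd
  have h2' : p ∣ ∏ j ∈ Finset.range m, (Fintype.card F ^ (2 * (d - j)) - 1) := by
    rw [← h1]
    exact dvd_mul_of_dvd_left h _
  obtain ⟨j, hj, hdvd⟩ := (Prime.dvd_finsetProd_iff hp.prime _).mp h2'
  have hj' : j < m := Finset.mem_range.mp hj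
  have hq : 1 ≤ Fintype.card F := Fintype.card_pos
  have hpq : p ∣ Fintype.card F ^ (2 * (d - j)) := by
    rw [hF, ← pow_mul]
    apply dvd_pow_self
    have : 1 ≤ f * (2 * (d - j)) := Nat.mul_pos hf (by omega)
    omega
  have hone : 1 ≤ Fintype.card F ^ (2 * (d - j)) := Nat.one_le_pow _ _ hq
  have h3 := Nat.dvd_sub hpq hdvd
  rw [Nat.sub_sub_self hone] at h3
  exact hp.one_lt.ne' (Nat.dvd_one.mp h3)

theorem exists_of_dvd_card_ts (hS : ∀ x y, B x y = B y x) (h2 : (2 : F) ≠ 0) (hV : NonDeg B ⊤)
    (d m : ℕ) (hd : finrank F V = 2 * d + 1) (hmd : m ≤ d) (r : ℕ) [Fact r.Prime]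
    (h : r ∣ Nat.card {W : Submodule F V // finrank F W = m ∧ Ort B W W}) :
    ∃ j, j < m ∧ orderOf ((Fintype.card F : ℕ) : ZMod r) ∣ 2 * (d - j) := by
  have hr : r.Prime := Fact.out
  have h1 := card_ts_mul hS h2 hV d m hd hmd
  have h2' : r ∣ ∏ j ∈ Finset.range m, (Fintype.card F ^ (2 * (d - j)) - 1) := by
    rw [← h1]
    exact dvd_mul_of_dvd_left h _
  obtain ⟨j, hj, hdvd⟩ := (Prime.dvd_finsetProd_iff hr.prime _).mp h2'
  have hj' : j < m := Finset.mem_range.mp hj
  refine ⟨j, hj', ?_⟩
  apply orderOf_dvd_of_pow_eq_one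
  have hq : 1 ≤ Fintype.card F := Fintype.card_pos
  have hone : 1 ≤ Fintype.card F ^ (2 * (d - j)) := Nat.one_le_pow _ _ hq
  have h3 := (ZMod.natCast_eq_zero_iff _ _).mpr hdvd
  rw [Nat.cast_sub hone, Nat.cast_pow, Nat.cast_one, sub_eq_zero] at h3
  exact h3

end Count

end Cfsg.Agent.Lib.Helper08.OsEl
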