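import Cfsg.Agent.Lib.Helper08.Herm2

set_option autoImplicit false

/-! Existence of the quadratic-extension data for finite fields. -/

namespace Cfsg.Agent.Lib.Helper08

open Polynomial

section fin

variable {F K : Type*} [Field F] [Fintype F] [Field K] [Fintype K]

/-- a finite field with `q` elements embeds in one with `q ^ 2` elements -/
theorem exists_ringHom_of_card_sq {q : ℕ} (hF : Fintype.card F = q) (hK : Fintype.card K = q ^ 2) :
    Nonempty (F →+* K) := by
  obtain ⟨p, hpF⟩ := CharP.exists F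
  obtain ⟨p', hpK⟩ := CharP.exists K
  obtain ⟨n, hp, hcF⟩ := FiniteField.card F p
  obtain ⟨n', hp', hcK⟩ := FiniteField.card K p'
  have hpp' : p = p' := by
    by_contra hne
    have h1 : p ∣ p' ^ (n' : ℕ) := by
      rw [← hcK, hK, ← hF, hcF, ← pow_mul]
      exact dvd_pow_self p (by positivity)
    exact hne ((Nat.prime_dvd_prime_iff_eq hp hp').mp (hp.dvd_of_dvd_pow h1))
  subst hpp'
  haveI := fact_iff.2 hp
  letI : Algebra (ZMod p) F := ZMod.algebra _ _
  letI : Algebra (ZMod p) K := ZMod.algebra _ _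
  have h1 := FiniteField.pow_finrank_eq_card p F
  have h2 := FiniteField.pow_finrank_eq_card p K
  have h3 : Module.finrank (ZMod p) K = 2 * Module.finrank (ZMod p) F := by
    apply Nat.pow_right_injective hp.two_le
    show p ^ _ = p ^ _
    rw [h2, hK, ← hF, ← h1, ← pow_mul, mul_comm]
  obtain ⟨f⟩ := FiniteField.nonempty_algHom_of_finrank_dvd (F := ZMod p) (K := F) (L := K)
    (h3 ▸ dvd_mul_left _ _)
  exact ⟨f.toRingHom⟩

end fin

section alg

variable {F K : Type*} [Field F] [Fintype F] [Field K] [Fintype K] [Algebra F K]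

/-- elements fixed by the Frobenius of `F` come from `F` -/
theorem exists_algebraMap_of_pow_card {x : K} (hx : x ^ Fintype.card F = x) :
    ∃ y : F, algebraMap F K y = x := by
  classical
  have hq : 1 < Fintype.card F := Fintype.one_lt_card
  set P : K[X] := X ^ Fintype.card F - X with hP
  have hP0 : P ≠ 0 := FiniteField.X_pow_card_sub_X_ne_zero K hq
  have hdeg : P.natDegree = Fintype.card F := FiniteField.X_pow_card_sub_X_natDegree_eq K hq
  set T : Finset K := Finset.univ.image (algebraMap F K) with hT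
  have hTcard : T.card = Fintype.card F := by
    rw [hT, Finset.card_image_of_injective _ (algebraMap F K).injective, Finset.card_univ]
  have hTsub : T ⊆ P.roots.toFinset := by
    intro z hz
    rw [hT, Finset.mem_image] at hz
    obtain ⟨y, -, rfl⟩ := hz
    rw [Multiset.mem_toFinset, Polynomial.mem_roots hP0]
    simp [P, ← map_pow, FiniteField.pow_card]
  have hle : P.roots.toFinset.card ≤ T.card := by
    calc P.roots.toFinset.card ≤ Multiset.card P.roots := Multiset.toFinset_card_le _
      _ ≤ P.natDegree := Polynomial.card_roots' P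
      _ = T.card := by rw [hdeg, hTcard]
  have hEq := Finset.eq_of_subset_of_card_le hTsub hle
  have hxmem : x ∈ P.roots.toFinset := by
    rw [Multiset.mem_toFinset, Polynomial.mem_roots hP0]
    simp [P, hx]
  rw [← hEq, hT, Finset.mem_image] at hxmem
  obtain ⟨y, -, hy⟩ := hxmem
  exact ⟨y, hy⟩

/-- the anisotropic quadratic has a root in the quadratic extension -/
theorem exists_root_of_card_sq {q : ℕ} (hF : Fintype.card F = q) (hK : Fintype.card K = q ^ 2)
    (a b : F) (hab : ∀ z₁ z₂ : F, z₁ ^ 2 + a * z₁ * z₂ + b * z₂ ^ 2 = 0 → z₁ = 0 ∧ z₂ = 0) :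
    ∃ θ : K, θ ^ 2 - algebraMap F K a * θ + algebraMap F K b = 0 := by
  classical
  have hq : 2 ≤ q := by
    have := Fintype.one_lt_card (α := F)
    omega
  set f : F[X] := X ^ 2 - C a * X + C b with hf
  have hdeg : f.natDegree = 2 := by
    rw [hf]; compute_degree!
  have hmonic : f.Monic := by
    rw [hf]; monicity!
  have hirr : Irreducible f := by
    rw [Polynomial.Monic.irreducible_iff_roots_eq_zero_of_degree_le_three hmonic (by omega)
      (by omega)]
    rw [Multiset.eq_zero_iff_forall_notMem]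
    intro r hr
    have hroot : f.IsRoot r := (Polynomial.mem_roots hmonic.ne_zero).mp hr
    have h1 : r ^ 2 - a * r + b = 0 := by simpa [f] using hroot
    have h2 := hab r (-1) (by linear_combination h1)
    simpa using h2.2
  haveI : Fact (Irreducible f) := ⟨hirr⟩
  have h2 : Module.finrank F (AdjoinRoot f) = 2 := by
    rw [(AdjoinRoot.powerBasis hmonic.ne_zero).finrank, AdjoinRoot.powerBasis_dim, hdeg]
  have h3 : Module.finrank F K = 2 := by
    have h4 := Module.card_eq_pow_finrank (K := F) (V := K)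
    rw [hK, hF] at h4
    exact (Nat.pow_right_injective hq h4).symm
  obtain ⟨ψ⟩ := FiniteField.nonempty_algHom_of_finrank_dvd (F := F) (K := AdjoinRoot f) (L := K)
    (by rw [h2, h3])
  have h4 : Polynomial.aeval (AdjoinRoot.root f) f = 0 := by
    rw [AdjoinRoot.aeval_eq]; exact AdjoinRoot.mk_self
  obtain ⟨θ, hθ⟩ : ∃ θ : K, Polynomial.aeval θ f = 0 :=
    ⟨ψ (AdjoinRoot.root f), by rw [Polynomial.aeval_algHom_apply, h4, map_zero]⟩
  refine ⟨θ, ?_⟩
  clear_value f
  subst hf
  simpa only [map_add, map_sub, map_mul, map_pow, Polynomial.aeval_X, Polynomial.aeval_C] using hθ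

theorem nonempty_quadExt_of_algebra {q : ℕ} (hF : Fintype.card F = q)
    (hK : Fintype.card K = q ^ 2)
    (a b : F) (hab : ∀ z₁ z₂ : F, z₁ ^ 2 + a * z₁ * z₂ + b * z₂ ^ 2 = 0 → z₁ = 0 ∧ z₂ = 0) :
    ∃ E : QuadExt F K a b, E.ι = algebraMap F K := by
  classical
  obtain ⟨θ, hθ⟩ := exists_root_of_card_sq hF hK a b hab
  set ι : F →+* K := algebraMap F K with hι
  set σ : K →+* K := (FiniteField.frobeniusAlgHom F K).toRingHom with hσ
  have σ_apply : ∀ x, σ x = x ^ Fintype.card F := fun x => rfl
  have σι : ∀ x, σ (ι x) = ι x := fun x => (FiniteField.frobeniusAlgHom F K).commutes x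
  have σσ : ∀ x, σ (σ x) = x := by
    intro x
    rw [σ_apply, σ_apply, ← pow_mul, hF, ← sq, ← hK, FiniteField.pow_card]
  have fix : ∀ x, σ x = x → ∃ y, ι y = x := fun x hx => exists_algebraMap_of_pow_card hx
  have notin : ∀ t : F, ι t ≠ θ := by
    intro t ht
    rw [← ht] at hθ
    have h1 : ι (t ^ 2 - a * t + b) = 0 := by
      rw [map_add, map_sub, map_mul, map_pow]; exact hθ
    have h2 : t ^ 2 - a * t + b = 0 := by
      rwa [map_eq_zero] at h1
    have h3 := hab t (-1) (by linear_combination h2)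
    have : (-1 : F) = 0 := h3.2
    simp at this
  have ne : θ ≠ σ θ := by
    intro h
    obtain ⟨t, ht⟩ := fix θ h.symm
    exact notin t ht
  have hσθ : σ θ ^ 2 - ι a * σ θ + ι b = 0 := by
    have := congrArg σ hθ
    rw [map_add, map_sub, map_mul, map_pow, σι, σι, map_zero] at this
    exact this
  have tr : θ + σ θ = ι a := by
    have h1 : (θ - σ θ) * (θ + σ θ - ι a) = 0 := by linear_combination hθ - hσθ
    rcases mul_eq_zero.mp h1 with h | h
    · exact absurd (sub_eq_zero.mp h) ne
    · exact sub_eq_zero.mp h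
  have nm : θ * σ θ = ι b := by
    linear_combination θ * tr - hθ
  have span : ∀ z, ∃ z₁ z₂, z = ι z₁ + θ * ι z₂ := by
    have hinj : Function.Injective (fun p : F × F => ι p.1 + θ * ι p.2) := by
      rintro ⟨x₁, x₂⟩ ⟨y₁, y₂⟩ h
      simp only at h
      by_cases h2 : x₂ = y₂
      · subst h2
        have : ι x₁ = ι y₁ := add_right_cancel h
        rw [ι.injective this]
      · exfalso
        have h3 : x₂ - y₂ ≠ 0 := sub_ne_zero.mpr h2
        apply notin ((y₁ - x₁) / (x₂ - y₂))
        rw [map_div₀, map_sub, map_sub]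
        have h4 : ι x₂ - ι y₂ ≠ 0 := by
          rw [← map_sub]; exact (map_ne_zero ι).mpr h3
        rw [div_eq_iff h4]
        linear_combination -h
    have hcard : Fintype.card (F × F) = Fintype.card K := by
      rw [Fintype.card_prod, hF, hK, sq]
    have hbij := (Fintype.bijective_iff_injective_and_card _).mpr ⟨hinj, hcard⟩
    intro z
    obtain ⟨⟨z₁, z₂⟩, hz⟩ := hbij.2 z
    exact ⟨z₁, z₂, hz.symm⟩
  exact ⟨{ ι := ι, σ := σ, θ := θ, σι := σι, σσ := σσ, fix := fix, tr := tr, nm := nm, ne := ne,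
           span := span }, rfl⟩

end alg

section final

variable {F K : Type*} [Field F] [Fintype F] [Field K] [Fintype K]

theorem nonempty_quadExt {q : ℕ} (hF : Fintype.card F = q) (hK : Fintype.card K = q ^ 2)
    (a b : F) (hab : ∀ z₁ z₂ : F, z₁ ^ 2 + a * z₁ * z₂ + b * z₂ ^ 2 = 0 → z₁ = 0 ∧ z₂ = 0) :
    Nonempty (QuadExt F K a b) := by
  obtain ⟨ι⟩ := exists_ringHom_of_card_sq hF hK
  letI : Algebra F K := ι.toAlgebra
  obtain ⟨E, -⟩ := nonempty_quadExt_of_algebra (K := K) hF hK a b hab
  exact ⟨E⟩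

end final

end Cfsg.Agent.Lib.Helper08
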