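import Mathlib
import Cfsg.Agent.Lib.Helper48.RSpDefs2

/-! K-RSp leaf P4 (S2281, architect helper48): `n = 2`, characteristic `2`: `X` is all symmetric matrices. -/

set_option autoImplicit false
set_option linter.unusedVariables false
set_option linter.unusedSectionVars false

namespace Cfsg.Agent.Lib.Helper08.RSp

open Matrix Cfsg.Agent.Lib.Helper48.RSp Cfsg.Agent.Lib.Helper18

variable {F : Type*} [Field F]

/-- the symmetric `2 × 2` matrix with coordinates `(a, b, c)` -/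
def p4M (a b c : F) : SM 0 F := !![a, b; b, c]

theorem p4_Uup : Uup 0 F = !![1, 1; 0, 1] := by
  ext i j
  fin_cases i <;> fin_cases j <;> simp [Uup, Nup]

theorem p4_Lbi (t : F) : Lbi 0 (fun j : Fin 2 => if j = 0 then t else 1) = !![1, 0; t, 1] := by
  ext i j
  fin_cases i <;> fin_cases j <;> simp [Lbi]

theorem p4_E00 (l : F) : l • E00 0 F = p4M l 0 0 := by
  ext i j
  fin_cases i <;> fin_cases j <;> simp [E00, p4M, Matrix.single]

theorem p4_sym (S : SM 0 F) (hS : Sᵀ = S) : S = p4M (S 0 0) (S 0 1) (S 1 1) := by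
  have h10 : S 1 0 = S 0 1 := by
    have := congrFun (congrFun hS 0) 1
    simpa [Matrix.transpose_apply] using this
  ext i j
  fin_cases i <;> fin_cases j <;> simp [p4M, h10]

theorem p4_add (a b c a' b' c' : F) : p4M a b c + p4M a' b' c' = p4M (a + a') (b + b') (c + c') := by
  ext i j
  fin_cases i <;> fin_cases j <;> simp [p4M]

theorem p4_sub (a b c a' b' c' : F) : p4M a b c - p4M a' b' c' = p4M (a - a') (b - b') (c - c') := by
  ext i j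
  fin_cases i <;> fin_cases j <;> simp [p4M]

theorem p4_transpose (a b c : F) : (p4M a b c)ᵀ = p4M a b c := by
  ext i j
  fin_cases i <;> fin_cases j <;> simp [p4M]

/-- `U (a,b,c) Uᵀ - (a,b,c) = (c, c, 0)` in characteristic `2` -/
theorem p4_U (h2 : (2 : F) = 0) (a b c : F) :
    Uup 0 F * p4M a b c * (Uup 0 F)ᵀ = p4M (a + c) (b + c) c := by
  rw [p4_Uup]
  ext i j
  fin_cases i <;> fin_cases j <;> simp [p4M, Matrix.mul_apply, Fin.sum_univ_two]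
  · linear_combination b * h2

theorem p4_L (t a : F) :
    (!![1, 0; t, 1] : Matrix (Fin 2) (Fin 2) F) * p4M a 0 0 * (!![1, 0; t, 1] : Matrix (Fin 2) (Fin 2) F)ᵀ =
      p4M a (a * t) (a * t ^ 2) := by
  ext i j
  fin_cases i <;> fin_cases j <;> simp [p4M, Matrix.mul_apply, Fin.sum_univ_two] <;> ring

theorem p4_tau (h2 : (2 : F) = 0) (t σ β a b : F) :
    tauMat t σ β * p4M a b 0 * (tauMat t σ β)ᵀ =
      p4M (a + (σ * β * t) ^ 2 * a) (b + (1 + σ * β * t) * (σ * β * t) * t * a)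
        ((σ * β * t) ^ 2 * t ^ 2 * a) := by
  ext i j
  fin_cases i <;> fin_cases j <;> simp [p4M, tauMat, Matrix.mul_apply, Fin.sum_univ_two]
  · linear_combination (σ * β * t * a - (1 + σ * β * t) * σ * β * b) * h2
  · linear_combination (-(σ * β * t) ^ 2 * b) * h2
  · linear_combination (-(σ * β * t) ^ 2 * b) * h2
  · linear_combination ((1 - σ * β * t) * (σ * β * t) * t * b) * h2


theorem p4_zero : p4M (0 : F) 0 0 = 0 := by
  ext i j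
  fin_cases i <;> fin_cases j <;> simp [p4M]

/-- **K-RSp-P4** -/
theorem sym_all_two {F : Type*} [Field F] (X : AddSubgroup (SM 0 F)) (t σ l : F)
    (ht : t ≠ 0) (hσ : σ ≠ 0) (hl0 : l ≠ 0)
    (hU : ∀ S ∈ X, Uup 0 F * S * (Uup 0 F)ᵀ ∈ X)
    (hL : ∀ S ∈ X, Sᵀ = S → (∀ j, S (Fin.last 1) j = 0) →
      Lbi 0 (fun j => if j = 0 then t else 1) * S * (Lbi 0 (fun j => if j = 0 then t else 1))ᵀ ∈ X)
    (hτ : ∀ S ∈ X, Sᵀ = S → S 1 1 = 0 → ∀ S₂ ∈ X,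
      tauMat t σ (S 0 1) * S₂ * (tauMat t σ (S 0 1))ᵀ ∈ X)
    (h2 : (2 : F) = 0) (hl : l • E00 0 F ∈ X)
    (hgen : ∀ x : F, x ≠ 0 → ∃ k : ℕ, x = (σ * t ^ 4 * l) ^ (2 * k + 1))
    (h4 : ∃ ρ₁ ρ₂ : F, ρ₁ ≠ 0 ∧ ρ₂ ≠ 0 ∧ ρ₁ ≠ ρ₂) :
    ∀ S : SM 0 F, Sᵀ = S → S ∈ X := by
  have h0 : p4M l 0 0 ∈ X := by rw [← p4_E00]; exact hl
  have hL' : ∀ a, p4M a 0 0 ∈ X → p4M a (a * t) (a * t ^ 2) ∈ X := by
    intro a ha
    have h1 := hL _ ha (p4_transpose _ _ _) (by intro j; fin_cases j <;> simp [p4M, Fin.last])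
    rw [p4_Lbi, p4_L] at h1
    exact h1
  have hU' : ∀ a b c, p4M a b c ∈ X → p4M c c 0 ∈ X := by
    intro a b c h
    have h1 := hU _ h
    rw [p4_U h2] at h1
    have h3 := X.sub_mem h1 h
    rw [p4_sub] at h3
    simpa using h3
  have hτ' : ∀ α' β' a b, p4M α' β' 0 ∈ X → p4M a b 0 ∈ X →
      p4M ((σ * β' * t) ^ 2 * a) ((1 + σ * β' * t) * (σ * β' * t) * t * a)
        ((σ * β' * t) ^ 2 * t ^ 2 * a) ∈ X := by
    intro α' β' a b h1 h2'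
    have h3 := hτ _ h1 (p4_transpose _ _ _) (by simp [p4M]) _ h2'
    have e : (p4M α' β' 0) 0 1 = β' := by simp [p4M]
    rw [e, p4_tau h2] at h3
    have h4 := X.sub_mem h3 h2'
    rw [p4_sub] at h4
    simpa using h4
  have hC0 : p4M (l * t ^ 2) (l * t ^ 2) 0 ∈ X := hU' _ _ _ (hL' l h0)
  have hCmul : ∀ α β, p4M α α 0 ∈ X → p4M β β 0 ∈ X →
      p4M (σ ^ 2 * t ^ 4 * α * β ^ 2) (σ ^ 2 * t ^ 4 * α * β ^ 2) 0 ∈ X := by
    intro α β hα hβ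
    have h1 := hU' _ _ _ (hτ' β β α α hβ hα)
    have e : (σ * β * t) ^ 2 * t ^ 2 * α = σ ^ 2 * t ^ 4 * α * β ^ 2 := by ring
    rw [e] at h1
    exact h1
  have hst : σ * t ^ 2 ≠ 0 := mul_ne_zero hσ (pow_ne_zero 2 ht)
  have hodd : ∀ k : ℕ, p4M ((σ * t ^ 4 * l) ^ (2 * k + 1) / (σ * t ^ 2))
      ((σ * t ^ 4 * l) ^ (2 * k + 1) / (σ * t ^ 2)) 0 ∈ X := by
    intro k
    induction k with
    | zero =>
      have e : (σ * t ^ 4 * l) ^ (2 * 0 + 1) / (σ * t ^ 2) = l * t ^ 2 := by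
        rw [Nat.mul_zero, Nat.zero_add, pow_one]
        field_simp
      rw [e]; exact hC0
    | succ k ih =>
      have h1 := hCmul _ _ ih hC0
      have e : σ ^ 2 * t ^ 4 * ((σ * t ^ 4 * l) ^ (2 * k + 1) / (σ * t ^ 2)) * (l * t ^ 2) ^ 2 =
          (σ * t ^ 4 * l) ^ (2 * (k + 1) + 1) / (σ * t ^ 2) := by
        field_simp
        ring
      rw [e] at h1
      exact h1
  have hC : ∀ c : F, p4M c c 0 ∈ X := by
    intro c
    by_cases hc : c = 0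
    · subst hc
      rw [p4_zero]; exact X.zero_mem
    · obtain ⟨k, hk⟩ := hgen (c * (σ * t ^ 2)) (mul_ne_zero hc hst)
      have h1 := hodd k
      rw [← hk, mul_div_assoc, div_self hst, mul_one] at h1
      exact h1
  have hst' : σ * t ≠ 0 := mul_ne_zero hσ ht
  have hh : ∀ a ρ : F, p4M (ρ ^ 2 * a) ((1 + ρ) * ρ * t * a) (ρ ^ 2 * t ^ 2 * a) ∈ X := by
    intro a ρ
    have h1 := hτ' (ρ / (σ * t)) (ρ / (σ * t)) a a (hC _) (hC _)
    have e : σ * (ρ / (σ * t)) * t = ρ := by field_simp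
    rw [e] at h1
    exact h1
  obtain ⟨ρ₁, ρ₂, hρ1, hρ2, h12⟩ := h4
  have hB : ∀ μ : F, p4M 0 μ 0 ∈ X := by
    intro μ
    have hne : 1 / ρ₁ - 1 / ρ₂ ≠ 0 := by
      intro h
      rw [sub_eq_zero, one_div, one_div, _root_.inv_inj] at h
      exact h12 h
    have h1 := X.sub_mem (hh (μ / (t * (1 / ρ₁ - 1 / ρ₂)) / ρ₁ ^ 2) ρ₁)
      (hh (μ / (t * (1 / ρ₁ - 1 / ρ₂)) / ρ₂ ^ 2) ρ₂)
    rw [p4_sub] at h1
    have e1 : ρ₁ ^ 2 * (μ / (t * (1 / ρ₁ - 1 / ρ₂)) / ρ₁ ^ 2) -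
        ρ₂ ^ 2 * (μ / (t * (1 / ρ₁ - 1 / ρ₂)) / ρ₂ ^ 2) = 0 := by
      field_simp
      ring
    have e2 : (1 + ρ₁) * ρ₁ * t * (μ / (t * (1 / ρ₁ - 1 / ρ₂)) / ρ₁ ^ 2) -
        (1 + ρ₂) * ρ₂ * t * (μ / (t * (1 / ρ₁ - 1 / ρ₂)) / ρ₂ ^ 2) = μ := by
      have hne' : ρ₂ - ρ₁ ≠ 0 := sub_ne_zero.2 (Ne.symm h12)
      field_simp
      ring
    have e3 : ρ₁ ^ 2 * t ^ 2 * (μ / (t * (1 / ρ₁ - 1 / ρ₂)) / ρ₁ ^ 2) -
        ρ₂ ^ 2 * t ^ 2 * (μ / (t * (1 / ρ₁ - 1 / ρ₂)) / ρ₂ ^ 2) = 0 := by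
      field_simp
      ring
    rw [e1, e2, e3] at h1
    exact h1
  have hA : ∀ c : F, p4M c 0 0 ∈ X := by
    intro c
    have h1 := X.sub_mem (hC c) (hB c)
    rw [p4_sub] at h1
    simpa using h1
  have hG : ∀ c : F, p4M 0 0 c ∈ X := by
    intro c
    have h1 := X.sub_mem (X.sub_mem (hL' (c / t ^ 2) (hA _)) (hA (c / t ^ 2))) (hB (c / t ^ 2 * t))
    rw [p4_sub, p4_sub] at h1
    have e : c / t ^ 2 * t ^ 2 = c := by field_simp
    simpa [e] using h1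
  intro S hS
  rw [p4_sym S hS]
  have h1 := X.add_mem (X.add_mem (hA (S 0 0)) (hB (S 0 1))) (hG (S 1 1))
  rw [p4_add, p4_add] at h1
  simpa using h1

end Cfsg.Agent.Lib.Helper08.RSp
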