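import Mathlib
import Cfsg.Agent.Lib.Helper73.RUDefs

/-!
# K-RU leaf J (keystone 228010): the conjugator `h = w₀ diag(δ,1,…,1)`
-/

set_option autoImplicit false

namespace Cfsg.Agent.Lib.Helper08.RU

open Matrix Cfsg.Agent.Lib.Helper73.RU

theorem dlt_eq (m : ℕ) (F : Type*) [Field F] : dlt m F = 1 ∨ dlt m F = -1 := by
  unfold dlt
  rcases Int.units_eq_one_or (Equiv.Perm.sign (Fin.revPerm : Equiv.Perm (Fin (m + 3)))) with h | h
  · left
    rw [h]
    simp
  · right
    rw [h]
    simp

theorem dlt_mul_self (m : ℕ) (F : Type*) [Field F] : dlt m F * dlt m F = 1 := by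
  rcases dlt_eq m F with h | h <;> rw [h] <;> ring

theorem det_hMat (m : ℕ) (F : Type*) [Field F] : (hMat m F).det = 1 := by
  unfold hMat
  rw [Matrix.det_mul, Matrix.det_permutation, Matrix.det_diagonal,
    Finset.prod_ite_eq' Finset.univ (0 : Fin (m + 3)) (fun _ => dlt m F), if_pos (Finset.mem_univ _)]
  exact dlt_mul_self m F

theorem hMat_mul_aMat (m : ℕ) (F : Type*) [Field F] :
    hMat m F * aMat m F = cMat m F (dlt m F) * hMat m F := by
  unfold hMat
  rw [Matrix.mul_assoc, ← Matrix.mul_assoc (cMat m F (dlt m F))]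
  unfold Equiv.Perm.permMatrix
  rw [PEquiv.toMatrix_toPEquiv_mul, PEquiv.mul_toMatrix_toPEquiv]
  ext i j
  rw [Matrix.submatrix_apply, Matrix.diagonal_mul, Matrix.mul_diagonal, Matrix.submatrix_apply,
    Fin.revPerm_symm, Fin.revPerm_apply, Fin.revPerm_apply, id, id]
  simp only [aMat, cMat, Matrix.of_apply]
  have hi := i.2
  have hj := j.2
  have hri : (Fin.rev i).val = m + 2 - i.val := by rw [Fin.val_rev]; omega
  have hrj : (Fin.rev j).val = m + 2 - j.val := by rw [Fin.val_rev]; omega
  by_cases h1 : i = Fin.rev j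
  · have h1' : Fin.rev i = j := by rw [h1, Fin.rev_rev]
    rw [if_pos (Or.inl h1'), if_pos h1, h1', mul_one, one_mul]
  · have h1' : ¬ Fin.rev i = j := by
      intro h
      apply h1
      rw [← h, Fin.rev_rev]
    rw [if_neg h1]
    by_cases h2 : i.val + j.val = m + 3
    · have h2a : (Fin.rev i).val + 1 = j.val := by omega
      have h2b : i.val = (Fin.rev j).val + 1 := by omega
      rw [if_pos (Or.inr h2a), if_pos h2b, mul_one]
      have hj0 : ¬ j = 0 := by
        intro h
        rw [h] at h2
        simp at h2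
        omega
      rw [if_neg hj0, mul_one]
      by_cases h3 : i = Fin.last (m + 2)
      · have : Fin.rev i = 0 := by
          rw [h3]
          exact Fin.rev_last _
        rw [if_pos this, if_pos h3]
      · have : ¬ Fin.rev i = 0 := by
          intro h
          apply h3
          have := congrArg Fin.rev h
          rw [Fin.rev_rev] at this
          rw [this]
          exact Fin.rev_zero _
        rw [if_neg this, if_neg h3]
    · have h2a : ¬ ((Fin.rev i) = j ∨ (Fin.rev i).val + 1 = j.val) := by
        rintro (h | h)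
        · exact h1' h
        · omega
      have h2b : ¬ i.val = (Fin.rev j).val + 1 := by omega
      rw [if_neg h2a, if_neg h2b, mul_zero, zero_mul]

end Cfsg.Agent.Lib.Helper08.RU
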