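import Mathlib
import Cfsg.Prelude.Def_GeometricClasses
import Cfsg.Prelude.Def_LieClassical
import Cfsg.Agent.Lib.Helper11.SymF3
import Cfsg.Agent.Lib.Helper48.Subfield.RatGL

/-!
# K-SU3-F1 (keystone 577819): over `F_9` the orthogonal subfield group `SO_3(3) × scalars` of `GU_3(3)` is monomial

The `F_3`-structure `V₀ = P F₀^3` carries a non-degenerate symmetric `F₀`-valued form; it has a uniform orthogonal frame `±u₁, ±u₂, ±u₃`
(the vectors of norm `δ`), every similarity of it is an isometry, hence every element of the subfield group which is unitary permutes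
the three lines `F u_i`.
-/

set_option autoImplicit false

namespace Cfsg.Agent.Lib.Helper08.SU3K

open Cfsg Cfsg.Geo Matrix
open scoped MatrixGroups

variable {F : Type*} [Field F] [Fintype F]

local notation "M3" => Matrix (Fin 3) (Fin 3) F
local notation "G3" => GL (Fin 3) F

/-! ### the Hermitian form over the field with nine elements -/

theorem herm_eq (u v : Fin 3 → F) :
    hermForm 3 F 3 u v = u 0 * v 0 ^ 3 + u 1 * v 1 ^ 3 + u 2 * v 2 ^ 3 := by
  unfold hermForm
  rw [Fin.sum_univ_three]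

theorem three_eq_zero (hF : Fintype.card F = 9) : (3 : F) = 0 := by
  have h := Nat.cast_card_eq_zero F
  rw [hF] at h
  have h9 : (3 : F) * 3 = 0 := by
    have : ((9 : ℕ) : F) = 3 * 3 := by norm_num
    rw [← this]; exact h
  exact mul_self_eq_zero.mp h9

theorem add_cube (hF : Fintype.card F = 9) (a b : F) : (a + b) ^ 3 = a ^ 3 + b ^ 3 := by
  have h3 := three_eq_zero hF
  have : (a + b) ^ 3 = a ^ 3 + b ^ 3 + 3 * (a ^ 2 * b + a * b ^ 2) := by ring
  rw [this, h3, zero_mul, add_zero]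

theorem pow_nine (hF : Fintype.card F = 9) (a : F) : a ^ 9 = a := by
  have := FiniteField.pow_card a
  rwa [hF] at this

theorem herm_add_left (x y v : Fin 3 → F) :
    hermForm 3 F 3 (x + y) v = hermForm 3 F 3 x v + hermForm 3 F 3 y v := by
  rw [herm_eq, herm_eq, herm_eq]; simp only [Pi.add_apply]; ring

theorem herm_smul_left (c : F) (x v : Fin 3 → F) :
    hermForm 3 F 3 (c • x) v = c * hermForm 3 F 3 x v := by
  rw [herm_eq, herm_eq]; simp only [Pi.smul_apply, smul_eq_mul]; ring

theorem herm_add_right (hF : Fintype.card F = 9) (v x y : Fin 3 → F) :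
    hermForm 3 F 3 v (x + y) = hermForm 3 F 3 v x + hermForm 3 F 3 v y := by
  rw [herm_eq, herm_eq, herm_eq]; simp only [Pi.add_apply]
  rw [add_cube hF, add_cube hF, add_cube hF]; ring

theorem herm_smul_right (c : F) (v x : Fin 3 → F) :
    hermForm 3 F 3 v (c • x) = c ^ 3 * hermForm 3 F 3 v x := by
  rw [herm_eq, herm_eq]; simp only [Pi.smul_apply, smul_eq_mul]; ring

theorem herm_symm (hF : Fintype.card F = 9) (x y : Fin 3 → F) :
    hermForm 3 F 3 y x = hermForm 3 F 3 x y ^ 3 := by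
  rw [herm_eq, herm_eq, add_cube hF, add_cube hF, mul_pow, mul_pow, mul_pow, ← pow_mul, ← pow_mul,
    ← pow_mul]
  norm_num
  rw [pow_nine hF, pow_nine hF, pow_nine hF]; ring

/-! ### the subfield with three elements -/

section sub

variable (F₀ : Subfield F)

/-- coercion of vectors -/
def up (u : Fin 3 → F₀) : Fin 3 → F := fun i => (u i : F)

theorem up_add (u v : Fin 3 → F₀) : up F₀ (u + v) = up F₀ u + up F₀ v := by
  funext i; simp [up]

theorem up_smul (c : F₀) (u : Fin 3 → F₀) : up F₀ (c • u) = (c : F) • up F₀ u := by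
  funext i; simp [up]

theorem up_injective : Function.Injective (up F₀) := by
  intro u v h
  funext i
  exact Subtype.ext (congrFun h i)

theorem up_zero : up F₀ 0 = 0 := by funext i; simp [up]

variable {F₀}

theorem card_sub (hF : Fintype.card F = 9) (hF₀ : Fintype.card F = Nat.card F₀ ^ 2) :
    Nat.card F₀ = 3 := by
  rw [hF] at hF₀
  have : Nat.card F₀ ^ 2 = 3 ^ 2 := by rw [← hF₀]; norm_num
  exact Nat.pow_left_injective (by norm_num) this

theorem cube_sub (h3 : Nat.card F₀ = 3) (a : F₀) : (a : F) ^ 3 = a := by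
  haveI : Fintype F₀ := Fintype.ofFinite F₀
  have := FiniteField.pow_card a
  rw [← Nat.card_eq_fintype_card, h3] at this
  have h := congrArg (Subtype.val) this
  simpa using h

end sub

/-! ### the rational form -/

section form

variable {F₀ : Subfield F} (P : GL (Fin 3) F) (hP : IsFormRationalStructure (hermForm 3 F 3) F₀ 1 P)

/-- the restriction of the Hermitian form to the rational structure -/
def f0 (hP : IsFormRationalStructure (hermForm 3 F 3) F₀ 1 P) (u v : Fin 3 → F₀) : F₀ :=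
  ⟨hermForm 3 F 3 ((P : M3) *ᵥ up F₀ u) ((P : M3) *ᵥ up F₀ v), by
    have := hP (up F₀ u) (up F₀ v) (fun i => (u i).2) (fun i => (v i).2)
    rwa [one_mul] at this⟩

theorem f0_coe (u v : Fin 3 → F₀) :
    ((f0 P hP u v : F₀) : F) = hermForm 3 F 3 ((P : M3) *ᵥ up F₀ u) ((P : M3) *ᵥ up F₀ v) := rfl

theorem f0_symm (hF : Fintype.card F = 9) (h3 : Nat.card F₀ = 3) (u v : Fin 3 → F₀) :
    f0 P hP u v = f0 P hP v u := by
  apply Subtype.ext
  rw [f0_coe, f0_coe, herm_symm hF ((P : M3) *ᵥ up F₀ v) ((P : M3) *ᵥ up F₀ u), ← f0_coe P hP,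
    cube_sub h3]

theorem f0_bilinear (hF : Fintype.card F = 9) (h3 : Nat.card F₀ = 3) : IsBilinearForm (f0 P hP) := by
  have hl1 : ∀ x y v, f0 P hP (x + y) v = f0 P hP x v + f0 P hP y v := by
    intro x y v
    apply Subtype.ext
    rw [Subfield.coe_add, f0_coe, f0_coe, f0_coe, up_add, Matrix.mulVec_add, herm_add_left]
  have hl2 : ∀ (c : F₀) (x v : Fin 3 → F₀), f0 P hP (c • x) v = c * f0 P hP x v := by
    intro c x v
    apply Subtype.ext
    rw [Subfield.coe_mul, f0_coe, f0_coe, up_smul, Matrix.mulVec_smul, herm_smul_left]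
  refine ⟨hl1, hl2, ?_, ?_⟩
  · intro v x y
    rw [f0_symm P hP hF h3 v, hl1, f0_symm P hP hF h3 x, f0_symm P hP hF h3 y]
  · intro c v x
    rw [f0_symm P hP hF h3 v, hl2, f0_symm P hP hF h3 x]

theorem mulVec_up_ne_zero {u : Fin 3 → F₀} (hu : u ≠ 0) : (P : M3) *ᵥ up F₀ u ≠ 0 := by
  intro h
  apply hu
  apply up_injective F₀
  rw [up_zero]
  have := congrArg (fun w => ((P⁻¹ : G3) : M3) *ᵥ w) h
  simpa [Matrix.mulVec_mulVec] using this

theorem f0_nondegenerate (hF : Fintype.card F = 9) (h3 : Nat.card F₀ = 3) :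
    IsNondegenerateForm (f0 P hP) := by
  have key : ∀ v : Fin 3 → F₀, v ≠ 0 → ∃ y, f0 P hP v y ≠ 0 := by
    intro v hv
    by_contra hcon
    push Not at hcon
    set x := (P : M3) *ᵥ up F₀ v with hx
    have hx0 : x ≠ 0 := mulVec_up_ne_zero P hv
    -- `h(x, b_j) = 0` for the columns of `P`
    have hcol : ∀ j : Fin 3, hermForm 3 F 3 x ((P : M3) *ᵥ (Pi.single j (1 : F))) = 0 := by
      intro j
      have h := hcon (Pi.single j (1 : F₀))
      have h' := congrArg Subtype.val h
      rw [f0_coe] at h'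
      have hup : up F₀ (Pi.single j (1 : F₀)) = Pi.single j (1 : F) := by
        funext i
        by_cases hij : i = j
        · subst hij; simp [up]
        · simp [up, Pi.single_eq_of_ne hij]
      rw [hup] at h'
      simpa using h'
    -- hence `h(x, w) = 0` for all `w`
    have hall : ∀ w : Fin 3 → F, hermForm 3 F 3 x w = 0 := by
      intro w
      set c := ((P⁻¹ : G3) : M3) *ᵥ w with hc
      have hw : w = c 0 • ((P : M3) *ᵥ (Pi.single 0 (1 : F))) + c 1 • ((P : M3) *ᵥ (Pi.single 1 (1 : F)))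
          + c 2 • ((P : M3) *ᵥ (Pi.single 2 (1 : F))) := by
        have hcw : (P : M3) *ᵥ c = w := by
          rw [hc, Matrix.mulVec_mulVec, ← Units.val_mul, mul_inv_cancel, Units.val_one, Matrix.one_mulVec]
        rw [← hcw, ← Matrix.mulVec_smul, ← Matrix.mulVec_smul, ← Matrix.mulVec_smul, ← Matrix.mulVec_add,
          ← Matrix.mulVec_add]
        congr 1
        funext i
        fin_cases i <;> simp
      rw [hw, herm_add_right hF, herm_add_right hF, herm_smul_right, herm_smul_right, herm_smul_right,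
        hcol, hcol, hcol]
      ring
    -- contradiction with `x ≠ 0`
    apply hx0
    funext i
    have h := hall (Pi.single i (1 : F))
    rw [herm_eq] at h
    fin_cases i <;> simpa using h
  intro v hv
  obtain ⟨y, hy⟩ := key v hv
  exact ⟨⟨y, by rwa [f0_symm P hP hF h3]⟩, ⟨y, hy⟩⟩

theorem f0_isSymmetricForm (hF : Fintype.card F = 9) (h3 : Nat.card F₀ = 3) :
    IsSymmetricForm (f0 P hP) :=
  ⟨f0_bilinear P hP hF h3, f0_symm P hP hF h3, f0_nondegenerate P hP hF h3⟩

end form

/-! ### the main theorem -/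

theorem herm_sum_left (g : Fin 3 → F) (u : Fin 3 → (Fin 3 → F)) (v : Fin 3 → F) :
    hermForm 3 F 3 (∑ i, g i • u i) v = ∑ i, g i * hermForm 3 F 3 (u i) v := by
  rw [Fin.sum_univ_three, Fin.sum_univ_three, herm_add_left, herm_add_left, herm_smul_left,
    herm_smul_left, herm_smul_left]

/-- **K-SU3-F1.** -/
theorem subfield_le_frame_three (hF : Fintype.card F = 9) (F₀ : Subfield F)
    (hF₀ : Fintype.card F = Nat.card F₀ ^ 2) (P : GL (Fin 3) F)
    (hP : IsFormRationalStructure (hermForm 3 F 3) F₀ 1 P) :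
    ∃ D : Fin 3 → Submodule F (Fin 3 → F), IsNondegenerateMDecomposition (hermForm 3 F 3) 1 D ∧
      subfieldSubgroup F₀ P ⊓ GU 3 F 3 ≤ decompositionStabilizer D := by
  classical
  have h3 := card_sub hF hF₀
  haveI : Fintype F₀ := Fintype.ofFinite F₀
  have hF3 : Fintype.card F₀ = 3 := by rw [← Nat.card_eq_fintype_card]; exact h3
  have hsym := f0_isSymmetricForm P hP hF h3
  obtain ⟨R⟩ := Cfsg.Agent.Lib.Helper11.SymF3.exists_frame' hF3 (f0 P hP) hsym (by simp)
  let e : Fin 3 → (Fin 3 → F₀) := ![R.e₁, R.e₂, R.e₃]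
  let u : Fin 3 → (Fin 3 → F) := fun i => (P : M3) *ᵥ up F₀ (e i)
  have hg0 : ∀ i j, f0 P hP (e i) (e j) = if i = j then R.δ else 0 := by
    intro i j
    fin_cases i <;> fin_cases j
    · exact R.h11
    · exact R.h12
    · exact R.h13
    · exact Cfsg.Agent.Lib.Helper11.SymF3.Frame.h21 hsym R
    · exact R.h22
    · exact R.h23
    · exact Cfsg.Agent.Lib.Helper11.SymF3.Frame.h31 hsym R
    · exact Cfsg.Agent.Lib.Helper11.SymF3.Frame.h32 hsym R
    · exact R.h33
  have hgram : ∀ i j, hermForm 3 F 3 (u i) (u j) = if i = j then (R.δ : F) else 0 := by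
    intro i j
    have := congrArg Subtype.val (hg0 i j)
    rw [f0_coe] at this
    rw [show hermForm 3 F 3 (u i) (u j) = _ from this]
    split_ifs <;> rfl
  have hδ : (R.δ : F) ≠ 0 := fun h => R.hδ (Subtype.ext h)
  have hu0 : ∀ i, u i ≠ 0 := by
    intro i h
    have := hgram i i
    rw [if_pos rfl, h] at this
    have h0 : hermForm 3 F 3 (0 : Fin 3 → F) (0 : Fin 3 → F) = 0 := by rw [herm_eq]; simp
    rw [h0] at this
    exact hδ this.symm
  -- linear independence
  have hli : LinearIndependent F u := by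
    rw [Fintype.linearIndependent_iff]
    intro g hg j
    have h1 : hermForm 3 F 3 (∑ i, g i • u i) (u j) = hermForm 3 F 3 (0 : Fin 3 → F) (u j) := by
      rw [hg]
    rw [herm_sum_left] at h1
    have h2 : ∑ i, g i * hermForm 3 F 3 (u i) (u j) = g j * R.δ := by
      rw [Finset.sum_eq_single j]
      · rw [hgram, if_pos rfl]
      · intro i _ hij
        rw [hgram, if_neg hij, mul_zero]
      · intro h; exact absurd (Finset.mem_univ j) h
    rw [h2] at h1
    have h0 : hermForm 3 F 3 (0 : Fin 3 → F) (u j) = 0 := by rw [herm_eq]; simp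
    rw [h0] at h1
    exact (mul_eq_zero.mp h1).resolve_right hδ
  let D : Fin 3 → Submodule F (Fin 3 → F) := fun i => Submodule.span F {u i}
  have hmemD : ∀ i (w : Fin 3 → F), w ∈ D i ↔ ∃ a : F, a • u i = w := fun i w =>
    Submodule.mem_span_singleton
  refine ⟨D, ⟨⟨by norm_num, one_pos, fun i => finrank_span_singleton (hu0 i),
    hli.iSupIndep_span_singleton, ?_⟩, ?_, ?_⟩, ?_⟩
  · rw [← Submodule.span_range_eq_iSup]
    exact hli.span_eq_top_of_card_eq_finrank' (by simp)
  · intro i w hw hw0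
    obtain ⟨a, rfl⟩ := (hmemD i w).mp hw
    have ha : a ≠ 0 := by
      rintro rfl
      exact hw0 (zero_smul _ _)
    refine ⟨⟨u i, Submodule.mem_span_singleton_self _, ?_⟩, ⟨u i, Submodule.mem_span_singleton_self _, ?_⟩⟩
    · rw [herm_smul_right, hgram, if_pos rfl]
      exact mul_ne_zero (pow_ne_zero _ ha) hδ
    · rw [herm_smul_left, hgram, if_pos rfl]
      exact mul_ne_zero ha hδ
  · intro i j hij x hx y hy
    obtain ⟨a, rfl⟩ := (hmemD i x).mp hx
    obtain ⟨b, rfl⟩ := (hmemD j y).mp hy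
    rw [herm_smul_left, herm_smul_right, hgram, if_neg hij, mul_zero, mul_zero]
  · rintro g ⟨hg1, hg2⟩
    obtain ⟨g', hg', rfl⟩ := hg1
    have hg'' : g' ∈ Cfsg.Agent.Lib.Helper48.Subfield.ratUpTo (ι := Fin 3) F₀ := by
      rw [← Cfsg.Agent.Lib.Helper48.Subfield.sup_eq_ratUpTo]; exact hg'
    obtain ⟨c, hc, hrat⟩ := Cfsg.Agent.Lib.Helper48.Subfield.mem_ratUpTo_iff.mp hg''
    let N₀ : Matrix (Fin 3) (Fin 3) F₀ := fun i j => ⟨(c • (g' : M3)) i j, hrat i j⟩
    have hN : ∀ y : Fin 3 → F₀, (g' : M3) *ᵥ up F₀ y = c⁻¹ • up F₀ (N₀ *ᵥ y) := by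
      intro y
      funext i
      simp only [Matrix.mulVec, dotProduct, Pi.smul_apply, smul_eq_mul, up, N₀, Fin.sum_univ_three,
        Matrix.smul_apply, Subfield.coe_add, Subfield.coe_mul]
      field_simp
    have hgv : ∀ y : Fin 3 → F₀, (((MulAut.conj P) g' : GL (Fin 3) F) : M3) *ᵥ ((P : M3) *ᵥ up F₀ y) =
        c⁻¹ • ((P : M3) *ᵥ up F₀ (N₀ *ᵥ y)) := by
      intro y
      rw [MulAut.conj_apply, Units.val_mul, Units.val_mul, Matrix.mulVec_mulVec, mul_assoc, mul_assoc,
        ← Units.val_mul, inv_mul_cancel, Units.val_one, mul_one, ← Matrix.mulVec_mulVec, hN,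
        Matrix.mulVec_smul]
    have hGU : ∀ x y : Fin 3 → F, hermForm 3 F 3 ((((MulAut.conj P) g' : GL (Fin 3) F) : M3) *ᵥ x)
        ((((MulAut.conj P) g' : GL (Fin 3) F) : M3) *ᵥ y) = hermForm 3 F 3 x y := fun x y => hg2 x y
    -- the rational part is a similarity of the rational form
    have hsimF : ∀ y y' : Fin 3 → F₀, ((f0 P hP (N₀ *ᵥ y) (N₀ *ᵥ y') : F₀) : F) =
        c ^ 4 * ((f0 P hP y y' : F₀) : F) := by
      intro y y'
      have h := hGU ((P : M3) *ᵥ up F₀ y) ((P : M3) *ᵥ up F₀ y')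
      rw [hgv, hgv, herm_smul_left, herm_smul_right] at h
      rw [f0_coe, f0_coe, ← h]
      field_simp
    let ν₀ : F₀ := f0 P hP (N₀ *ᵥ R.e₁) (N₀ *ᵥ R.e₁) * R.δ⁻¹
    have hν₀ : (ν₀ : F) = c ^ 4 := by
      show ((f0 P hP (N₀ *ᵥ R.e₁) (N₀ *ᵥ R.e₁) * R.δ⁻¹ : F₀) : F) = c ^ 4
      rw [Subfield.coe_mul, hsimF, R.h11, Subfield.coe_inv]
      field_simp
    have hsim0 : ∀ y y' : Fin 3 → F₀, f0 P hP (N₀ *ᵥ y) (N₀ *ᵥ y') = ν₀ * f0 P hP y y' := by
      intro y y'
      apply Subtype.ext
      rw [Subfield.coe_mul, hν₀, hsimF]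
    have hν1 : ν₀ = 1 := by
      rcases Cfsg.Agent.Lib.Helper11.SymF3.Frame.sim_one hF3 hsym R (by simp) N₀ ν₀ hsim0 with h | h
      · exfalso
        have : (ν₀ : F) = 0 := by rw [h]; rfl
        rw [hν₀] at this
        exact hc (pow_eq_zero_iff (by norm_num) |>.mp this)
      · exact h
    -- the frame vectors are permuted up to scalars
    have hperm : ∀ i : Fin 3, ∃ j : Fin 3, ∃ s : F₀, s ≠ 0 ∧ N₀ *ᵥ e i = s • e j := by
      intro i
      have hnorm : f0 P hP (N₀ *ᵥ e i) (N₀ *ᵥ e i) = R.δ := by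
        rw [hsim0, hν1, one_mul, hg0, if_pos rfl]
      have hs0 : ∀ (s : F₀) (j : Fin 3), N₀ *ᵥ e i = s • e j → s ≠ 0 := by
        rintro s j hs rfl
        rw [zero_smul] at hs
        rw [hs, Cfsg.Agent.Lib.Helper11.SymF3.bf_zero_left _ hsym.bilinear] at hnorm
        exact R.hδ hnorm.symm
      rcases Cfsg.Agent.Lib.Helper11.SymF3.Frame.norm_cases hF3 hsym R (by simp) _ hnorm with
        ⟨s, hs⟩ | ⟨s, hs⟩ | ⟨s, hs⟩
      · exact ⟨0, s, hs0 s 0 hs, hs⟩
      · exact ⟨1, s, hs0 s 1 hs, hs⟩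
      · exact ⟨2, s, hs0 s 2 hs, hs⟩
    choose τ s hs0 hs using hperm
    have himg : ∀ i, (((MulAut.conj P) g' : GL (Fin 3) F) : M3) *ᵥ u i = (c⁻¹ * (s i : F)) • u (τ i) := by
      intro i
      show (((MulAut.conj P) g' : GL (Fin 3) F) : M3) *ᵥ ((P : M3) *ᵥ up F₀ (e i)) = _
      rw [hgv, hs, up_smul, Matrix.mulVec_smul, smul_smul]
    have hmap : ∀ i, (D i).map (Matrix.toLin' (((MulAut.conj P) g' : GL (Fin 3) F) : M3)) = D (τ i) := by
      intro i
      show (Submodule.span F {u i}).map _ = Submodule.span F {u (τ i)}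
      rw [Submodule.map_span, Set.image_singleton, Matrix.toLin'_apply, himg]
      have hne : c⁻¹ * (s i : F) ≠ 0 :=
        mul_ne_zero (inv_ne_zero hc) (fun h => hs0 i (Subtype.ext h))
      exact Submodule.span_singleton_smul_eq (IsUnit.mk0 _ hne) _
    -- `τ` is a permutation
    have hDinj : Function.Injective D := by
      intro i j hij
      by_contra hne
      have hmem : u i ∈ D j := by rw [← hij]; exact Submodule.mem_span_singleton_self _
      obtain ⟨a, ha⟩ := (hmemD j (u i)).mp hmem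
      have h1 := hgram i i
      rw [if_pos rfl] at h1
      rw [← ha] at h1
      rw [herm_smul_left, herm_smul_right, hgram, if_pos rfl] at h1
      have h2 := hgram i j
      rw [if_neg hne, ← ha, herm_smul_left, hgram, if_pos rfl] at h2
      rcases mul_eq_zero.mp h2 with h | h
      · rw [h] at h1
        apply hδ
        rw [← h1]; ring
      · exact hδ h
    have hginj : Function.Injective (Matrix.toLin' (((MulAut.conj P) g' : GL (Fin 3) F) : M3)) := by
      intro x y hxy
      rw [Matrix.toLin'_apply, Matrix.toLin'_apply] at hxy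
      exact Matrix.mulVec_injective_of_isUnit (Units.isUnit ((MulAut.conj P) g' : GL (Fin 3) F)) hxy
    have hτinj : Function.Injective τ := by
      intro i j hij
      apply hDinj
      apply Submodule.map_injective_of_injective hginj
      rw [hmap, hmap, hij]
    exact ⟨Equiv.ofBijective τ (Finite.injective_iff_bijective.mp hτinj), hmap⟩

end Cfsg.Agent.Lib.Helper08.SU3K
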