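import Mathlib
import Cfsg.Agent.Lib.Helper69.StNDefs

set_option autoImplicit false

/-! K-StN leaf A5 (S2401, architect helper69): `HasActsW` from the four conjugation formulas. -/

namespace Cfsg.Agent.Lib.Helper08.StN

open Cfsg.Agent.Lib.Helper69.StN Matrix

variable {n : ℕ} {K : Type*} [Field K] {S : Type*} [Group S] {X : Fin n → Fin n → K → S}

theorem acts_w
    (hfar : ∀ {i j k l : Fin n}, i ≠ j → k ≠ l → k ≠ i → k ≠ j → l ≠ i → l ≠ j → ∀ u t : K,
      w X i j u * X k l t * (w X i j u)⁻¹ = X k l t)
    (hrow : ∀ {i j k : Fin n}, i ≠ j → i ≠ k → j ≠ k → ∀ {u : K}, u ≠ 0 → ∀ t : K,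
      w X i j u * X i k t * (w X i j u)⁻¹ = X j k (-u⁻¹ * t) ∧
      w X i j u * X j k t * (w X i j u)⁻¹ = X i k (u * t))
    (hcol : ∀ {i j k : Fin n}, i ≠ j → i ≠ k → j ≠ k → ∀ {u : K}, u ≠ 0 → ∀ t : K,
      w X i j u * X k i t * (w X i j u)⁻¹ = X k j (-(t * u)) ∧
      w X i j u * X k j t * (w X i j u)⁻¹ = X k i (t * u⁻¹))
    (hself : ∀ {i j : Fin n}, i ≠ j → ∀ {u : K}, u ≠ 0 → ∀ t : K,
      w X i j u * X i j t * (w X i j u)⁻¹ = X j i (-(u⁻¹ ^ 2 * t)) ∧
      w X i j u * X j i t * (w X i j u)⁻¹ = X i j (-(u ^ 2 * t))) :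
    HasActsW X := by
  intro i j hij u hu
  have hji : j ≠ i := hij.symm
  refine ⟨fun k => ?_, fun k l hkl t => ?_⟩
  · unfold dW
    split_ifs
    · exact neg_ne_zero.mpr (inv_ne_zero hu)
    · exact hu
    · exact one_ne_zero
  · by_cases hki : k = i
    · subst hki
      by_cases hlj : l = j
      · subst hlj
        rw [(hself hij hu t).1, Equiv.swap_apply_left, Equiv.swap_apply_right]
        congr 1
        simp only [dW, if_true, if_neg hji, if_pos]
        ring
      · have hlk : l ≠ k := hkl.symm
        rw [(hrow hij hkl (Ne.symm hlj) hu t).1, Equiv.swap_apply_left,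
          Equiv.swap_apply_of_ne_of_ne hlk hlj]
        congr 1
        simp only [dW, if_true, if_neg hlk, if_neg hlj, inv_one, mul_one]
    · by_cases hkj : k = j
      · subst hkj
        by_cases hli : l = i
        · subst hli
          rw [(hself hij hu t).2, Equiv.swap_apply_left, Equiv.swap_apply_right]
          congr 1
          simp only [dW, if_true, if_neg hki, if_pos, inv_neg, inv_inv]
          ring
        · have hlk : l ≠ k := hkl.symm
          rw [(hrow hij (Ne.symm hli) hkl hu t).2, Equiv.swap_apply_right,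
            Equiv.swap_apply_of_ne_of_ne hli hlk]
          congr 1
          simp only [dW, if_true, if_neg hki, if_neg hli, if_neg hlk, inv_one, mul_one]
      · by_cases hli : l = i
        · subst hli
          rw [(hcol hij (Ne.symm hki) (Ne.symm hkj) hu t).1, Equiv.swap_apply_left,
            Equiv.swap_apply_of_ne_of_ne hki hkj]
          congr 1
          simp only [dW, if_true, if_neg hki, if_neg hkj, inv_neg, inv_inv, one_mul, mul_neg]
        · by_cases hlj : l = j
          · subst hlj
            rw [(hcol hij (Ne.symm hki) (Ne.symm hkj) hu t).2, Equiv.swap_apply_right,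
              Equiv.swap_apply_of_ne_of_ne hki hkj]
            congr 1
            simp only [dW, if_true, if_neg hki, if_neg hkj, if_neg hli, one_mul]
          · rw [hfar hij hkl hki hkj hli hlj u t, Equiv.swap_apply_of_ne_of_ne hki hkj,
              Equiv.swap_apply_of_ne_of_ne hli hlj]
            congr 1
            simp only [dW, if_neg hki, if_neg hkj, if_neg hli, if_neg hlj, inv_one, mul_one, one_mul]

end Cfsg.Agent.Lib.Helper08.StN
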