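import Mathlib
import Cfsg.Agent.Lib.Helper69.StNDefs
import Cfsg.Agent.S2530

set_option autoImplicit false

/-! K-StN leaf H2 (S2401, architect helper69): a monomial element in the kernel of `φ` lies in the torus. -/

namespace Cfsg.Agent.Lib.Helper08.StN

open Cfsg.Agent.Lib.Helper69.StN Matrix

variable {n : ℕ} {K : Type*} [Field K] {S : Type*} [Group S] {X : Fin n → Fin n → K → S}

section Weyl
variable {k : ℕ} {Y : Fin (k + 1) → Fin (k + 1) → K → S}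

theorem Nmon_ker_le_Htor (hX : IsSt Y) (hA : HasActsW Y)
    (hconj : ∀ {m h : S}, m ∈ Nmon Y → h ∈ Htor Y → m * h * m⁻¹ ∈ Htor Y)
    (hword : ∀ m ∈ Nmon Y, ∃ h ∈ Htor Y, ∃ l : List (Fin k), m = h * (l.map (sS Y)).prod)
    (hcox : ∀ a b : Fin k, (sS Y a * sS Y b) ^ ((CoxeterMatrix.A k).M a b) ∈ Htor Y)
    (hHacts : ∀ {h : S}, h ∈ Htor Y → ∃ d, Acts Y h 1 d)
    {φ : S →* SpecialLinearGroup (Fin (k + 1)) K}
    (hperm : ∀ {g : S} {σ : Equiv.Perm (Fin (k + 1))} {d : Fin (k + 1) → K}, Acts Y g σ d → φ g = 1 → σ = 1)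
    {m : S} (hm : m ∈ Nmon Y) (h1 : φ m = 1) : m ∈ Htor Y := by
  classical
  obtain ⟨cs, hcs⟩ := Cfsg.Agent.S2530.result k
  have hnorm : ((Htor Y).subgroupOf (Nmon Y)).Normal := by
    constructor
    intro h hh' g
    rw [Subgroup.mem_subgroupOf] at hh' ⊢
    have := hconj g.2 hh'
    simpa using this
  -- the projection and the lifts of the simple reflections
  obtain ⟨π, hπ⟩ : ∃ π : ↥(Nmon Y) →* ↥(Nmon Y) ⧸ (Htor Y).subgroupOf (Nmon Y),
      ∀ x : ↥(Nmon Y), π x = 1 ↔ (x : S) ∈ Htor Y := by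
    refine ⟨QuotientGroup.mk' _, fun x => ?_⟩
    rw [QuotientGroup.mk'_apply, QuotientGroup.eq_one_iff, Subgroup.mem_subgroupOf]
  obtain ⟨sN, hsN⟩ : ∃ sN : Fin k → ↥(Nmon Y), ∀ a, (sN a : S) = sS Y a :=
    ⟨fun a => ⟨sS Y a, sS_mem_Nmon Y a⟩, fun a => rfl⟩
  have hlift : (CoxeterMatrix.A k).IsLiftable (fun a => π (sN a)) := by
    intro a b
    show (π (sN a) * π (sN b)) ^ _ = 1
    rw [← map_mul, ← map_pow, hπ]
    simpa [hsN] using hcox a b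
  obtain ⟨ψ, hψ⟩ : ∃ ψ : Equiv.Perm (Fin (k + 1)) →* ↥(Nmon Y) ⧸ (Htor Y).subgroupOf (Nmon Y),
      ∀ a, ψ (cs.simple a) = π (sN a) :=
    ⟨cs.lift ⟨fun a => π (sN a), hlift⟩, fun a => cs.lift_apply_simple _ a⟩
  -- (i) every permutation has a monomial lift
  have hi : ∀ τ : Equiv.Perm (Fin (k + 1)), ∃ m₁ : ↥(Nmon Y), ∃ d, π m₁ = ψ τ ∧ Acts Y (m₁ : S) τ d := by
    intro τ
    induction τ using cs.simple_induction_left with
    | one => exact ⟨1, fun _ => 1, by rw [map_one, map_one], by rw [Subgroup.coe_one]; exact Acts.one Y⟩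
    | mul_simple_left τ a ih =>
      obtain ⟨m₁, d, e1, e2⟩ := ih
      have ha : Acts Y (sN a : S) (cs.simple a) (dW a.castSucc a.succ 1) := by
        rw [hsN, hcs]
        exact hA _ _ (Fin.castSucc_lt_succ (i := a)).ne 1 one_ne_zero
      have hmul := ha.mul e2
      refine ⟨sN a * m₁, fun q => dW a.castSucc a.succ 1 (τ q) * d q,
        by rw [map_mul, map_mul, hψ, e1], ?_⟩
      rw [Subgroup.coe_mul]
      exact hmul
  -- (ii) words
  have hii : ∀ l : List (Fin k), ∃ x : ↥(Nmon Y), (x : S) = (l.map (sS Y)).prod ∧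
      π x = ψ (cs.wordProd l) := by
    intro l
    induction l with
    | nil => exact ⟨1, by simp, by simp⟩
    | cons a l ih =>
      obtain ⟨x, e1, e2⟩ := ih
      refine ⟨sN a * x, by simp [hsN, e1], ?_⟩
      rw [cs.wordProd_cons, map_mul, map_mul, hψ, e2]
  obtain ⟨h, hh', l, hml⟩ := hword m hm
  obtain ⟨x, hx1, hx2⟩ := hii l
  obtain ⟨m₁, d, e1, e2⟩ := hi (cs.wordProd l)
  have hhN : h ∈ Nmon Y := Htor_le_Nmon Y hh'
  have hmx : (⟨m, hm⟩ : ↥(Nmon Y)) = ⟨h, hhN⟩ * x := by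
    apply Subtype.ext
    simp [hml, hx1]
  have hπm : π ⟨m, hm⟩ = ψ (cs.wordProd l) := by
    rw [hmx, map_mul, (hπ ⟨h, hhN⟩).2 hh', one_mul, hx2]
  -- `h' := m₁⁻¹ * m` lies in the torus
  have hh'' : ((m₁⁻¹ * ⟨m, hm⟩ : ↥(Nmon Y)) : S) ∈ Htor Y := by
    rw [← hπ, map_mul, map_inv, hπm, e1, inv_mul_cancel]
  obtain ⟨d', hd'⟩ := hHacts hh''
  have hact := e2.mul hd'
  have hmm : (m₁ : S) * ((m₁⁻¹ * ⟨m, hm⟩ : ↥(Nmon Y)) : S) = m := by
    simp
  rw [hmm] at hact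
  have hτ : cs.wordProd l * 1 = 1 := hperm hact h1
  rw [mul_one] at hτ
  rw [hτ, map_one] at hπm
  exact (hπ ⟨m, hm⟩).1 hπm

end Weyl

end Cfsg.Agent.Lib.Helper08.StN
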