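import Mathlib
import Cfsg.Agent.Lib.Helper53.StOmDefs
import Cfsg.Agent.Lib.Helper45.StOmR0c
import Cfsg.Agent.Lib.Helper90.StOmR0a

/-!
# K-StOm pack (S2549), keystone 254906, leaf F1Z: `decomp_last`

`g ∈ B ⇒ g = g' * x_{ε_{m-1}}(s, t)` with `g' ∈ B` and `σ g' σ⁻¹ ∈ B`, `σ` the reflection
`e_{m-1} ↔ f_{m-1}`.  Port of `Lib/Helper85/StOF1Z.lean` to the two-dimensional anisotropic block.
-/

set_option autoImplicit false
set_option linter.unusedSectionVars false
set_option linter.unusedSimpArgs false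
set_option linter.unusedVariables false

namespace Cfsg.Agent.Lib.Helper08.StOm

open Matrix Cfsg Cfsg.Agent.Lib.Helper53.StOm

variable {m : ℕ} {F : Type*} [Field F] {a b : F}

theorem f1z_mulVec4 (M : Matrix (MI m) (MI m) F) (x y w v : MI m) (α β γ δ : F) (c : MI m) :
    (M *ᵥ (Pi.single x α + Pi.single y β + Pi.single w γ + Pi.single v δ)) c =
      M c x * α + M c y * β + M c w * γ + M c v * δ := by
  simp only [Matrix.mulVec_add, Matrix.mulVec_single, Pi.add_apply, Pi.smul_apply,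
    MulOpposite.smul_eq_mul_unop, MulOpposite.unop_op, Matrix.col_apply]

theorem f1z_pos_e (hm : 0 < m) : pos m (eI (lastF hm)) = m - 1 := rfl
theorem f1z_pos_z (j : Fin 2) : pos m (zI j : MI m) = m := rfl
theorem f1z_pos_f (hm : 0 < m) : pos m (fI (lastF hm)) = m + 1 := by
  show 2 * m - (m - 1) = m + 1
  omega

theorem f1z_eq_z_of_pos (x : MI m) (h : pos m x = m) : ∃ j : Fin 2, x = zI j := by
  rcases x with (x | x) | x
  · have := x.2; simp only [pos] at h; omega
  · have := x.2; simp only [pos] at h; omega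
  · exact ⟨x, rfl⟩

theorem f1z_eq_e_of_pos (hm : 0 < m) (x : MI m) (h : pos m x = m - 1) : x = eI (lastF hm) := by
  rcases x with (x | x) | x
  · simp only [pos] at h
    exact congrArg _ (congrArg _ (Fin.ext h))
  · have := x.2; simp only [pos] at h; omega
  · simp only [pos] at h; omega

theorem f1z_eq_f_of_pos (hm : 0 < m) (x : MI m) (h : pos m x = m + 1) : x = fI (lastF hm) := by
  rcases x with (x | x) | x
  · have := x.2; simp only [pos] at h; omega
  · have := x.2; simp only [pos] at h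
    exact congrArg _ (congrArg _ (Fin.ext (by show x.val = m - 1; omega)))
  · simp only [pos] at h; omega

/-- the fundamental relation for `g ∈ B` on the span of `e_k, z_0, z_1, f_k` (`k` the last index) -/
theorem f1z_rel (hm : 0 < m) (g : OG m F a b) (hg : g ∈ Bsub m F a b) (α β₀ β₁ γ : F) :
    (mat g (eI (lastF hm)) (eI (lastF hm)) * α + mat g (eI (lastF hm)) (zI 0) * β₀ +
        mat g (eI (lastF hm)) (zI 1) * β₁ + mat g (eI (lastF hm)) (fI (lastF hm)) * γ) *
        (mat g (fI (lastF hm)) (fI (lastF hm)) * γ) +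
      phi a b (mat g (zI 0) (zI 0) * β₀ + mat g (zI 0) (zI 1) * β₁ + mat g (zI 0) (fI (lastF hm)) * γ)
        (mat g (zI 1) (zI 0) * β₀ + mat g (zI 1) (zI 1) * β₁ + mat g (zI 1) (fI (lastF hm)) * γ)
      = α * γ + phi a b β₀ β₁ := by
  have hB := (mem_Bsub_iff g).1 hg
  have h := quad_mulVec g
    (Pi.single (eI (lastF hm)) α + Pi.single (zI 0) β₀ + Pi.single (zI 1) β₁ +
      Pi.single (fI (lastF hm)) γ)
  unfold Cfsg.quadFormMinus at h
  simp only [f1z_mulVec4] at h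
  have hze : ∀ j : Fin 2, mat g (zI j) (eI (lastF hm)) = 0 := by
    intro j; apply hB; rw [f1z_pos_e, f1z_pos_z]; omega
  have hfe : mat g (fI (lastF hm)) (eI (lastF hm)) = 0 := by
    apply hB; rw [f1z_pos_e, f1z_pos_f]; omega
  have hfz : ∀ j : Fin 2, mat g (fI (lastF hm)) (zI j) = 0 := by
    intro j; apply hB; rw [f1z_pos_z, f1z_pos_f]; omega
  rw [Finset.sum_eq_single (lastF hm), Finset.sum_eq_single (lastF hm)] at h
  · simp only [Pi.add_apply, Pi.single_apply] at h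
    have e1 : (Sum.inr 0 : MI m) ≠ Sum.inl (Sum.inl (lastF hm)) := by intro h'; cases h'
    have e2 : (Sum.inr 0 : MI m) ≠ Sum.inl (Sum.inr (lastF hm)) := by intro h'; cases h'
    have e1' : (Sum.inr 1 : MI m) ≠ Sum.inl (Sum.inl (lastF hm)) := by intro h'; cases h'
    have e2' : (Sum.inr 1 : MI m) ≠ Sum.inl (Sum.inr (lastF hm)) := by intro h'; cases h'
    have e3 : (Sum.inl (Sum.inl (lastF hm)) : MI m) ≠ Sum.inr 0 := by intro h'; cases h'
    have e4 : (Sum.inl (Sum.inr (lastF hm)) : MI m) ≠ Sum.inr 0 := by intro h'; cases h'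
    have e3' : (Sum.inl (Sum.inl (lastF hm)) : MI m) ≠ Sum.inr 1 := by intro h'; cases h'
    have e4' : (Sum.inl (Sum.inr (lastF hm)) : MI m) ≠ Sum.inr 1 := by intro h'; cases h'
    have e5 : (Sum.inl (Sum.inl (lastF hm)) : MI m) ≠ Sum.inl (Sum.inr (lastF hm)) := by
      intro h'; cases h'
    have e6 : (Sum.inl (Sum.inr (lastF hm)) : MI m) ≠ Sum.inl (Sum.inl (lastF hm)) := by
      intro h'; cases h'
    have e7 : (Sum.inr 0 : MI m) ≠ Sum.inr 1 := by
      intro h'; have := Sum.inr_injective h'; exact absurd this (by decide)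
    have e8 : (Sum.inr 1 : MI m) ≠ Sum.inr 0 := by
      intro h'; have := Sum.inr_injective h'; exact absurd this (by decide)
    simp only [e1, e2, e1', e2', e3, e4, e3', e4', e5, e6, e7, e8, if_true, if_false, add_zero,
      zero_add] at h
    have hze0 := hze 0
    have hze1 := hze 1
    have hfz0 := hfz 0
    have hfz1 := hfz 1
    simp only [zI, eI, fI] at hze0 hze1 hfz0 hfz1 hfe
    rw [hze0, hze1, hfe, hfz0, hfz1] at h
    unfold phi
    simp only [zI, eI, fI]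
    rw [← sub_eq_zero] at h ⊢
    rw [← h]
    ring
  · intro i _ hi
    simp only [Pi.add_apply, Pi.single_apply]
    have e1 : (Sum.inl (Sum.inl i) : MI m) ≠ Sum.inr 0 := by intro h'; cases h'
    have e2 : (Sum.inl (Sum.inr i) : MI m) ≠ Sum.inr 0 := by intro h'; cases h'
    have e1' : (Sum.inl (Sum.inl i) : MI m) ≠ Sum.inr 1 := by intro h'; cases h'
    have e2' : (Sum.inl (Sum.inr i) : MI m) ≠ Sum.inr 1 := by intro h'; cases h'
    have e3 : (Sum.inl (Sum.inl i) : MI m) ≠ Sum.inl (Sum.inl (lastF hm)) := by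
      intro h'; exact hi (Sum.inl_injective (Sum.inl_injective h'))
    have e4 : (Sum.inl (Sum.inr i) : MI m) ≠ Sum.inl (Sum.inr (lastF hm)) := by
      intro h'; exact hi (Sum.inr_injective (Sum.inl_injective h'))
    have e5 : (Sum.inl (Sum.inl i) : MI m) ≠ Sum.inl (Sum.inr (lastF hm)) := by
      intro h'; cases h'
    have e6 : (Sum.inl (Sum.inr i) : MI m) ≠ Sum.inl (Sum.inl (lastF hm)) := by
      intro h'; cases h'
    simp only [e1, e2, e1', e2', e3, e4, e5, e6, if_false, add_zero, mul_zero]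
  · intro h'; exact absurd (Finset.mem_univ _) h'
  · intro i _ hi
    have hiv : i.val < m - 1 := by
      have h1 : i.val ≠ m - 1 := fun e => hi (Fin.ext e)
      have := i.2; omega
    have hpf : pos m (fI i) = 2 * m - i.val := rfl
    have h1 : mat g (fI i) (eI (lastF hm)) = 0 := by
      apply hB; rw [f1z_pos_e, hpf]; omega
    have h2 : ∀ j : Fin 2, mat g (fI i) (zI j) = 0 := by
      intro j; apply hB; rw [f1z_pos_z, hpf]; omega
    have h3 : mat g (fI i) (fI (lastF hm)) = 0 := by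
      apply hB; rw [f1z_pos_f, hpf]; omega
    show _ * (mat g (fI i) (eI (lastF hm)) * α + mat g (fI i) (zI 0) * β₀ +
      mat g (fI i) (zI 1) * β₁ + mat g (fI i) (fI (lastF hm)) * γ) = 0
    rw [h1, h2 0, h2 1, h3]; ring
  · intro h'; exact absurd (Finset.mem_univ _) h'


/-- the root elements `x_{ε_k}(s, t)` lie in `B` -/
theorem f1z_xZ_mem (k : Fin m) (s t : F) : xZ m F a b k s t ∈ Bsub m F a b := by
  rw [mem_Bsub_iff]
  intro x y hxy
  rw [Cfsg.Agent.Lib.Helper45.StOm.mat_xZ]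
  unfold xZMat
  have hk := k.2
  have h1 : x ≠ y := by intro h; rw [h] at hxy; exact lt_irrefl _ hxy
  have hpe : pos m (eI k) = k.val := rfl
  have hpf : pos m (fI k) = 2 * m - k.val := rfl
  have h2 : ∀ j : Fin 2, ¬ ((zI j : MI m) = x ∧ fI k = y) := by
    rintro j ⟨rfl, rfl⟩
    rw [hpf, f1z_pos_z] at hxy; omega
  have h3 : ∀ j : Fin 2, ¬ (eI k = x ∧ (zI j : MI m) = y) := by
    rintro j ⟨rfl, rfl⟩
    rw [hpe, f1z_pos_z] at hxy; omega
  have h4 : ¬ (eI k = x ∧ fI k = y) := by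
    rintro ⟨rfl, rfl⟩
    rw [hpe, hpf] at hxy; omega
  rw [Matrix.sub_apply, Matrix.sub_apply, Matrix.sub_apply, Matrix.add_apply, Matrix.add_apply,
    Matrix.one_apply_ne h1,
    Matrix.single_apply_of_ne _ _ _ _ _ (h2 0), Matrix.single_apply_of_ne _ _ _ _ _ (h2 1),
    Matrix.single_apply_of_ne _ _ _ _ _ h4, Matrix.single_apply_of_ne _ _ _ _ _ (h3 0),
    Matrix.single_apply_of_ne _ _ _ _ _ (h3 1)]
  ring

theorem f1z_xZ_inv (k : Fin m) (s t : F) :
    xZ m F a b k (-s) (-t) * xZ m F a b k s t = 1 := by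
  apply mat_injective
  rw [mat_mul, Cfsg.Agent.Lib.Helper45.StOm.mat_xZ, Cfsg.Agent.Lib.Helper45.StOm.mat_xZ, mat_one]
  have h := Cfsg.Agent.Lib.Helper45.StOm.xZMat_mul_neg (F := F) (a := a) (b := b) k (-s) (-t)
  rwa [neg_neg, neg_neg] at h

theorem f1z_sFlip_mul_self (k : Fin m) : sFlip m F a b k * sFlip m F a b k = 1 := by
  apply mat_injective
  rw [mat_mul, Cfsg.Agent.Lib.Helper90.StOm.mat_sFlip, mat_one]
  unfold sFlipMat flipE
  rw [← Matrix.permMatrix_mul, Equiv.swap_mul_self, Matrix.permMatrix_one]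

theorem f1z_sFlip_inv (k : Fin m) : (sFlip m F a b k)⁻¹ = sFlip m F a b k :=
  inv_eq_of_mul_eq_one_right (f1z_sFlip_mul_self k)

theorem f1z_conj_apply (k : Fin m) (g : OG m F a b) (x y : MI m) :
    mat (sFlip m F a b k * g * sFlip m F a b k) x y =
      mat g (Equiv.swap (eI k) (fI k) x) (Equiv.swap (eI k) (fI k) y) := by
  rw [mat_mul, mat_mul, Cfsg.Agent.Lib.Helper90.StOm.mat_sFlip]
  unfold sFlipMat flipE Equiv.Perm.permMatrix
  rw [PEquiv.toMatrix_toPEquiv_mul, PEquiv.mul_toMatrix_toPEquiv, Equiv.symm_swap]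
  rfl

theorem f1z_swap_cases (k : Fin m) (x : MI m) :
    (Equiv.swap (eI k) (fI k) x = x ∧ x ≠ eI k ∧ x ≠ fI k) ∨
      (x = eI k ∧ Equiv.swap (eI k) (fI k) x = fI k) ∨
      (x = fI k ∧ Equiv.swap (eI k) (fI k) x = eI k) := by
  by_cases h1 : x = eI k
  · right; left; subst h1; exact ⟨rfl, Equiv.swap_apply_left _ _⟩
  · by_cases h2 : x = fI k
    · right; right; subst h2; exact ⟨rfl, Equiv.swap_apply_right _ _⟩
    · left
      exact ⟨Equiv.swap_apply_of_ne_of_ne h1 h2, h1, h2⟩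


theorem f1z_phi_zero : phi a b (0 : F) 0 = 0 := by
  unfold phi; ring

/-- **K-StOm-F1Z** -/
theorem decomp_last (hab : ∀ z₁ z₂ : F, z₁ ^ 2 + a * z₁ * z₂ + b * z₂ ^ 2 = 0 → z₁ = 0 ∧ z₂ = 0)
    (hm : 0 < m) (g : OG m F a b) (hg : g ∈ Bsub m F a b) :
    ∃ g' ∈ Bsub m F a b, ∃ s t : F, g = g' * xZ m F a b (lastF hm) s t ∧
      sFlip m F a b (lastF hm) * g' * (sFlip m F a b (lastF hm))⁻¹ ∈ Bsub m F a b := by
  have hBg := (mem_Bsub_iff g).1 hg
  -- the `z`-block preserves the anisotropic form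
  have hZ : ∀ β₀ β₁ : F,
      phi a b (mat g (zI 0) (zI 0) * β₀ + mat g (zI 0) (zI 1) * β₁)
        (mat g (zI 1) (zI 0) * β₀ + mat g (zI 1) (zI 1) * β₁) = phi a b β₀ β₁ := by
    intro β₀ β₁
    have h := f1z_rel hm g hg 0 β₀ β₁ 0
    unfold phi at h ⊢
    linear_combination h
  obtain ⟨Z00, hZ00⟩ : ∃ x : F, x = mat g (zI 0) (zI 0) := ⟨_, rfl⟩
  obtain ⟨Z01, hZ01⟩ : ∃ x : F, x = mat g (zI 0) (zI 1) := ⟨_, rfl⟩
  obtain ⟨Z10, hZ10⟩ : ∃ x : F, x = mat g (zI 1) (zI 0) := ⟨_, rfl⟩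
  obtain ⟨Z11, hZ11⟩ : ∃ x : F, x = mat g (zI 1) (zI 1) := ⟨_, rfl⟩
  obtain ⟨c0, hc0⟩ : ∃ x : F, x = mat g (zI 0) (fI (lastF hm)) := ⟨_, rfl⟩
  obtain ⟨c1, hc1⟩ : ∃ x : F, x = mat g (zI 1) (fI (lastF hm)) := ⟨_, rfl⟩
  rw [← hZ00, ← hZ01, ← hZ10, ← hZ11] at hZ
  -- the block is invertible
  have hD : Z00 * Z11 - Z01 * Z10 ≠ 0 := by
    intro hD
    have h1 := hZ Z11 (-Z10)
    have e1 : Z00 * Z11 + Z01 * (-Z10) = 0 := by linear_combination hD
    have e2 : Z10 * Z11 + Z11 * (-Z10) = 0 := by ring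
    rw [e1, e2, f1z_phi_zero] at h1
    have h1' : Z11 ^ 2 + a * Z11 * (-Z10) + b * (-Z10) ^ 2 = 0 := by
      have := h1.symm
      unfold phi at this
      exact this
    have k1 := hab _ _ h1'
    have h2 := hZ (-Z01) Z00
    have e3 : Z00 * (-Z01) + Z01 * Z00 = 0 := by ring
    have e4 : Z10 * (-Z01) + Z11 * Z00 = 0 := by linear_combination hD
    rw [e3, e4, f1z_phi_zero] at h2
    have h2' : (-Z01) ^ 2 + a * (-Z01) * Z00 + b * Z00 ^ 2 = 0 := by
      have := h2.symm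
      unfold phi at this
      exact this
    have k2 := hab _ _ h2'
    have h3 := hZ 1 0
    have hZ10z : Z10 = 0 := neg_eq_zero.mp k1.2
    rw [k2.2, hZ10z] at h3
    unfold phi at h3
    simp at h3
  obtain ⟨s, hs⟩ : ∃ s : F, s = (Z11 * c0 - Z01 * c1) / (Z00 * Z11 - Z01 * Z10) := ⟨_, rfl⟩
  obtain ⟨t, ht⟩ : ∃ t : F, t = (Z00 * c1 - Z10 * c0) / (Z00 * Z11 - Z01 * Z10) := ⟨_, rfl⟩
  have hst0 : Z00 * s + Z01 * t = c0 := by
    rw [hs, ht, mul_div_assoc', mul_div_assoc', ← add_div, div_eq_iff hD]; ring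
  have hst1 : Z10 * s + Z11 * t = c1 := by
    rw [hs, ht, mul_div_assoc', mul_div_assoc', ← add_div, div_eq_iff hD]; ring
  have hg' : g * xZ m F a b (lastF hm) (-s) (-t) ∈ Bsub m F a b :=
    (Bsub m F a b).mul_mem hg (f1z_xZ_mem _ _ _)
  obtain ⟨g', hg'def⟩ : ∃ g' : OG m F a b, g' = g * xZ m F a b (lastF hm) (-s) (-t) := ⟨_, rfl⟩
  rw [← hg'def] at hg'
  have hB := (mem_Bsub_iff g').1 hg'
  -- the entries `(z_j, f_k)` of `g'` vanish
  have hze : ∀ j : Fin 2, mat g (zI j) (eI (lastF hm)) = 0 := by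
    intro j; apply hBg; rw [f1z_pos_e, f1z_pos_z]; omega
  have e1 : (fI (lastF hm) : MI m) ≠ zI 0 := by intro h'; cases h'
  have e2 : (fI (lastF hm) : MI m) ≠ zI 1 := by intro h'; cases h'
  have hzf : ∀ j : Fin 2, mat g' (zI j) (fI (lastF hm)) =
      mat g (zI j) (fI (lastF hm)) - (mat g (zI j) (zI 0) * s + mat g (zI j) (zI 1) * t) := by
    intro j
    rw [hg'def, mat_mul, Cfsg.Agent.Lib.Helper45.StOm.mat_xZ]
    unfold xZMat
    rw [Matrix.mul_sub, Matrix.mul_sub, Matrix.mul_sub, Matrix.mul_add, Matrix.mul_add,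
      Matrix.mul_one, Matrix.sub_apply, Matrix.sub_apply, Matrix.sub_apply, Matrix.add_apply,
      Matrix.add_apply, Matrix.mul_single_apply_same, Matrix.mul_single_apply_same,
      Matrix.mul_single_apply_same, Matrix.mul_single_apply_of_ne (hbj := e1),
      Matrix.mul_single_apply_of_ne (hbj := e2), hze j]
    ring
  have hzf0 : mat g' (zI 0) (fI (lastF hm)) = 0 := by
    rw [hzf 0, ← hZ00, ← hZ01, ← hc0, hst0, sub_self]
  have hzf1 : mat g' (zI 1) (fI (lastF hm)) = 0 := by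
    rw [hzf 1, ← hZ10, ← hZ11, ← hc1, hst1, sub_self]
  -- relations for `g'`
  have r1 := f1z_rel hm g' hg' 0 0 0 1
  have r2 := f1z_rel hm g' hg' 1 0 0 1
  have r3 := f1z_rel hm g' hg' 0 1 0 0
  have r4 := f1z_rel hm g' hg' 0 1 0 1
  have r5 := f1z_rel hm g' hg' 0 0 1 0
  have r6 := f1z_rel hm g' hg' 0 0 1 1
  rw [hzf0, hzf1] at r1 r2 r3 r4 r5 r6
  unfold phi at r1 r2 r3 r4 r5 r6
  have q2 : (mat g' (eI (lastF hm)) (eI (lastF hm)) + mat g' (eI (lastF hm)) (fI (lastF hm))) *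
      mat g' (fI (lastF hm)) (fI (lastF hm)) = 1 := by
    linear_combination r2
  have hff : mat g' (fI (lastF hm)) (fI (lastF hm)) ≠ 0 := by
    intro h0
    rw [h0, mul_zero] at q2
    exact zero_ne_one q2
  have hef : mat g' (eI (lastF hm)) (fI (lastF hm)) = 0 := by
    have q1 : mat g' (eI (lastF hm)) (fI (lastF hm)) * mat g' (fI (lastF hm)) (fI (lastF hm)) = 0 := by
      linear_combination r1
    rcases mul_eq_zero.1 q1 with h | h
    · exact h
    · exact absurd h hff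
  have hez0 : mat g' (eI (lastF hm)) (zI 0) = 0 := by
    have q : mat g' (eI (lastF hm)) (zI 0) * mat g' (fI (lastF hm)) (fI (lastF hm)) = 0 := by
      linear_combination r4 - r3 - mat g' (fI (lastF hm)) (fI (lastF hm)) * hef
    rcases mul_eq_zero.1 q with h | h
    · exact h
    · exact absurd h hff
  have hez1 : mat g' (eI (lastF hm)) (zI 1) = 0 := by
    have q : mat g' (eI (lastF hm)) (zI 1) * mat g' (fI (lastF hm)) (fI (lastF hm)) = 0 := by
      linear_combination r6 - r5 - mat g' (fI (lastF hm)) (fI (lastF hm)) * hef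
    rcases mul_eq_zero.1 q with h | h
    · exact h
    · exact absurd h hff
  have hez : ∀ j : Fin 2, mat g' (eI (lastF hm)) (zI j) = 0 := by
    intro j; fin_cases j
    · exact hez0
    · exact hez1
  have hzf' : ∀ j : Fin 2, mat g' (zI j) (fI (lastF hm)) = 0 := by
    intro j; fin_cases j
    · exact hzf0
    · exact hzf1
  refine ⟨g', hg', s, t, ?_, ?_⟩
  · rw [hg'def, mul_assoc, f1z_xZ_inv, mul_one]
  · rw [f1z_sFlip_inv, mem_Bsub_iff]
    intro x y hxy
    rw [f1z_conj_apply]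
    by_cases hlt : pos m (Equiv.swap (eI (lastF hm)) (fI (lastF hm)) y) <
        pos m (Equiv.swap (eI (lastF hm)) (fI (lastF hm)) x)
    · exact hB _ _ hlt
    · have pe := f1z_pos_e (m := m) hm
      have pf := f1z_pos_f (m := m) hm
      rcases f1z_swap_cases (lastF hm) x with ⟨hx1, hx2, hx3⟩ | ⟨hx1, hx2⟩ | ⟨hx1, hx2⟩ <;>
        rcases f1z_swap_cases (lastF hm) y with ⟨hy1, hy2, hy3⟩ | ⟨hy1, hy2⟩ | ⟨hy1, hy2⟩
      · rw [hx1, hy1] at hlt; exact absurd hxy hlt
      · -- `y = e_k`, `x` fixed: `x` is a `z`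
        rw [hx1, hy2, pf] at hlt
        rw [hy1, pe] at hxy
        have hpx : pos m x ≠ m + 1 := fun e => hx3 (f1z_eq_f_of_pos hm x e)
        obtain ⟨j, hj⟩ := f1z_eq_z_of_pos x (by omega)
        rw [hx1, hy2, hj]; exact hzf' j
      · -- `y = f_k`, `x` fixed: impossible
        rw [hx1, hy2, pe] at hlt
        rw [hy1, pf] at hxy
        omega
      · -- `x = e_k`, `y` fixed: impossible
        rw [hx2, hy1, pf] at hlt
        rw [hx1, pe] at hxy
        omega
      · rw [hx1, hy1] at hxy; exact absurd hxy (lt_irrefl _)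
      · -- `x = e_k`, `y = f_k`: impossible
        rw [hx1, hy1, pe, pf] at hxy; omega
      · -- `x = f_k`, `y` fixed: `y` is a `z`
        rw [hx2, hy1, pe] at hlt
        rw [hx1, pf] at hxy
        have hpy : pos m y ≠ m - 1 := fun e => hy2 (f1z_eq_e_of_pos hm y e)
        obtain ⟨j, hj⟩ := f1z_eq_z_of_pos y (by omega)
        rw [hx2, hy1, hj]; exact hez j
      · -- `x = f_k`, `y = e_k`
        rw [hx2, hy2]; exact hef
      · rw [hx1, hy1] at hxy; exact absurd hxy (lt_irrefl _)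

end Cfsg.Agent.Lib.Helper08.StOm
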