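import Cfsg.Agent.Lib.Helper49.StSUDefs

/-!
# K-StSU leaf C5a0: stabilising the first `n/2` steps of the flag implies upper triangular
-/

set_option autoImplicit false
set_option linter.unusedSectionVars false
set_option linter.unusedVariables false

namespace Cfsg.Agent.Lib.Helper08.StSU

open Cfsg Cfsg.Agent.Lib.Helper49.StSU

variable {n : ℕ} {F : Type*} [Field F] {q : ℕ}

/-- the form evaluated on two columns of an element of the group -/
theorem hJ_cols (hq : q ≠ 0) (g : GJ n F q) (i c : Fin n) :
    ∑ x, mat g x i * (mat g (Fin.rev x) c) ^ q = if c = Fin.rev i then 1 else 0 := by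
  have h := hJ_mat g (Pi.single i 1) (Pi.single c 1)
  simp only [hJ, Matrix.mulVec_single_one, Matrix.col_apply] at h
  rw [h, Finset.sum_eq_single i]
  · by_cases hc : c = Fin.rev i
    · subst hc
      simp
    · have : Fin.rev i ≠ c := fun e => hc e.symm
      simp [hc, this, hq]
  · intro x _ hx
    simp [Pi.single_apply, hx]
  · intro h
    exact absurd (Finset.mem_univ i) h

/-- the rows `rev i`, `i < n/2`, vanish to the left of the diagonal -/
theorem row_zero_of_flagStab (hq : q ≠ 0) (g : GJ n F q) (hg : g ∈ FlagStab n F q (n / 2)) :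
    ∀ m : ℕ, ∀ i : Fin n, i.val = m → i.val < n / 2 → ∀ c : Fin n, c < Fin.rev i →
      mat g (Fin.rev i) c = 0 := by
  intro m
  induction m using Nat.strong_induction_on with
  | _ m ih =>
    intro i him hik c hc
    by_cases hck : c.val < n / 2
    · exact hg c (Fin.rev i) hck hc
    have key : ∀ d : Fin n, d ≤ Fin.rev i →
        ∑ x, mat g x i * (mat g (Fin.rev x) d) ^ q = mat g i i * (mat g (Fin.rev i) d) ^ q := by
      intro d hd
      apply Finset.sum_eq_single i
      · intro x _ hxi
        rcases lt_or_gt_of_ne hxi with hlt | hgt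
        · have hx0 : mat g (Fin.rev x) d = 0 :=
            ih x.val (by rw [← him]; exact hlt) x rfl (lt_trans hlt hik) d
              (lt_of_le_of_lt hd (Fin.rev_lt_rev.2 hlt))
          rw [hx0, zero_pow hq, mul_zero]
        · rw [hg i x hik hgt, zero_mul]
      · intro h
        exact absurd (Finset.mem_univ i) h
    have h1 := hJ_cols hq g i (Fin.rev i)
    rw [key _ le_rfl, if_pos rfl] at h1
    have hii : mat g i i ≠ 0 := by
      intro h0
      rw [h0, zero_mul] at h1
      exact zero_ne_one h1
    have h2 := hJ_cols hq g i c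
    rw [key c hc.le, if_neg hc.ne] at h2
    rcases mul_eq_zero.1 h2 with h | h
    · exact absurd h hii
    · exact (pow_eq_zero_iff hq).1 h

/-- LEAF C5a0 -/
theorem flagStab_half_subset_B (ok : Ok n F q) :
    FlagStab n F q (n / 2) ⊆ (Bsub n F q : Set (GJ n F q)) := by
  have hq : q ≠ 0 := by
    intro h0
    have h := ok.frob_frob 0
    rw [h0] at h
    simp at h
  intro g hg
  show g ∈ Bsub n F q
  rw [mem_Bsub_iff]
  intro a b hba
  by_cases hbk : b.val < n / 2
  · exact hg b a hbk hba
  · have hlt : b.val < a.val := hba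
    have ha : a.val < n := a.2
    have hi : (Fin.rev a).val < n / 2 := by
      rw [Fin.val_rev]
      omega
    have := row_zero_of_flagStab hq g hg (Fin.rev a).val (Fin.rev a) rfl hi b
      (by rw [Fin.rev_rev]; exact hba)
    rwa [Fin.rev_rev] at this

end Cfsg.Agent.Lib.Helper08.StSU
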