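import Cfsg.Agent.Lib.Helper49.StSpDefs

/-!
# K-StSp leaf F3L (keystone 254507): the rank one identity for the long simple root
-/

set_option autoImplicit false
set_option linter.unusedSectionVars false
set_option linter.unusedVariables false

namespace Cfsg.Agent.Lib.Helper08.StSp

open Cfsg Cfsg.Agent.Lib.Helper49.StSp Matrix

variable {m : ℕ} {F : Type*} [Field F]

/-- the torus element `diag(1/t at e_k, t at f_k)` -/
def hLongMat (k : Fin m) (t : F) : Matrix (Fin m ⊕ Fin m) (Fin m ⊕ Fin m) F :=
  Matrix.fromBlocks (Matrix.diagonal (1 - Pi.single k 1 + Pi.single k t⁻¹)) 0 0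
    (Matrix.diagonal (1 - Pi.single k 1 + Pi.single k t))

theorem hLongMat_mem (k : Fin m) (t : F) (ht : t ≠ 0) :
    hLongMat k t ∈ Matrix.symplecticGroup (Fin m) F := by
  unfold hLongMat
  rw [SymplecticGroup.fromBlocks_mem_iff]
  refine ⟨by simp, by simp, ?_⟩
  simp only [Matrix.diagonal_transpose, Matrix.diagonal_mul_diagonal, Matrix.transpose_zero,
    Matrix.zero_mul, sub_zero]
  rw [← Matrix.diagonal_one]
  refine congrArg _ (funext fun a => ?_)
  by_cases h : a = k
  · subst h; simp [ht]
  · simp [Pi.single_apply, h]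

/-- the torus element as an element of `Sp` -/
def hLong (k : Fin m) (t : F) (ht : t ≠ 0) : SpG m F := ⟨hLongMat k t, hLongMat_mem k t ht⟩

theorem hLong_mem_T (k : Fin m) (t : F) (ht : t ≠ 0) : hLong k t ht ∈ Tsub m F := by
  rw [mem_Tsub_iff]
  intro a b hab
  show hLongMat k t a b = 0
  unfold hLongMat
  rcases a with a | a <;> rcases b with b | b
  · have : a ≠ b := fun h => hab (by rw [h])
    simp [Matrix.fromBlocks_apply₁₁, Matrix.diagonal_apply_ne _ this]
  · simp
  · simp
  · have : a ≠ b := fun h => hab (by rw [h])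
    simp [Matrix.fromBlocks_apply₂₂, Matrix.diagonal_apply_ne _ this]

theorem rank_one_long_aux (k : Fin m) (t : F) (ht : t ≠ 0) :
    cSign m F k * xL m F k t = xL m F k (-t⁻¹) * hLong k t ht * yL m F k t⁻¹ := by
  apply Subtype.ext
  show cSignMat m F k * xLongMat m F k t = xLongMat m F k (-t⁻¹) * hLongMat k t * yLongMat m F k t⁻¹
  unfold cSignMat xLongMat hLongMat yLongMat
  simp only [Matrix.fromBlocks_multiply, Matrix.mul_one, Matrix.one_mul, Matrix.mul_zero,
    Matrix.zero_mul, add_zero, zero_add, Matrix.diagonal_mul_diagonal, Matrix.neg_mul,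
    Matrix.mul_neg, ← Matrix.diagonal_add, ← Matrix.diagonal_neg]
  congr 1 <;>
  · ext a b
    by_cases hab : a = b
    · subst hab
      by_cases h : a = k
      · subst h; simp [ht]
      · simp [Pi.single_apply, h]
    · simp [Matrix.diagonal_apply_ne _ hab]

/-- LEAF F3L: the rank one identity, long simple root. -/
theorem rank_one_long (hm : 0 < m) (t : F) (ht : t ≠ 0) :
    ∃ t' t'' : F, ∃ h ∈ Tsub m F,
      cSign m F (lastF hm) * xL m F (lastF hm) t =
        xL m F (lastF hm) t' * h * yL m F (lastF hm) t'' :=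
  ⟨-t⁻¹, t⁻¹, hLong (lastF hm) t ht, hLong_mem_T _ t ht, rank_one_long_aux _ t ht⟩

end Cfsg.Agent.Lib.Helper08.StSp
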