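import Cfsg.Agent.Lib.Helper49.StSpDefs

/-!
# K-StSp leaf F3S (keystone 254506): the rank one identity for the short simple roots
-/

set_option autoImplicit false
set_option linter.unusedSectionVars false
set_option linter.unusedVariables false
set_option linter.unusedSimpArgs false

namespace Cfsg.Agent.Lib.Helper08.StSp

open Cfsg Cfsg.Agent.Lib.Helper49.StSp Matrix

variable {m : ℕ} {F : Type*} [Field F]

theorem transvection_apply' (i j : Fin m) (c : F) (a b : Fin m) :
    Matrix.transvection i j c a b =
      (if a = b then 1 else 0) + (if i = a ∧ j = b then c else 0) := by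
  unfold Matrix.transvection
  rw [Matrix.add_apply, Matrix.one_apply, Matrix.single_apply]

theorem mul_transvection_apply' (M : Matrix (Fin m) (Fin m) F) (j i : Fin m) (c : F)
    (a b : Fin m) :
    (M * Matrix.transvection j i c) a b = M a b + (if b = i then M a j * c else 0) := by
  unfold Matrix.transvection
  rw [Matrix.mul_add, Matrix.mul_one, Matrix.add_apply]
  by_cases hb : b = i
  · subst hb
    rw [Matrix.mul_single_apply_same, if_pos rfl]
  · rw [Matrix.mul_single_apply_of_ne c j i a b hb, if_neg hb]

/-- the diagonal of the torus element -/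
def dShort (i j : Fin m) (t : F) : Fin m → F :=
  Function.update (Function.update 1 i (-t⁻¹)) j t

theorem dShort_i (i j : Fin m) (hij : i ≠ j) (t : F) : dShort i j t i = -t⁻¹ := by
  unfold dShort
  rw [Function.update_of_ne hij, Function.update_self]

theorem dShort_j (i j : Fin m) (t : F) : dShort i j t j = t := by
  unfold dShort
  rw [Function.update_self]

theorem dShort_other (i j : Fin m) (t : F) (a : Fin m) (hai : a ≠ i) (haj : a ≠ j) :
    dShort i j t a = 1 := by
  unfold dShort
  rw [Function.update_of_ne haj, Function.update_of_ne hai]; rfl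

/-- the `GL_m` rank one identity -/
theorem perm_mul_transvection (i j : Fin m) (hij : i ≠ j) (t : F) (ht : t ≠ 0) :
    (Equiv.swap i j).permMatrix F * Matrix.transvection i j t =
      Matrix.transvection i j t⁻¹ * Matrix.diagonal (dShort i j t) *
        Matrix.transvection j i t⁻¹ := by
  ext a b
  rw [Equiv.Perm.permMatrix, PEquiv.toMatrix_toPEquiv_mul, Matrix.submatrix_apply, id,
    mul_transvection_apply', Matrix.mul_diagonal, Matrix.mul_diagonal, transvection_apply',
    transvection_apply', transvection_apply']
  have hji : j ≠ i := hij.symm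
  by_cases hai : a = i
  · subst hai
    rw [Equiv.swap_apply_left]
    by_cases hbi : b = a
    · subst hbi
      simp [hij, hji, dShort_i, dShort_j, ht]
    · by_cases hbj : b = j
      · subst hbj
        simp [hij, hji, dShort_i, dShort_j, ht, hbi]
      · simp [hij, hji, hbi, hbj, Ne.symm hbi, Ne.symm hbj]
  · by_cases haj : a = j
    · subst haj
      rw [Equiv.swap_apply_right]
      by_cases hbi : b = i
      · subst hbi
        simp [hij, hji, dShort_i, dShort_j, ht]
      · by_cases hbj : b = a
        · subst hbj
          simp [hij, hji, dShort_i, dShort_j, ht, hbi]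
        · simp [hij, hji, hbi, hbj, Ne.symm hbi, Ne.symm hbj]
    · rw [Equiv.swap_apply_of_ne_of_ne hai haj]
      by_cases hbi : b = i
      · subst hbi
        simp [hij, hji, hai, haj, Ne.symm hai, Ne.symm haj]
      · by_cases hbj : b = j
        · subst hbj
          simp [hij, hji, hai, haj, Ne.symm hai, Ne.symm haj]
        · by_cases hab : a = b
          · subst hab
            simp [hai, haj, Ne.symm hai, Ne.symm haj, dShort_other i j t a hai haj]
          · simp [hai, haj, hbi, hbj, hab, Ne.symm hai, Ne.symm haj, Ne.symm hbi, Ne.symm hbj]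

/-- the torus element `diag(-1/t at e_i, t at e_j; inverse on f)` -/
def hShortMat (i j : Fin m) (t : F) : Matrix (Fin m ⊕ Fin m) (Fin m ⊕ Fin m) F :=
  Matrix.fromBlocks (Matrix.diagonal (dShort i j t)) 0 0 (Matrix.diagonal (dShort j i (-t)))

theorem dShort_mul (i j : Fin m) (hij : i ≠ j) (t : F) (ht : t ≠ 0) (a : Fin m) :
    dShort i j t a * dShort j i (-t) a = 1 := by
  by_cases hai : a = i
  · subst hai
    rw [dShort_i a j hij, dShort_j]
    field_simp
  · by_cases haj : a = j
    · subst haj
      rw [dShort_j, dShort_i a i (Ne.symm hij)]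
      field_simp
    · rw [dShort_other i j t a hai haj, dShort_other j i (-t) a haj hai, one_mul]

theorem hShortMat_mem (i j : Fin m) (hij : i ≠ j) (t : F) (ht : t ≠ 0) :
    hShortMat i j t ∈ Matrix.symplecticGroup (Fin m) F := by
  unfold hShortMat
  rw [SymplecticGroup.fromBlocks_mem_iff]
  refine ⟨by simp, by simp, ?_⟩
  simp only [Matrix.diagonal_transpose, Matrix.diagonal_mul_diagonal, Matrix.transpose_zero,
    Matrix.zero_mul, sub_zero]
  rw [← Matrix.diagonal_one]
  exact congrArg _ (funext fun a => dShort_mul i j hij t ht a)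

/-- the torus element as an element of `Sp` -/
def hShort (i j : Fin m) (hij : i ≠ j) (t : F) (ht : t ≠ 0) : SpG m F :=
  ⟨hShortMat i j t, hShortMat_mem i j hij t ht⟩

theorem hShort_mem_T (i j : Fin m) (hij : i ≠ j) (t : F) (ht : t ≠ 0) :
    hShort i j hij t ht ∈ Tsub m F := by
  rw [mem_Tsub_iff]
  intro a b hab
  show hShortMat i j t a b = 0
  unfold hShortMat
  rcases a with a | a <;> rcases b with b | b
  · have : a ≠ b := fun h => hab (by rw [h])
    simp [Matrix.fromBlocks_apply₁₁, Matrix.diagonal_apply_ne _ this]
  · simp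
  · simp
  · have : a ≠ b := fun h => hab (by rw [h])
    simp [Matrix.fromBlocks_apply₂₂, Matrix.diagonal_apply_ne _ this]

theorem rank_one_short_aux (i j : Fin m) (hij : i ≠ j) (t : F) (ht : t ≠ 0) :
    sShort m F i j * xS m F i j hij t =
      xS m F i j hij t⁻¹ * hShort i j hij t ht * xS m F j i hij.symm t⁻¹ := by
  apply Subtype.ext
  show sShortMat m F i j * xShortMat m F i j t =
    xShortMat m F i j t⁻¹ * hShortMat i j t * xShortMat m F j i t⁻¹
  unfold sShortMat xShortMat hShortMat
  simp only [Matrix.fromBlocks_multiply, Matrix.mul_zero, Matrix.zero_mul, add_zero, zero_add]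
  have h1 := perm_mul_transvection i j hij t ht
  have h2 := perm_mul_transvection j i hij.symm (-t) (neg_ne_zero.mpr ht)
  rw [Equiv.swap_comm j i, inv_neg] at h2
  rw [h1, h2]

/-- LEAF F3S: the rank one identity, short simple root. -/
theorem rank_one_short (i : Fin m) (hi : i.val + 1 < m) (t : F) (ht : t ≠ 0) :
    ∃ t' t'' : F, ∃ h ∈ Tsub m F,
      sShort m F i (nxt i hi) * xS m F i (nxt i hi) (ne_nxt i hi) t =
        xS m F i (nxt i hi) (ne_nxt i hi) t' * h * xS m F (nxt i hi) i (nxt_ne i hi) t'' :=
  ⟨t⁻¹, t⁻¹, hShort i (nxt i hi) (ne_nxt i hi) t ht, hShort_mem_T _ _ _ t ht,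
    rank_one_short_aux i (nxt i hi) (ne_nxt i hi) t ht⟩

end Cfsg.Agent.Lib.Helper08.StSp
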