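import Cfsg.Agent.Lib.Helper11.Syl22Defs

/-!
# S4346 pack, leaf K-A7 (434608): `card_eq_three_of_forall_le`
-/

set_option autoImplicit false

namespace Cfsg.Agent.Lib.Helper08.Syl22

open Cfsg.Agent.Lib.Helper11.Syl22

theorem card_eq_three_of_forall_le {G : Type*} [Group G] [Finite G] [IsSimpleGroup G]
    (hn : Nat.card (Sylow 3 G) ≠ 1) {P R : Sylow 3 G} (h : Adj P R)
    (hall : ∀ T : Sylow 3 G, (P : Subgroup G) ⊓ (R : Subgroup G) ≤ (T : Subgroup G)) :
    Nat.card ↥(P : Subgroup G) = 3 := by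
  classical
  have hD : (P : Subgroup G) ⊓ (R : Subgroup G) ≤ Subgroup.normalCore (P : Subgroup G) := by
    intro a ha b
    have h1 : a ∈ ((b⁻¹ • P : Sylow 3 G) : Subgroup G) := hall _ ha
    rw [Sylow.coe_subgroup_smul] at h1
    rw [Subgroup.mem_pointwise_smul_iff_inv_smul_mem] at h1
    simpa [MulAut.smul_def, MulAut.conj_apply] using h1
  have hnorm : (Subgroup.normalCore (P : Subgroup G)).Normal := Subgroup.normalCore_normal _
  rcases hnorm.eq_bot_or_eq_top with hbot | htop
  · have hDbot : (P : Subgroup G) ⊓ (R : Subgroup G) = ⊥ := by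
      rw [eq_bot_iff, ← hbot]; exact hD
    unfold Adj at h
    rw [hDbot] at h
    simpa using h.symm
  · exfalso
    have hPtop : (P : Subgroup G) = ⊤ := by
      rw [eq_top_iff, ← htop]; exact Subgroup.normalCore_le _
    have hPn : (P : Subgroup G).Normal := by rw [hPtop]; infer_instance
    haveI : Unique (Sylow 3 G) := Sylow.unique_of_normal P hPn
    exact hn Nat.card_unique

end Cfsg.Agent.Lib.Helper08.Syl22
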