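import Cfsg.Agent.Lib.Helper08.UNdSCD0
import Cfsg.Agent.Lib.Helper98.UNdSB
import Cfsg.Agent.Lib.Helper10.UNdSA
import Cfsg.Agent.Lib.Helper77.UNdAR1
import Cfsg.Agent.Lib.Helper64.UNdBA2

/-!
# K-UNd (S5954 pack, architect helper73), leaves S-C (595426) and S-D (595427), exact spec signatures:
`cU_dvd_finrank_u`, `exists_nd_inv_u`, `exists_fixed_nd_u`, `mod_le_of_inv_nd_u`

Cores in `UNdSCD0.lean`; the minimal pieces (leaf S-B) come from helper98's core `exists_min_nd_u_of` with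
S-A (helper10), AR1 `cU_eq` (helper77) and BA2 `exists_nonisotropic` (helper64) plugged in here
(`exists_min_nd_u'` below is leaf S-B with its exact signature, under a primed name).
-/

set_option autoImplicit false
set_option linter.unusedSectionVars false
set_option linter.unusedVariables false

namespace Cfsg.Agent.Lib.Helper08.UNd

open Module Cfsg.Agent.Lib.Helper99.HermONB Cfsg.Agent.Lib.Helper98.Elus Cfsg.Agent.Lib.Helper73.UNd

universe u
variable {F : Type u} [Field F] {V : Type u} [AddCommGroup V] [Module F V]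
variable {q : ℕ} {h : V → V → F}

theorem not_dvd_q_aux [Fintype F] (hF : Fintype.card F = q ^ 2) (p f : ℕ) [Fact p.Prime]
    (hFp : Fintype.card F = p ^ f) (r : ℕ) [Fact r.Prime] (hpr : p ≠ r) : ¬ r ∣ q := by
  have hr : r.Prime := Fact.out
  have hp : p.Prime := Fact.out
  intro hd
  have h2 : r ∣ p ^ f := by
    rw [← hFp, hF]
    exact dvd_pow hd two_ne_zero
  have := hr.dvd_of_dvd_pow h2
  rw [Nat.prime_dvd_prime_iff_eq hr hp] at this
  exact hpr this.symm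

/-- leaf S-B with its exact spec signature (primed name; helper98's core + S-A + AR1 + BA2) -/
theorem exists_min_nd_u' [Fintype F] [FiniteDimensional F V] (hF : Fintype.card F = q ^ 2)
    (hh : HForm q h) (p f : ℕ) [Fact p.Prime] (hFp : Fintype.card F = p ^ f) (r : ℕ)
    [Fact r.Prime] (hpr : p ≠ r) (hr2 : r ≠ 2) (hrF : (r : F) ≠ 0) (y : V →ₗ[F] V)
    (hy : y ^ r = 1) (hiso : Isom h y) (U : Submodule F V) (hUV1 : U ≤ V1 r y) (hU : Inv y U)
    (hUnd : ND h U) (hUne : U ≠ ⊥) :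
    ∃ W : Submodule F V, W ≤ U ∧ Inv y W ∧ ND h W ∧ finrank F W = cU (orderOf (q : ZMod r)) :=
  Cfsg.Agent.Lib.Helper98.UNd.exists_min_nd_u_of hF hh p f hFp r hpr hr2 hrF y hy hiso U hUV1 hU hUnd
    hUne
    (fun W hW hWnd hWV1 hne =>
      Cfsg.Agent.Lib.Helper10.UNd.cU_le_finrank_of_nd hF hh r hr2 hrF y hy hiso W hW hWnd hWV1 hne)
    (Cfsg.Agent.Lib.Helper77.UNd.cU_eq r (not_dvd_q_aux hF p f hFp r hpr))
    (fun W hW hne => Cfsg.Agent.Lib.Helper64.UNd.exists_nonisotropic hF hh W hW hne)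

theorem cU_dvd_finrank_u [Fintype F] [FiniteDimensional F V] (hF : Fintype.card F = q ^ 2)
    (hh : HForm q h) (p f : ℕ) [Fact p.Prime] (hFp : Fintype.card F = p ^ f) (r : ℕ)
    [Fact r.Prime] (hpr : p ≠ r) (hr2 : r ≠ 2) (hrF : (r : F) ≠ 0) (y : V →ₗ[F] V)
    (hy : y ^ r = 1) (hiso : Isom h y) (U : Submodule F V) (hUV1 : U ≤ V1 r y) (hU : Inv y U)
    (hUnd : ND h U) : cU (orderOf (q : ZMod r)) ∣ finrank F U :=
  cU_dvd_finrank_of hF hh r (Fact.out : r.Prime).pos y hy hiso _ (cU_orderOf_pos hF p f hFp r hpr)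
    (fun U' h1 h2 h3 h4 => exists_min_nd_u' hF hh p f hFp r hpr hr2 hrF y hy hiso U' h1 h2 h3 h4)
    _ U hUV1 hU hUnd rfl

theorem exists_nd_inv_u [Fintype F] [FiniteDimensional F V] (hF : Fintype.card F = q ^ 2)
    (hh : HForm q h) (p f : ℕ) [Fact p.Prime] (hFp : Fintype.card F = p ^ f) (r : ℕ)
    [Fact r.Prime] (hpr : p ≠ r) (hr2 : r ≠ 2) (hrF : (r : F) ≠ 0) (y : V →ₗ[F] V)
    (hy : y ^ r = 1) (hiso : Isom h y) (U : Submodule F V) (hUV1 : U ≤ V1 r y) (hU : Inv y U)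
    (hUnd : ND h U) :
    ∀ b' : ℕ, cU (orderOf (q : ZMod r)) * b' ≤ finrank F U →
      ∃ W : Submodule F V, W ≤ U ∧ Inv y W ∧ ND h W ∧
        finrank F W = cU (orderOf (q : ZMod r)) * b' :=
  exists_nd_inv_of hF hh r (Fact.out : r.Prime).pos y hy hiso _ (cU_orderOf_pos hF p f hFp r hpr)
    (fun U' h1 h2 h3 h4 => exists_min_nd_u' hF hh p f hFp r hpr hr2 hrF y hy hiso U' h1 h2 h3 h4)
    U hUV1 hU hUnd

theorem exists_fixed_nd_u [Fintype F] [FiniteDimensional F V] (hF : Fintype.card F = q ^ 2)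
    (hh : HForm q h) (p f : ℕ) [Fact p.Prime] (hFp : Fintype.card F = p ^ f) (r : ℕ)
    [Fact r.Prime] (hpr : p ≠ r) (hr2 : r ≠ 2) (hrF : (r : F) ≠ 0) (y : V →ₗ[F] V)
    (hy : y ^ r = 1) (hiso : Isom h y) (n m : ℕ) (hn : finrank F V = n) (hmn : m ≤ n)
    (hk : m % cU (orderOf (q : ZMod r)) ≤ n % cU (orderOf (q : ZMod r))) : Fixes h y m :=
  exists_fixed_nd_of hF hh r (Fact.out : r.Prime).pos y hy hiso _ (cU_orderOf_pos hF p f hFp r hpr)
    (fun U' h1 h2 h3 h4 => exists_min_nd_u' hF hh p f hFp r hpr hr2 hrF y hy hiso U' h1 h2 h3 h4)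
    hrF (fun W hW => Cfsg.Agent.Lib.Helper64.UNd.exists_nd_sub hF hh W hW) n m hn hmn hk

theorem mod_le_of_inv_nd_u [Fintype F] [FiniteDimensional F V] (hF : Fintype.card F = q ^ 2)
    (hh : HForm q h) (p f : ℕ) [Fact p.Prime] (hFp : Fintype.card F = p ^ f) (r : ℕ)
    [Fact r.Prime] (hpr : p ≠ r) (hr2 : r ≠ 2) (hrF : (r : F) ≠ 0) (y : V →ₗ[F] V)
    (hy : y ^ r = 1) (hiso : Isom h y) (W : Submodule F V) (hW : Inv y W) (hWnd : ND h W)
    (hV0 : finrank F (V0 y) < cU (orderOf (q : ZMod r))) :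
    finrank F W % cU (orderOf (q : ZMod r)) ≤ finrank F (V0 y) :=
  mod_le_of_inv_nd_of hF hh r (Fact.out : r.Prime).pos y hy hiso _ (cU_orderOf_pos hF p f hFp r hpr)
    (fun U' h1 h2 h3 h4 => exists_min_nd_u' hF hh p f hFp r hpr hr2 hrF y hy hiso U' h1 h2 h3 h4)
    hrF W hW hWnd hV0

end Cfsg.Agent.Lib.Helper08.UNd
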