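import Cfsg.Agent.Lib.Helper73.UNdDefs
import Cfsg.Agent.Lib.Helper65.UNdBA1
import Cfsg.Agent.Lib.Helper79.UNdBA3

/-!
# K-UNd (S5954 pack, architect helper73), leaves S-C (595426) and S-D (595427): CORES

The cores take leaf S-B (`exists_min_nd_u`, minimal nondegenerate invariant pieces of dimension `c`)
as the hypothesis `hmin` and leaf BA2 (`exists_nd_sub`) as the hypothesis `hsub`; the exact-signature
wrappers are in `UNdSC.lean` / `UNdSD.lean`.
-/

set_option autoImplicit false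
set_option linter.unusedSectionVars false
set_option linter.unusedVariables false

namespace Cfsg.Agent.Lib.Helper08.UNd

open Module Cfsg.Agent.Lib.Helper99.HermONB Cfsg.Agent.Lib.Helper98.Elus Cfsg.Agent.Lib.Helper73.UNd

universe u
variable {F : Type u} [Field F] {V : Type u} [AddCommGroup V] [Module F V]
variable {q : ℕ} {h : V → V → F}

theorem cU_pos_aux (i : ℕ) (hi : 1 ≤ i) : 1 ≤ cU i := by
  unfold cU
  split_ifs <;> omega

/-- `q` is a unit modulo `r` -/
theorem orderOf_q_pos [Fintype F] (hF : Fintype.card F = q ^ 2) (p f : ℕ) [Fact p.Prime]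
    (hFp : Fintype.card F = p ^ f) (r : ℕ) [Fact r.Prime] (hpr : p ≠ r) :
    1 ≤ orderOf (q : ZMod r) := by
  have hr : r.Prime := Fact.out
  have hp : p.Prime := Fact.out
  have hne : (q : ZMod r) ≠ 0 := by
    rw [Ne, ZMod.natCast_eq_zero_iff]
    intro hd
    have h2 : r ∣ p ^ f := by
      rw [← hFp, hF]
      exact dvd_pow hd two_ne_zero
    have := hr.dvd_of_dvd_pow h2
    rw [Nat.prime_dvd_prime_iff_eq hr hp] at this
    exact hpr this.symm
  apply orderOf_pos_iff.mpr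
  rw [isOfFinOrder_iff_pow_eq_one]
  exact ⟨r - 1, by have := hr.two_le; omega, ZMod.pow_card_sub_one_eq_one hne⟩

theorem cU_orderOf_pos [Fintype F] (hF : Fintype.card F = q ^ 2) (p f : ℕ) [Fact p.Prime]
    (hFp : Fintype.card F = p ^ f) (r : ℕ) [Fact r.Prime] (hpr : p ≠ r) :
    1 ≤ cU (orderOf (q : ZMod r)) :=
  cU_pos_aux _ (orderOf_q_pos hF p f hFp r hpr)

theorem inv_of_le_V0_aux (y : V →ₗ[F] V) (Z : Submodule F V) (hZ : Z ≤ V0 y) : Inv y Z := by
  intro v hv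
  rw [(mem_V0 y v).mp (hZ hv)]
  exact hv

section Core

variable [Fintype F] [FiniteDimensional F V] (hF : Fintype.card F = q ^ 2) (hh : HForm q h)
  (r : ℕ) (hr : 0 < r) (y : V →ₗ[F] V) (hy : y ^ r = 1) (hiso : Isom h y) (c : ℕ) (hc : 1 ≤ c)
  (hmin : ∀ U : Submodule F V, U ≤ V1 r y → Inv y U → ND h U → U ≠ ⊥ →
    ∃ W : Submodule F V, W ≤ U ∧ Inv y W ∧ ND h W ∧ finrank F W = c)
include hF hh hr hy hiso hc hmin

/-- S-C, divisibility: peel off minimal pieces -/
theorem cU_dvd_finrank_of :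
    ∀ (n : ℕ) (U : Submodule F V), U ≤ V1 r y → Inv y U → ND h U → finrank F U = n → c ∣ n := by
  intro n
  induction n using Nat.strong_induction_on with
  | _ n ih =>
    intro U hUV1 hU hUnd hn
    by_cases hne : U = ⊥
    · rw [hne, finrank_bot] at hn
      rw [← hn]
      exact dvd_zero c
    obtain ⟨W, hWU, hW, hWnd, hWd⟩ := hmin U hUV1 hU hUnd hne
    obtain ⟨h1, h2, h3, h4⟩ := Cfsg.Agent.Lib.Helper65.UNd.compl_props hF hh W U hWnd hWU hUnd
    have hU'inv : Inv y (perp hh W ⊓ U) :=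
      (Cfsg.Agent.Lib.Helper79.UNd.inv_perp hF hh r hr y 1 one_ne_zero (by rw [hy, one_smul]) hiso W
        hW).inf hU
    have hlt : finrank F ↥(perp hh W ⊓ U) < n := by omega
    obtain ⟨k, hk⟩ := ih _ hlt (perp hh W ⊓ U) (le_trans inf_le_right hUV1) hU'inv h3 rfl
    exact ⟨1 + k, by rw [← hn, ← h4, hWd, hk]; ring⟩

/-- S-C, existence: nondegenerate invariant subspaces of every admissible dimension -/
theorem exists_nd_inv_of (U : Submodule F V) (hUV1 : U ≤ V1 r y) (hU : Inv y U) (hUnd : ND h U) :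
    ∀ b' : ℕ, c * b' ≤ finrank F U →
      ∃ W : Submodule F V, W ≤ U ∧ Inv y W ∧ ND h W ∧ finrank F W = c * b' := by
  intro b
  induction b with
  | zero =>
    intro _
    exact ⟨⊥, bot_le, inv_bot y, Cfsg.Agent.Lib.Helper65.UNd.nd_bot hh, by simp⟩
  | succ b ih =>
    intro hb
    obtain ⟨W, hWU, hW, hWnd, hWd⟩ := ih (by nlinarith)
    obtain ⟨h1, h2, h3, h4⟩ := Cfsg.Agent.Lib.Helper65.UNd.compl_props hF hh W U hWnd hWU hUnd
    have hU'inv : Inv y (perp hh W ⊓ U) :=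
      (Cfsg.Agent.Lib.Helper79.UNd.inv_perp hF hh r hr y 1 one_ne_zero (by rw [hy, one_smul]) hiso W
        hW).inf hU
    have hU'ne : perp hh W ⊓ U ≠ ⊥ := by
      intro h0
      rw [h0, finrank_bot] at h4
      rw [Nat.mul_succ] at hb
      omega
    obtain ⟨Z, hZle, hZ, hZnd, hZd⟩ := hmin (perp hh W ⊓ U) (le_trans inf_le_right hUV1) hU'inv h3
      hU'ne
    have hort : Ort h W Z := by
      intro a ha z hz
      have hzp : z ∈ perp hh W := (Submodule.mem_inf.mp (hZle hz)).1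
      exact Cfsg.Agent.Lib.Helper65.UNd.eq_zero_symm hF hh ((mem_perp hh W z).mp hzp a ha)
    refine ⟨W ⊔ Z, sup_le hWU (le_trans hZle inf_le_right), hW.sup hZ,
      (Cfsg.Agent.Lib.Helper65.UNd.nd_sup hF hh W Z hWnd hZnd hort).1, ?_⟩
    rw [Cfsg.Agent.Lib.Helper65.UNd.finrank_sup_of_ort hF hh W Z hWnd hZnd hort, hWd, hZd,
      Nat.mul_succ]

/-- S-D, existence -/
theorem exists_fixed_nd_of (hrF : (r : F) ≠ 0)
    (hsub : ∀ W : Submodule F V, ND h W → ∀ s : ℕ, s ≤ finrank F W →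
      ∃ W' : Submodule F V, W' ≤ W ∧ ND h W' ∧ finrank F W' = s)
    (n m : ℕ) (hn : finrank F V = n) (hmn : m ≤ n) (hk : m % c ≤ n % c) : Fixes h y m := by
  have hV : ND h (⊤ : Submodule F V) := Cfsg.Agent.Lib.Helper65.UNd.nd_top hh
  obtain ⟨hnd0, hnd1⟩ := Cfsg.Agent.Lib.Helper79.UNd.nd_inf_parts hF hh r hrF y hy hiso ⊤ hV
    (fun _ _ => Submodule.mem_top)
  rw [top_inf_eq] at hnd0 hnd1
  obtain ⟨A, hAd⟩ := cU_dvd_finrank_of hF hh r hr y hy hiso c hc hmin _ (V1 r y) le_rfl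
    (inv_V1 r y) hnd1 rfl
  have hsum := finrank_V0_add_V1 r hrF y hy
  rw [hn] at hsum
  set e0 := finrank F (V0 y) with he0
  have hmod : n % c = e0 % c := by
    rw [← hsum, hAd, Nat.add_mul_mod_self_left]
  have hke0 : n % c ≤ e0 := by
    rw [hmod]
    exact Nat.mod_le _ _
  have hm := Nat.div_add_mod m c
  set b := min A (m / c) with hb
  have hbA : b ≤ A := min_le_left _ _
  have hbm : b ≤ m / c := min_le_right _ _
  have h1 : c * b ≤ c * A := Nat.mul_le_mul_left c hbA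
  have h2 : c * b ≤ c * (m / c) := Nat.mul_le_mul_left c hbm
  have hrest : m - c * b ≤ e0 := by
    rcases le_total A (m / c) with h' | h'
    · have : b = A := min_eq_left h'
      rw [this]
      omega
    · have : b = m / c := min_eq_right h'
      rw [this]
      omega
  obtain ⟨W1, hW1le, hW1inv, hW1nd, hW1d⟩ := exists_nd_inv_of hF hh r hr y hy hiso c hc hmin
    (V1 r y) le_rfl (inv_V1 r y) hnd1 b (by rw [hAd]; exact h1)
  obtain ⟨W0, hW0le, hW0nd, hW0d⟩ := hsub (V0 y) hnd0 (m - c * b) hrest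
  have hort : Ort h W0 W1 := fun a ha b hb =>
    Cfsg.Agent.Lib.Helper79.UNd.ort_V0_V1 hF hh r hrF y hy hiso a (hW0le ha) b (hW1le hb)
  refine ⟨W0 ⊔ W1, (inv_of_le_V0_aux y W0 hW0le).sup hW1inv,
    (Cfsg.Agent.Lib.Helper65.UNd.nd_sup hF hh W0 W1 hW0nd hW1nd hort).1, ?_⟩
  rw [Cfsg.Agent.Lib.Helper65.UNd.finrank_sup_of_ort hF hh W0 W1 hW0nd hW1nd hort, hW0d, hW1d]
  omega

/-- S-D, necessity -/
theorem mod_le_of_inv_nd_of (hrF : (r : F) ≠ 0) (W : Submodule F V) (hW : Inv y W)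
    (hWnd : ND h W) (hV0 : finrank F (V0 y) < c) : finrank F W % c ≤ finrank F (V0 y) := by
  obtain ⟨hnd0, hnd1⟩ := Cfsg.Agent.Lib.Helper79.UNd.nd_inf_parts hF hh r hrF y hy hiso W hWnd hW
  obtain ⟨A, hAd⟩ := cU_dvd_finrank_of hF hh r hr y hy hiso c hc hmin _ (W ⊓ V1 r y) inf_le_right
    (hW.inf (inv_V1 r y)) hnd1 rfl
  have hsum := finrank_inf_V0_add_inf_V1 r hrF y hy W hW
  have hle : finrank F ↥(W ⊓ V0 y) ≤ finrank F (V0 y) := Submodule.finrank_mono inf_le_right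
  rw [← hsum, hAd, Nat.add_mul_mod_self_left, Nat.mod_eq_of_lt (by omega)]
  exact hle

end Core

end Cfsg.Agent.Lib.Helper08.UNd
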