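import Cfsg.Agent.Lib.Helper08.LamStar
import Cfsg.Agent.Lib.Helper08.SUCard
import Cfsg.Agent.Lib.Helper08.GOMinus
import Cfsg.Agent.Lib.Helper51.Hyper
import Cfsg.Agent.Lib.Helper51.QuadExt2
import Cfsg.Agent.Lib.Helper51.FieldAutU1
import Cfsg.Agent.Lib.Helper51.FieldAutU2

set_option autoImplicit false

/-! The action of `SU₄(q)` on the star-fixed vectors of the exterior square: an `F`-linear action
on `K³` preserving the sum of the three norms. -/

namespace Cfsg.Agent.Lib.Helper08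

open Matrix

section act

variable {F K : Type*} [Field F] [Field K] [Algebra F K] (φ : K →+* K)

/-- the embedding of `K³` as the fixed space of the star -/
def embStar (v : Fin 3 → K) : I6 → K := Sum.elim v (φ ∘ v)

theorem embStar_injective : Function.Injective (embStar φ) := by
  intro v v' h
  funext i
  have := congrFun h (Sum.inl i)
  simpa [embStar] using this

theorem embStar_add (v v' : Fin 3 → K) : embStar φ (v + v') = embStar φ v + embStar φ v' := by
  funext c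
  rcases c with i | i <;> simp [embStar]

theorem embStar_smul (hφF : ∀ c : F, φ (algebraMap F K c) = algebraMap F K c) (c : F)
    (v : Fin 3 → K) : embStar φ (c • v) = algebraMap F K c • embStar φ v := by
  funext d
  rcases d with i | i <;> simp [embStar, Algebra.smul_def, hφF]

theorem star_embStar (hφφ : ∀ x, φ (φ x) = x) (v : Fin 3 → K) :
    swapG K *ᵥ (φ ∘ embStar φ v) = embStar φ v := by
  rw [swapG_mulVec]
  funext c
  rcases c with i | i <;> simp [embStar, hφφ]

/-- the action on `K³` -/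
def actStar (A : Matrix (Fin 4) (Fin 4) K) (v : Fin 3 → K) : Fin 3 → K :=
  fun i => (lamMat A *ᵥ embStar φ v) (Sum.inl i)

theorem lamMat_mulVec_embStar (hφφ : ∀ x, φ (φ x) = x) (A : Matrix (Fin 4) (Fin 4) K)
    (hdet : A.det = 1) (hU : Aᵀ * A.map φ = 1) (v : Fin 3 → K) :
    lamMat A *ᵥ embStar φ v = embStar φ (actStar φ A v) := by
  obtain ⟨u, hu⟩ : ∃ u, u = lamMat A *ᵥ embStar φ v := ⟨_, rfl⟩
  have h1 : swapG K *ᵥ (φ ∘ u) = u := by
    have h2 : φ ∘ u = (lamMat A).map φ *ᵥ (φ ∘ embStar φ v) := by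
      funext c
      rw [Function.comp_apply, hu, RingHom.map_mulVec]
    rw [h2, Matrix.mulVec_mulVec, ← lamMat_mul_swapG φ A hdet hU, ← Matrix.mulVec_mulVec,
      star_embStar φ hφφ, hu]
  rw [← hu]
  have hact : ∀ i, actStar φ A v i = u (Sum.inl i) := fun i => by rw [hu]; rfl
  funext c
  rcases c with i | i
  · show u (Sum.inl i) = actStar φ A v i
    rw [hact]
  · have h3 := congrFun h1 (Sum.inr i)
    rw [swapG_mulVec] at h3
    simp only [Sum.swap_inr, Function.comp_apply] at h3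
    show u (Sum.inr i) = φ (actStar φ A v i)
    rw [hact]
    exact h3.symm

/-- the action as an `F`-linear map -/
def actLin (hφF : ∀ c : F, φ (algebraMap F K c) = algebraMap F K c)
    (A : Matrix (Fin 4) (Fin 4) K) : (Fin 3 → K) →ₗ[F] (Fin 3 → K) where
  toFun := actStar φ A
  map_add' v v' := by
    funext i
    simp only [actStar, embStar_add, Matrix.mulVec_add, Pi.add_apply]
  map_smul' c v := by
    funext i
    show (lamMat A *ᵥ embStar φ (c • v)) (Sum.inl i) =
      c • (lamMat A *ᵥ embStar φ v) (Sum.inl i)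
    rw [embStar_smul φ hφF, Matrix.mulVec_smul, Pi.smul_apply, smul_eq_mul, Algebra.smul_def]

/-- the sum of the three norms -/
def normSum (v : Fin 3 → K) : K := ∑ i, v i * φ (v i)

theorem quadFormPlus_embStar (v : Fin 3 → K) :
    Cfsg.quadFormPlus 3 K (embStar φ v) = normSum φ v := by
  simp [Cfsg.quadFormPlus, embStar, normSum]

theorem normSum_actStar (hφφ : ∀ x, φ (φ x) = x) (A : Matrix (Fin 4) (Fin 4) K)
    (hdet : A.det = 1) (hU : Aᵀ * A.map φ = 1) (v : Fin 3 → K) :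
    normSum φ (actStar φ A v) = normSum φ v := by
  rw [← quadFormPlus_embStar, ← lamMat_mulVec_embStar φ hφφ A hdet hU, lamMat_isometry, hdet,
    one_mul, quadFormPlus_embStar]

end act

section hom

variable {F K : Type*} [Field F] [Field K] [Algebra F K] (φ : K →+* K) {q : ℕ}

omit [Field F] [Algebra F K] in
theorem SU_det (s : ↥(Cfsg.SU 4 K q)) :
    ((s : Matrix.SpecialLinearGroup (Fin 4) K) : Matrix (Fin 4) (Fin 4) K).det = 1 :=
  (s : Matrix.SpecialLinearGroup (Fin 4) K).2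

omit [Field F] [Algebra F K] in
theorem SU_unitary (hφ : ∀ x, φ x = x ^ q) (s : ↥(Cfsg.SU 4 K q)) :
    ((s : Matrix.SpecialLinearGroup (Fin 4) K) : Matrix (Fin 4) (Fin 4) K)ᵀ *
      ((s : Matrix.SpecialLinearGroup (Fin 4) K) : Matrix (Fin 4) (Fin 4) K).map φ = 1 :=
  (Cfsg.Agent.Lib.Helper51.mem_GU_iff_mul φ hφ
    (Matrix.SpecialLinearGroup.toGL (s : Matrix.SpecialLinearGroup (Fin 4) K))).mp
    ((toGL_mem_GU_iff _).mpr s.2)

/-- the action of `SU₄` on `K³` -/
noncomputable def rhoStar (hφ : ∀ x, φ x = x ^ q)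
    (hφF : ∀ c : F, φ (algebraMap F K c) = algebraMap F K c) (hφφ : ∀ x, φ (φ x) = x) :
    ↥(Cfsg.SU 4 K q) →* Module.End F (Fin 3 → K) where
  toFun s := actLin φ hφF ((s : Matrix.SpecialLinearGroup (Fin 4) K) : Matrix (Fin 4) (Fin 4) K)
  map_one' := by
    apply LinearMap.ext
    intro v
    funext i
    show (lamMat (1 : Matrix (Fin 4) (Fin 4) K) *ᵥ embStar φ v) (Sum.inl i) = v i
    rw [lamMat_one, Matrix.one_mulVec]
    rfl
  map_mul' s t := by
    apply LinearMap.ext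
    intro v
    apply embStar_injective φ
    show embStar φ (actStar φ (((s * t : ↥(Cfsg.SU 4 K q)) :
        Matrix.SpecialLinearGroup (Fin 4) K) : Matrix (Fin 4) (Fin 4) K) v) =
      embStar φ (actStar φ _ (actStar φ _ v))
    rw [← lamMat_mulVec_embStar φ hφφ _ (SU_det (s * t)) (SU_unitary φ hφ (s * t)),
      ← lamMat_mulVec_embStar φ hφφ _ (SU_det s) (SU_unitary φ hφ s),
      ← lamMat_mulVec_embStar φ hφφ _ (SU_det t) (SU_unitary φ hφ t),
      Matrix.mulVec_mulVec, ← lamMat_mul]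
    rfl

theorem rhoStar_apply (hφ : ∀ x, φ x = x ^ q)
    (hφF : ∀ c : F, φ (algebraMap F K c) = algebraMap F K c) (hφφ : ∀ x, φ (φ x) = x)
    (s : ↥(Cfsg.SU 4 K q)) (v : Fin 3 → K) :
    rhoStar φ hφ hφF hφφ s v =
      actStar φ ((s : Matrix.SpecialLinearGroup (Fin 4) K) : Matrix (Fin 4) (Fin 4) K) v := rfl

theorem normSum_rhoStar (hφ : ∀ x, φ x = x ^ q)
    (hφF : ∀ c : F, φ (algebraMap F K c) = algebraMap F K c) (hφφ : ∀ x, φ (φ x) = x)
    (s : ↥(Cfsg.SU 4 K q)) (v : Fin 3 → K) :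
    normSum φ (rhoStar φ hφ hφF hφφ s v) = normSum φ v := by
  rw [rhoStar_apply]
  exact normSum_actStar φ hφφ _ (SU_det s) (SU_unitary φ hφ s) v

end hom

section equiv

variable {F K : Type*} [Field F] [Fintype F] [Field K] [Fintype K] [Algebra F K] {q : ℕ}
  (φ : K →+* K)

/-- index type of the 6-dimensional minus form -/
abbrev I6m : Type := (Fin 2 ⊕ Fin 2) ⊕ Fin 2

/-- coordinates on `K³` in which the sum of the norms is the standard minus-type form -/
noncomputable def hypE (d : Cfsg.Agent.Lib.Helper51.HypData F K q) (θ : K) :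
    (I6m → F) →ₗ[F] (Fin 3 → K) where
  toFun x := ![(algebraMap F K (x (.inl (.inl 0))) * d.b 0 +
        algebraMap F K (x (.inl (.inl 1))) * d.b 1) +
      (algebraMap F K (x (.inl (.inr 0))) * d.w 0 + algebraMap F K (x (.inl (.inr 1))) * d.w 1),
    d.ε * (algebraMap F K (x (.inl (.inl 0))) * d.b 0 +
        algebraMap F K (x (.inl (.inl 1))) * d.b 1) +
      d.ε' * (algebraMap F K (x (.inl (.inr 0))) * d.w 0 +
        algebraMap F K (x (.inl (.inr 1))) * d.w 1),
    algebraMap F K (x (.inr 0)) - θ * algebraMap F K (x (.inr 1))]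
  map_add' x y := by
    funext i
    fin_cases i <;> simp <;> ring
  map_smul' c x := by
    funext i
    fin_cases i <;> simp [Algebra.smul_def] <;> ring

theorem normSum_hypE (hF : Fintype.card F = q) (hK : Fintype.card K = q ^ 2)
    (hφ : ∀ x, φ x = x ^ q) (d : Cfsg.Agent.Lib.Helper51.HypData F K q) (θ θ' : K) (a b : F)
    (hs : θ + θ' = -algebraMap F K a) (hp : θ * θ' = algebraMap F K b) (hθ : φ θ = θ')
    (x : I6m → F) :
    normSum φ (hypE d θ x) = algebraMap F K (Cfsg.quadFormMinus 2 F a b x) := by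
  have hv := d.value hF hK (x (.inl (.inl 0))) (x (.inl (.inl 1))) (x (.inl (.inr 0)))
    (x (.inl (.inr 1)))
  simp only at hv
  have hφF : ∀ c : F, φ (algebraMap F K c) = algebraMap F K c := fun c => by
    rw [hφ, Cfsg.Agent.Lib.Helper51.algebraMap_pow_q hF]
  have h01 : hypE d θ x 0 * φ (hypE d θ x 0) + hypE d θ x 1 * φ (hypE d θ x 1) =
      algebraMap F K (x (.inl (.inl 0)) * x (.inl (.inr 0)) +
        x (.inl (.inl 1)) * x (.inl (.inr 1))) := by
    rw [hφ, hφ]
    exact hv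
  have h2 : hypE d θ x 2 * φ (hypE d θ x 2) =
      algebraMap F K (x (.inr 0) ^ 2 + a * x (.inr 0) * x (.inr 1) + b * x (.inr 1) ^ 2) := by
    show (algebraMap F K (x (.inr 0)) - θ * algebraMap F K (x (.inr 1))) *
      φ (algebraMap F K (x (.inr 0)) - θ * algebraMap F K (x (.inr 1))) = _
    rw [map_sub, map_mul, hφF, hφF, hθ]
    simp only [map_add, map_mul, map_pow]
    linear_combination (-(algebraMap F K (x (.inr 0)) * algebraMap F K (x (.inr 1)))) * hs +
      algebraMap F K (x (.inr 1)) ^ 2 * hp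
  unfold normSum
  rw [Fin.sum_univ_three, h01, h2, ← map_add]
  simp only [Cfsg.quadFormMinus, Fin.sum_univ_two]

theorem hypE_injective (hF : Fintype.card F = q) (hK : Fintype.card K = q ^ 2)
    (hφ : ∀ x, φ x = x ^ q) (d : Cfsg.Agent.Lib.Helper51.HypData F K q) (θ θ' : K) (a b : F)
    (hab : ∀ z₁ z₂ : F, z₁ ^ 2 + a * z₁ * z₂ + b * z₂ ^ 2 = 0 → z₁ = 0 ∧ z₂ = 0)
    (hs : θ + θ' = -algebraMap F K a) (hp : θ * θ' = algebraMap F K b) (hθ : φ θ = θ') :
    Function.Injective (hypE d θ) := by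
  rw [injective_iff_map_eq_zero]
  intro v hv
  obtain ⟨Q, hQdef⟩ : ∃ Q : QuadraticForm F (I6m → F), Q = (qdataMinus (F := F) 2 a b hab).qf :=
    ⟨_, rfl⟩
  have hcoe : ⇑Q = Cfsg.quadFormMinus 2 F a b := by rw [hQdef]; rfl
  have hQ : (QuadraticMap.polarBilin Q).Nondegenerate := by
    rw [hQdef]; exact (qdataMinus (F := F) 2 a b hab).qf_nondeg
  have hN := normSum_hypE φ hF hK hφ d θ θ' a b hs hp hθ
  have h0 : normSum φ (0 : Fin 3 → K) = 0 := by simp [normSum]
  apply hQ.1 v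
  intro u
  rw [QuadraticMap.polarBilin_apply_apply]
  apply (algebraMap F K).injective
  unfold QuadraticMap.polar
  rw [map_sub, map_sub, hcoe, ← hN, ← hN, ← hN, map_add, hv, zero_add, h0, map_zero]
  ring

/-- the coordinates as a linear equivalence -/
noncomputable def hypEquiv (hF : Fintype.card F = q) (hK : Fintype.card K = q ^ 2)
    (hφ : ∀ x, φ x = x ^ q) (d : Cfsg.Agent.Lib.Helper51.HypData F K q) (θ θ' : K) (a b : F)
    (hab : ∀ z₁ z₂ : F, z₁ ^ 2 + a * z₁ * z₂ + b * z₂ ^ 2 = 0 → z₁ = 0 ∧ z₂ = 0)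
    (hs : θ + θ' = -algebraMap F K a) (hp : θ * θ' = algebraMap F K b) (hθ : φ θ = θ') :
    (I6m → F) ≃ₗ[F] (Fin 3 → K) :=
  LinearMap.linearEquivOfInjective (hypE d θ)
    (hypE_injective φ hF hK hφ d θ θ' a b hab hs hp hθ) (by
      rw [Module.finrank_fintype_fun_eq_card, Module.finrank_pi_fintype]
      simp [Cfsg.Agent.Lib.Helper51.finrank_eq_two (F := F) (K := K) hF hK])

theorem hypEquiv_apply (hF : Fintype.card F = q) (hK : Fintype.card K = q ^ 2)
    (hφ : ∀ x, φ x = x ^ q) (d : Cfsg.Agent.Lib.Helper51.HypData F K q) (θ θ' : K) (a b : F)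
    (hab : ∀ z₁ z₂ : F, z₁ ^ 2 + a * z₁ * z₂ + b * z₂ ^ 2 = 0 → z₁ = 0 ∧ z₂ = 0)
    (hs : θ + θ' = -algebraMap F K a) (hp : θ * θ' = algebraMap F K b) (hθ : φ θ = θ')
    (x : I6m → F) :
    hypEquiv φ hF hK hφ d θ θ' a b hab hs hp hθ x = hypE d θ x := rfl

end equiv

section transfer

/-- a linear action preserving a function which in coordinates is `Q` gives a hom to the
isometry group of `Q` -/
theorem exists_isometry_hom {F K : Type*} [Field F] [Field K] [Algebra F K] {V : Type*}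
    [AddCommGroup V] [Module F V] {ι : Type} [Fintype ι] [DecidableEq ι]
    (E : (ι → F) ≃ₗ[F] V) (Q : (ι → F) → F) (qV : V → K)
    (hq : ∀ x, qV (E x) = algebraMap F K (Q x)) {G : Type*} [Group G]
    (ρ : G →* Module.End F V) (hpres : ∀ g v, qV (ρ g v) = qV v) :
    ∃ ψ : G →* ↥(Cfsg.isometryGroup F Q),
      ∀ g x, E ((((ψ g : ↥(Cfsg.isometryGroup F Q)) : Matrix.GeneralLinearGroup ι F) :
        Matrix ι ι F) *ᵥ x) = ρ g (E x) := by
  let M : G →* Matrix ι ι F :=
    { toFun := fun g => LinearMap.toMatrix' ((E.symm.toLinearMap ∘ₗ ρ g) ∘ₗ E.toLinearMap)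
      map_one' := by
        rw [map_one]
        have : (E.symm.toLinearMap ∘ₗ (1 : Module.End F V)) ∘ₗ E.toLinearMap = LinearMap.id := by
          apply LinearMap.ext
          intro x
          simp
        rw [this, LinearMap.toMatrix'_id]
      map_mul' := fun g h => by
        rw [← LinearMap.toMatrix'_comp]
        congr 1
        apply LinearMap.ext
        intro x
        simp [map_mul] }
  have hM : ∀ g x, E (M g *ᵥ x) = ρ g (E x) := by
    intro g x
    have h1 : M g *ᵥ x = ((E.symm.toLinearMap ∘ₗ ρ g) ∘ₗ E.toLinearMap) x := by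
      rw [← Matrix.toLin'_apply]
      show Matrix.toLin' (LinearMap.toMatrix' _) x = _
      rw [Matrix.toLin'_toMatrix']
    rw [h1]
    simp
  have hmem : ∀ g, M.toHomUnits g ∈ Cfsg.isometryGroup F Q := by
    intro g u _
    show Q (M g *ᵥ u) = Q u
    apply (algebraMap F K).injective
    rw [← hq, hM, hpres, hq]
  exact ⟨M.toHomUnits.codRestrict _ hmem, fun g x => hM g x⟩

end transfer

section final

variable {F K : Type*} [Field F] [Fintype F] [Field K] [Fintype K] {q : ℕ}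

omit [Fintype K] in
/-- the diagonal element `diag(l, l⁻¹, 1, 1)` of `SU₄` -/
theorem exists_diag_SU (l : K) (hl : l * l ^ q = 1) :
    ∃ s : ↥(Cfsg.SU 4 K q), ((s : Matrix.SpecialLinearGroup (Fin 4) K) :
      Matrix (Fin 4) (Fin 4) K) = Matrix.diagonal ![l, l⁻¹, 1, 1] := by
  have hl0 : l ≠ 0 := by
    rintro rfl
    rw [zero_mul] at hl
    exact zero_ne_one hl
  have hdet : (Matrix.diagonal ![l, l⁻¹, 1, 1] : Matrix (Fin 4) (Fin 4) K).det = 1 := by
    rw [Matrix.det_diagonal, Fin.prod_univ_four]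
    simp [hl0]
  have hd : ∀ i : Fin 4, (![l, l⁻¹, 1, 1] : Fin 4 → K) i * (![l, l⁻¹, 1, 1] : Fin 4 → K) i ^ q
      = 1 := by
    intro i
    fin_cases i
    · exact hl
    · show l⁻¹ * l⁻¹ ^ q = 1
      rw [inv_pow, ← mul_inv, hl, inv_one]
    · simp
    · simp
  obtain ⟨S, hS⟩ : ∃ S : Matrix.SpecialLinearGroup (Fin 4) K,
      (S : Matrix (Fin 4) (Fin 4) K) = Matrix.diagonal ![l, l⁻¹, 1, 1] := ⟨⟨_, hdet⟩, rfl⟩
  refine ⟨⟨S, ?_⟩, hS⟩
  rw [mem_SU_iff, hS]
  intro x y
  unfold Cfsg.hermForm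
  refine Finset.sum_congr rfl fun i _ => ?_
  show (Matrix.diagonal ![l, l⁻¹, 1, 1] *ᵥ x) i * (Matrix.diagonal ![l, l⁻¹, 1, 1] *ᵥ y) i ^ q = _
  rw [Matrix.mulVec_diagonal, Matrix.mulVec_diagonal, mul_pow]
  linear_combination (x i * y i ^ q) * hd i

/-- the homomorphism `SU₄(q) → O⁻₆(q)` -/
theorem exists_SU4_hom (hF : Fintype.card F = q) (hK : Fintype.card K = q ^ 2) (a b : F)
    (hab : ∀ z₁ z₂ : F, z₁ ^ 2 + a * z₁ * z₂ + b * z₂ ^ 2 = 0 → z₁ = 0 ∧ z₂ = 0) :
    ∃ ψ : ↥(Cfsg.SU 4 K q) →* ↥(Cfsg.isometryGroup F (Cfsg.quadFormMinus 2 F a b)),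
      (∃ g, ψ g ≠ 1) ∧
      ∀ (s : ↥(Cfsg.SU 4 K q)) (c : K),
        ((s : Matrix.SpecialLinearGroup (Fin 4) K) : Matrix (Fin 4) (Fin 4) K) =
          Matrix.diagonal (fun _ => c) → ψ s = 1 → c * c = 1 := by
  obtain ⟨ι⟩ := Cfsg.Agent.Lib.Helper51.exists_ringHom (F := F) (K := K) hF hK
  let _ : Algebra F K := ι.toAlgebra
  obtain ⟨φ, hφ⟩ := Cfsg.Agent.Lib.Helper51.exists_frob (L := K) hK
  have hφF : ∀ c : F, φ (algebraMap F K c) = algebraMap F K c := fun c => by
    rw [hφ, Cfsg.Agent.Lib.Helper51.algebraMap_pow_q hF]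
  have hφφ : ∀ x, φ (φ x) = x := fun x => by
    rw [hφ, hφ, Cfsg.Agent.Lib.Helper51.pow_q_pow_q hK]
  obtain ⟨d⟩ := Cfsg.Agent.Lib.Helper51.exists_hypData (F := F) (K := K) hF hK
  obtain ⟨θ, θ', hs, hp, hne⟩ := Cfsg.Agent.Lib.Helper51.exists_roots (F := F) (K := K) hF hK a b hab
  have hθ : φ θ = θ' := by
    have h1 : θ ^ 2 + algebraMap F K a * θ + algebraMap F K b = 0 := by
      linear_combination θ * hs - hp
    have h2 : φ θ ^ 2 + algebraMap F K a * φ θ + algebraMap F K b = 0 := by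
      have := congrArg φ h1
      rw [map_add, map_add, map_mul, map_pow, hφF, hφF, map_zero] at this
      exact this
    have h3 : (φ θ - θ) * (φ θ - θ') = 0 := by
      linear_combination h2 - (φ θ) * hs + hp
    rcases mul_eq_zero.mp h3 with h | h
    · exfalso
      have h4 : θ ^ q = θ := by rw [← hφ]; exact sub_eq_zero.mp h
      obtain ⟨t, ht⟩ := Cfsg.Agent.Lib.Helper51.mem_range_of_pow_q hF θ h4
      have h5 : t ^ 2 + a * t * 1 + b * 1 ^ 2 = 0 := by
        apply (algebraMap F K).injective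
        rw [map_zero, ← h1, ← ht]
        simp only [map_add, map_mul, map_pow, map_one]
        ring
      exact one_ne_zero (hab t 1 h5).2
    · exact sub_eq_zero.mp h
  obtain ⟨ψ, hψ⟩ := exists_isometry_hom (hypEquiv φ hF hK hφ d θ θ' a b hab hs hp hθ)
    (Cfsg.quadFormMinus 2 F a b) (normSum φ)
    (fun x => by rw [hypEquiv_apply]; exact normSum_hypE φ hF hK hφ d θ θ' a b hs hp hθ x)
    (rhoStar φ hφ hφF hφφ) (normSum_rhoStar φ hφ hφF hφφ)
  have hone : ∀ s, ψ s = 1 → ∀ v : Fin 3 → K, rhoStar φ hφ hφF hφφ s v = v := by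
    intro s hs1 v
    obtain ⟨x, rfl⟩ := (hypEquiv φ hF hK hφ d θ θ' a b hab hs hp hθ).surjective v
    rw [← hψ s x, hs1]
    simp
  refine ⟨ψ, ?_, ?_⟩
  · obtain ⟨l, hl, hl1⟩ := Cfsg.Agent.Lib.Helper51.exists_norm_one (F := F) (K := K) hF hK
    obtain ⟨s, hs⟩ := exists_diag_SU (q := q) l hl
    refine ⟨s, fun h1 => hl1 ?_⟩
    have h2 := congrFun (hone s h1 ![0, 1, 0]) 1
    rw [rhoStar_apply, hs] at h2
    simpa [actStar, lamMat, Matrix.mulVec, dotProduct, Fintype.sum_sum_type, Fin.sum_univ_three,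
      p1, p2, sg, minor2, embStar, Matrix.diagonal_apply] using h2
  · intro s c hsc h1
    have h2 := congrFun (hone s h1 ![1, 0, 0]) 0
    rw [rhoStar_apply, hsc] at h2
    simpa [actStar, lamMat, Matrix.mulVec, dotProduct, Fintype.sum_sum_type, Fin.sum_univ_three,
      p1, p2, sg, minor2, embStar, Matrix.diagonal_apply] using h2

end final

end Cfsg.Agent.Lib.Helper08
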